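import Cfsg.Agent.H80.T24
import Cfsg.Agent.H80.Link0
/-! The defining relators of the presented group hold in the model on 306936 points. -/
set_option Elab.async false
namespace H80
open H71
def lr24a : List (List ℕ) := [[8, 9, 8, 9], [11, 7, 5, 4, 3, 2, 1, 0, 7, 5, 4, 3, 2, 1, 0, 7, 5, 4, 3, 2, 1, 0, 7, 5, 4, 3, 2, 1, 0, 7, 5, 4, 3, 2, 1, 0, 7, 5, 4, 3, 2, 1, 0, 7, 5, 4, 3, 2, 1, 0, 7, 5, 4, 3, 2, 1, 0, 7, 5, 4, 3, 2, 1, 0]]
def lr24b : List ℕ := [3, 2, 1, 0, 10, 11, 3, 4, 5, 6, 9, 3, 7, 8, 3, 2, 1, 0, 10, 11, 3, 4, 5, 6, 9, 3, 7, 8, 3, 2, 1, 0, 10, 11, 3, 4, 5, 6, 9, 3, 7, 8, 3, 2, 1, 0, 10, 11, 3, 4, 5, 6, 9, 3, 7, 8, 3, 2, 1, 0, 10, 11, 3, 4, 5, 6, 9, 3, 7, 8, 3, 2, 1, 0, 10, 11, 3, 4, 5, 6, 9, 3, 7, 8, 3, 2, 1, 0, 10, 11, 3, 4, 5, 6, 9, 3, 7, 8, 3, 2, 1, 0, 10, 11, 3, 4, 5, 6, 9, 3, 7, 8, 3, 2, 1, 0, 10, 11, 3, 4, 5, 6, 9, 3, 7, 8, 3, 2, 1, 0, 10, 11, 3, 4, 5, 6, 9, 3, 7, 8, 3, 2, 1, 0, 10, 11, 3, 4, 5, 6, 9, 3, 7, 8, 3, 2, 1, 0, 10,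 11, 3, 4, 5, 6, 9, 3, 7, 8, 3, 2, 1, 0, 10, 11, 3, 4, 5, 6, 9, 3, 7, 8, 3, 2, 1, 0, 10, 11, 3, 4, 5, 6, 9, 3, 7, 8, 3, 2, 1, 0, 10, 11, 3, 4, 5, 6, 9, 3, 7, 8, 3, 2, 1, 0, 10, 11, 3, 4, 5, 6, 9, 3, 7, 8, 3, 2, 1, 0, 10, 11, 3, 4, 5, 6, 9, 3, 7, 8]
theorem lr24a0 : allL (fun r => fixPlane A24 19 M24.n r 0) lr24a = true := by decide +kernel
theorem lr24b0 : fixPlane A24 19 M24.n lr24b 0 = true := by decide +kernel
theorem lr24a1 : allL (fun r => fixPlane A24 19 M24.n r 1) lr24a = true := by decide +kernel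
theorem lr24b1 : fixPlane A24 19 M24.n lr24b 1 = true := by decide +kernel
theorem lr24a2 : allL (fun r => fixPlane A24 19 M24.n r 2) lr24a = true := by decide +kernel
theorem lr24b2 : fixPlane A24 19 M24.n lr24b 2 = true := by decide +kernel
theorem lr24a3 : allL (fun r => fixPlane A24 19 M24.n r 3) lr24a = true := by decide +kernel
theorem lr24b3 : fixPlane A24 19 M24.n lr24b 3 = true := by decide +kernel
theorem lr24a4 : allL (fun r => fixPlane A24 19 M24.n r 4) lr24a = true := by decide +kernel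
theorem lr24b4 : fixPlane A24 19 M24.n lr24b 4 = true := by decide +kernel
theorem lr24a5 : allL (fun r => fixPlane A24 19 M24.n r 5) lr24a = true := by decide +kernel
theorem lr24b5 : fixPlane A24 19 M24.n lr24b 5 = true := by decide +kernel
theorem lr24a6 : allL (fun r => fixPlane A24 19 M24.n r 6) lr24a = true := by decide +kernel
theorem lr24b6 : fixPlane A24 19 M24.n lr24b 6 = true := by decide +kernel
theorem lr24a7 : allL (fun r => fixPlane A24 19 M24.n r 7) lr24a = true := by decide +kernel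
theorem lr24b7 : fixPlane A24 19 M24.n lr24b 7 = true := by decide +kernel
theorem lr24a8 : allL (fun r => fixPlane A24 19 M24.n r 8) lr24a = true := by decide +kernel
theorem lr24b8 : fixPlane A24 19 M24.n lr24b 8 = true := by decide +kernel
theorem lr24a9 : allL (fun r => fixPlane A24 19 M24.n r 9) lr24a = true := by decide +kernel
theorem lr24b9 : fixPlane A24 19 M24.n lr24b 9 = true := by decide +kernel
theorem lr24a10 : allL (fun r => fixPlane A24 19 M24.n r 10) lr24a = true := by decide +kernel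
theorem lr24b10 : fixPlane A24 19 M24.n lr24b 10 = true := by decide +kernel
theorem lr24a11 : allL (fun r => fixPlane A24 19 M24.n r 11) lr24a = true := by decide +kernel
theorem lr24b11 : fixPlane A24 19 M24.n lr24b 11 = true := by decide +kernel
theorem lr24a12 : allL (fun r => fixPlane A24 19 M24.n r 12) lr24a = true := by decide +kernel
theorem lr24b12 : fixPlane A24 19 M24.n lr24b 12 = true := by decide +kernel
theorem lr24a13 : allL (fun r => fixPlane A24 19 M24.n r 13) lr24a = true := by decide +kernel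
theorem lr24b13 : fixPlane A24 19 M24.n lr24b 13 = true := by decide +kernel
theorem lr24a14 : allL (fun r => fixPlane A24 19 M24.n r 14) lr24a = true := by decide +kernel
theorem lr24b14 : fixPlane A24 19 M24.n lr24b 14 = true := by decide +kernel
theorem lr24a15 : allL (fun r => fixPlane A24 19 M24.n r 15) lr24a = true := by decide +kernel
theorem lr24b15 : fixPlane A24 19 M24.n lr24b 15 = true := by decide +kernel
theorem lr24a16 : allL (fun r => fixPlane A24 19 M24.n r 16) lr24a = true := by decide +kernel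
theorem lr24b16 : fixPlane A24 19 M24.n lr24b 16 = true := by decide +kernel
theorem lr24a17 : allL (fun r => fixPlane A24 19 M24.n r 17) lr24a = true := by decide +kernel
theorem lr24b17 : fixPlane A24 19 M24.n lr24b 17 = true := by decide +kernel
theorem lr24a18 : allL (fun r => fixPlane A24 19 M24.n r 18) lr24a = true := by decide +kernel
theorem lr24b18 : fixPlane A24 19 M24.n lr24b 18 = true := by decide +kernel
def lr24 : List (List ℕ) := lr24b :: lr24a ++ rl24
theorem lr24_rel : ∀ r ∈ lr24, evw M24.π r = 1 := forall_append (List.forall_mem_cons.2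
  ⟨env24.eq_one_of_planes bm24.le fun k hk => by
    interval_cases k
    exacts [lr24b0, lr24b1, lr24b2, lr24b3, lr24b4, lr24b5, lr24b6, lr24b7, lr24b8, lr24b9, lr24b10, lr24b11, lr24b12, lr24b13, lr24b14, lr24b15, lr24b16, lr24b17, lr24b18],
  fun r hr => env24.eq_one_of_planes bm24.le fun k hk => by
    interval_cases k
    exacts [of_allL lr24a0 r hr, of_allL lr24a1 r hr, of_allL lr24a2 r hr, of_allL lr24a3 r hr, of_allL lr24a4 r hr, of_allL lr24a5 r hr, of_allL lr24a6 r hr, of_allL lr24a7 r hr, of_allL lr24a8 r hr, of_allL lr24a9 r hr, of_allL lr24a10 r hr, of_allL lr24a11 r hr, of_allL lr24a12 r hr, of_allL lr24a13 r hr, of_allL lr24a14 r hr, of_allL lr24a15 r hr, of_allL lr24a16 r hr, of_allL lr24a17 r hr, of_allL lr24a18 r hr]⟩) tc24c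
def par24 : List ℕ := [10, 0, 1, 2, 3, 4, 5, 3, 7, 6, 11, 11, 0, 0]
def rk24 : List ℕ := [2, 3, 4, 5, 6, 7, 8, 6, 7, 9, 1, 0, 0, 0]
theorem tree24 : treeChk M24 A24 11 par24 rk24 = true := by decide +kernel
end H80
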