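import Cfsg.Agent.H80.KFHSB
set_option maxRecDepth 1000000
set_option Elab.async false
namespace H80.KFHS
open H71 H81 H88 H80.KF H43.KF
noncomputable def Da_0 : ℕ := 0xfffffffffffffffffffffffff
noncomputable def Ra_0 : ℕ := 0xfff0c00040207080858823009014
noncomputable def Sa_0 : H88.Tr := (.leaf (nat_lit 0) (nat_lit 0xd3173140c67ad44f205401752000000044a91be63765945ca208840e3000000087643edc63167a5bd4aee7088))
noncomputable def va_0 : Lv := ⟨(nat_lit 2), Da_0, 100, wd LS [13,12,49,14,50,48,51,52], [0,1,3,2,1,4,3,7,0], Sa_0, true, (nat_lit 0), (nat_lit 0), Ra_0, 0, 0, []⟩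
noncomputable def Da_1 : ℕ := 0x1010c00122124101202414f8
noncomputable def Ra_1 : ℕ := 0xf3fffbfdf8f7f7a77dcff6feb
noncomputable def Sa_1 : H88.Tr := (.leaf (nat_lit 0) (nat_lit 0x108000000040002000002000000000000000012002000120201460000000000000000102104101200010c0))
noncomputable def va_1 : Lv := ⟨(nat_lit 3), Da_1, 22, wd LS [48,49,50,53,55,51,52,54], [0,1,2,0,2,0], Sa_1, true, (nat_lit 0), (nat_lit 0), Ra_1, 0, 0, []⟩
noncomputable def Da_2 : ℕ := 0x1010c00122124101202414f0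
noncomputable def Sa_2 : H88.Tr := (.leaf (nat_lit 0) (nat_lit 0x1000c0012002400000200020000000000010000002024100000000a000000000000080002202010100000040))
noncomputable def va_2 : Lv := ⟨(nat_lit 10), Da_2, 21, wd LS [52,53,55,57,51,56,58,54], [0,1,4,3,2,0], Sa_2, false, (nat_lit 0), (nat_lit 1), 0, 0, 0, []⟩
noncomputable def Da_3 : ℕ := 0x4100044000008000
noncomputable def Ra_3 : ℕ := 0xf3fffbfdf8f7f7a77dcff6feb
noncomputable def Sa_3 : H88.Tr := (.leaf (nat_lit 0) (nat_lit 0x4000000800000000000000000004000000000008000))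
noncomputable def va_3 : Lv := ⟨(nat_lit 38), Da_3, 5, wd LS [54,55,56,57], [0,1,0,1], Sa_3, true, (nat_lit 0), (nat_lit 0), Ra_3, 0, 0, []⟩
noncomputable def Da_4 : ℕ := 0x4100040000008000
noncomputable def Sa_4 : H88.Tr := (.leaf (nat_lit 0) (nat_lit 0x4000000000000000000000000004000000000000000))
noncomputable def va_4 : Lv := ⟨(nat_lit 56), Da_4, 4, wd LS [57,58,59], [0,1], Sa_4, false, (nat_lit 0), (nat_lit 1), 0, 0, 0, []⟩
noncomputable def Da_5 : ℕ := 0x1040012000410020241050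
noncomputable def Ra_5 : ℕ := 0xf3fffbfdf8f7f7a77dcff6feb
noncomputable def Sa_5 : H88.Tr := (.leaf (nat_lit 0) (nat_lit 0x4001000000000000001000000000000000000000410000040000))
noncomputable def va_5 : Lv := ⟨(nat_lit 6), Da_5, 12, wd LS [62,60,61], [0,1,0,1,0], Sa_5, true, (nat_lit 0), (nat_lit 0), Ra_5, 0, 0, []⟩
noncomputable def Da_6 : ℕ := 0x800200000800000020000
noncomputable def Ra_6 : ℕ := 0xf3fffbfdf8f7f7a77dcff6feb
noncomputable def Sa_6 : H88.Tr := (.leaf (nat_lit 0) (nat_lit 0x200000800000000000))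
noncomputable def va_6 : Lv := ⟨(nat_lit 17), Da_6, 4, wd LS [47,63], [0,1], Sa_6, true, (nat_lit 0), (nat_lit 0), Ra_6, 0, 0, []⟩
noncomputable def La : List Lv := [va_0, va_1, va_2, va_3, va_4, va_5, va_6]
theorem loka : LOK 112 (H79.RepHS.ρ).range La :=
  (LOK.cons (hLS.wd (w := [13,12,49,14,50,48,51,52]) (by decide +kernel))
  (LOK.cons (hLS.wd (w := [48,49,50,53,55,51,52,54]) (by decide +kernel))
  (LOK.cons (hLS.wd (w := [52,53,55,57,51,56,58,54]) (by decide +kernel))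
  (LOK.cons (hLS.wd (w := [54,55,56,57]) (by decide +kernel))
  (LOK.cons (hLS.wd (w := [57,58,59]) (by decide +kernel))
  (LOK.cons (hLS.wd (w := [62,60,61]) (by decide +kernel))
  (LOK.cons (hLS.wd (w := [47,63]) (by decide +kernel))
  LOK.nil)))))))
theorem lba_0 : lbLv 7 112 va_0 [va_1, va_2, va_3, va_4, va_5, va_6] = true := by decide +kernel
theorem lba_1 : lbLv 7 112 va_1 [va_2, va_3, va_4, va_5, va_6] = true := by decide +kernel
theorem lba_2 : lbLv 7 112 va_2 [va_3, va_4, va_5, va_6] = true := by decide +kernel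
theorem lba_3 : lbLv 7 112 va_3 [va_4, va_5, va_6] = true := by decide +kernel
theorem lba_4 : lbLv 7 112 va_4 [va_5, va_6] = true := by decide +kernel
theorem lba_5 : lbLv 7 112 va_5 [va_6] = true := by decide +kernel
theorem lba_6 : lbLv 7 112 va_6 [] = true := by decide +kernel
theorem lba : LB 7 112 La := ⟨lba_0, ⟨lba_1, ⟨lba_2, ⟨lba_3, ⟨lba_4, ⟨lba_5, ⟨lba_6, trivial⟩⟩⟩⟩⟩⟩⟩
theorem cha : Ch 112 La (H79.RepHS.ρ).range := lb_exact _ _ loka lba (by rw [cardB]; decide +kernel)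
noncomputable def ka_0 : Kl := ⟨wd LS [34,35,25,26,27,28,29,30,36], [0,1,4,8,1], 0⟩
theorem sta_0 : subLv (nthD LS idL 25).T 112 [3,8,2,1,0] (wd LS [25]) [Oa] va_0 ka_0 [] = true := by decide +kernel
theorem dda_0 : deadLv (nthD LS idL 25).T 7 112 (wd LS [25]) [Oa] [] va_0 [va_1, va_2, va_3, va_4, va_5, va_6] ka_0 [] (ival 0 112) = true := by decide +kernel
noncomputable def ka_1 : Kl := ⟨wd LS [25,28,30,40,41,42], [0,1,2,3], 0⟩
theorem sta_1 : subLv (nthD LS idL 25).T 112 [3,8,2,1,0] (wd LS [25]) [Oa] va_1 ka_1 [va_0.b] = true := by decide +kernel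
theorem dda_1 : deadLv (nthD LS idL 25).T 7 112 (wd LS [25]) [Oa] [] va_1 [va_2, va_3, va_4, va_5, va_6] ka_1 [va_0.b] (ival 0 112) = true := by decide +kernel
noncomputable def ka_2 : Kl := ⟨wd LS [], [], 0⟩
theorem sta_2 : subLv (nthD LS idL 25).T 112 [3,8,2,1,0] (wd LS [25]) [Oa] va_2 ka_2 [va_1.b, va_0.b] = true := by decide +kernel
theorem dda_2 : deadLv (nthD LS idL 25).T 7 112 (wd LS [25]) [Oa] [] va_2 [va_3, va_4, va_5, va_6] ka_2 [va_1.b, va_0.b] (ival 0 112) = true := by decide +kernel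
noncomputable def ka_3 : Kl := ⟨wd LS [43,44], [0], 0⟩
theorem sta_3 : subLv (nthD LS idL 25).T 112 [3,8,2,1,0] (wd LS [25]) [Oa] va_3 ka_3 [va_2.b, va_1.b, va_0.b] = true := by decide +kernel
theorem dda_3 : deadLv (nthD LS idL 25).T 7 112 (wd LS [25]) [Oa] [] va_3 [va_4, va_5, va_6] ka_3 [va_2.b, va_1.b, va_0.b] (ival 0 112) = true := by decide +kernel
noncomputable def ka_4 : Kl := ⟨wd LS [], [], 0⟩
theorem sta_4 : subLv (nthD LS idL 25).T 112 [3,8,2,1,0] (wd LS [25]) [Oa] va_4 ka_4 [va_3.b, va_2.b, va_1.b, va_0.b] = true := by decide +kernel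
theorem dda_4 : deadLv (nthD LS idL 25).T 7 112 (wd LS [25]) [Oa] [] va_4 [va_5, va_6] ka_4 [va_3.b, va_2.b, va_1.b, va_0.b] (ival 0 112) = true := by decide +kernel
noncomputable def ka_5 : Kl := ⟨wd LS [45,46], [0,1,1], 0⟩
theorem sta_5 : subLv (nthD LS idL 25).T 112 [3,8,2,1,0] (wd LS [25]) [Oa] va_5 ka_5 [va_4.b, va_3.b, va_2.b, va_1.b, va_0.b] = true := by decide +kernel
theorem dda_5 : deadLv (nthD LS idL 25).T 7 112 (wd LS [25]) [Oa] [] va_5 [va_6] ka_5 [va_4.b, va_3.b, va_2.b, va_1.b, va_0.b] (ival 0 112) = true := by decide +kernel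
noncomputable def ka_6 : Kl := ⟨wd LS [47], [0], 0⟩
theorem sta_6 : subLv (nthD LS idL 25).T 112 [3,8,2,1,0] (wd LS [25]) [Oa] va_6 ka_6 [va_5.b, va_4.b, va_3.b, va_2.b, va_1.b, va_0.b] = true := by decide +kernel
theorem dda_6 : deadLv (nthD LS idL 25).T 7 112 (wd LS [25]) [Oa] [] va_6 [] ka_6 [va_5.b, va_4.b, va_3.b, va_2.b, va_1.b, va_0.b] (ival 0 112) = true := by decide +kernel
theorem koka : KOK 112 (gen (vL LS) SKa) [ka_0, ka_1, ka_2, ka_3, ka_4, ka_5, ka_6] :=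
  (KOK.cons (hLS.wdK knKa (w := [34,35,25,26,27,28,29,30,36]) (by decide +kernel)) (KOK.cons (hLS.wdK knKa (w := [25,28,30,40,41,42]) (by decide +kernel)) (KOK.cons (hLS.wdK knKa (w := []) (by decide +kernel)) (KOK.cons (hLS.wdK knKa (w := [43,44]) (by decide +kernel)) (KOK.cons (hLS.wdK knKa (w := []) (by decide +kernel)) (KOK.cons (hLS.wdK knKa (w := [45,46]) (by decide +kernel)) (KOK.cons (hLS.wdK knKa (w := [47]) (by decide +kernel)) KOK.nil)))))))
theorem sba : Sub (nthD LS idL 25).T 7 112 [3,8,2,1,0] (wd LS [25]) [Oa] [] La [ka_0, ka_1, ka_2, ka_3, ka_4, ka_5, ka_6] [] :=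
  ⟨sta_0, (CovX.zero _).step dda_0, ⟨sta_1, (CovX.zero _).step dda_1, ⟨sta_2, (CovX.zero _).step dda_2, ⟨sta_3, (CovX.zero _).step dda_3, ⟨sta_4, (CovX.zero _).step dda_4, ⟨sta_5, (CovX.zero _).step dda_5, ⟨sta_6, (CovX.zero _).step dda_6, trivial⟩⟩⟩⟩⟩⟩⟩
noncomputable def Ua_0 : ℕ := 0xc00040207080858823009014
noncomputable def Ua_1 : ℕ := 0x1010800102124001002404e8
noncomputable def Ua_2 : ℕ := 0x400
noncomputable def Ua_3 : ℕ := 0x100004000000000
noncomputable def Ua_4 : ℕ := 0x100000000000000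
noncomputable def Ua_5 : ℕ := 0x1000010000400000240040
noncomputable def Ua_6 : ℕ := 0x800000000000000020000
theorem cca : Nat.card (gen (vL LS) SKa) = 7680 ∧ ∃ t, H79.RepHS.ρ t = vL LS 25 ∧ (C1 t).map H79.RepHS.ρ = (gen (vL LS) SKa) :=
  cent_cert (m := 7) (by norm_num) H79.RepHS.inj hB base hLS (by decide +kernel) hOa leKa rRa (by decide +kernel) (by decide +kernel) cha koka sba
    (OL := [(Ua_0, 20), (Ua_1, 16), (Ua_2, 1), (Ua_3, 2), (Ua_4, 1), (Ua_5, 6), (Ua_6, 2)]) (by decide +kernel) (by decide +kernel) lowKa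
theorem ncPa3 : NoC (gen (vL LS) SKa) (gen (vL LS) SQa) 3 :=
  noC_cert base hLS knKa nrma rCPa3 oCPa3 cca.1 cardPa3 (by norm_num) (by norm_num) (by decide +kernel)
    (cs := [(24, 0), (30, 0), (30, 0)]) (by decide +kernel)
theorem ncPa5 : NoC (gen (vL LS) SKa) (gen (vL LS) SQa) 5 :=
  noC_cert base hLS knKa nrma rCPa5 oCPa5 cca.1 cardPa5 (by norm_num) (by norm_num) (by decide +kernel)
    (cs := [(24, 0), (30, 0), (30, 0), (30, 0), (30, 0)]) (by decide +kernel)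
theorem chpa : H98.CharP 2 (gen (vL LS) SKa) :=
  charP_of_noC ((IsPGroup.of_card cardT).to_le (gen_le fun l hl => knT l (H74.of_memL (of_allM (f := fun l => H74.memL l (slpS PT ST)) (l := SQa) (by decide +kernel) l hl))))
    (gen_mono _ (by decide +kernel)) nrma (k := 9) (π := [3,5]) cca.1 (by decide +kernel) (by norm_num)
    (List.forall_mem_cons.2 ⟨ncPa3, (List.forall_mem_cons.2 ⟨ncPa5, fun _ h => absurd h List.not_mem_nil⟩)⟩)
theorem ega : EntG (gen (vL LS) SKa) := Or.inl (ch2_iff_charP.2 chpa)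
theorem enta : ∃ t, H79.RepHS.ρ t = vL LS 25 ∧ Ent t :=
  cca.2.imp fun _ h => ⟨h.1, ent_of_map H79.RepHS.inj h.2 ega⟩
end H80.KFHS
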