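import Cfsg.Agent.H80.KFHSB
set_option maxRecDepth 1000000
set_option Elab.async false
namespace H80.KFHS
open H71 H81 H88 H80.KF H43.KF
noncomputable def Db_0 : ℕ := 0xfffffffffffffffffffffffff
noncomputable def Rb_0 : ℕ := 0xfffffffffffffffffffffffff
noncomputable def Sb_0 : H88.Tr := (.leaf (nat_lit 0) (nat_lit 0x656029583725d22806ce464b80000000f8d8e050cd006bf83a07d005c000000003b78211cd0d5b75a66026a24))
noncomputable def vb_0 : Lv := ⟨(nat_lit 0), Db_0, 100, wd LS [12,17,13,79,14,80,15,16], [0,2,4,0,6,2,4,0,0], Sb_0, true, (nat_lit 0), (nat_lit 0), Rb_0, 0, 0, []⟩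
noncomputable def Db_1 : ℕ := 0xced66b7fc3afd7fffdf7fd7fe
noncomputable def Sb_1 : H88.Tr := (.leaf (nat_lit 0) (nat_lit 0x92012a818352cc1140243c20000000444429608329d62a25306d5a20000000ccd40134000685e311c5cd32e))
noncomputable def vb_1 : Lv := ⟨(nat_lit 34), Db_1, 77, wd LS [17,16,15,80,81,79,83,82], [0,1,2,6,0,7,6,0,0], Sb_1, false, (nat_lit 0), (nat_lit 1), 0, 0, 0, []⟩
noncomputable def Db_2 : ℕ := 0x2000040020400000020800000
noncomputable def Rb_2 : ℕ := 0xfffffffffffffffffffffffff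
noncomputable def Sb_2 : H88.Tr := (.leaf (nat_lit 0) (nat_lit 0x40000002000000000000000000000020000000000000000))
noncomputable def vb_2 : Lv := ⟨(nat_lit 23), Db_2, 6, wd LS [81,79,80,83], [0,0,2,0], Sb_2, true, (nat_lit 0), (nat_lit 0), Rb_2, 0, 0, []⟩
noncomputable def Db_3 : ℕ := 0x2000040020400000020000000
noncomputable def Sb_3 : H88.Tr := (.leaf (nat_lit 0) (nat_lit 0x4000000000000000000000000002000000000400000000000000))
noncomputable def vb_3 : Lv := ⟨(nat_lit 65), Db_3, 5, wd LS [83,82,84], [0,2,0], Sb_3, false, (nat_lit 0), (nat_lit 1), 0, 0, 0, []⟩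
noncomputable def Db_4 : ℕ := 0x400010400000004000
noncomputable def Rb_4 : ℕ := 0xfffffffffffffffffffffffff
noncomputable def Sb_4 : H88.Tr := (.leaf (nat_lit 0) (nat_lit 0x400000000000))
noncomputable def vb_4 : Lv := ⟨(nat_lit 14), Db_4, 4, wd LS [87,85], [0,1,0], Sb_4, true, (nat_lit 0), (nat_lit 0), Rb_4, 0, 0, []⟩
noncomputable def Db_5 : ℕ := 0x400010400000000000
noncomputable def Sb_5 : H88.Tr := (.leaf (nat_lit 0) (nat_lit 0x10000000000000))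
noncomputable def vb_5 : Lv := ⟨(nat_lit 46), Db_5, 3, wd LS [88,89], [0,0], Sb_5, false, (nat_lit 0), (nat_lit 1), 0, 0, 0, []⟩
noncomputable def Db_6 : ℕ := 0x10000000000200000104
noncomputable def Rb_6 : ℕ := 0xfffffffffffffffffffffffff
noncomputable def Sb_6 : H88.Tr := (.leaf (nat_lit 0) (nat_lit 0x20000000000000000000010000000000000000000))
noncomputable def vb_6 : Lv := ⟨(nat_lit 2), Db_6, 4, wd LS [91,92,75], [0,1], Sb_6, true, (nat_lit 0), (nat_lit 0), Rb_6, 0, 0, []⟩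
noncomputable def Db_7 : ℕ := 0x800000000008000000000000
noncomputable def Sb_7 : H88.Tr := (.leaf (nat_lit 0) (nat_lit 0))
noncomputable def vb_7 : Lv := ⟨(nat_lit 95), Db_7, 2, wd LS [93], [0], Sb_7, false, (nat_lit 0), (nat_lit 1), 0, 0, 0, []⟩
noncomputable def Db_8 : ℕ := 0x400000000000000000000002
noncomputable def Rb_8 : ℕ := 0xfffffffffffffffffffffffff
noncomputable def Sb_8 : H88.Tr := (.leaf (nat_lit 0) (nat_lit 0))
noncomputable def vb_8 : Lv := ⟨(nat_lit 1), Db_8, 2, wd LS [77], [0], Sb_8, true, (nat_lit 0), (nat_lit 0), Rb_8, 0, 0, []⟩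
noncomputable def Lb : List Lv := [vb_0, vb_1, vb_2, vb_3, vb_4, vb_5, vb_6, vb_7, vb_8]
theorem lokb : LOK 112 (H79.RepHS.ρ).range Lb :=
  (LOK.cons (hLS.wd (w := [12,17,13,79,14,80,15,16]) (by decide +kernel))
  (LOK.cons (hLS.wd (w := [17,16,15,80,81,79,83,82]) (by decide +kernel))
  (LOK.cons (hLS.wd (w := [81,79,80,83]) (by decide +kernel))
  (LOK.cons (hLS.wd (w := [83,82,84]) (by decide +kernel))
  (LOK.cons (hLS.wd (w := [87,85]) (by decide +kernel))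
  (LOK.cons (hLS.wd (w := [88,89]) (by decide +kernel))
  (LOK.cons (hLS.wd (w := [91,92,75]) (by decide +kernel))
  (LOK.cons (hLS.wd (w := [93]) (by decide +kernel))
  (LOK.cons (hLS.wd (w := [77]) (by decide +kernel))
  LOK.nil)))))))))
theorem lbb_0 : lbLv 7 112 vb_0 [vb_1, vb_2, vb_3, vb_4, vb_5, vb_6, vb_7, vb_8] = true := by decide +kernel
theorem lbb_1 : lbLv 7 112 vb_1 [vb_2, vb_3, vb_4, vb_5, vb_6, vb_7, vb_8] = true := by decide +kernel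
theorem lbb_2 : lbLv 7 112 vb_2 [vb_3, vb_4, vb_5, vb_6, vb_7, vb_8] = true := by decide +kernel
theorem lbb_3 : lbLv 7 112 vb_3 [vb_4, vb_5, vb_6, vb_7, vb_8] = true := by decide +kernel
theorem lbb_4 : lbLv 7 112 vb_4 [vb_5, vb_6, vb_7, vb_8] = true := by decide +kernel
theorem lbb_5 : lbLv 7 112 vb_5 [vb_6, vb_7, vb_8] = true := by decide +kernel
theorem lbb_6 : lbLv 7 112 vb_6 [vb_7, vb_8] = true := by decide +kernel
theorem lbb_7 : lbLv 7 112 vb_7 [vb_8] = true := by decide +kernel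
theorem lbb_8 : lbLv 7 112 vb_8 [] = true := by decide +kernel
theorem lbb : LB 7 112 Lb := ⟨lbb_0, ⟨lbb_1, ⟨lbb_2, ⟨lbb_3, ⟨lbb_4, ⟨lbb_5, ⟨lbb_6, ⟨lbb_7, ⟨lbb_8, trivial⟩⟩⟩⟩⟩⟩⟩⟩⟩
theorem chb : Ch 112 Lb (H79.RepHS.ρ).range := lb_exact _ _ lokb lbb (by rw [cardB]; decide +kernel)
noncomputable def kb_0 : Kl := ⟨wd LS [66,65,67,64,68,69], [0,3,4,5,1,2,0,1], 0x200000000000000⟩
theorem stb_0 : subLv (nthD LS idL 64).T 112 [3,8,2,1,0] (wd LS [64]) [Ob] vb_0 kb_0 [] = true := by decide +kernel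
theorem ddb_0 : deadLv (nthD LS idL 64).T 7 112 (wd LS [64]) [Ob] [1] vb_0 [vb_1, vb_2, vb_3, vb_4, vb_5, vb_6, vb_7, vb_8] kb_0 [] (ival 0 112) = true := by decide +kernel
noncomputable def kb_1 : Kl := ⟨wd LS [], [], 0⟩
theorem stb_1 : subLv (nthD LS idL 64).T 112 [3,8,2,1,0] (wd LS [64]) [Ob] vb_1 kb_1 [vb_0.b] = true := by decide +kernel
theorem ddb_1 : deadLv (nthD LS idL 64).T 7 112 (wd LS [64]) [Ob] [1] vb_1 [vb_2, vb_3, vb_4, vb_5, vb_6, vb_7, vb_8] kb_1 [vb_0.b] (ival 0 112) = true := by decide +kernel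
noncomputable def kb_2 : Kl := ⟨wd LS [65,73,74], [0,0], 0x40000000000000000000⟩
theorem stb_2 : subLv (nthD LS idL 64).T 112 [3,8,2,1,0] (wd LS [64]) [Ob] vb_2 kb_2 [vb_1.b, vb_0.b] = true := by decide +kernel
theorem ddb_2 : deadLv (nthD LS idL 64).T 7 112 (wd LS [64]) [Ob] [1] vb_2 [vb_3, vb_4, vb_5, vb_6, vb_7, vb_8] kb_2 [vb_1.b, vb_0.b] (ival 0 112) = true := by decide +kernel
noncomputable def kb_3 : Kl := ⟨wd LS [], [], 0⟩
theorem stb_3 : subLv (nthD LS idL 64).T 112 [3,8,2,1,0] (wd LS [64]) [Ob] vb_3 kb_3 [vb_2.b, vb_1.b, vb_0.b] = true := by decide +kernel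
theorem ddb_3 : deadLv (nthD LS idL 64).T 7 112 (wd LS [64]) [Ob] [1] vb_3 [vb_4, vb_5, vb_6, vb_7, vb_8] kb_3 [vb_2.b, vb_1.b, vb_0.b] (ival 0 112) = true := by decide +kernel
noncomputable def kb_4 : Kl := ⟨wd LS [75,76,72], [1], 0x400000000000⟩
theorem stb_4 : subLv (nthD LS idL 64).T 112 [3,8,2,1,0] (wd LS [64]) [Ob] vb_4 kb_4 [vb_3.b, vb_2.b, vb_1.b, vb_0.b] = true := by decide +kernel
theorem ddb_4 : deadLv (nthD LS idL 64).T 7 112 (wd LS [64]) [Ob] [1] vb_4 [vb_5, vb_6, vb_7, vb_8] kb_4 [vb_3.b, vb_2.b, vb_1.b, vb_0.b] (ival 0 112) = true := by decide +kernel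
noncomputable def kb_5 : Kl := ⟨wd LS [], [], 0⟩
theorem stb_5 : subLv (nthD LS idL 64).T 112 [3,8,2,1,0] (wd LS [64]) [Ob] vb_5 kb_5 [vb_4.b, vb_3.b, vb_2.b, vb_1.b, vb_0.b] = true := by decide +kernel
theorem ddb_5 : deadLv (nthD LS idL 64).T 7 112 (wd LS [64]) [Ob] [1] vb_5 [vb_6, vb_7, vb_8] kb_5 [vb_4.b, vb_3.b, vb_2.b, vb_1.b, vb_0.b] (ival 0 112) = true := by decide +kernel
noncomputable def kb_6 : Kl := ⟨wd LS [75,77,78], [0,2], 0⟩
theorem stb_6 : subLv (nthD LS idL 64).T 112 [3,8,2,1,0] (wd LS [64]) [Ob] vb_6 kb_6 [vb_5.b, vb_4.b, vb_3.b, vb_2.b, vb_1.b, vb_0.b] = true := by decide +kernel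
theorem ddb_6 : deadLv (nthD LS idL 64).T 7 112 (wd LS [64]) [Ob] [1] vb_6 [vb_7, vb_8] kb_6 [vb_5.b, vb_4.b, vb_3.b, vb_2.b, vb_1.b, vb_0.b] (ival 0 112) = true := by decide +kernel
noncomputable def kb_7 : Kl := ⟨wd LS [], [], 0⟩
theorem stb_7 : subLv (nthD LS idL 64).T 112 [3,8,2,1,0] (wd LS [64]) [Ob] vb_7 kb_7 [vb_6.b, vb_5.b, vb_4.b, vb_3.b, vb_2.b, vb_1.b, vb_0.b] = true := by decide +kernel
theorem ddb_7 : deadLv (nthD LS idL 64).T 7 112 (wd LS [64]) [Ob] [1] vb_7 [vb_8] kb_7 [vb_6.b, vb_5.b, vb_4.b, vb_3.b, vb_2.b, vb_1.b, vb_0.b] (ival 0 112) = true := by decide +kernel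
noncomputable def kb_8 : Kl := ⟨wd LS [77], [0], 0⟩
theorem stb_8 : subLv (nthD LS idL 64).T 112 [3,8,2,1,0] (wd LS [64]) [Ob] vb_8 kb_8 [vb_7.b, vb_6.b, vb_5.b, vb_4.b, vb_3.b, vb_2.b, vb_1.b, vb_0.b] = true := by decide +kernel
theorem ddb_8 : deadLv (nthD LS idL 64).T 7 112 (wd LS [64]) [Ob] [1] vb_8 [] kb_8 [vb_7.b, vb_6.b, vb_5.b, vb_4.b, vb_3.b, vb_2.b, vb_1.b, vb_0.b] (ival 0 112) = true := by decide +kernel
theorem kokb : KOK 112 (gen (vL LS) SKb) [kb_0, kb_1, kb_2, kb_3, kb_4, kb_5, kb_6, kb_7, kb_8] :=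
  (KOK.cons (hLS.wdK knKb (w := [66,65,67,64,68,69]) (by decide +kernel)) (KOK.cons (hLS.wdK knKb (w := []) (by decide +kernel)) (KOK.cons (hLS.wdK knKb (w := [65,73,74]) (by decide +kernel)) (KOK.cons (hLS.wdK knKb (w := []) (by decide +kernel)) (KOK.cons (hLS.wdK knKb (w := [75,76,72]) (by decide +kernel)) (KOK.cons (hLS.wdK knKb (w := []) (by decide +kernel)) (KOK.cons (hLS.wdK knKb (w := [75,77,78]) (by decide +kernel)) (KOK.cons (hLS.wdK knKb (w := []) (by decide +kernel)) (KOK.cons (hLS.wdK knKb (w := [77]) (by decide +kernel)) KOK.nil)))))))))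
theorem sbb : Sub (nthD LS idL 64).T 7 112 [3,8,2,1,0] (wd LS [64]) [Ob] [1] Lb [kb_0, kb_1, kb_2, kb_3, kb_4, kb_5, kb_6, kb_7, kb_8] [] :=
  ⟨stb_0, (CovX.zero _).step ddb_0, ⟨stb_1, (CovX.zero _).step ddb_1, ⟨stb_2, (CovX.zero _).step ddb_2, ⟨stb_3, (CovX.zero _).step ddb_3, ⟨stb_4, (CovX.zero _).step ddb_4, ⟨stb_5, (CovX.zero _).step ddb_5, ⟨stb_6, (CovX.zero _).step ddb_6, ⟨stb_7, (CovX.zero _).step ddb_7, ⟨stb_8, (CovX.zero _).step ddb_8, trivial⟩⟩⟩⟩⟩⟩⟩⟩⟩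
noncomputable def Ub_0 : ℕ := 0xfb49257f76cbed336e8d95375
noncomputable def Ub_1 : ℕ := 0x400000000
noncomputable def Ub_2 : ℕ := 0x2000000000000000020800000
noncomputable def Ub_3 : ℕ := 0x20000000000000000
noncomputable def Ub_4 : ℕ := 0x400000000000004000
noncomputable def Ub_5 : ℕ := 0x400000000000
noncomputable def Ub_6 : ℕ := 0x10000000000200000104
noncomputable def Ub_7 : ℕ := 0x800000000000000000000000
noncomputable def Ub_8 : ℕ := 0x400000000000000000000002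
theorem ccb : Nat.card (gen (vL LS) SKb) = 2880 ∧ ∃ t, H79.RepHS.ρ t = vL LS 64 ∧ (C1 t).map H79.RepHS.ρ = (gen (vL LS) SKb) :=
  cent_cert (m := 7) (by norm_num) H79.RepHS.inj hB base hLS (by decide +kernel) hOb leKb rRb (by decide +kernel) (by decide +kernel) chb kokb sbb
    (OL := [(Ub_0, 60), (Ub_1, 1), (Ub_2, 3), (Ub_3, 1), (Ub_4, 2), (Ub_5, 1), (Ub_6, 4), (Ub_7, 1), (Ub_8, 2)]) (by decide +kernel) (by decide +kernel) lowKb
theorem imb3_2 : Imp (gen (vL LS) SKb) 3 2 :=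
  imp_cert base hLS knKb rCPb3 oCPb3 ccb.1 cardPb3 (by norm_num) (by norm_num) (by norm_num) (by decide +kernel)
    (cs := [([], 0, 0, 0),
    ([75], 2, 1, 0),
    ([75], 2, 1, 2),
    ([75], 2, 1, 0),
    ([76], 2, 1, 0),
    ([75], 2, 1, 1),
    ([76], 2, 1, 0),
    ([76], 2, 1, 0),
    ([76], 2, 1, 0)]) (by decide +kernel)
theorem imb5_2 : Imp (gen (vL LS) SKb) 5 2 :=
  imp_cert base hLS knKb rCPb5 oCPb5 ccb.1 cardPb5 (by norm_num) (by norm_num) (by norm_num) (by decide +kernel)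
    (cs := [([], 0, 0, 0),
    ([78], 2, 1, 0),
    ([78,65], 2, 1, 0),
    ([78,65], 2, 1, 0),
    ([78], 2, 1, 0)]) (by decide +kernel)
theorem egb : EntG (gen (vL LS) SKb) :=
  entG_of_imp (k := 6) (q := 3) (π := [5]) ccb.1 (by decide +kernel) (by norm_num) (by decide +kernel)
    (List.forall_mem_cons.2 ⟨imb3_2, (List.forall_mem_cons.2 ⟨imb5_2, fun _ h => absurd h List.not_mem_nil⟩)⟩)
    (List.forall_mem_cons.2 ⟨(List.forall_mem_cons.2 ⟨Or.inl rfl, fun _ h => absurd h List.not_mem_nil⟩), fun _ h => absurd h List.not_mem_nil⟩)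
theorem entb : ∃ t, H79.RepHS.ρ t = vL LS 64 ∧ Ent t :=
  ccb.2.imp fun _ h => ⟨h.1, ent_of_map H79.RepHS.inj h.2 egb⟩
end H80.KFHS
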