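/- The matrix model of a group of Janko-four type. -/
import Cfsg.Agent.H80.J4M
import Cfsg.Agent.H77.J4G

set_option autoImplicit false
set_option maxRecDepth 100000
set_option Elab.async false

open Cfsg H72 H50 H71

namespace H80.J4

open J4R

def mZ : ℕ := nat_lit 0x8000000000000000000000000000c00000000000000000000000000020000000000000000000000000001000000000000000000000000000080000000000000000000000000004000000000000000000000000000200000000000000000000000000010000000000000000000000000000800000000000000000000000000040000000000000000000000000002000000000000000000000000000100000000000000000000000000008000000000000000000000000000400000000000000000000000000020000000000000000000000000001000000000000000000000000000080000000000000000000000002004000000000000000000000000200200000000000000000000000010010000000000000000000000001000800000000000000000000000c000400000000000000000000000080020000000000000000000000020001000000000000000000000001000080000000000000000000000000004000000000000000000000000000200000000000000000000020000010000000000000000000001000000800000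000000000000000004000040000000000000000000001000002000000000000000000000300000100000000000000000000000000008000000000000000000000000000400000000000000000003000000020000000000000000000200000001000000000000000000004000000080000000000000000000020000004000000000000000000020000000200000000000000000003000000010000000000000000000000000000800000000000000000000000000040000000000000000020000000002000000000000000003000000000100000000000000000220000000008000000000000000013000000000400000000000000000010000000020000000000000000010000000001000000000000000002000000000080000000000000000000000000004000000000000000000000000000200000000000000010000000000010000000000000002000000000000800000000000000330000000000040000000000000021000000000002000000000000000800000000000100000000000000370080000000008000000000000001000000000000400000000000001100000000c00020000000000000200a000000000010000000000000200200000000000800000000000030030000000000040000000000001005000000000002000000000000220020600200000100000000000033002800c1000000800000000000300000820040000040000000000003000000000000002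000000000000200000000000000100000000000000000000000000008000000000000000000000000000400000000000300000000000000020000000000200a000820101000010000000000100a006820101000008000000000300f001030300800004000000000100f0070f030080000200000000033000000000060000010000000003102218a200404000008000000003308006820101000000400000000210c0070f03008000002000000001200218200000000000100000000220f218200000000000080000000110020820101000000004000000021002903030080000000200000003101289b100c0200000010000000110f0070f030080000000800000002050018d02018000000040000002300288300000000000002000000030a28830000000000000100000003002103c3018000000000800000000029e1c20100000000004000001100010300002000000000200000310224e20a000100000000100000100000682010100000000008000003000018d02018000000000400002b02000000000000000000020000100280000000000000000001000023006182010100000000000080002100190102018000000000004000310a0048231110000000000020002205001892209800000000001000300f0082034000400000000008001100011bd021b80002000000040022008070f03008000000000002000d0d247131308880000000030100230501a003010000280000000080220201820101000008000000004021020101020180000c0000000020220f000342008000140000000010220220e002111002008180080008330101e30321981200a003040004160e09630b01808c0002080100023f07a103c301800c3c02080d0201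

/-- product of packed matrices. -/
noncomputable def mm (a b : ℕ) : ℕ := H49.mmul 112 cm rm a b

/-- the packed matrix of a word. -/
noncomputable def evL (cs w : List ℕ) : ℕ := List.rec one (fun l _ acc => mm (nth cs one l) acc) w

/-- the code of a word. -/
noncomputable def evD (ds : List Cd) (w : List ℕ) : Cd :=
  List.rec (0, idP) (fun l _ acc => H49.frc (mulC (nth ds (0, idP) l) acc).1 fun a =>
    H49.frc (mulC (nth ds (0, idP) l) acc).2 fun b => (a, b)) w

theorem evD_cons (ds : List Cd) (l : ℕ) (w : List ℕ) :
    evD ds (l :: w) = mulC (nth ds (0, idP) l) (evD ds w) := by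
  show H49.frc (mulC (nth ds (0, idP) l) (evD ds w)).1 (fun a =>
    H49.frc (mulC (nth ds (0, idP) l) (evD ds w)).2 fun b => ((a, b) : Cd)) = _
  rw [H49.frc_eq, H49.frc_eq]

theorem ok_nth {ds : List Cd} (h : ∀ d ∈ ds, Ok d) (l : ℕ) : Ok (nth ds (0, idP) l) := by
  induction ds generalizing l with
  | nil => exact ok_id (by norm_num)
  | cons d ds ih =>
    cases l with
    | zero => exact h d (by simp)
    | succ l => exact ih (fun e he => h e (by simp [he])) l

theorem ok_evD {ds : List Cd} (h : ∀ d ∈ ds, Ok d) (w : List ℕ) : Ok (evD ds w) := by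
  induction w with
  | nil => exact ok_id (by norm_num)
  | cons l w ih => rw [evD_cons]; exact (ok_nth h l).mul ih

variable {G : Type*} [Group G] [Finite G] [IsSimpleGroup Spor.J4] (S : JSet G)

/-- the representation by matrices. -/
noncomputable def Rm : G →* MG := ρ.comp (H77.J4.isoJ S).symm.toMonoidHom

theorem Rm_inj : Function.Injective (Rm S) := ρ_inj.comp (H77.J4.isoJ S).symm.injective

theorem Rm_homJ (x : Spor.J4) : Rm S (H77.J4.homJ S x) = ρ x :=
  congrArg ρ ((H77.J4.isoJ S).symm_apply_apply x)

/-- `c` is the packed matrix of `g`. -/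
def RC (g : G) (c : ℕ) : Prop := (Rm S g).c = c

variable {S}

theorem RC.mul {g h : G} {a b : ℕ} (h1 : RC S g a) (h2 : RC S h b) : RC S (g * h) (mm a b) := by
  rw [RC, map_mul, ← h1, ← h2]; rfl

theorem RC.eq {g h : G} {a b : ℕ} (h1 : RC S g a) (h2 : RC S h b) (e : Nat.beq a b = true) :
    g = h := Rm_inj S (H49.UG.ext' (h1.trans ((Nat.eq_of_beq_eq_true e).trans h2.symm)))

theorem RC.ne {g h : G} {a b : ℕ} (h1 : RC S g a) (h2 : RC S h b) (e : Nat.beq a b = false) :
    g ≠ h := fun h => by
  rw [← h1, ← h2, h, Nat.beq_refl] at e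
  exact absurd e (by decide)

theorem RC.lit {g : G} {a b : ℕ} (h1 : RC S g a) (e : Nat.beq a b = true) : RC S g b :=
  h1.trans (Nat.eq_of_beq_eq_true e)

variable (S)

theorem RC_one : RC S 1 one := by rw [RC, map_one]; rfl

theorem RC_y : RC S (S.ι (toPerm py)) mY := by rw [RC, ← H77.J4.homJ_y, Rm_homJ, ρ_val]; rfl
theorem RC_x : RC S (S.ι (toPerm J4R.px)) mX := by rw [RC, ← H77.J4.homJ_x, Rm_homJ, ρ_val]; rfl
theorem RC_t : RC S S.t mT := by rw [RC, ← H77.J4.homJ_t, Rm_homJ, ρ_val]; rfl
theorem RC_yi : RC S (S.ι (toPerm py))⁻¹ mYi := by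
  rw [RC, map_inv, ← H77.J4.homJ_y, Rm_homJ, ρ_val]; rfl

variable {S}

theorem RC_nth {gs : List G} {cs : List ℕ} (h : List.Forall₂ (RC S) gs cs) (l : ℕ) :
    RC S (nth gs 1 l) (nth cs one l) := by
  induction h generalizing l with
  | nil => exact RC_one S
  | cons h _ ih =>
    cases l with
    | zero => exact h
    | succ l => exact ih l

theorem RC_evw {gs : List G} {cs : List ℕ} (h : List.Forall₂ (RC S) gs cs) (w : List ℕ) :
    RC S (evw (nth gs 1) w) (evL cs w) := by
  induction w with
  | nil => exact RC_one S
  | cons l w ih => rw [evw_cons]; exact (RC_nth h l).mul ih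

theorem RC_evD {ds : List Cd} {cs : List ℕ} (ho : ∀ d ∈ ds, Ok d)
    (h : List.Forall₂ (fun d => RC S (elC S.toJSet0 d)) ds cs) (w : List ℕ) :
    RC S (elC S.toJSet0 (evD ds w)) (evL cs w) := by
  have hn : ∀ l, RC S (elC S.toJSet0 (nth ds (0, idP) l)) (nth cs one l) := fun l => by
    clear ho
    induction h generalizing l with
    | nil => rw [nth_nil, elC_id, S.v0_zero]; exact RC_one S
    | cons h _ ih =>
      cases l with
      | zero => exact h
      | succ l => exact ih l
  induction w with
  | nil =>
    show RC S (elC _ (0, idP)) _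
    rw [elC_id, S.v0_zero]; exact RC_one S
  | cons l w ih => rw [evD_cons, elC_mul _ (ok_nth ho l) (ok_evD ho w)]; exact (hn l).mul ih

variable (S)

theorem RC_pv (w : List ℕ) : RC S (evw (H77.J4.pv S) w) (evL [mY, mYi, mX, mT] w) :=
  RC_evw (gs := [S.ι (toPerm py), (S.ι (toPerm py))⁻¹, S.ι (toPerm J4R.px), S.t])
    (.cons (RC_y S) (.cons (RC_yi S) (.cons (RC_x S) (.cons (RC_t S) .nil)))) w

theorem RC_z : RC S S.z mZ := by
  have h1 := RC_pv S ([1, 2, 0, 2, 0, 2, 0, 2, 0, 2, 1, 2, 0, 2, 1, 2, 0, 2, 0, 2, 0, 2, 0, 2, 1, 2, 1, 2, 0, 2, 0, 2, 0, 2, 0, 2, 1, 2, 1, 2, 1, 2, 0, 2, 0, 2, 0, 2, 1, 2, 1, 2, 0] ++ 3 :: [1, 2, 0, 2, 0, 2, 1, 2, 1, 2, 1, 2, 0, 2, 0, 2, 0, 2, 1, 2, 1, 2, 1, 2, 1, 2, 0, 2, 0, 2, 1, 2, 1, 2, 1, 2, 1, 2, 0, 2, 1, 2, 0, 2, 1, 2, 1, 2, 1, 2, 1, 2, 0])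
  have h2 := RC_pv S ([1, 2, 0, 2, 1, 2, 0, 2, 1, 2, 1, 2, 0, 2, 1, 2, 0, 2, 0, 2, 0, 2, 1, 2, 0, 2, 1, 2, 0, 2, 0, 2, 0, 2, 0, 2, 1, 2, 0, 2, 1, 2, 0, 2, 1, 2, 0, 2] ++ 3 :: [2, 1, 2, 0, 2, 1, 2, 0, 2, 1, 2, 0, 2, 1, 2, 1, 2, 1, 2, 1, 2, 0, 2, 1, 2, 0, 2, 1, 2, 1, 2, 1, 2, 0, 2, 1, 2, 0, 2, 0, 2, 1, 2, 0, 2, 1, 2, 0])
  rw [H77.J4.ev_tt S _ _ (by decide +kernel)] at h1 h2
  rw [← H77.J4.triangle S, show wdP H77.J4.QL [1] = wdP H77.J4.LP [1, 2, 0, 2, 0, 2, 0, 2, 0, 2, 1, 2, 0, 2, 1, 2, 0, 2, 0, 2, 0, 2, 0, 2, 1, 2, 1, 2, 0, 2, 0, 2, 0, 2, 0, 2, 1, 2, 1, 2, 1, 2, 0, 2, 0, 2, 0, 2, 1, 2, 1, 2, 0] by decide +kernel,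
    show wdP H77.J4.QL [2] = wdP H77.J4.LP [1, 2, 0, 2, 1, 2, 0, 2, 1, 2, 1, 2, 0, 2, 1, 2, 0, 2, 0, 2, 0, 2, 1, 2, 0, 2, 1, 2, 0, 2, 0, 2, 0, 2, 0, 2, 1, 2, 0, 2, 1, 2, 0, 2, 1, 2, 0, 2] by decide +kernel]
  exact (((RC_t S).mul h1).mul h2).lit (by decide +kernel)

/-- codes of the letters `y, y⁻¹, x, 1, z`. -/
def dM : List Cd := [(0, py), (0, invP py), (0, J4R.px), (0, idP), (1024, idP)]
/-- matrices of the letters `y, y⁻¹, x, t, z`. -/
def c5 : List ℕ := [mY, mYi, mX, mT, mZ]
/-- the letters `y, y⁻¹, x, t, z`. -/
noncomputable def g5 : List G := [S.ι (toPerm py), (S.ι (toPerm py))⁻¹, S.ι (toPerm J4R.px), S.t, S.z]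

theorem RC_g5 : List.Forall₂ (RC S) (g5 S) c5 :=
  .cons (RC_y S) (.cons (RC_yi S) (.cons (RC_x S) (.cons (RC_t S) (.cons (RC_z S) .nil))))

omit [IsSimpleGroup Spor.J4] in
theorem ok_dM : ∀ d ∈ dM, Ok d := fun d hd =>
  ok_of (List.all_eq_true.1 (show dM.all okB = true by decide +kernel) d hd)

/-- the matrix of an element of `M` from a word in `y, y⁻¹, x, z`. -/
theorem RC_M {d : Cd} (w : List ℕ) (h : eqC (evD dM w) d = true) :
    RC S (elC S.toJSet0 d) (evL [mY, mYi, mX, one, mZ] w) := by
  rw [← eq_of_eqC h]
  have v : valid py = true := by decide +kernel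
  refine RC_evD ok_dM (.cons ?_ (.cons ?_ (.cons ?_ (.cons ?_ (.cons ?_ .nil))))) w
  · rw [elC_zero]; exact RC_y S
  · rw [elC_zero, toPerm_invP v, ι_inv _ (ok_dM (0, py) (by simp [dM])).2.2.1]; exact RC_yi S
  · rw [elC_zero]; exact RC_x S
  · rw [elC_id, S.v0_zero]; exact RC_one S
  · rw [elC_id, S.v0_1024]; exact RC_z S

end H80.J4
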