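import Cfsg.Agent.H80.QEK
import Cfsg.Agent.H80.KFRu
import Cfsg.Agent.H80.QEM22
import Cfsg.Agent.H69.StdCondRu

/-! Tower QE, job `JobRu`: the centraliser `2^2 x Sz(8)` in the Rudvalis group. -/

set_option autoImplicit false
set_option maxRecDepth 1000000

namespace H80.QE.Ru

open Cfsg Subgroup H14 H98 H36.QE H80.KF H71 H81 H88 H80.KFRu
open H14.CO (cen cen1 nor mem_cen mem_cen1)
open H79.Ru (inj)

universe u v

def O1 : ℕ := 0x88148902108016008242300086804955000080408900128082a01000210098886c21500010041114786750020000101102a00100000088282910101000c3201008001220180240104000454000c8021008808020081003081c2000000409280100800129400010000004988204000441400084009a0888201000298520601000050009030008080024084000440600100400200001008140004c00a0080028081000800400810413a800002910000002860101154c0000030280008000040200001080040002020c020100b0200011010923009214008002ce04200004080400020018500204402c092000204004380000802000051000100401144050191000a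80a10100208008421d8240e8050040a80002400900800409450010040f00000280000000800000000012020001005a000005014002c014100000010000096020c8110400041104000000080080050000c1008040404c0200040400000480883000008002000002082000210210292005080000010200020440040400400010804025002200400406040100040904d000002044040000000421410280000010010200000000102140000800080000020000080a0104401006000200016082008482061000400010402009440000004860412010910110800000800000800202000018008084020000900084001000320044004000180004100201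
def WP : List (List ℕ) := [[35,28],[35,32,30],[35,33,28,25]]
def SP : Sl := ⟨[0,1,2], [[],[0],[1],[2],[0,0],[1,0],[2,0],[0,1],[1,1],[2,1],[0,2],[1,2],[2,2],[0,0,0],[1,0,0],[2,0,0],[0,1,0],[1,1,0],[2,1,0],[0,2,0],[1,2,0],[2,2,0],[1,0,1],[2,0,1],[1,1,1],[2,1,1],[0,2,1],[2,2,1],[1,0,2],[0,1,2],[2,1,2],[2,2,2],[1,0,0,0],[2,0,0,0],[0,1,0,0],[1,1,0,0],[2,1,0,0],[0,2,0,0],[1,2,0,0],[2,2,0,0],[1,0,1,0],[2,0,1,0],[1,1,1,0],[2,1,1,0],[1,0,2,0],[2,1,2,0],[2,2,2,0],[1,1,0,1],[0,2,0,1],[1,2,0,1],[2,2,1,1],[1,0,2,1],[0,1,0,2],[0,2,1,2],[1,1,0,0,0],[0,2,0,0,0],[2,2,0,0,0],[1,0,1,0,0],[1,1,1,0,0],[2,1,1,0,0],[2,1,2,0,0],[2,2,2,0,0],[0,2,0,1,0],[0,1,0,2,0]],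
  [[(1,[]),(4,[]),(7,[]),(10,[]),(13,[]),(16,[]),(19,[]),(14,[]),(17,[]),(26,[]),(15,[]),(29,[]),(21,[]),(0,[]),(34,[]),(37,[]),(32,[]),(35,[]),(11,[]),(33,[]),(9,[]),(39,[]),(40,[]),(48,[]),(47,[]),(46,[]),(36,[]),(5,[]),(52,[]),(38,[]),(53,[]),(43,[]),(27,[]),(55,[]),(2,[]),(54,[]),(20,[]),(3,[]),(18,[]),(56,[]),(57,[]),(62,[]),(30,[]),(61,[]),(63,[]),(24,[]),(59,[]),(58,[]),(28,[]),(25,[]),(22,[]),(31,[]),(23,[]),(60,[]),(8,[]),(6,[]),(12,[]),(50,[]),(45,[]),(49,[]),(42,[]),(51,[]),(44,[]),(41,[])],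
  [(2,[]),(5,[]),(8,[]),(11,[]),(14,[]),(17,[]),(20,[]),(22,[]),(24,[]),(15,[]),(28,[]),(25,[]),(27,[]),(32,[]),(35,[]),(38,[]),(40,[]),(42,[]),(33,[]),(44,[]),(43,[]),(7,[]),(47,[]),(49,[]),(0,[]),(36,[]),(51,[]),(50,[]),(46,[]),(6,[]),(39,[]),(48,[]),(54,[]),(26,[]),(57,[]),(58,[]),(3,[]),(23,[]),(59,[]),(16,[]),(30,[]),(31,[]),(1,[]),(29,[]),(61,[]),(56,[]),(62,[]),(21,[]),(55,[]),(63,[]),(60,[]),(18,[]),(19,[]),(13,[]),(53,[]),(41,[]),(34,[]),(45,[]),(4,[]),(9,[]),(12,[]),(52,[]),(10,[]),(37,[])],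
  [(3,[]),(6,[]),(9,[]),(12,[]),(15,[]),(18,[]),(21,[]),(23,[]),(25,[]),(27,[]),(17,[]),(30,[]),(31,[]),(33,[]),(36,[]),(39,[]),(41,[]),(43,[]),(7,[]),(35,[]),(45,[]),(46,[]),(10,[]),(5,[]),(38,[]),(50,[]),(47,[]),(44,[]),(32,[]),(34,[]),(48,[]),(0,[]),(29,[]),(56,[]),(28,[]),(59,[]),(16,[]),(54,[]),(60,[]),(61,[]),(19,[]),(14,[]),(26,[]),(22,[]),(2,[]),(62,[]),(1,[]),(63,[]),(58,[]),(13,[]),(55,[]),(57,[]),(24,[]),(20,[]),(51,[]),(8,[]),(49,[]),(37,[]),(11,[]),(40,[]),(52,[]),(4,[]),(53,[]),(42,[])]]⟩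
def YP : List ℕ := [0,3068,1132,3022,1315,2310,781,2616,3156,2580,3932,3120,92,3714,1965,3435,3898,3480,3867,2305,3344,2234,3840,1290,1352,1928,406,1314,3303,643,3117,2417,3853,296,3403,2322,2946,2042,3182,1334,3375,2731,4000,960,2072,3416,2823,2198,2003,3930,2534,1592,1931,2628,3421,4051,2352,3859,3576,3260,579,4038,768,2185]
def CP7 : List ℕ := [0,0,0,0,1,0,0,0,5,0,0,0,2,0,0,0,0,0,0,0,0,0,0,0,0,0,0,0,0,0,0,0,0,0,0,6,0,0,0,4,0,0,0,0,0,0,0,0,0,0,3,0,0,0,0,0,0,0,0,0,0,0,0,0]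

instance : Finite Spor.Ru := fin0

/-- a word -/
noncomputable abbrev W (w : List ℕ) : Spor.Ru := evw (vG hLS) w

theorem W1 (l : ℕ) : W [l] = vG hLS l := by simp [W]

theorem eq_W {t : Spor.Ru} {l : ℕ} (h : H79.Ru.ρ t = vL LS l) : t = W [l] :=
  inj (by rw [h, W1, rho_vG])

/-- the centraliser of the second involution -/
noncomputable abbrev C : Subgroup Spor.Ru := cen1 (W [57])

theorem C_map : C.map H79.Ru.ρ = gen (vL LS) SKb := by
  obtain ⟨t, h1, h2⟩ := ccb.2
  rwa [eq_W h1] at h2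

theorem card_C : Nat.card C = 116480 := (card_of_map inj C_map).trans ccb.1

theorem mem_C {w : List ℕ} (e : eqI LS [28,1,1756,0] (w ++ [57]) ([57] ++ w) = true) : W w ∈ C :=
  mem_cen1.2 (commG inj base hLS e)

/-- the Suzuki group -/
noncomputable def K : Subgroup Spor.Ru := C ⊓ (setSt O1).comap H79.Ru.ρ

theorem mem_K {w : List ℕ} (e : (eqI LS [28,1,1756,0] (w ++ [57]) ([57] ++ w) && stW LS O1 w) = true) :
    W w ∈ K :=
  ⟨mem_C (Bool.and_eq_true_iff.1 e).1, mem_comap.2 (by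
    rw [rho_evw]; exact of_stW hLS (Bool.and_eq_true_iff.1 e).2)⟩

theorem not_K {w : List ℕ} {y : ℕ}
    (e : (imW 4096 LS 0 w y && O1.testBit 0 && !O1.testBit y) = true) : W w ∉ K := fun h =>
  not_setSt hLS e (rho_evw hLS w ▸ mem_comap.1 h.2)

def wv : List ℕ := [35,31,30,29,28,27,26,25,22]

theorem uu : W [57] * W [57] = 1 := by
  rw [← evw_append]; exact eqG inj base hLS (t := []) (by decide +kernel)

theorem ww : W wv * W wv = 1 := by
  rw [← evw_append]; exact eqG inj base hLS (t := []) (by decide +kernel)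

theorem wv_cen : ∀ l ∈ SKb, vG hLS l * W wv = W wv * vG hLS l := fun l hl => W1 l ▸
  commG inj base hLS (of_allM (show allM (fun l => eqI LS [28,1,1756,0] ([l] ++ wv) (wv ++ [l])) SKb = true
    by decide +kernel) l hl)

theorem split : ∀ g ∈ C, ∃ v ∈ C ⊓ cen C, v * v = 1 ∧ ∃ k ∈ K, g = v * k := by
  have hC := eq_gen inj hLS C_map
  refine split_of_gen inf_le_left hC ?_
  have h0 : ∀ l, W [l] ∈ K → ∃ v ∈ C, v * v = 1 ∧
      (∀ a ∈ vG hLS '' {l | l ∈ SKb}, a * v = v * a) ∧ v * vG hLS l ∈ K := fun l h =>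
    ⟨1, one_mem _, one_mul _, fun a _ => by simp, by rwa [one_mul, ← W1]⟩
  rintro _ ⟨l, hl, rfl⟩
  simp only [SKb, List.mem_cons, List.not_mem_nil, or_false, Set.mem_ofPred_eq] at hl
  rcases hl with rfl | rfl | rfl | rfl | rfl
  · exact h0 _ (mem_K (by decide +kernel))
  · exact h0 _ (mem_K (by decide +kernel))
  · exact h0 _ (mem_K (by decide +kernel))
  · exact ⟨W [57], mem_cen1.2 rfl, uu, fun a ha => mem_cen1.1 (hC.ge (subset_closure ha)),
      by rw [← W1, uu]; exact one_mem _⟩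
  · refine ⟨W wv, mem_C (by decide +kernel), ww, by rintro _ ⟨l, hl, rfl⟩; exact wv_cen l hl, ?_⟩
    rw [← W1, ← evw_append]
    exact mem_K (by decide +kernel)

theorem u_not : W [57] ∉ K := not_K (y := 2064) (by decide +kernel)

theorem not_sq (b : Spor.Ru) : b * b ≠ W [57] := fun e =>
  u_not (e ▸ sq_mem_of_split inf_le_left split (mem_cen1.2 (by rw [← e, mul_assoc])))

theorem card_K : ¬ 2 ^ 7 ∣ Nat.card K := fun h => by
  have hw : W wv ∈ cen C := by
    rw [eq_gen inj hLS C_map, cen, gen, centralizer_closure]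
    rintro _ ⟨l, hl, rfl⟩
    exact wv_cen l hl
  have hu : W [57] ∈ cen C := mem_cen.2 fun x hx => mem_cen1.1 hx
  have hn : ∀ {X : Subgroup Spor.Ru}, X ≤ C → cen C ≤ nor X := fun h =>
    (centralizer_le h).trans (centralizer_le_normalizer _)
  have h1 := H9.card_sup_zpowers_of_normalizes (N := K) (p := 2) (hn inf_le_left hu) u_not
    (by rw [pow_two, uu]; exact one_mem _)
  have hle : K ⊔ zpowers (W [57]) ≤ C := sup_le inf_le_left (zpowers_le.2 (mem_cen1.2 rfl))
  have h2 := H9.card_sup_zpowers_of_normalizes (p := 2) (hn hle hw) (fun h3 => by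
    obtain ⟨k, hk, n, e⟩ := (H9.mem_sup_zpowers_of_normalizes (hn inf_le_left hu)).1 h3
    rcases (mem_zpowers_two (ord_two ⟨fun e => u_not (by rw [e]; exact one_mem _), uu⟩)).1
      (zpow_mem (mem_zpowers _) n) with f | f
    · rw [f, mul_one] at e
      exact not_K (y := 1856) (by decide +kernel) (e ▸ hk)
    · rw [f] at e
      refine not_K (w := wv ++ [57]) (y := 2531) (by decide +kernel) ?_
      rwa [W, evw_append, ← W, e, mul_assoc, ← W, uu, mul_one])
    (by rw [pow_two, ww]; exact one_mem _)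
  have h4 := card_dvd_of_le (sup_le hle (zpowers_le.2 (mem_C (w := wv) (by decide +kernel))))
  rw [h2, h1, card_C] at h4
  exact absurd ((Nat.mul_dvd_mul_left 2 (Nat.mul_dvd_mul_left 2 h)).trans h4) (by norm_num)

/-- a Sylow subgroup of the Suzuki group -/
noncomputable abbrev P : Subgroup Spor.Ru := gen (fun i => W (WP.getD i [])) [0,1,2]

theorem rP : ∀ r ∈ schR SP, evw (fun i => W (WP.getD i [])) r.1 = evw (fun i => W (WP.getD i [])) r.2 :=
  schG inj base hLS (by decide +kernel)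

theorem P_le : P ≤ K := gen_le (by
  simp only [List.forall_mem_cons]
  exact ⟨mem_K (by decide +kernel), mem_K (by decide +kernel), mem_K (by decide +kernel), by simp⟩)

theorem card_P : Nat.card P = 2 ^ 6 := by
  refine card_gen_eq (C := [SP]) (by simpa using rP) (by decide +kernel) (by decide +kernel) ?_
  have := le_card_of_nodup (P := P) (l := (SP.T.map (fl WP)).map W) (fun x hx => by
    obtain ⟨_, h, rfl⟩ := List.mem_map.1 hx
    obtain ⟨w, hw, rfl⟩ := List.mem_map.1 h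
    rw [W, ← evw_fl]
    exact evw_mem fun l hl => mem_gen _ ((show ∀ w ∈ SP.T, ∀ l ∈ w, l ∈ [0,1,2] by decide +kernel) w hw l hl))
    (nodupG hLS (p := 0) (Y := YP) (by decide +kernel) (by decide +kernel) (by decide +kernel))
  exact (by decide +kernel : 2 ^ 6 ≤ _).trans this

theorem inv_P : ∀ y ∈ P, y * y = 1 → y = 1 ∨ ∃ g ∈ zpowers (W [62,59]), y * g = g * W [22] :=
  fun y hy h2 => by
  obtain ⟨w, hw, rfl⟩ := elems_of_sch rP (by decide +kernel) y hy
  rw [evw_fl] at h2 ⊢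
  obtain ⟨n, hn⟩ := of_allZ (show allZ (fun t n => invB 4096 LS [28,1,1756,0] [22] t (rep [62,59] n))
    (SP.T.map (fl WP)) CP7 = true by decide +kernel) _ (List.mem_map_of_mem hw)
  exact (of_invB inj base hLS hn h2).imp_right fun e => ⟨_, by
    rw [evw_rep]; exact pow_mem (mem_zpowers _) n, e⟩

theorem lift4 : Lift4.{v} (W [57]) := by
  obtain ⟨y, hy⟩ := H69.Ru.σ0_surj (W [57])
  rw [← hy]
  refine lift4_of_model Cfsg.Agent.S2051.result (by simp) H79.Ru.perfect H69.Ru.σ0 H69.Ru.σ0_surj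
    (fun k hk => ?_) (fun k hk => ?_) fun h => ?_
  · rcases (H69.Ru.σ0_ker k).1 hk with rfl | rfl
    exacts [one_mem _, mem_center_iff.2 H69.Ru.T0_comm]
  · rcases (H69.Ru.σ0_ker k).1 hk with rfl | rfl
    exacts [one_mul _, by rw [← pow_two, ← H69.Ru.ord_T0, pow_orderOf_eq_one]]
  · rcases H69.Ru.pw_T0.1 y h with e | e | ⟨z, e⟩
    · exact not_sq 1 (by rw [← hy, e, map_one, one_mul])
    · exact not_sq 1 (by rw [← hy, (H69.Ru.σ0_ker y).2 (Or.inr e), one_mul])
    · exact not_sq (H69.Ru.σ0 (z * z)) (by rw [← hy, ← e, ← map_mul]; congr 1)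

theorem cls {s : Spor.Ru} (hs : CO.Inv s) : IsConj (W [22]) s ∨ IsConj (W [57]) s := by
  obtain ⟨t, h | h, e⟩ := classes s (ord_two hs)
  exacts [Or.inl (eq_W h ▸ e), Or.inr (eq_W h ▸ e)]

theorem Ca_map : (cen1 (W [22])).map H79.Ru.ρ = gen (vL LS) SKa := by
  obtain ⟨t, h1, h2⟩ := cca.2
  rwa [eq_W h1] at h2

theorem pv {L : Subgroup Spor.Ru} (hL : CP L C) : PV.{v} (MulAut.conj (W [57])) L := by
  have e := equivOfMap inj C_map
  obtain ⟨hn, p, hp, d1, d2⟩ := cp_normal hL (q := 5) (k := 8) (π := [7,13]) card_C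
    (by decide +kernel) (by norm_num) (by decide +kernel)
  obtain ⟨a2, a7, a13⟩ : 2 ∣ Nat.card L ∧ 7 ∣ Nat.card L ∧ 13 ∣ Nat.card L := by
    simp only [List.mem_cons, List.not_mem_nil, or_false] at hp
    rcases hp with rfl | rfl
    exacts [⟨d2 _ (imp_congr e imb7_2), d1, d2 _ (imp_congr e imb7_13)⟩,
      ⟨d2 _ (imp_congr e imb13_2), d2 _ (imp_congr e imb13_7), d1⟩]
  have hK : L ≤ K := le_of_sq (fun g => sq_mem_of_split inf_le_left split) hL.le hL.perfect
  have hh : W [62,59] ∈ L := mem_of_prime hL.le hn (by norm_num) a7 (by rw [card_C]; norm_num)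
    (mem_C (by decide +kernel)) (by
      rw [W, ← evw_rep]; exact eqG inj base hLS (t := []) (by decide +kernel))
  have hc : ∀ s ∈ L, CO.Inv s → ∃ g ∈ L, g * W [22] * g⁻¹ = s := fun s =>
    conj_of_syl (isSyl_of_card P_le card_P card_K) hK ((P_le.trans inf_le_left).trans hn)
      fun y hy _ h => (inv_P y hy h).imp_right fun ⟨g, hg, f⟩ => ⟨g, zpowers_le.2 hh hg, f⟩
  obtain ⟨s, hs, si⟩ := exists_inv_of_dvd a2
  obtain ⟨g, hg, rfl⟩ := hc s hs si
  have hcL : W [22] ∈ L := by simpa [mul_assoc] using mul_mem (mul_mem (inv_mem hg) hs) hg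
  have ci : CO.Inv (W [22]) := by simpa [mul_assoc] using inv_congr (MulAut.conj g⁻¹) si
  refine ⟨fun x hx h1 h2 => ?_, ?_, Or.inl ⟨⟨W [33,24], ⟨_, hcL⟩, c1_of_one (one_of_conj hc)
    ⟨fun f => ci.1 (congrArg Subtype.val f), Subtype.ext ci.2⟩, ?_,
    commG inj base hLS (by decide +kernel)⟩, Or.inr (Or.inr ⟨fun b hb h4 => ?_, W [57],
      mem_cen.2 fun y hy => mem_cen1.1 (hL.le hy), uu, lift4⟩)⟩⟩
  · by_contra h3
    obtain ⟨k, hk, f⟩ := hc x hx ⟨h3, h2⟩
    have h5 : W [22] = x := by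
      rw [mul_inv_eq_iff_eq_mul, ← mem_cen.1 h1 k hk] at f
      exact mul_left_cancel f
    refine neG hLS (s := [62,59,22]) (t := [22,62,59]) (p := 28) (by decide +kernel) ?_
    exact (evw_append _ [62,59] [22]).trans ((h5 ▸ mem_cen.1 h1 _ hh).trans
      (evw_append _ [22] [62,59]).symm)
  · have := C.card_mul_index
    rw [card_C, H79.Ru.card] at this
    rw [Fix_conj, show C.index = 1252800 by omega]
    norm_num
  · have h5 : W [57] * W [33,24] = W [33,24] * (W [22] * W [57]) := by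
      rw [← evw_append, ← evw_append, ← evw_append]
      exact eqG inj base hLS (by decide +kernel)
    rw [MulAut.conj_apply, h5]
    group
  · have := (Nat.card_eq_one_iff_unique.1 H79.OutRu.out).1
    obtain ⟨y, rfl⟩ : b ∈ Inn Spor.Ru :=
      (QuotientGroup.eq_one_iff (N := Inn Spor.Ru) b).1 (Subsingleton.elim _ _)
    have := H79.Ru.simple
    have hz := H69.Std.center_eq_bot_of_perfect H79.Ru.perfect
    by_contra h5
    rw [← map_mul] at h5
    have h6 := inv_of_conj hz (u := y * y) (by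
      rw [← h4, map_mul]; simp only [pow_succ, pow_zero, one_mul, mul_assoc]) h5
    rcases cls h6 with h | h
    · obtain ⟨k, f⟩ := isConj_iff.1 h
      have h7 : L ≤ cen1 (y * y) := fun l hl => by
        have h8 := mem_cen1.1 (Fix_conj y ▸ hb hl)
        exact mem_cen1.2 (by rw [← mul_assoc, h8, mul_assoc, h8, mul_assoc])
      have h9 := a13.trans (card_dvd_of_le h7)
      rw [← f, show k * W [22] * k⁻¹ = MulAut.conj k (W [22]) from rfl, ← cen1_map,
        card_map_of_injective (MulAut.conj k).injective, card_of_map inj Ca_map, cca.1] at h9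
      norm_num at h9
    · obtain ⟨k, f⟩ := isConj_iff.1 h.symm
      exact not_sq (k * y * k⁻¹) (by rw [conj_mul, f])

theorem kv : KV.{v} Spor.Ru := KV.of_reps fun a h1 h2 => by
  have := (Nat.card_eq_one_iff_unique.1 H79.OutRu.out).1
  obtain ⟨y, rfl⟩ : a ∈ Inn Spor.Ru :=
    (QuotientGroup.eq_one_iff (N := Inn Spor.Ru) a).1 (Subsingleton.elim _ _)
  have := H79.Ru.simple
  rcases cls (inv_of_conj (H69.Std.center_eq_bot_of_perfect H79.Ru.perfect) h1 h2) with h | h
  · exact ⟨_, (MulAut.conj.map_isConj h).symm, fun L hL => absurd hL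
      (kv_inner (CharP.of_map_injective inj (Ca_map ▸ chpa)))⟩
  · exact ⟨_, (MulAut.conj.map_isConj h).symm, fun L hL => pv (by rwa [Fix_conj] at hL)⟩

end H80.QE.Ru

theorem H80.QE.jobRu.{u} : H36.QE.JobRu.{u} := fun _ _ _ _ _ ⟨e⟩ =>
  H36.QE.KV.congr e H80.QE.Ru.kv
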