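import Cfsg.Agent.H80.Step5
import Cfsg.Agent.H80.C24
/-! Local properties of the model on 31671 points. -/
set_option Elab.async false
namespace H80
open H71
variable {G : Type*} [Group G] {S : Set G}
def pd23 : NP := ⟨⟨[], 3⟩, 0⟩
def pc23 : NP := ⟨⟨[], 4⟩, 3⟩
theorem pd23_ok : pd23.ok M23 A23 = true := by decide +kernel
theorem pc23_ok : pc23.ok M23 A23 = true := by decide +kernel
theorem vt23c : cutChk M23 A23 F23 [] [⟨⟨[], 3⟩, 0⟩, ⟨⟨[], 5⟩, 15⟩, ⟨⟨[], 6⟩, 43⟩, ⟨⟨[], 12⟩, 45⟩, ⟨⟨[], 8⟩, 24⟩, ⟨⟨[], 0⟩, 693⟩, ⟨⟨[], 1⟩, 694⟩, ⟨⟨[], 9⟩, 3511⟩] (pd23.toPW.prp A23 F23) (one pd23.p) = true := by decide +kernel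
theorem vtriv23 (h : Rz M23 S) : VTriv S := vtriv_of_chk bm23 pd23_ok vt23c h
theorem pt23c : transChk A23 M23.L [[3], [5], [8], [6], [12], [0], [1], [13], [9], [7, 4, 3, 4, 7], [4, 3, 2, 3, 4], [7, 3, 2, 3, 7]]
  [0, 1, 3, 4, 2, 8, 1, 7, 3, 4, 11, 2, 6, 4, 5, 1, 3, 8, 7, 9, 1, 2, 4, 3, 11, 2, 6, 4, 1, 3, 8, 10, 6, 1] [pd23.p] [pc23.p] (dif (full M23.n) (pd23.toPW.prp A23 F23)) = true := by decide +kernel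
theorem pairTrans23 : PairTrans G M23 pd23.p pc23.p := pairTrans_of_chk bm23 pd23_ok pt23c
theorem fp23c : cutChk M23 A23 F23 [] [⟨⟨[], 8⟩, 24⟩, ⟨⟨[], 12⟩, 45⟩, ⟨⟨[], 6⟩, 43⟩, ⟨⟨[], 9⟩, 3511⟩, ⟨⟨[], 13⟩, 3510⟩, ⟨⟨[], 0⟩, 693⟩, ⟨⟨[], 1⟩, 694⟩] (prpN A23 F23 M23.n [pd23, pc23])
  (Nat.lor (maskL [pd23.p, pc23.p]) (wapp A23 pd23.toPW.wd (one pc23.p))) = true := by decide +kernel
theorem fprop23 (h : Rz M23 S) : FProp S := fprop_of_chk bm23 pd23_ok pc23_ok pairTrans23 fp23c h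
theorem ne23c : tb (prpN A23 F23 M23.n [pd23, pc23]) 10 = true := by decide +kernel
theorem neOne23 (h : Rz M23 S) : NE1 S := ne1_of_chk bm23 pd23_ok pc23_ok pairTrans23 ne23c h
def Ys24 : List NP := [⟨⟨[], 13⟩, 3510⟩, ⟨⟨[], 0⟩, 693⟩, ⟨⟨[], 2⟩, 126⟩]
def Us24 : List NP := [⟨⟨[], 4⟩, 3⟩, ⟨⟨[], 6⟩, 43⟩, ⟨⟨[3, 7, 8, 12, 4, 3, 7, 8, 5, 4, 3, 7, 6, 5, 4, 3], 2⟩, 667⟩, ⟨⟨[3, 7, 8, 12, 2, 3, 7, 8, 5, 4, 3, 7, 6, 5, 4, 3], 2⟩, 686⟩]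
theorem line24 : lineChk M23 A23 F23 Ys24 Us24 [⟨⟨[], 4⟩, 3⟩, ⟨⟨[], 7⟩, 6⟩, ⟨⟨[], 8⟩, 24⟩] ⟨⟨[], 4⟩, 3⟩ = true := by decide +kernel
theorem pl24_1a : allL (NP.ok M23 A23) (Ys24.take 1) = true := by decide +kernel
theorem pl24_1b : transChk A23 M23.L [[3], [4], [7], [5], [8], [6], [12], [2], [0], [1]]
  [9, 7, 8, 0, 1, 2, 9, 3, 4, 6, 0, 5, 7, 3, 4, 2, 0, 1, 6, 7, 4, 9, 0, 2, 3, 5, 6, 3, 4, 6, 0, 2, 4, 0] ((Ys24.take 1).map NP.p) [693] (dif (prpN A23 F23 M23.n (Ys24.take 1)) (maskL ((Ys24.take 1).map NP.p))) = true := by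
  decide +kernel
theorem pl24_2a : allL (NP.ok M23 A23) (Ys24.take 2) = true := by decide +kernel
theorem pl24_2b : transChk A23 M23.L [[3], [4], [7], [5], [8], [6], [12], [2]]
  [0, 1, 2, 7, 3, 4, 6, 0, 5, 3, 4, 1, 2, 0, 5, 7, 3, 2, 1, 4, 6, 0, 1, 3, 2, 4] ((Ys24.take 2).map NP.p) [126] (dif (prpN A23 F23 M23.n (Ys24.take 2)) (maskL ((Ys24.take 2).map NP.p))) = true := by
  decide +kernel
theorem cm24_01 {θ : ℕ → G} (R : Real M23 θ S) : θ 693 ≠ θ 3510 ∧ Commute (θ 3510) (θ 693) :=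
  ⟨fun e => absurd (R.inj _ (by decide) _ (by decide) e) (by decide),
    (NP.comm_iff (x := ⟨⟨[], 13⟩, 3510⟩) bm23 R (by decide +kernel) (by decide)).2 (by rw [← tb_eq]; decide +kernel)⟩
theorem cm24_02 {θ : ℕ → G} (R : Real M23 θ S) : θ 126 ≠ θ 3510 ∧ Commute (θ 3510) (θ 126) :=
  ⟨fun e => absurd (R.inj _ (by decide) _ (by decide) e) (by decide),
    (NP.comm_iff (x := ⟨⟨[], 13⟩, 3510⟩) bm23 R (by decide +kernel) (by decide)).2 (by rw [← tb_eq]; decide +kernel)⟩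
theorem cm24_12 {θ : ℕ → G} (R : Real M23 θ S) : θ 126 ≠ θ 693 ∧ Commute (θ 693) (θ 126) :=
  ⟨fun e => absurd (R.inj _ (by decide) _ (by decide) e) (by decide),
    (NP.comm_iff (x := ⟨⟨[], 0⟩, 693⟩) bm23 R (by decide +kernel) (by decide)).2 (by rw [← tb_eq]; decide +kernel)⟩
theorem orbR24 : growW A23 (sing [1, 2, 3, 4, 5, 6, 7, 8, 9]) [1, 0, 2, 3, 6, 1, 4, 7, 2, 5, 8, 3, 6, 1, 4, 2, 3, 1, 6, 0, 7, 5, 4, 2, 5, 1, 8, 0, 3, 2, 1, 6, 2, 3, 4, 5, 8] (subB R24) (one 694) = true := by decide +kernel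
end H80
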