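import Cfsg.Agent.H80.Chk
import Cfsg.Agent.H80.N21
/-! The model on 693 points. -/
namespace H80
open H71
/-- The points of the letters. -/
noncomputable def gpt : ℕ → ℕ := nth [693, 694, 126, 0, 3, 15, 43, 6, 24, 3511, 31672, 31671, 45, 3510] 0
noncomputable def invs21 : List Net := [.nil, .nil, net21c, net21d, net21e, net21f, net21g, net21h, net21i, .nil, .nil, .nil, net21r, .nil, net21X, net21Y]
noncomputable def A21 : ℕ → ℕ → ℕ := mkA [] invs21
noncomputable def M21 : Mdl := ⟨693, mkPi [] invs21, gpt, [2, 3, 4, 5, 6, 7, 8, 12]⟩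
noncomputable def F21 : List ℕ := [0,
  0,
  nat_lit 0xf00608003e0000001e00008001f0000300102780000001e00004c00e17000001e00025e0dcf000000c00027dfd80002c030007ff60007e0403fe081fe107f0c3e0718e122100400004001060000e4003f9807b03a148,
  nat_lit 0x128008850020341000200181201103c2b800000023313021070ac80000002e6e008c2288000085983001240800610cc8810090001e48c00c80403a8403c820f040e818838914b71241402486018562233c78d999b49421,
  nat_lit 0xd28608416200807812001c860b00c40201e0380036068602100000f0080280824000200122200c814400020002a2e00213000600fa8001042103c100819214581281f163d9e443c00d40187202440694a8bd837c2e58,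
  nat_lit 0x8a00885002110010061a0808020e840810801574880c20260010060082b188a218006018000c740290208980000348980c50850001005814c44100a302b20c23224286a3188b2d2122d12314054926c221430c167aac5,
  nat_lit 0x2d006081822006000120200b00102037200002022009810142c78000000a033145ae07800002c010cb6d8230000c00200ef7806006000007dc10200008f6210400d018086071be43e061ef0601d840068a882038070ef,
  nat_lit 0xf00608001cc000000c08c21280e804010000870d0292c080300400006460a4e040c02002012c0a76800820000242c303e0002000928201a00c012460910a5b2440de1a3c6710649411411314c0213104be48bc93d1c8,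
  nat_lit 0x1f66800e5418000c40000200c8018040828000282000c801020600a000180022018838098000c41c010a2781400145b88013170e00e73081112205791028008f80800f800c0425d24182c488fe1019f0020f400f81c31b,
  0,
  0,
  0,
  nat_lit 0x2d006081800c060000002ca20801e02300080002354002178001002c000960009e000a00f822206c148200c07c8203d2c10003078081c44800c40c480912a1c20150c4189010bc3401820138920bbc8abef264440006f]
theorem valid21 : allL (Net.valid 693) invs21 = true := by decide +kernel
theorem env21 : Env M21.n M21.π A21 := env_mk (gens := []) (by simp) (of_allL valid21)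
theorem inv21c : allLt (fun l => isId A21 10 693 [l, l]) 16 = true := by decide +kernel
theorem inv21 (l : ℕ) : M21.π l * M21.π l = 1 :=
  mkPi_inv (m := 10) env21 (by decide) (of_allLt inv21c) l
theorem wf21 : M21.WF :=
  wf_of env21 inv21 (by decide +kernel) (b := 126) (sched := [1, 0, 2, 5, 3, 6, 7, 1, 4, 3, 6, 2, 5, 1, 4, 0, 3, 5, 2, 6, 7, 1, 2, 3, 5, 6]) (by decide +kernel) (by simp [M21])
theorem fx21c : allL (fun l => Nat.beq (fixSet A21 10 693 [l]) (nth F21 0 l)) [2, 3, 4, 5, 6, 7, 8, 12] = true := by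
  decide +kernel
theorem bm21 : BM M21 A21 10 F21 := bm_of wf21 env21 (by decide) (of_allL fx21c)
theorem aut21X : M21.Aut (M21.π 14) :=
  aut_of_chk (m := 10) wf21 env21 (by decide) (xs := [⟨[], 0⟩, ⟨[], 0⟩, ⟨[3], 2⟩, ⟨[], 3⟩, ⟨[7, 8, 12, 4, 3, 7, 8, 5, 4, 3, 7, 6, 5, 4, 3], 2⟩, ⟨[6], 5⟩, ⟨[], 6⟩, ⟨[4, 5, 12, 7, 6, 5, 4], 3⟩, ⟨[7, 3, 4, 2, 3, 7, 8, 5, 4, 3, 7, 6, 5, 4, 3], 2⟩, ⟨[], 0⟩, ⟨[], 0⟩, ⟨[], 0⟩, ⟨[5, 12, 4, 3, 7, 5, 4, 3], 2⟩]) (by decide +kernel)
theorem aut21Y : M21.Aut (M21.π 15) :=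
  aut_of_chk (m := 10) wf21 env21 (by decide) (xs := [⟨[], 0⟩, ⟨[], 0⟩, ⟨[], 3⟩, ⟨[], 2⟩, ⟨[7, 8, 12, 3, 7, 8, 5, 4, 3, 7, 6, 5, 4, 3], 2⟩, ⟨[6], 5⟩, ⟨[], 6⟩, ⟨[4, 5, 12, 6, 5, 4], 3⟩, ⟨[7, 3, 4, 2, 3, 7, 8, 5, 4, 3, 7, 6, 5, 4, 3], 2⟩, ⟨[], 0⟩, ⟨[], 0⟩, ⟨[], 0⟩, ⟨[5, 12, 4, 3, 7, 5, 4, 3], 2⟩]) (by decide +kernel)
/-- The letters that are automorphisms. -/
def Lam21 : List ℕ := [2, 3, 4, 5, 6, 7, 8, 12, 14, 15]
theorem autL21 : ∀ l ∈ Lam21, M21.Aut (M21.π l) := by
  intro l hl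
  by_cases h : l ∈ M21.L
  · exact wf21.aut_letter h
  · have : l = 14 ∨ l = 15 := by
      revert h hl; simp only [Lam21, M21, List.mem_cons, List.not_mem_nil, or_false]; omega
    rcases this with rfl | rfl
    · exact aut21X
    · exact aut21Y
end H80
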