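import Cfsg.Agent.H80.Scr
import Cfsg.Agent.H80.M22
/-! Classification of the closed subsets of the model on 3510 points. -/
namespace H80
open H71
noncomputable def Q23 : ℕ := nat_lit 0xd4c0000000035300000020bf60020bf60023f88fe2ebbc000000000000000000000000000000000000000000000000000000000000000000000000000000180000000000001533c0000000001ebbe0000012f7fc0000bffc00ffc1fcfbf8000000000000000000000000000000000000000000000000000000000000000000000000000000300000000000002a6780000000003d77c0000025eff800017ff801ff83f9f7fe0000000000000000000000000000000000000000000000000000000000000000000000000000000c0000000000000a99e0000000000f5df00000097bfe00005ffe007fe0fe7dfc0000000000340109f0263f857f2fdff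
noncomputable def goals23 : List ℕ := [Q23]
def Y23 : List ℕ := [693, 126]
def U23 : List ℕ := [3, 43, 667, 686]
theorem scr23_0 : Scr.chk M22 A22 Lam22 (maskL Y23) (maskL U23) goals23 [(maskL [693, 126], 0)]
  (.mv []
  (.call 0))
  (maskL [693, 126]) 0 = true := by decide +kernel
theorem scr23_1 : Scr.chk M22 A22 Lam22 (maskL Y23) (maskL U23) goals23 [(maskL [693, 126, 3], 0)]
  (.case 3
  (.call 0)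
  (.case 43
  (.mv [5, 6, 4, 5]
  (.call 0))
  (.case 667
  (.mv [5, 12, 8, 6, 5, 12, 3, 7, 4, 3, 2, 3, 4, 7, 3, 8, 5, 4, 3, 7, 4, 3, 2, 3, 4, 7, 3, 5]
  (.call 0))
  (.lineI [] 686
  (.mv [5, 12, 8, 3, 7, 4, 3, 2, 3, 4, 7, 3, 8, 6, 5, 12, 8, 4, 3, 7, 4, 3, 2, 3, 4, 7, 3, 5]
  (.call 0))))))
  (maskL [693, 126]) 0 = true := by decide +kernel
theorem scr23_2 : Scr.chk M22 A22 Lam22 (maskL Y23) (maskL U23) goals23 [(maskL [693, 126, 3, 24], 0)]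
  (.case 24
  (.call 0)
  (.case 86
  (.mv [12, 5, 12, 6, 5, 4, 5, 6, 12, 5]
  (.call 0))
  (.case 296
  (.mv [7, 3, 4, 5, 12, 6, 5, 4, 3, 2, 3, 4, 5, 6, 12, 5, 4, 3]
  (.call 0))
  (.lineI [12, 5, 4, 8, 12, 5] 599
  (.mv [5, 4, 3, 7, 6, 5, 4, 3, 2, 3, 4, 5, 6, 7, 3, 4, 5, 3, 7, 4, 3, 2, 3, 4, 7, 3]
  (.call 0))))))
  (maskL [693, 126, 3]) 0 = true := by decide +kernel
theorem scr23_3 : Scr.chk M22 A22 Lam22 (maskL Y23) (maskL U23) goals23 [(maskL [693, 126, 3, 24, 25], 0)]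
  (.case 25
  (.call 0)
  (.case 85
  (.mv [5, 6, 4, 5, 3, 4, 5, 6, 2, 3, 4, 5, 1, 2, 3, 4, 5, 6, 0, 1, 2, 3, 4, 5, 14]
  (.call 0))
  (.case 297
  (.lineO [7, 3, 2, 8, 7, 3, 5, 3, 7, 4, 3, 2, 3, 4, 7, 3, 4, 5] 3
  .contra)
  (.lineI [5, 4, 7, 8, 12, 5] 584
  (.lineO [1, 2, 3, 4, 12, 5, 6, 8, 12, 5, 4, 3, 2, 1, 3, 2, 4, 3] 126
  .contra)))))
  (maskL [693, 126, 3, 24]) 0 = true := by decide +kernel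
theorem scr23_4 : Scr.chk M22 A22 Lam22 (maskL Y23) (maskL U23) goals23 [(maskL [693, 126, 3, 24, 25, 159], 0)]
  (.case 159
  (.call 0)
  (.case 269
  (.lineO [7, 3, 2, 1, 0, 8, 7, 3, 2, 1, 3, 5, 6, 7, 12, 5, 4, 3] 25
  .contra)
  (.case 282
  (.lineO [1, 0, 2, 1, 3, 2, 12, 8, 7, 3, 5, 3, 7, 4, 3, 2, 3, 4, 7, 3, 4, 5] 3
  .contra)
  (.lineI [5, 4, 7, 8, 3, 7, 4, 3, 2, 3, 4, 7, 3, 5] 561
  (.lineO [1, 0, 3, 4, 5, 4, 3, 6, 7, 8, 12, 5, 4, 8, 7, 3, 2, 1, 3, 2, 6, 5, 4, 3] 3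
  .contra)))))
  (maskL [693, 126, 3, 24, 25]) 0 = true := by decide +kernel
theorem scr23_5 : Scr.chk M22 A22 Lam22 (maskL Y23) (maskL U23) goals23 [(maskL [693, 126, 3, 24, 25, 159, 160], 0)]
  (.case 160
  (.call 0)
  (.case 270
  (.lineO [7, 3, 2, 1, 0, 8, 7, 3, 2, 1, 3, 4, 5, 12, 8, 7, 3, 4, 5, 6, 12, 5, 4, 8, 7, 3, 4, 5] 25
  .contra)
  (.case 281
  (.lineO [3, 2, 12, 8, 7, 3, 5, 4, 12, 5] 281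
  .contra)
  (.lineI [3, 7, 4, 3, 2, 3, 4, 7, 3, 5, 4, 8, 12, 5] 541
  (.lineO [3, 2, 1, 0, 12, 8, 7, 3, 2, 1, 3, 2, 4, 3, 8, 7, 3, 4, 12, 5, 6, 8, 12, 5, 4, 3] 159
  .contra)))))
  (maskL [693, 126, 3, 24, 25, 159]) 0 = true := by decide +kernel
theorem scr23_6 : Scr.chk M22 A22 Lam22 (maskL Y23) (maskL U23) goals23 [(maskL [693, 126, 3, 24, 25, 159, 160, 0], 0)]
  (.case 0
  (.call 0)
  (.case 203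
  (.mv [12, 8, 5, 12, 6, 5, 4, 5, 6, 12, 5, 8, 12, 2]
  (.call 0))
  (.case 386
  (.mv [7, 8, 5, 4, 3, 7, 6, 5, 4, 3, 2, 3, 4, 5, 6, 7, 3, 4, 5, 8, 7, 4]
  (.call 0))
  (.lineI [7, 3, 2, 8, 7, 3, 12, 5, 4, 8, 12, 5] 441
  (.mv [12, 8, 5, 12, 6, 5, 4, 5, 6, 12, 5, 8, 12, 7, 8, 5, 4, 3, 7, 6, 5, 4, 3, 2, 3, 4, 5, 6, 7, 3, 4, 5, 8, 7, 4, 2]
  (.call 0))))))
  (maskL [693, 126, 3, 24, 25, 159, 160]) 0 = true := by decide +kernel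
theorem scr23_7 : Scr.chk M22 A22 Lam22 (maskL Y23) (maskL U23) goals23 [(maskL [693, 126, 3, 24, 25, 159, 160, 0, 15], 0)]
  (.case 15
  (.call 0)
  (.case 191
  (.mv [7, 8, 3, 7, 4, 3, 2, 3, 4, 7, 3, 8, 7, 6]
  (.call 0))
  (.case 391
  (.mv [12, 8, 5, 4, 3, 7, 6, 5, 4, 3, 2, 3, 4, 5, 6, 7, 3, 4, 5, 8, 12, 6]
  (.call 0))
  (.lineI [7, 3, 2, 8, 7, 3, 4, 5] 431
  (.mv [12, 8, 1, 2, 3, 4, 5, 12, 6, 5, 4, 3, 2, 1, 0, 1, 2, 3, 4, 5, 6, 12, 5, 4, 3, 2, 1, 8, 12, 6]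
  (.call 0))))))
  (maskL [693, 126, 3, 24, 25, 159, 160, 0]) 0 = true := by decide +kernel
theorem scr23_8 : Scr.chk M22 A22 Lam22 (maskL Y23) (maskL U23) goals23 [(maskL [693, 126, 3, 24, 25, 159, 160, 0, 15, 6], 0)]
  (.case 6
  (.call 0)
  (.case 92
  (.clo ⟨[], 3⟩
  (.clo ⟨[], 5⟩
  (.clo ⟨[], 4⟩
  (.clo ⟨[], 2⟩
  (.clo ⟨[], 3⟩
  (.clo ⟨[], 2⟩
  (.clo ⟨[], 8⟩
  (.clo ⟨[], 5⟩
  (.clo ⟨[12, 8], 7⟩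
  (.lineO [1, 0, 7, 3, 12, 5, 6, 8, 7, 12, 5, 4, 3, 2, 1, 4, 3, 5, 4, 7, 3] 81
  .contra))))))))))
  (.case 200
  (.clo ⟨[], 3⟩
  (.clo ⟨[], 5⟩
  (.clo ⟨[], 4⟩
  (.clo ⟨[], 2⟩
  (.lineO [2, 1, 0, 4, 3, 2, 1, 8, 7, 3, 2, 4, 3, 5, 4, 6, 5, 7, 3, 4, 8, 7, 3, 5, 3, 7, 4, 3, 2, 3, 4, 7, 3, 4, 5] 127
  .contra)))))
  (.lineI [8, 7, 12, 5, 4, 8, 12, 5] 687
  (.clo ⟨[], 3⟩
  (.clo ⟨[], 5⟩
  (.clo ⟨[], 4⟩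
  (.clo ⟨[], 2⟩
  (.clo ⟨[], 3⟩
  (.clo ⟨[], 2⟩
  (.clo ⟨[1, 2, 3, 4, 5, 12, 6, 5, 4, 3, 2, 1], 0⟩
  (.lineO [1, 0, 3, 5, 7, 12, 5, 4, 3, 6, 5, 4, 8, 7, 3, 2, 1, 4, 5, 7, 3, 4, 8, 7, 3] 146
  .contra))))))))))))
  (maskL [693, 126, 3, 24, 25, 159, 160, 0, 15]) 0 = true := by decide +kernel
theorem scr23_9 : Scr.chk M22 A22 Lam22 (maskL Y23) (maskL U23) goals23 [(maskL [693, 126, 3, 24, 25, 159, 160, 0, 15, 6, 694], 0)]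
  (.case 694
  (.call 0)
  (.case 1406
  (.clo ⟨[], 3⟩
  (.clo ⟨[], 5⟩
  (.clo ⟨[], 7⟩
  (.clo ⟨[], 4⟩
  (.clo ⟨[], 8⟩
  (.clo ⟨[], 2⟩
  (.lineO [3, 5, 4, 6, 5, 7, 3, 4, 8, 7, 3, 2, 1, 2, 7, 12, 5, 4, 3, 8, 12, 5] 60
  .contra)))))))
  (.case 1434
  (.clo ⟨[], 3⟩
  (.clo ⟨[], 5⟩
  (.lineO [3, 2, 1, 0, 5, 4, 3, 2, 1, 2, 6, 5, 4, 12, 5, 6, 8, 12, 5, 4, 3, 5, 4, 12, 5] 1500
  .contra)))
  (.lineI [3, 2, 1, 0, 4, 3, 2, 1, 7, 3, 2, 8, 7, 3, 12, 5, 4, 8, 12, 5] 1678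
  (.clo ⟨[], 3⟩
  (.clo ⟨[], 5⟩
  (.clo ⟨[], 7⟩
  (.clo ⟨[], 2⟩
  (.lineO [2, 1, 0, 5, 4, 3, 2, 1, 4, 3, 5, 4, 6, 5, 7, 3, 4, 8, 7, 3, 4, 5] 134
  .contra)))))))))
  (maskL [693, 126, 3, 24, 25, 159, 160, 0, 15, 6]) 0 = true := by decide +kernel
theorem scr23_10 : Scr.chk M22 A22 Lam22 (maskL Y23) (maskL U23) goals23 [(maskL [693, 694, 126, 0, 3, 15, 6, 24], 0)]
  (.call 0)
  (maskL [693, 126, 3, 24, 25, 159, 160, 0, 15, 6, 694]) 0 = true := by decide +kernel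
theorem scr23_11 : Scr.chk M22 A22 Lam22 (maskL Y23) (maskL U23) goals23 []
  (.lineO [2, 1, 0, 3, 2, 1, 4, 3, 2, 5, 4, 3] 693
  (.clo ⟨[], 1⟩
  (.clo ⟨[], 7⟩
  (.clo ⟨[], 2⟩
  (.clo ⟨[], 4⟩
  (.clo ⟨[], 3⟩
  (.clo ⟨[], 8⟩
  (.clo ⟨[], 0⟩
  (.clo ⟨[], 1⟩
  (.clo ⟨[], 5⟩
  (.clo ⟨[], 4⟩
  (.clo ⟨[], 7⟩
  (.clo ⟨[], 2⟩
  (.clo ⟨[], 5⟩
  (.clo ⟨[], 3⟩
  (.clo ⟨[], 1⟩
  (.clo ⟨[], 0⟩
  (.clo ⟨[], 2⟩
  (.clo ⟨[], 4⟩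
  (.clo ⟨[], 1⟩
  (.clo ⟨[], 5⟩
  (.clo ⟨[], 7⟩
  (.clo ⟨[], 0⟩
  (.clo ⟨[], 8⟩
  (.clo ⟨[], 2⟩
  (.clo ⟨[], 3⟩
  (.clo ⟨[], 4⟩
  (.clo ⟨[], 7⟩
  (.clo ⟨[], 8⟩
  (.fin 0))))))))))))))))))))))))))))))
  (maskL [693, 694, 126, 0, 3, 15, 6, 24]) 0 = true := by decide +kernel
theorem classify23 {G : Type*} [Group G] {S Q : Set G} {C : Prop}
    (H : ScrHyp M22 A22 Lam22 (maskL Y23) (maskL U23) goals23 S Q C) :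
    Holds' M22 S Q C (maskL Y23) 0 := by
  have step : ∀ {a b : List ℕ} {s : Scr}, Scr.chk M22 A22 Lam22 (maskL Y23) (maskL U23) goals23
      [(maskL a, 0)] s (maskL b) 0 = true → Holds' M22 S Q C (maskL a) 0 →
      Holds' M22 S Q C (maskL b) 0 := fun h h' =>
    Scr.sound H (fun z hz => by rw [List.mem_singleton.1 hz]; exact h') _ h
  exact step scr23_0 <| step scr23_1 <| step scr23_2 <| step scr23_3 <| step scr23_4 <| step scr23_5 <| step scr23_6 <| step scr23_7 <| step scr23_8 <| step scr23_9 <| step scr23_10 <| Scr.sound H (by simp) _ scr23_11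
end H80
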