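import Cfsg.Agent.H80.Step5
import Cfsg.Agent.H80.C23
import Cfsg.Agent.H80.M23
/-! The enumeration certificate for the model on 31671 points. -/
set_option Elab.async false
namespace H80
open H71
universe u
def X23 : List ℕ := [0, 1, 2, 3, 4, 5, 6, 7, 8, 12]
theorem lvl23a : compatChk A22 A23 12 M22.n X23 = true := by decide +kernel
theorem lvl23b : lvlChk1 M22 M23 F23 X23 13 9 6 3512 3513 Q23 0 = true := by decide +kernel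
theorem lvl23c : lvlChk2 M22 M23 A23 X23 13 9 6 3512 3513 [2, 4, 6, 3, 7, 8, 12, 4, 3, 7, 8, 5, 4, 3, 7, 6, 5, 4, 3, 2, 3, 4, 5, 6, 7, 3, 4, 5, 8, 7, 3, 4, 2, 3, 7, 8, 5, 4, 3, 7, 6, 5, 4, 3, 2, 3, 4, 5, 6, 7, 3, 4, 5, 8, 7, 3, 2, 12, 8, 7, 3, 0]
  [5, 4, 6, 9, 3, 8, 7, 5, 2, 1, 3, 8, 4, 9, 0, 5, 7, 2, 3, 6, 4, 9, 8, 7, 5, 3, 2, 1, 3, 0]
  [0, 7, 6, 5, 10, 4, 9, 8, 6, 3, 7, 2, 4, 9, 10, 1, 3, 6, 5, 8, 7, 9, 4, 6, 10, 8, 5, 3, 2, 6, 9, 4, 10, 5, 8, 3, 4, 2, 3, 5, 1] = true := by decide +kernel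
theorem lvl23d0 : allL (fun l => maps A23 [13, 2, 4, 6, 3, 7, 8, 12, 4, 3, 7, 8, 5, 4, 3, 7, 6, 5, 4, 3, 2, 3, 4, 5, 6, 7, 3, 4, 5, 8, 7, 3, 4, 2, 3, 7, 8, 5, 4, 3, 7, 6, 5, 4, 3, 2, 3, 4, 5, 6, 7, 3, 4, 5, 8, 7, 3, 2, 12, 8, 7, 3, 0] (M23.g l) (M23.g l)) [0, 1, 2, 3, 4, 5, 6, 7, 8, 9, 12, 13] = true := by decide +kernel
theorem lvl23 : Lvl M22 M23 X23 13 9 6 3512 3513 Q23 := lvl_of_chk bm22 bm23 rfl lvl23a lvl23b lvl23c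
  (of_allL lvl23d0)
def rels23 : List (Rel × ℕ) := [
  (.pp ⟨⟨[], 0⟩, 693⟩ ⟨⟨[], 3⟩, 0⟩ 2, 0),
  (.pp ⟨⟨[], 0⟩, 693⟩ ⟨⟨[], 4⟩, 3⟩ 2, 0),
  (.pp ⟨⟨[], 0⟩, 693⟩ ⟨⟨[], 5⟩, 15⟩ 2, 0),
  (.pp ⟨⟨[], 0⟩, 693⟩ ⟨⟨[], 6⟩, 43⟩ 2, 0),
  (.pp ⟨⟨[], 0⟩, 693⟩ ⟨⟨[], 8⟩, 24⟩ 2, 0),
  (.pp ⟨⟨[], 0⟩, 693⟩ ⟨⟨[], 12⟩, 45⟩ 2, 0),
  (.dp ⟨⟨[], 0⟩, 693⟩, 0),
  (.pp ⟨⟨[], 1⟩, 694⟩ ⟨⟨[], 3⟩, 0⟩ 2, 0),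
  (.pp ⟨⟨[], 1⟩, 694⟩ ⟨⟨[], 4⟩, 3⟩ 2, 0),
  (.pp ⟨⟨[], 1⟩, 694⟩ ⟨⟨[], 5⟩, 15⟩ 2, 0),
  (.pp ⟨⟨[], 1⟩, 694⟩ ⟨⟨[], 6⟩, 43⟩ 2, 0),
  (.pp ⟨⟨[], 1⟩, 694⟩ ⟨⟨[], 8⟩, 24⟩ 2, 0),
  (.pp ⟨⟨[], 1⟩, 694⟩ ⟨⟨[], 12⟩, 45⟩ 2, 0),
  (.dp ⟨⟨[], 1⟩, 694⟩, 0),
  (.pp ⟨⟨[], 2⟩, 126⟩ ⟨⟨[], 3⟩, 0⟩ 3, 0),
  (.pp ⟨⟨[], 2⟩, 126⟩ ⟨⟨[], 4⟩, 3⟩ 2, 0),
  (.pp ⟨⟨[], 2⟩, 126⟩ ⟨⟨[], 5⟩, 15⟩ 2, 0),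
  (.pp ⟨⟨[], 2⟩, 126⟩ ⟨⟨[], 6⟩, 43⟩ 2, 0),
  (.pp ⟨⟨[], 2⟩, 126⟩ ⟨⟨[], 8⟩, 24⟩ 2, 0),
  (.pp ⟨⟨[], 2⟩, 126⟩ ⟨⟨[], 12⟩, 45⟩ 2, 0),
  (.dp ⟨⟨[], 2⟩, 126⟩, 0),
  (.pp ⟨⟨[], 3⟩, 0⟩ ⟨⟨[], 4⟩, 3⟩ 3, 0),
  (.pp ⟨⟨[], 3⟩, 0⟩ ⟨⟨[], 5⟩, 15⟩ 2, 0),
  (.pp ⟨⟨[], 3⟩, 0⟩ ⟨⟨[], 6⟩, 43⟩ 2, 0),
  (.pp ⟨⟨[], 3⟩, 0⟩ ⟨⟨[], 7⟩, 6⟩ 3, 0),
  (.pp ⟨⟨[], 3⟩, 0⟩ ⟨⟨[], 8⟩, 24⟩ 2, 0),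
  (.pp ⟨⟨[], 3⟩, 0⟩ ⟨⟨[], 12⟩, 45⟩ 2, 0),
  (.dp ⟨⟨[], 3⟩, 0⟩, 0),
  (.pp ⟨⟨[], 4⟩, 3⟩ ⟨⟨[], 5⟩, 15⟩ 3, 0),
  (.pp ⟨⟨[], 4⟩, 3⟩ ⟨⟨[], 6⟩, 43⟩ 2, 0),
  (.pp ⟨⟨[], 4⟩, 3⟩ ⟨⟨[], 7⟩, 6⟩ 2, 0),
  (.pp ⟨⟨[], 4⟩, 3⟩ ⟨⟨[], 8⟩, 24⟩ 2, 0),
  (.pp ⟨⟨[], 4⟩, 3⟩ ⟨⟨[], 12⟩, 45⟩ 2, 0),
  (.dp ⟨⟨[], 4⟩, 3⟩, 0),
  (.pp ⟨⟨[], 5⟩, 15⟩ ⟨⟨[], 6⟩, 43⟩ 3, 0),
  (.pp ⟨⟨[], 5⟩, 15⟩ ⟨⟨[], 7⟩, 6⟩ 2, 0),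
  (.pp ⟨⟨[], 5⟩, 15⟩ ⟨⟨[], 8⟩, 24⟩ 2, 0),
  (.pp ⟨⟨[], 5⟩, 15⟩ ⟨⟨[], 12⟩, 45⟩ 3, 0),
  (.dp ⟨⟨[], 5⟩, 15⟩, 0),
  (.pp ⟨⟨[], 6⟩, 43⟩ ⟨⟨[], 7⟩, 6⟩ 2, 0),
  (.pp ⟨⟨[], 6⟩, 43⟩ ⟨⟨[], 8⟩, 24⟩ 2, 0),
  (.pp ⟨⟨[], 6⟩, 43⟩ ⟨⟨[], 12⟩, 45⟩ 2, 0),
  (.dp ⟨⟨[], 6⟩, 43⟩, 0),
  (.pp ⟨⟨[], 7⟩, 6⟩ ⟨⟨[], 8⟩, 24⟩ 3, 0),
  (.pp ⟨⟨[], 7⟩, 6⟩ ⟨⟨[], 12⟩, 45⟩ 2, 0),
  (.dp ⟨⟨[], 7⟩, 6⟩, 0),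
  (.pp ⟨⟨[], 8⟩, 24⟩ ⟨⟨[], 12⟩, 45⟩ 3, 0),
  (.dp ⟨⟨[], 8⟩, 24⟩, 0),
  (.dp ⟨⟨[], 12⟩, 45⟩, 0),
  (.dc, 0),
  (.pp ⟨⟨[6, 3], 2⟩, 127⟩ ⟨⟨[3], 2⟩, 127⟩ 1, 0),
  (.cp ⟨⟨[], 3⟩, 0⟩ 2, 0),
  (.cp ⟨⟨[], 4⟩, 3⟩ 2, 0),
  (.cp ⟨⟨[], 7⟩, 6⟩ 2, 0),
  (.cp ⟨⟨[], 5⟩, 15⟩ 2, 0),
  (.cp ⟨⟨[], 8⟩, 24⟩ 2, 0),
  (.cp ⟨⟨[], 6⟩, 43⟩ 3, 0),
  (.cp ⟨⟨[], 12⟩, 45⟩ 2, 0),
  (.cp ⟨⟨[], 2⟩, 126⟩ 2, 0),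
  (.cp ⟨⟨[], 0⟩, 693⟩ 2, 0),
  (.cp ⟨⟨[], 1⟩, 694⟩ 2, 0),
  (.d4 ⟨⟨[6, 5], 4⟩, 16⟩ ⟨⟨[12, 6], 5⟩, 44⟩ ⟨⟨[3, 4, 5, 12, 7, 6, 5, 4], 3⟩, 92⟩ [⟨⟨[], 7⟩, 6⟩, ⟨⟨[], 2⟩, 126⟩, ⟨⟨[], 1⟩, 694⟩], 0)]
def rl23 : List (List ℕ) := [[0, 3, 0, 3], [0, 4, 0, 4], [0, 5, 0, 5], [0, 6, 0, 6], [0, 8, 0, 8], [0, 12, 0, 12], [13, 0, 13, 0], [1, 3, 1, 3], [1, 4, 1, 4], [1, 5, 1, 5], [1, 6, 1, 6], [1, 8, 1, 8], [1, 12, 1, 12], [13, 1, 13, 1], [2, 3, 2, 3, 2, 3], [2, 4, 2, 4], [2, 5, 2, 5], [2, 6, 2, 6], [2, 8, 2, 8], [2, 12, 2, 12], [13, 2, 13, 2], [3, 4, 3, 4, 3, 4], [3, 5, 3, 5], [3, 6, 3, 6], [3, 7, 3, 7, 3, 7], [3, 8, 3, 8], [3, 12, 3, 12], [13, 3, 13, 3], [4, 5, 4, 5, 4, 5], [4, 6, 4, 6], [4, 7, 4, 7], [4, 8, 4,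 8], [4, 12, 4, 12], [13, 4, 13, 4], [5, 6, 5, 6, 5, 6], [5, 7, 5, 7], [5, 8, 5, 8], [5, 12, 5, 12, 5, 12], [13, 5, 13, 5], [6, 7, 6, 7], [6, 8, 6, 8], [6, 12, 6, 12], [13, 6, 13, 6], [7, 8, 7, 8, 7, 8], [7, 12, 7, 12], [13, 7, 13, 7], [8, 12, 8, 12, 8, 12], [13, 8, 13, 8], [13, 12, 13, 12], [13, 9, 13, 9, 13, 9], [6, 3, 2, 3, 6, 3, 2, 3], [9, 3, 9, 3], [9, 4, 9, 4], [9, 7, 9, 7], [9, 5, 9, 5], [9, 8, 9, 8], [9, 6, 9, 6, 9, 6], [9, 12, 9, 12], [9, 2, 9, 2], [9, 0, 9, 0], [9, 1, 9, 1], [3, 4, 5, 12, 7, 6, 5, 4, 3, 4, 5, 6, 7, 12, 5, 4, 3, 9, 13, 6, 5, 4, 5, 6, 12, 6, 5, 6, 12, 9, 13, 6, 5, 4, 5, 6, 12, 6, 5, 6, 12, 9]]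
theorem tc23a : allL (fun r => r.1.ok M22 A22 F22 X23 Q23) rels23 = true := by decide +kernel
theorem tc23b : rels23.map (fun r => cred (r.1.wd 13 9) r.2) = rl23 := by decide +kernel
theorem tc23c0 : allL (isId A23 15 M23.n) [[0, 3, 0, 3], [0, 4, 0, 4], [0, 5, 0, 5], [0, 6, 0, 6], [0, 8, 0, 8], [0, 12, 0, 12], [13, 0, 13, 0], [1, 3, 1, 3], [1, 4, 1, 4], [1, 5, 1, 5], [1, 6, 1, 6], [1, 8, 1, 8], [1, 12, 1, 12], [13, 1, 13, 1], [2, 3, 2, 3, 2, 3], [2, 4, 2, 4], [2, 5, 2, 5], [2, 6, 2, 6], [2, 8, 2, 8], [2, 12, 2, 12], [13, 2, 13, 2], [3, 4, 3, 4, 3, 4], [3, 5, 3, 5], [3, 6, 3, 6]] = true := by decide +kernel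
theorem tc23c1 : allL (isId A23 15 M23.n) [[3, 7, 3, 7, 3, 7], [3, 8, 3, 8], [3, 12, 3, 12], [13, 3, 13, 3], [4, 5, 4, 5, 4, 5], [4, 6, 4, 6], [4, 7, 4, 7], [4, 8, 4, 8], [4, 12, 4, 12], [13, 4, 13, 4], [5, 6, 5, 6, 5, 6], [5, 7, 5, 7], [5, 8, 5, 8], [5, 12, 5, 12, 5, 12], [13, 5, 13, 5], [6, 7, 6, 7], [6, 8, 6, 8], [6, 12, 6, 12], [13, 6, 13, 6], [7, 8, 7, 8, 7, 8], [7, 12, 7, 12], [13, 7, 13, 7]] = true := by decide +kernel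
theorem tc23c2 : allL (isId A23 15 M23.n) [[8, 12, 8, 12, 8, 12], [13, 8, 13, 8], [13, 12, 13, 12], [13, 9, 13, 9, 13, 9], [6, 3, 2, 3, 6, 3, 2, 3], [9, 3, 9, 3], [9, 4, 9, 4], [9, 7, 9, 7], [9, 5, 9, 5], [9, 8, 9, 8], [9, 6, 9, 6, 9, 6], [9, 12, 9, 12], [9, 2, 9, 2], [9, 0, 9, 0], [9, 1, 9, 1]] = true := by decide +kernel
theorem tc23c3 : allL (isId A23 15 M23.n) [[3, 4, 5, 12, 7, 6, 5, 4, 3, 4, 5, 6, 7, 12, 5, 4, 3, 9, 13, 6, 5, 4, 5, 6, 12, 6, 5, 6, 12, 9, 13, 6, 5, 4, 5, 6, 12, 6, 5, 6, 12, 9]] = true := by decide +kernel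
theorem tc23c : ∀ r ∈ rl23, evw M23.π r = 1 := fun r hr => env23.eq_one_of_isId bm23.le
  (((forall_append (of_allL tc23c0) (forall_append (of_allL tc23c1) (forall_append (of_allL tc23c2) (of_allL tc23c3)))) : ∀ r ∈ rl23, _) r hr)
theorem tc23d : tcRun A23 0 M22.n (List.map (mkRule 0 rl23) [491522, 483330, 475138, 466946, 450562, 434178, 425986, 417794, 442370, 458754, 393218, 385026, 368642, 311298, 270338, 221186, 163842, 106498, 49154, 401410, 344066, 499757, 499741, 327680, 188418, 237570, 409600, 319488, 335872, 81922, 344064, 335874, 327682, 319490, 237568, 188416, 139264, 81920, 24576, 458752, 278528, 311296, 294914, 286722, 180224, 131072, 73728, 16384, 278530, 442368, 229376, 303106, 401408,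 466944, 393216, 360448, 212992, 155648, 98304, 40960, 303104, 262144, 376832, 425984, 270336, 262146, 245762, 122880, 65536, 8192, 253954, 229378, 172032, 499779, 499753, 499729, 204800, 450560, 385024, 253952, 147456, 90112, 32768, 294912, 376834, 352256, 114690, 57346, 2, 180226, 212994, 417792, 221184, 204802, 196610, 57344, 0, 172034, 114688, 286720]) []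
  [26, 38, 54, 1, 5, 9, 13, 17, 21, 25, 29, 36, 33, 1, 5, 9, 13, 17, 21, 25, 29, 37, 52, 41, 45, 49, 53, 57, 61, 65, 69, 73, 77, 81, 85, 26, 89, 26, 93, 97, 81, 101, 105, 109, 113, 117, 97, 101, 93, 109, 97, 24, 121, 125, 129, 133, 137, 141, 145, 149, 153, 157, 161, 20, 165, 169, 173, 177, 181, 185, 189, 193, 197, 77, 201, 205, 36, 1, 5, 9, 17, 33, 21, 29, 25, 13, 209, 37, 57, 41, 48, 213, 217, 221, 225, 229, 233, 237, 113, 241, 245, 249, 37, 137, 16, 253, 257, 261, 265, 269, 273, 277, 101, 281, 285, 289, 37, 249, 293, 297, 18, 301, 18, 281, 25, 61, 289, 249, 17, 32, 305, 309, 313, 93, 317, 321, 325, 329, 333, 337, 341, 285, 225, 113, 20, 173, 197, 165, 169, 181, 185, 189, 177, 201, 205, 109, 193,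 265, 345, 93, 101, 349, 353, 24, 141, 125, 133, 121, 129, 137, 145, 149, 153, 157, 161, 29, 13, 12, 357, 361, 365, 369, 373, 377, 97, 381, 385, 389, 393, 397]
  (finSt A23 M23.L (full M23.n)) (initD M22 M23 9 3512 3513)
  ((List.range 14).map (initK M22 M23 X23 13 9 6 3512 3513 Q23)) = true := by decide +kernel
theorem tc23 : TCOK.{u} M22 M23 X23 13 9 Q23 := fun _ _ _ _ _ _ hCP C =>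
  lvl23.tc hCP bm22 C env23 tc23a tc23b tc23c tc23d
theorem odd23a : bnd (overB M23.L (rep [0, 1, 2, 3, 4, 5, 7] 9)) (allL (fun l => maps A23 (rep [0, 1, 2, 3, 4, 5, 7] 9) (M23.g l) (M23.g l)) M23.L) = true := by
  decide +kernel
theorem odd23 : ∃ z, Over M23.L z ∧ z.length % 2 = 1 ∧ ∀ l ∈ M23.L, evw M23.π z (M23.g l) = M23.g l :=
  ⟨_, over_of (bnd_iff.1 odd23a).1, by decide +kernel,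
    fun l hl => env23.of_maps (of_allL (bnd_iff.1 odd23a).2 l hl)⟩
end H80
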