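import Cfsg.Agent.H80.M24
/-! Relations between the letters of the model on 306936 points. -/
set_option Elab.async false
namespace H80
open H71
theorem tc24p0_0 : allL (fun r => fixPlane A24 19 M24.n r 0) [[0, 1, 0, 1, 0, 1], [0, 2, 0, 2], [0, 3, 0, 3], [0, 4, 0, 4], [0, 5, 0, 5], [0, 6, 0, 6], [0, 7, 0, 7], [0, 8, 0, 8], [0, 9, 0, 9], [11, 0, 11, 0], [1, 2, 1, 2, 1, 2], [1, 3, 1, 3], [1, 4, 1, 4], [1, 5, 1, 5], [1, 6, 1, 6], [1, 7, 1, 7], [1, 8, 1, 8], [1, 9, 1, 9], [11, 1, 11, 1], [2, 3, 2, 3, 2, 3], [2, 4, 2, 4], [2, 5, 2, 5], [2, 6, 2, 6], [2, 7, 2, 7], [2, 8, 2, 8], [2, 9, 2, 9], [11, 2, 11, 2], [3, 4, 3, 4, 3, 4], [3, 5, 3, 5], [3, 6, 3, 6], [3, 7, 3, 7, 3, 7], [3, 8, 3, 8], [3, 9, 3, 9], [11, 3, 11, 3], [4, 5, 4, 5, 4,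 5], [4, 6, 4, 6], [4, 7, 4, 7], [4, 8, 4, 8], [4, 9, 4, 9], [11, 4, 11, 4], [5, 6, 5, 6, 5, 6], [5, 7, 5, 7], [5, 8, 5, 8], [5, 9, 5, 9], [11, 5, 11, 5], [6, 7, 6, 7]] = true := by decide +kernel
theorem tc24p0_1 : allL (fun r => fixPlane A24 19 M24.n r 0) [[6, 8, 6, 8], [6, 9, 6, 9, 6, 9], [11, 6, 11, 6], [7, 8, 7, 8, 7, 8], [7, 9, 7, 9], [11, 7, 11, 7], [11, 8, 11, 8], [11, 9, 11, 9], [11, 10, 11, 10, 11, 10], [5, 1, 0, 1, 5, 1, 0, 1], [0, 5, 4, 5, 0, 5, 4, 5], [0, 6, 5, 6, 0, 6, 5, 6], [0, 8, 7, 8, 0, 8, 7, 8], [10, 3, 10, 3], [10, 4, 10, 4], [10, 7, 10, 7], [10, 5, 10, 5], [10, 8, 10, 8], [10, 6, 10, 6], [10, 2, 10, 2], [10, 0, 10, 0, 10, 0], [10, 1, 10, 1], [10, 9, 10, 9], [5, 4, 3, 7, 2, 3, 4, 1, 2, 3, 7, 5, 4, 3, 2, 1,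 0, 1, 2, 3, 4, 5, 7, 3, 2, 1, 4, 3, 2, 7, 3, 4, 5, 10, 11, 0, 1, 2, 3, 7, 4, 3, 2, 1, 0, 1, 2, 3, 4, 7, 3, 2, 1, 10, 11, 0, 1, 2, 3, 7, 4, 3, 2, 1, 0, 1, 2, 3, 4, 7, 3, 2, 1, 10]] = true := by decide +kernel
theorem tc24p1_0 : allL (fun r => fixPlane A24 19 M24.n r 1) [[0, 1, 0, 1, 0, 1], [0, 2, 0, 2], [0, 3, 0, 3], [0, 4, 0, 4], [0, 5, 0, 5], [0, 6, 0, 6], [0, 7, 0, 7], [0, 8, 0, 8], [0, 9, 0, 9], [11, 0, 11, 0], [1, 2, 1, 2, 1, 2], [1, 3, 1, 3], [1, 4, 1, 4], [1, 5, 1, 5], [1, 6, 1, 6], [1, 7, 1, 7], [1, 8, 1, 8], [1, 9, 1, 9], [11, 1, 11, 1], [2, 3, 2, 3, 2, 3], [2, 4, 2, 4], [2, 5, 2, 5], [2, 6, 2, 6], [2, 7, 2, 7], [2, 8, 2, 8], [2, 9, 2, 9], [11, 2, 11, 2], [3, 4, 3, 4, 3, 4], [3, 5, 3, 5], [3, 6, 3, 6], [3, 7, 3, 7, 3,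 7], [3, 8, 3, 8], [3, 9, 3, 9], [11, 3, 11, 3], [4, 5, 4, 5, 4, 5], [4, 6, 4, 6], [4, 7, 4, 7], [4, 8, 4, 8], [4, 9, 4, 9], [11, 4, 11, 4], [5, 6, 5, 6, 5, 6], [5, 7, 5, 7], [5, 8, 5, 8], [5, 9, 5, 9], [11, 5, 11, 5], [6, 7, 6, 7]] = true := by decide +kernel
theorem tc24p1_1 : allL (fun r => fixPlane A24 19 M24.n r 1) [[6, 8, 6, 8], [6, 9, 6, 9, 6, 9], [11, 6, 11, 6], [7, 8, 7, 8, 7, 8], [7, 9, 7, 9], [11, 7, 11, 7], [11, 8, 11, 8], [11, 9, 11, 9], [11, 10, 11, 10, 11, 10], [5, 1, 0, 1, 5, 1, 0, 1], [0, 5, 4, 5, 0, 5, 4, 5], [0, 6, 5, 6, 0, 6, 5, 6], [0, 8, 7, 8, 0, 8, 7, 8], [10, 3, 10, 3], [10, 4, 10, 4], [10, 7, 10, 7], [10, 5, 10, 5], [10, 8, 10, 8], [10, 6, 10, 6], [10, 2, 10, 2], [10, 0, 10, 0, 10, 0], [10, 1, 10, 1],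 [10, 9, 10, 9], [5, 4, 3, 7, 2, 3, 4, 1, 2, 3, 7, 5, 4, 3, 2, 1, 0, 1, 2, 3, 4, 5, 7, 3, 2, 1, 4, 3, 2, 7, 3, 4, 5, 10, 11, 0, 1, 2, 3, 7, 4, 3, 2, 1, 0, 1, 2, 3, 4, 7, 3, 2, 1, 10, 11, 0, 1, 2, 3, 7, 4, 3, 2, 1, 0, 1, 2, 3, 4, 7, 3, 2, 1, 10]] = true := by decide +kernel
theorem tc24p2_0 : allL (fun r => fixPlane A24 19 M24.n r 2) [[0, 1, 0, 1, 0, 1], [0, 2, 0, 2], [0, 3, 0, 3], [0, 4, 0, 4], [0, 5, 0, 5], [0, 6, 0, 6], [0, 7, 0, 7], [0, 8, 0, 8], [0, 9, 0, 9], [11, 0, 11, 0], [1, 2, 1, 2, 1, 2], [1, 3, 1, 3], [1, 4, 1, 4], [1, 5, 1, 5], [1, 6, 1, 6], [1, 7, 1, 7], [1, 8, 1, 8], [1, 9, 1, 9], [11, 1, 11, 1], [2, 3, 2, 3, 2, 3], [2, 4, 2, 4], [2, 5, 2, 5], [2, 6, 2, 6], [2, 7, 2, 7], [2, 8, 2, 8], [2, 9, 2, 9], [11, 2, 11, 2],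 [3, 4, 3, 4, 3, 4], [3, 5, 3, 5], [3, 6, 3, 6], [3, 7, 3, 7, 3, 7], [3, 8, 3, 8], [3, 9, 3, 9], [11, 3, 11, 3], [4, 5, 4, 5, 4, 5], [4, 6, 4, 6], [4, 7, 4, 7], [4, 8, 4, 8], [4, 9, 4, 9], [11, 4, 11, 4], [5, 6, 5, 6, 5, 6], [5, 7, 5, 7], [5, 8, 5, 8], [5, 9, 5, 9], [11, 5, 11, 5], [6, 7, 6, 7]] = true := by decide +kernel
theorem tc24p2_1 : allL (fun r => fixPlane A24 19 M24.n r 2) [[6, 8, 6, 8], [6, 9, 6, 9, 6, 9], [11, 6, 11, 6], [7, 8, 7, 8, 7, 8], [7, 9, 7, 9], [11, 7, 11, 7], [11, 8, 11, 8], [11, 9, 11, 9], [11, 10, 11, 10, 11, 10], [5, 1, 0, 1, 5, 1, 0, 1], [0, 5, 4, 5, 0, 5, 4, 5], [0, 6, 5, 6, 0, 6, 5, 6], [0, 8, 7, 8, 0, 8, 7, 8], [10, 3, 10, 3], [10, 4, 10, 4], [10, 7, 10, 7], [10, 5, 10, 5], [10, 8, 10, 8], [10, 6,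 10, 6], [10, 2, 10, 2], [10, 0, 10, 0, 10, 0], [10, 1, 10, 1], [10, 9, 10, 9], [5, 4, 3, 7, 2, 3, 4, 1, 2, 3, 7, 5, 4, 3, 2, 1, 0, 1, 2, 3, 4, 5, 7, 3, 2, 1, 4, 3, 2, 7, 3, 4, 5, 10, 11, 0, 1, 2, 3, 7, 4, 3, 2, 1, 0, 1, 2, 3, 4, 7, 3, 2, 1, 10, 11, 0, 1, 2, 3, 7, 4, 3, 2, 1, 0, 1, 2, 3, 4, 7, 3, 2, 1, 10]] = true := by decide +kernel
theorem tc24p3_0 : allL (fun r => fixPlane A24 19 M24.n r 3) [[0, 1, 0, 1, 0, 1], [0, 2, 0, 2], [0, 3, 0, 3], [0, 4, 0, 4], [0, 5, 0, 5], [0, 6, 0, 6], [0, 7, 0, 7], [0, 8, 0, 8], [0, 9, 0, 9], [11, 0, 11, 0], [1, 2, 1, 2, 1, 2], [1, 3, 1, 3], [1, 4, 1, 4], [1, 5, 1, 5], [1, 6, 1, 6], [1, 7, 1, 7], [1, 8, 1, 8], [1, 9, 1, 9], [11, 1, 11, 1], [2, 3, 2, 3, 2, 3], [2, 4, 2, 4], [2, 5, 2, 5], [2, 6,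 2, 6], [2, 7, 2, 7], [2, 8, 2, 8], [2, 9, 2, 9], [11, 2, 11, 2], [3, 4, 3, 4, 3, 4], [3, 5, 3, 5], [3, 6, 3, 6], [3, 7, 3, 7, 3, 7], [3, 8, 3, 8], [3, 9, 3, 9], [11, 3, 11, 3], [4, 5, 4, 5, 4, 5], [4, 6, 4, 6], [4, 7, 4, 7], [4, 8, 4, 8], [4, 9, 4, 9], [11, 4, 11, 4], [5, 6, 5, 6, 5, 6], [5, 7, 5, 7], [5, 8, 5, 8], [5, 9, 5, 9], [11, 5, 11, 5], [6, 7, 6, 7]] = true := by decide +kernel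
theorem tc24p3_1 : allL (fun r => fixPlane A24 19 M24.n r 3) [[6, 8, 6, 8], [6, 9, 6, 9, 6, 9], [11, 6, 11, 6], [7, 8, 7, 8, 7, 8], [7, 9, 7, 9], [11, 7, 11, 7], [11, 8, 11, 8], [11, 9, 11, 9], [11, 10, 11, 10, 11, 10], [5, 1, 0, 1, 5, 1, 0, 1], [0, 5, 4, 5, 0, 5, 4, 5], [0, 6, 5, 6, 0, 6, 5, 6], [0, 8, 7, 8, 0, 8, 7, 8], [10, 3, 10, 3], [10, 4, 10, 4], [10, 7, 10, 7], [10, 5, 10, 5], [10, 8, 10, 8], [10, 6, 10, 6], [10, 2, 10, 2], [10, 0, 10, 0, 10, 0], [10, 1, 10, 1], [10, 9, 10, 9], [5, 4, 3, 7, 2, 3, 4, 1, 2, 3, 7, 5, 4, 3, 2, 1, 0, 1, 2, 3, 4, 5, 7, 3, 2, 1, 4, 3, 2, 7, 3, 4, 5, 10, 11, 0, 1, 2, 3, 7, 4, 3, 2, 1, 0, 1, 2, 3, 4, 7, 3, 2, 1, 10, 11, 0, 1, 2, 3, 7, 4, 3, 2, 1, 0, 1, 2, 3, 4, 7, 3, 2, 1, 10]] = true := by decide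 +kernel
theorem tc24p4_0 : allL (fun r => fixPlane A24 19 M24.n r 4) [[0, 1, 0, 1, 0, 1], [0, 2, 0, 2], [0, 3, 0, 3], [0, 4, 0, 4], [0, 5, 0, 5], [0, 6, 0, 6], [0, 7, 0, 7], [0, 8, 0, 8], [0, 9, 0, 9], [11, 0, 11, 0], [1, 2, 1, 2, 1, 2], [1, 3, 1, 3], [1, 4, 1, 4], [1, 5, 1, 5], [1, 6, 1, 6], [1, 7, 1, 7], [1, 8, 1, 8], [1, 9, 1, 9], [11, 1, 11, 1], [2, 3, 2, 3, 2, 3], [2, 4, 2, 4], [2, 5, 2, 5], [2, 6, 2, 6], [2, 7, 2, 7], [2, 8, 2, 8], [2, 9, 2, 9], [11, 2, 11, 2], [3, 4, 3, 4, 3, 4], [3, 5, 3, 5], [3, 6, 3, 6], [3, 7, 3, 7, 3, 7], [3, 8, 3, 8], [3, 9, 3, 9], [11, 3, 11, 3], [4, 5, 4, 5, 4, 5], [4, 6, 4, 6], [4, 7, 4, 7], [4, 8, 4, 8], [4, 9, 4, 9], [11, 4, 11, 4], [5, 6, 5, 6, 5, 6], [5, 7, 5, 7], [5, 8, 5, 8], [5, 9, 5, 9],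 [11, 5, 11, 5], [6, 7, 6, 7]] = true := by decide +kernel
theorem tc24p4_1 : allL (fun r => fixPlane A24 19 M24.n r 4) [[6, 8, 6, 8], [6, 9, 6, 9, 6, 9], [11, 6, 11, 6], [7, 8, 7, 8, 7, 8], [7, 9, 7, 9], [11, 7, 11, 7], [11, 8, 11, 8], [11, 9, 11, 9], [11, 10, 11, 10, 11, 10], [5, 1, 0, 1, 5, 1, 0, 1], [0, 5, 4, 5, 0, 5, 4, 5], [0, 6, 5, 6, 0, 6, 5, 6], [0, 8, 7, 8, 0, 8, 7, 8], [10, 3, 10, 3], [10, 4, 10, 4], [10, 7, 10, 7], [10, 5, 10, 5], [10, 8, 10, 8], [10, 6, 10, 6], [10, 2, 10, 2], [10, 0, 10, 0, 10, 0], [10, 1, 10, 1], [10, 9, 10, 9], [5, 4, 3, 7, 2, 3, 4, 1, 2, 3, 7, 5, 4, 3, 2, 1, 0, 1, 2, 3, 4, 5, 7, 3, 2, 1, 4, 3, 2, 7, 3, 4, 5, 10, 11, 0, 1, 2, 3, 7, 4, 3, 2, 1, 0, 1, 2, 3, 4, 7, 3, 2, 1, 10, 11, 0, 1, 2, 3, 7, 4,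 3, 2, 1, 0, 1, 2, 3, 4, 7, 3, 2, 1, 10]] = true := by decide +kernel
theorem tc24p5_0 : allL (fun r => fixPlane A24 19 M24.n r 5) [[0, 1, 0, 1, 0, 1], [0, 2, 0, 2], [0, 3, 0, 3], [0, 4, 0, 4], [0, 5, 0, 5], [0, 6, 0, 6], [0, 7, 0, 7], [0, 8, 0, 8], [0, 9, 0, 9], [11, 0, 11, 0], [1, 2, 1, 2, 1, 2], [1, 3, 1, 3], [1, 4, 1, 4], [1, 5, 1, 5], [1, 6, 1, 6], [1, 7, 1, 7], [1, 8, 1, 8], [1, 9, 1, 9], [11, 1, 11, 1], [2, 3, 2, 3, 2, 3], [2, 4, 2, 4], [2, 5, 2, 5], [2, 6, 2, 6], [2, 7, 2, 7], [2, 8, 2, 8], [2, 9, 2, 9], [11, 2, 11, 2], [3, 4, 3, 4, 3, 4], [3, 5, 3, 5], [3, 6, 3, 6], [3, 7, 3, 7, 3, 7], [3, 8, 3, 8], [3, 9, 3, 9], [11, 3, 11, 3], [4, 5, 4, 5, 4, 5], [4, 6, 4, 6], [4, 7, 4, 7], [4, 8, 4, 8], [4, 9, 4, 9], [11, 4, 11, 4],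 [5, 6, 5, 6, 5, 6], [5, 7, 5, 7], [5, 8, 5, 8], [5, 9, 5, 9], [11, 5, 11, 5], [6, 7, 6, 7]] = true := by decide +kernel
theorem tc24p5_1 : allL (fun r => fixPlane A24 19 M24.n r 5) [[6, 8, 6, 8], [6, 9, 6, 9, 6, 9], [11, 6, 11, 6], [7, 8, 7, 8, 7, 8], [7, 9, 7, 9], [11, 7, 11, 7], [11, 8, 11, 8], [11, 9, 11, 9], [11, 10, 11, 10, 11, 10], [5, 1, 0, 1, 5, 1, 0, 1], [0, 5, 4, 5, 0, 5, 4, 5], [0, 6, 5, 6, 0, 6, 5, 6], [0, 8, 7, 8, 0, 8, 7, 8], [10, 3, 10, 3], [10, 4, 10, 4], [10, 7, 10, 7], [10, 5, 10, 5], [10, 8, 10, 8], [10, 6, 10, 6], [10, 2, 10, 2], [10, 0, 10, 0, 10, 0], [10, 1, 10, 1], [10, 9, 10, 9], [5, 4, 3, 7, 2, 3, 4, 1, 2, 3, 7, 5, 4, 3, 2, 1, 0, 1, 2, 3, 4, 5, 7, 3, 2, 1, 4, 3, 2, 7, 3, 4, 5, 10, 11, 0, 1, 2, 3, 7, 4,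 3, 2, 1, 0, 1, 2, 3, 4, 7, 3, 2, 1, 10, 11, 0, 1, 2, 3, 7, 4, 3, 2, 1, 0, 1, 2, 3, 4, 7, 3, 2, 1, 10]] = true := by decide +kernel
theorem tc24p6_0 : allL (fun r => fixPlane A24 19 M24.n r 6) [[0, 1, 0, 1, 0, 1], [0, 2, 0, 2], [0, 3, 0, 3], [0, 4, 0, 4], [0, 5, 0, 5], [0, 6, 0, 6], [0, 7, 0, 7], [0, 8, 0, 8], [0, 9, 0, 9], [11, 0, 11, 0], [1, 2, 1, 2, 1, 2], [1, 3, 1, 3], [1, 4, 1, 4], [1, 5, 1, 5], [1, 6, 1, 6], [1, 7, 1, 7], [1, 8, 1, 8], [1, 9, 1, 9], [11, 1, 11, 1], [2, 3, 2, 3, 2, 3], [2, 4, 2, 4], [2, 5, 2, 5], [2, 6, 2, 6], [2, 7, 2, 7], [2, 8, 2, 8], [2, 9, 2, 9], [11, 2, 11, 2], [3, 4, 3, 4, 3, 4], [3, 5, 3, 5], [3, 6, 3, 6], [3, 7, 3, 7, 3, 7], [3, 8, 3, 8], [3, 9, 3, 9], [11, 3, 11, 3], [4, 5, 4, 5, 4, 5], [4, 6, 4,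 6], [4, 7, 4, 7], [4, 8, 4, 8], [4, 9, 4, 9], [11, 4, 11, 4], [5, 6, 5, 6, 5, 6], [5, 7, 5, 7], [5, 8, 5, 8], [5, 9, 5, 9], [11, 5, 11, 5], [6, 7, 6, 7]] = true := by decide +kernel
theorem tc24p6_1 : allL (fun r => fixPlane A24 19 M24.n r 6) [[6, 8, 6, 8], [6, 9, 6, 9, 6, 9], [11, 6, 11, 6], [7, 8, 7, 8, 7, 8], [7, 9, 7, 9], [11, 7, 11, 7], [11, 8, 11, 8], [11, 9, 11, 9], [11, 10, 11, 10, 11, 10], [5, 1, 0, 1, 5, 1, 0, 1], [0, 5, 4, 5, 0, 5, 4, 5], [0, 6, 5, 6, 0, 6, 5, 6], [0, 8, 7, 8, 0, 8, 7, 8], [10, 3, 10, 3], [10, 4, 10, 4], [10, 7, 10, 7], [10, 5, 10, 5], [10, 8, 10, 8], [10, 6, 10, 6], [10, 2, 10, 2], [10, 0, 10, 0, 10, 0], [10, 1, 10, 1], [10, 9, 10, 9], [5, 4, 3, 7, 2, 3, 4, 1, 2, 3, 7, 5, 4, 3, 2, 1, 0, 1, 2, 3, 4,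 5, 7, 3, 2, 1, 4, 3, 2, 7, 3, 4, 5, 10, 11, 0, 1, 2, 3, 7, 4, 3, 2, 1, 0, 1, 2, 3, 4, 7, 3, 2, 1, 10, 11, 0, 1, 2, 3, 7, 4, 3, 2, 1, 0, 1, 2, 3, 4, 7, 3, 2, 1, 10]] = true := by decide +kernel
end H80
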