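import Cfsg.Agent.H80.Step5
import Cfsg.Agent.H80.C24
import Cfsg.Agent.H80.T24a
import Cfsg.Agent.H80.T24b
import Cfsg.Agent.H80.T24c
/-! The enumeration certificate for the model on 306936 points. -/
set_option Elab.async false
namespace H80
open H71
universe u
def X24 : List ℕ := [0, 1, 2, 3, 4, 5, 6, 7, 8, 9]
theorem lvl24a : compatChk A23 A24 15 M23.n X24 = true := by decide +kernel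
theorem lvl24b : lvlChk1 M23 M24 F24 X24 11 10 0 31673 32304 Q24 0 = true := by decide +kernel
theorem lvl24c : lvlChk2 M23 M24 A24 X24 11 10 0 31673 32304 [4, 7, 5, 4, 3, 7, 2, 3, 4, 1, 2, 3, 7, 5, 4, 3, 2, 1, 0, 1, 2, 3, 4, 5, 7, 3, 2, 1, 4, 3, 2, 7, 3, 4, 5, 2, 3, 7, 4, 3, 2, 3, 4, 7, 3, 1, 2, 3, 7, 4, 3, 2, 1, 0, 1, 2, 3, 4, 7, 3, 2, 1, 0]
  [1, 0, 2, 3, 1, 4, 7, 5, 8, 3, 2, 6, 9, 4, 7, 3, 5, 1, 4, 2, 7, 8, 3, 1, 5, 6, 0, 7, 2, 4, 5, 8, 3, 4, 9, 1, 6, 3, 2, 7, 0, 1, 3, 0, 2, 4, 7, 1, 3, 0, 5, 4, 2, 6, 1, 9]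
  [0, 1, 2, 3, 4, 5, 8, 6, 9, 4, 7, 3, 5, 10, 2, 8, 4, 1, 6, 3, 5, 8, 2, 4, 6, 7, 9, 1, 8, 3, 5, 9, 4, 2, 6, 5, 10, 8, 3, 1, 4, 6, 7, 8, 3, 9, 2, 5, 4, 6, 1, 3, 5, 8, 7, 4, 6, 10, 5, 2, 6] = true := by decide +kernel
theorem lvl24d0 : allL (fun l => maps A24 [11, 4, 7, 5, 4, 3, 7, 2, 3, 4, 1, 2, 3, 7, 5, 4, 3, 2, 1, 0, 1, 2, 3, 4, 5, 7, 3, 2, 1, 4, 3, 2, 7, 3, 4, 5, 2, 3, 7, 4, 3, 2, 3, 4, 7, 3, 1, 2, 3, 7, 4, 3, 2, 1, 0, 1, 2, 3, 4, 7, 3, 2, 1, 0] (M24.g l) (M24.g l)) [0, 1, 2] = true := by decide +kernel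
theorem lvl24d1 : allL (fun l => maps A24 [11, 4, 7, 5, 4, 3, 7, 2, 3, 4, 1, 2, 3, 7, 5, 4, 3, 2, 1, 0, 1, 2, 3, 4, 5, 7, 3, 2, 1, 4, 3, 2, 7, 3, 4, 5, 2, 3, 7, 4, 3, 2, 3, 4, 7, 3, 1, 2, 3, 7, 4, 3, 2, 1, 0, 1, 2, 3, 4, 7, 3, 2, 1, 0] (M24.g l) (M24.g l)) [3, 4, 5] = true := by decide +kernel
theorem lvl24d2 : allL (fun l => maps A24 [11, 4, 7, 5, 4, 3, 7, 2, 3, 4, 1, 2, 3, 7, 5, 4, 3, 2, 1, 0, 1, 2, 3, 4, 5, 7, 3, 2, 1, 4, 3, 2, 7, 3, 4, 5, 2, 3, 7, 4, 3, 2, 3, 4, 7, 3, 1, 2, 3, 7, 4, 3, 2, 1, 0, 1, 2, 3, 4, 7, 3, 2, 1, 0] (M24.g l) (M24.g l)) [6, 7, 8] = true := by decide +kernel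
theorem lvl24d3 : allL (fun l => maps A24 [11, 4, 7, 5, 4, 3, 7, 2, 3, 4, 1, 2, 3, 7, 5, 4, 3, 2, 1, 0, 1, 2, 3, 4, 5, 7, 3, 2, 1, 4, 3, 2, 7, 3, 4, 5, 2, 3, 7, 4, 3, 2, 3, 4, 7, 3, 1, 2, 3, 7, 4, 3, 2, 1, 0, 1, 2, 3, 4, 7, 3, 2, 1, 0] (M24.g l) (M24.g l)) [9, 10, 11] = true := by decide +kernel
theorem lvl24 : Lvl M23 M24 X24 11 10 0 31673 32304 Q24 := lvl_of_chk bm23 bm24 rfl lvl24a lvl24b lvl24c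
  (forall_append (of_allL lvl24d0) (forall_append (of_allL lvl24d1) (forall_append (of_allL lvl24d2) (of_allL lvl24d3))))
def rels24 : List (Rel × ℕ) := [
  (.pp ⟨⟨[], 0⟩, 693⟩ ⟨⟨[], 1⟩, 694⟩ 3, 0),
  (.pp ⟨⟨[], 0⟩, 693⟩ ⟨⟨[], 2⟩, 126⟩ 2, 0),
  (.pp ⟨⟨[], 0⟩, 693⟩ ⟨⟨[], 3⟩, 0⟩ 2, 0),
  (.pp ⟨⟨[], 0⟩, 693⟩ ⟨⟨[], 4⟩, 3⟩ 2, 0),
  (.pp ⟨⟨[], 0⟩, 693⟩ ⟨⟨[], 5⟩, 15⟩ 2, 0),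
  (.pp ⟨⟨[], 0⟩, 693⟩ ⟨⟨[], 6⟩, 43⟩ 2, 0),
  (.pp ⟨⟨[], 0⟩, 693⟩ ⟨⟨[], 7⟩, 6⟩ 2, 0),
  (.pp ⟨⟨[], 0⟩, 693⟩ ⟨⟨[], 8⟩, 24⟩ 2, 0),
  (.pp ⟨⟨[], 0⟩, 693⟩ ⟨⟨[], 9⟩, 3511⟩ 2, 0),
  (.dp ⟨⟨[], 0⟩, 693⟩, 0),
  (.pp ⟨⟨[], 1⟩, 694⟩ ⟨⟨[], 2⟩, 126⟩ 3, 0),
  (.pp ⟨⟨[], 1⟩, 694⟩ ⟨⟨[], 3⟩, 0⟩ 2, 0),
  (.pp ⟨⟨[], 1⟩, 694⟩ ⟨⟨[], 4⟩, 3⟩ 2, 0),
  (.pp ⟨⟨[], 1⟩, 694⟩ ⟨⟨[], 5⟩, 15⟩ 2, 0),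
  (.pp ⟨⟨[], 1⟩, 694⟩ ⟨⟨[], 6⟩, 43⟩ 2, 0),
  (.pp ⟨⟨[], 1⟩, 694⟩ ⟨⟨[], 7⟩, 6⟩ 2, 0),
  (.pp ⟨⟨[], 1⟩, 694⟩ ⟨⟨[], 8⟩, 24⟩ 2, 0),
  (.pp ⟨⟨[], 1⟩, 694⟩ ⟨⟨[], 9⟩, 3511⟩ 2, 0),
  (.dp ⟨⟨[], 1⟩, 694⟩, 0),
  (.pp ⟨⟨[], 2⟩, 126⟩ ⟨⟨[], 3⟩, 0⟩ 3, 0),
  (.pp ⟨⟨[], 2⟩, 126⟩ ⟨⟨[], 4⟩, 3⟩ 2, 0),
  (.pp ⟨⟨[], 2⟩, 126⟩ ⟨⟨[], 5⟩, 15⟩ 2, 0),
  (.pp ⟨⟨[], 2⟩, 126⟩ ⟨⟨[], 6⟩, 43⟩ 2, 0),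
  (.pp ⟨⟨[], 2⟩, 126⟩ ⟨⟨[], 7⟩, 6⟩ 2, 0),
  (.pp ⟨⟨[], 2⟩, 126⟩ ⟨⟨[], 8⟩, 24⟩ 2, 0),
  (.pp ⟨⟨[], 2⟩, 126⟩ ⟨⟨[], 9⟩, 3511⟩ 2, 0),
  (.dp ⟨⟨[], 2⟩, 126⟩, 0),
  (.pp ⟨⟨[], 3⟩, 0⟩ ⟨⟨[], 4⟩, 3⟩ 3, 0),
  (.pp ⟨⟨[], 3⟩, 0⟩ ⟨⟨[], 5⟩, 15⟩ 2, 0),
  (.pp ⟨⟨[], 3⟩, 0⟩ ⟨⟨[], 6⟩, 43⟩ 2, 0),
  (.pp ⟨⟨[], 3⟩, 0⟩ ⟨⟨[], 7⟩, 6⟩ 3, 0),
  (.pp ⟨⟨[], 3⟩, 0⟩ ⟨⟨[], 8⟩, 24⟩ 2, 0),
  (.pp ⟨⟨[], 3⟩, 0⟩ ⟨⟨[], 9⟩, 3511⟩ 2, 0),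
  (.dp ⟨⟨[], 3⟩, 0⟩, 0),
  (.pp ⟨⟨[], 4⟩, 3⟩ ⟨⟨[], 5⟩, 15⟩ 3, 0),
  (.pp ⟨⟨[], 4⟩, 3⟩ ⟨⟨[], 6⟩, 43⟩ 2, 0),
  (.pp ⟨⟨[], 4⟩, 3⟩ ⟨⟨[], 7⟩, 6⟩ 2, 0),
  (.pp ⟨⟨[], 4⟩, 3⟩ ⟨⟨[], 8⟩, 24⟩ 2, 0),
  (.pp ⟨⟨[], 4⟩, 3⟩ ⟨⟨[], 9⟩, 3511⟩ 2, 0),
  (.dp ⟨⟨[], 4⟩, 3⟩, 0),
  (.pp ⟨⟨[], 5⟩, 15⟩ ⟨⟨[], 6⟩, 43⟩ 3, 0),
  (.pp ⟨⟨[], 5⟩, 15⟩ ⟨⟨[], 7⟩, 6⟩ 2, 0),
  (.pp ⟨⟨[], 5⟩, 15⟩ ⟨⟨[], 8⟩, 24⟩ 2, 0),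
  (.pp ⟨⟨[], 5⟩, 15⟩ ⟨⟨[], 9⟩, 3511⟩ 2, 0),
  (.dp ⟨⟨[], 5⟩, 15⟩, 0),
  (.pp ⟨⟨[], 6⟩, 43⟩ ⟨⟨[], 7⟩, 6⟩ 2, 0),
  (.pp ⟨⟨[], 6⟩, 43⟩ ⟨⟨[], 8⟩, 24⟩ 2, 0),
  (.pp ⟨⟨[], 6⟩, 43⟩ ⟨⟨[], 9⟩, 3511⟩ 3, 0),
  (.dp ⟨⟨[], 6⟩, 43⟩, 0),
  (.pp ⟨⟨[], 7⟩, 6⟩ ⟨⟨[], 8⟩, 24⟩ 3, 0),
  (.pp ⟨⟨[], 7⟩, 6⟩ ⟨⟨[], 9⟩, 3511⟩ 2, 0),
  (.dp ⟨⟨[], 7⟩, 6⟩, 0),
  (.dp ⟨⟨[], 8⟩, 24⟩, 0),
  (.dp ⟨⟨[], 9⟩, 3511⟩, 0),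
  (.dc, 0),
  (.pp ⟨⟨[5, 1], 0⟩, 695⟩ ⟨⟨[1], 0⟩, 695⟩ 1, 0),
  (.pp ⟨⟨[0, 5], 4⟩, 8⟩ ⟨⟨[5], 4⟩, 8⟩ 1, 0),
  (.pp ⟨⟨[0, 6], 5⟩, 27⟩ ⟨⟨[6], 5⟩, 27⟩ 1, 0),
  (.pp ⟨⟨[0, 8], 7⟩, 13⟩ ⟨⟨[8], 7⟩, 13⟩ 1, 0),
  (.cp ⟨⟨[], 3⟩, 0⟩ 2, 0),
  (.cp ⟨⟨[], 4⟩, 3⟩ 2, 0),
  (.cp ⟨⟨[], 7⟩, 6⟩ 2, 0),
  (.cp ⟨⟨[], 5⟩, 15⟩ 2, 0),
  (.cp ⟨⟨[], 8⟩, 24⟩ 2, 0),
  (.cp ⟨⟨[], 6⟩, 43⟩ 2, 0),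
  (.cp ⟨⟨[], 2⟩, 126⟩ 2, 0),
  (.cp ⟨⟨[], 0⟩, 693⟩ 3, 0),
  (.cp ⟨⟨[], 1⟩, 694⟩ 2, 0),
  (.cp ⟨⟨[], 9⟩, 3511⟩ 2, 0),
  (.d4 ⟨⟨[], 0⟩, 693⟩ ⟨⟨[1, 2, 3, 7, 4, 3, 2, 1], 0⟩, 207⟩ ⟨⟨[5, 4, 3, 7, 2, 3, 4, 1, 2, 3, 7, 5, 4, 3, 2, 1], 0⟩, 45⟩ [⟨⟨[], 3⟩, 0⟩, ⟨⟨[], 4⟩, 3⟩, ⟨⟨[], 7⟩, 6⟩], 0)]
def rl24 : List (List ℕ) := [[0, 1, 0, 1, 0, 1], [0, 2, 0, 2], [0, 3, 0, 3], [0, 4, 0, 4], [0, 5, 0, 5], [0, 6, 0, 6], [0, 7, 0, 7], [0, 8, 0, 8], [0, 9, 0, 9], [11, 0, 11, 0], [1, 2, 1, 2, 1, 2], [1, 3, 1, 3], [1, 4, 1, 4], [1, 5, 1, 5], [1, 6, 1, 6], [1, 7, 1, 7], [1, 8, 1, 8], [1, 9, 1, 9], [11, 1, 11, 1], [2, 3, 2, 3, 2, 3], [2, 4, 2, 4], [2, 5, 2, 5], [2, 6, 2, 6], [2, 7, 2, 7], [2, 8, 2, 8], [2, 9, 2, 9], [11, 2, 11, 2], [3, 4, 3,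 4, 3, 4], [3, 5, 3, 5], [3, 6, 3, 6], [3, 7, 3, 7, 3, 7], [3, 8, 3, 8], [3, 9, 3, 9], [11, 3, 11, 3], [4, 5, 4, 5, 4, 5], [4, 6, 4, 6], [4, 7, 4, 7], [4, 8, 4, 8], [4, 9, 4, 9], [11, 4, 11, 4], [5, 6, 5, 6, 5, 6], [5, 7, 5, 7], [5, 8, 5, 8], [5, 9, 5, 9], [11, 5, 11, 5], [6, 7, 6, 7], [6, 8, 6, 8], [6, 9, 6, 9, 6, 9], [11, 6, 11, 6], [7, 8, 7, 8, 7, 8], [7, 9, 7, 9], [11, 7, 11, 7], [11, 8, 11, 8], [11, 9, 11, 9], [11, 10, 11, 10, 11, 10], [5, 1, 0, 1, 5, 1, 0, 1], [0, 5, 4, 5, 0, 5, 4, 5], [0, 6, 5, 6, 0, 6, 5, 6], [0, 8, 7, 8, 0, 8, 7, 8], [10, 3, 10, 3], [10, 4, 10, 4], [10, 7, 10, 7], [10, 5, 10, 5], [10, 8, 10, 8], [10, 6, 10, 6], [10, 2, 10, 2], [10, 0, 10, 0, 10, 0], [10, 1, 10, 1], [10, 9, 10, 9], [5, 4, 3,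 7, 2, 3, 4, 1, 2, 3, 7, 5, 4, 3, 2, 1, 0, 1, 2, 3, 4, 5, 7, 3, 2, 1, 4, 3, 2, 7, 3, 4, 5, 10, 11, 0, 1, 2, 3, 7, 4, 3, 2, 1, 0, 1, 2, 3, 4, 7, 3, 2, 1, 10, 11, 0, 1, 2, 3, 7, 4, 3, 2, 1, 0, 1, 2, 3, 4, 7, 3, 2, 1, 10]]
theorem tc24a : allL (fun r => r.1.ok M23 A23 F23 X24 Q24) rels24 = true := by decide +kernel
theorem tc24b : rels24.map (fun r => cred (r.1.wd 11 10) r.2) = rl24 := by decide +kernel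
theorem tc24p0 : ∀ r ∈ rl24, fixPlane A24 19 M24.n r 0 = true :=
  (forall_append (of_allL tc24p0_0) (of_allL tc24p0_1))
theorem tc24p1 : ∀ r ∈ rl24, fixPlane A24 19 M24.n r 1 = true :=
  (forall_append (of_allL tc24p1_0) (of_allL tc24p1_1))
theorem tc24p2 : ∀ r ∈ rl24, fixPlane A24 19 M24.n r 2 = true :=
  (forall_append (of_allL tc24p2_0) (of_allL tc24p2_1))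
theorem tc24p3 : ∀ r ∈ rl24, fixPlane A24 19 M24.n r 3 = true :=
  (forall_append (of_allL tc24p3_0) (of_allL tc24p3_1))
theorem tc24p4 : ∀ r ∈ rl24, fixPlane A24 19 M24.n r 4 = true :=
  (forall_append (of_allL tc24p4_0) (of_allL tc24p4_1))
theorem tc24p5 : ∀ r ∈ rl24, fixPlane A24 19 M24.n r 5 = true :=
  (forall_append (of_allL tc24p5_0) (of_allL tc24p5_1))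
theorem tc24p6 : ∀ r ∈ rl24, fixPlane A24 19 M24.n r 6 = true :=
  (forall_append (of_allL tc24p6_0) (of_allL tc24p6_1))
theorem tc24p7 : ∀ r ∈ rl24, fixPlane A24 19 M24.n r 7 = true :=
  (forall_append (of_allL tc24p7_0) (of_allL tc24p7_1))
theorem tc24p8 : ∀ r ∈ rl24, fixPlane A24 19 M24.n r 8 = true :=
  (forall_append (of_allL tc24p8_0) (of_allL tc24p8_1))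
theorem tc24p9 : ∀ r ∈ rl24, fixPlane A24 19 M24.n r 9 = true :=
  (forall_append (of_allL tc24p9_0) (of_allL tc24p9_1))
theorem tc24p10 : ∀ r ∈ rl24, fixPlane A24 19 M24.n r 10 = true :=
  (forall_append (of_allL tc24p10_0) (of_allL tc24p10_1))
theorem tc24p11 : ∀ r ∈ rl24, fixPlane A24 19 M24.n r 11 = true :=
  (forall_append (of_allL tc24p11_0) (of_allL tc24p11_1))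
theorem tc24p12 : ∀ r ∈ rl24, fixPlane A24 19 M24.n r 12 = true :=
  (forall_append (of_allL tc24p12_0) (of_allL tc24p12_1))
theorem tc24p13 : ∀ r ∈ rl24, fixPlane A24 19 M24.n r 13 = true :=
  (forall_append (of_allL tc24p13_0) (of_allL tc24p13_1))
theorem tc24p14 : ∀ r ∈ rl24, fixPlane A24 19 M24.n r 14 = true :=
  (forall_append (of_allL tc24p14_0) (of_allL tc24p14_1))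
theorem tc24p15 : ∀ r ∈ rl24, fixPlane A24 19 M24.n r 15 = true :=
  (forall_append (of_allL tc24p15_0) (of_allL tc24p15_1))
theorem tc24p16 : ∀ r ∈ rl24, fixPlane A24 19 M24.n r 16 = true :=
  (forall_append (of_allL tc24p16_0) (of_allL tc24p16_1))
theorem tc24p17 : ∀ r ∈ rl24, fixPlane A24 19 M24.n r 17 = true :=
  (forall_append (of_allL tc24p17_0) (of_allL tc24p17_1))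
theorem tc24p18 : ∀ r ∈ rl24, fixPlane A24 19 M24.n r 18 = true :=
  (forall_append (of_allL tc24p18_0) (of_allL tc24p18_1))
theorem tc24c : ∀ r ∈ rl24, evw M24.π r = 1 := fun r hr => env24.eq_one_of_planes bm24.le fun k hk => by
  interval_cases k
  exacts [tc24p0 r hr, tc24p1 r hr, tc24p2 r hr, tc24p3 r hr, tc24p4 r hr, tc24p5 r hr, tc24p6 r hr, tc24p7 r hr, tc24p8 r hr, tc24p9 r hr, tc24p10 r hr, tc24p11 r hr, tc24p12 r hr, tc24p13 r hr, tc24p14 r hr, tc24p15 r hr, tc24p16 r hr, tc24p17 r hr, tc24p18 r hr]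
theorem tc24d : tcRun A24 0 M23.n (List.map (mkRule 0 rl24) [557058, 532482, 524290, 516098, 507906, 499714, 491522, 483330, 548866, 540674, 434178, 425986, 417794, 393218, 360450, 319490, 270338, 212994, 147458, 442370, 73730, 565363, 57344, 32768, 475136, 466944, 458752, 450564, 16384, 65536, 8192, 49152, 73728, 65538, 57346, 49154, 40962, 32770, 24578, 16386, 8194, 540672, 2, 147456, 139266, 131074, 122882, 114690, 106498, 98306, 90114, 0, 548864, 81922, 442368, 532480, 212992, 204802, 196610, 188418, 180226, 172034, 163842, 81920, 155650, 483328, 270336, 262146, 253954, 237570, 229378, 90112, 155648, 245762, 221186, 98304, 491520, 319488, 311298, 303106, 286722, 163840, 24576, 221184, 294914, 278530, 122880, 499712,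 417792, 409602, 368640, 294912, 188416, 335872, 245760, 401410, 106496, 507904, 360448, 352258, 335874, 172032, 344066, 229376, 278528, 327682, 114688, 524288, 393216, 376834, 368642, 237568, 180224, 40960, 286720, 385026, 327680]) []
  [2, 42, 46, 1, 5, 9, 13, 17, 21, 25, 29, 40, 33, 1, 5, 9, 13, 17, 21, 25, 29, 37, 44, 41, 45, 49, 53, 57, 61, 65, 69, 73, 77, 81, 85, 2, 89, 93, 97, 101, 105, 109, 113, 117, 121, 125, 0, 129, 133, 137, 141, 145, 149, 153, 157, 161, 165, 169, 4, 173, 177, 181, 185, 189, 193, 197, 201, 205, 209, 213, 77, 40, 1, 33, 9, 13, 17, 21, 25, 29, 5, 217, 37, 69, 8, 221, 225, 229, 233, 237, 241, 245, 249, 121, 253, 257, 37, 12, 261, 265, 269, 273, 277, 281, 285, 113, 289, 293, 297, 121, 0, 141,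 153, 129, 133, 137, 145, 149, 157, 161, 165, 169, 21, 25, 16, 301, 305, 309, 313, 317, 321, 325, 329, 333, 337, 341, 285, 28, 345, 349, 353, 357, 361, 365, 369, 125, 373, 377, 381, 285, 20, 385, 389, 393, 397, 401, 405, 93, 409, 413, 417, 421, 425, 4, 181, 209, 173, 177, 185, 193, 197, 189, 201, 213, 205, 233, 12, 261, 265, 269, 273, 281, 285, 113, 277, 293, 289, 297, 24, 429, 433, 437, 441, 445, 449, 425, 453, 457, 461, 465, 16, 305, 309, 313, 317, 337, 321, 325, 301, 329, 333, 341, 20, 389, 393, 397, 409, 401, 413, 405, 385, 93, 421, 417]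
  (finSt A24 M24.L (full M24.n)) (initD M23 M24 10 31673 32304)
  ((List.range 12).map (initK M23 M24 X24 11 10 0 31673 32304 Q24)) = true := by decide +kernel
theorem tc24 : TCOK.{u} M23 M24 X24 11 10 Q24 := fun _ _ _ _ _ _ hCP C =>
  lvl24.tc hCP bm23 C env24 tc24a tc24b tc24c tc24d
end H80
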