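import Cfsg.Agent.H80.F23Md
/-! PS3B, job F23-M: the centraliser of `s`. -/
set_option autoImplicit false
set_option maxRecDepth 100000
namespace H80.F23
open Cfsg Subgroup H42.L3 H56.L3 H39.F22 H39.F23 Matrix
open H28.PS (SL3)
universe u

theorem pr_iff {i : Fin 3} {v : V8} : pr i *ᵥ v = v ↔ ∃ x, v = EE i *ᵥ x :=
  ⟨fun h => ⟨PP i *ᵥ v, by rw [mulVec_mulVec]; exact h.symm⟩, by
    rintro ⟨x, rfl⟩
    rw [pr, mulVec_mulVec, Matrix.mul_assoc, PE, Matrix.mul_one]⟩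

theorem PE_vec (i : Fin 3) (x : Fin 2 → ZMod 3) : PP i *ᵥ (EE i *ᵥ x) = x := by
  rw [mulVec_mulVec, PE, one_mulVec]

theorem bt_E (i j : Fin 3) (x y : Fin 2 → ZMod 3) :
    bt (EE i *ᵥ x) (EE j *ᵥ y) = if i = j then x 0 * y 1 - x 1 * y 0 else 0 := by
  rw [bt, dotProduct_comm, dotProduct_mulVec, ← mulVec_transpose, mulVec_mulVec, mulVec_mulVec,
    Matrix.mul_assoc, form]
  split_ifs
  · simp [dotProduct, mulVec, Fin.sum_univ_two]; ring
  · simp

theorem sg_rr (i : Fin 3) : sg * rr i = rr i * sg := by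
  rw [rr, mul_neg, neg_mul]; exact congrArg _ (sg_rho _ _ _)

theorem comm_sg {A : M8} {u : U} (h : Pm A (rho u)) (k : A * sg = sg * A) : u.2.1 = u.1 := by
  obtain ⟨x, y, w⟩ := u
  have := h.symm.comm k
  rw [sg_rho] at this
  exact (Prod.mk.inj (rho_inj (Or.inl (sg_unit.mul_right_cancel this)))).1.symm

theorem Ac.perm {A B : M8} {f : U → U} (h : Ac A f) (hB : A * B = 1) (hB' : B * A = 1)
    (hs : A * sg = sg * A) (i : Fin 3) : ∃ j, A * rr i = rr j * A := by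
  have uA : IsUnit A := IsUnit.of_mul_eq_one _ hB
  obtain ⟨C, h1, h2⟩ : ∃ C, Pm C (rho (f (us i))) ∧ A * rr i = C * A :=
    (h (us i)).elim (fun e => ⟨_, Or.inr rfl, by rw [rr, mul_neg, e, neg_mul]⟩)
      fun e => ⟨_, Pm.rfl, by rw [rr, mul_neg, e, neg_neg]⟩
  have r2 : ∀ i, rr i * rr i = 1 ∧ rr i ≠ 1 := by decide +kernel
  have e1 : C * sg * A = A * (rr i * sg) := by rw [mul_assoc, ← hs, ← mul_assoc, ← h2, mul_assoc]
  have e2 := comm_sg h1 (uA.mul_right_cancel (by rw [e1, ← sg_rr, ← mul_assoc, hs, mul_assoc, h2, mul_assoc]))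
  have e3 : C * C = 1 := uA.mul_right_cancel (by
    rw [mul_assoc, ← h2, ← mul_assoc, ← h2, mul_assoc, (r2 i).1, mul_one, one_mul])
  have e4 : trace (C * sg) = 1 := by
    rw [← mul_one (C * sg), ← hB, ← mul_assoc, e1, trace_mul_comm, ← mul_assoc, hB', one_mul, tr_rr]
  generalize f (us i) = u at h1 e2
  obtain ⟨x, y, w⟩ := u
  obtain rfl : y = x := e2
  rw [h1.sq, rho_sq] at e3
  obtain rfl : w = .o := by
    have : ∀ y w, sn (y, y, w) (y, y, w) • (1 : M8) = 1 → w = .o := by decide +kernel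
    exact this _ _ e3
  rcases h1 with rfl | rfl
  · rw [(tr_x y).1 e4, show rho (.o, .o, .o) = 1 from rho_zero, one_mul] at h2
    exact absurd (uA.mul_left_cancel (h2.trans (mul_one A).symm)) (r2 i).2
  · obtain ⟨j, hj⟩ := (tr_x y).2 e4
    exact ⟨j, by rw [h2, rr, hj]⟩

/-- a matrix as an element of `SL₂(3)` -/
def mk' (n : M2) : SL3 := if h : n.det = 1 then ⟨n, h⟩ else 1

theorem mk'_val {n : M2} (d : n.det = 1) : (mk' n).1 = n := by
  have : mk' n = ⟨n, d⟩ := dif_pos d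
  rw [this]

theorem four_iff {A : SL3} {n : M2} (h : A.1 = n) : A ^ 4 = 1 ↔ n ^ 4 = 1 := by
  subst h; exact ⟨congrArg Subtype.val, fun h => Subtype.ext h⟩

theorem one_iff {A : SL3} {n : M2} (h : A.1 = n) : A = 1 ↔ n = 1 := by
  subst h; exact ⟨congrArg Subtype.val, fun h => Subtype.ext h⟩

theorem neg_iff {A : SL3} {n : M2} (h : A.1 = n) : A = -1 ↔ n = -1 := by
  subst h; exact ⟨congrArg Subtype.val, fun h => Subtype.ext h⟩

theorem pm_val {A B : SL3} {n : M2} (h : B.1 = n) (k : A * B = B * A ∨ A * B = -(B * A)) :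
    A.1 * n = n * A.1 ∨ A.1 * n = -(n * A.1) := by
  subst h; exact k.imp (congrArg Subtype.val) (congrArg Subtype.val)

variable {G : Type*} [Group G] {z : G} {Q : Subgroup G} {l : G → V8} {μ : G → M8}

/-- the preimage of a plane -/
def QI (X : X8 z Q l μ) (i : Fin 3) : Subgroup G where
  carrier := {a | a ∈ Q ∧ pr i *ᵥ l a = l a}
  one_mem' := ⟨one_mem _, by rw [H80.F23.X.l_one X, mulVec_zero]⟩
  mul_mem' := fun ha hb => ⟨mul_mem ha.1 hb.1, by rw [X.l_mul _ ha.1 _ hb.1, mulVec_add, ha.2, hb.2]⟩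
  inv_mem' := fun ha => ⟨inv_mem ha.1, by rw [H80.F23.X.l_inv X ha.1, mulVec_neg, ha.2]⟩

/-- the data -/
def DD (X : X8 z Q l μ) : D3 G :=
  ⟨z, QI X, fun i a => PP i *ᵥ l a, fun i g => mk' (PP i * (μ g * EE i))⟩

namespace X
variable (X : X8 z Q l μ) {c s g : G} {i : Fin 3}
include X

theorem exists_QI (i : Fin 3) (x : Fin 2 → ZMod 3) : ∃ a ∈ QI X i, l a = EE i *ᵥ x := by
  obtain ⟨a, ha, e⟩ := X.l_surj (EE i *ᵥ x)
  exact ⟨a, ⟨ha, pr_iff.2 ⟨x, e⟩⟩, e⟩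

theorem of_nr (hc : c ∈ Ce z) (h : c ∈ H42.L3.nr (QI X i)) : μ c * EE i = EE i * (PP i * (μ c * EE i)) :=
  ext_iff_mulVec.2 fun x => by
    obtain ⟨a, ha, e⟩ := exists_QI X i x
    have := ((mem_normalizer_iff.1 h a).1 ha).2
    rw [X.act c (ce_nz hc) a ha.1, e, mulVec_mulVec _ (μ c), mulVec_mulVec] at this
    rw [← Matrix.mul_assoc]
    exact this.symm

theorem m_val {n : M2} (hc : c ∈ Ce z) (h : μ c * EE i = EE i * n) : ((DD X).m i c).1 = n := by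
  have := bt_inv X hc (EE i *ᵥ ![1, 0]) (EE i *ᵥ ![0, 1])
  rw [mulVec_mulVec, mulVec_mulVec, h, ← mulVec_mulVec, ← mulVec_mulVec, bt_E, bt_E] at this
  have d : n.det = 1 := by
    simpa [det_fin_two, mulVec, dotProduct, Fin.sum_univ_two, mul_comm] using this
  have e : PP i * (μ c * EE i) = n := by rw [h, ← Matrix.mul_assoc, PE, Matrix.one_mul]
  change (mk' (PP i * (μ c * EE i))).1 = n
  rw [e, mk'_val d]

theorem m_pres (hc : c ∈ Ce z) (h : c ∈ H42.L3.nr (QI X i)) : μ c * EE i = EE i * ((DD X).m i c).1 := by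
  rw [m_val X hc (of_nr X hc h)]; exact of_nr X hc h

theorem pres_of (h : c ∈ (DD X).B) : Pres (μ c) fun i => ((DD X).m i c).1 := fun i =>
  m_pres X h.1.1.1 (by fin_cases i; exacts [h.1.1.2, h.1.2, h.2])

theorem mem_B [Finite G] {n : Fin 3 → M2} (hc : c ∈ Ce z) (h : Pres (μ c) n) : c ∈ (DD X).B := by
  have : ∀ i, c ∈ H42.L3.nr (QI X i) := fun i => mem_normalizer_fintype fun a ha => by
    obtain ⟨x, e⟩ := pr_iff.1 ha.2
    exact ⟨cj_mem X (ce_nz hc) ha.1, pr_iff.2 ⟨n i *ᵥ x, by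
      rw [X.act c (ce_nz hc) a ha.1, e, mulVec_mulVec, h, mulVec_mulVec]⟩⟩
  exact ⟨⟨⟨hc, this 0⟩, this 1⟩, this 2⟩

theorem sd (i : Fin 3) : Sd z (QI X i) ((DD X).l i) ((DD X).m i) := by
  refine ⟨⟨X.zmem, by rw [(X.l_ker z X.zmem).2 (mem_zpowers z), mulVec_zero]⟩, fun a ha => X.cube a ha.1,
    fun a ha b hb => ?_, fun a ha => ?_, fun v => ?_, fun a ha b hb => ?_, fun c hc a ha => ?_,
    fun c hc d hd => Subtype.ext ?_⟩
  · simp only [DD, X.l_mul a ha.1 b hb.1, mulVec_add]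
  · obtain ⟨x, e⟩ := pr_iff.1 ha.2
    simp only [DD, ← X.l_ker a ha.1, e, PE_vec]
    exact ⟨fun h => by rw [h, mulVec_zero], fun h => by rw [← PE_vec i x, h, mulVec_zero]⟩
  · obtain ⟨a, ha, e⟩ := exists_QI X i v
    exact ⟨a, ha, by simp only [DD, e, PE_vec]⟩
  · obtain ⟨x, e⟩ := pr_iff.1 ha.2
    obtain ⟨y, e'⟩ := pr_iff.1 hb.2
    simpa only [DD, e, e', PE_vec, bt_E, if_true] using X.comm a ha.1 b hb.1
  · obtain ⟨x, e⟩ := pr_iff.1 ha.2
    have := m_pres X hc.1 hc.2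
    generalize ((DD X).m i c).1 = n at this
    simp only [DD, X.act c (ce_nz hc.1) a ha.1, e, PE_vec]
    rw [mulVec_mulVec _ (μ c), this, ← mulVec_mulVec, PE_vec]
  · refine m_val X (mul_mem hc.1 hd.1) ?_
    rw [mul X hc.1 hd.1, Matrix.mul_assoc, m_pres X hd.1 hd.2, ← Matrix.mul_assoc, m_pres X hc.1 hc.2,
      Matrix.mul_assoc]
    rfl

theorem cj_QI {j : Fin 3} (hg : g ∈ Nz z) (hs : μ g * sg = sg * μ g) (h : μ g * rr i = rr j * μ g) :
    H98.cj g (QI X i) = QI X j := by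
  have e : μ g * pr i = pr j * μ g := by
    have e1 : μ g * (1 + sg) = (1 + sg) * μ g := by rw [mul_add, add_mul, hs, mul_one, one_mul]
    have e2 : μ g * (1 - rr i) = (1 - rr j) * μ g := by rw [mul_sub, sub_mul, h, mul_one, one_mul]
    rw [pr_eq, pr_eq, ← mul_assoc, e1, mul_assoc, e2, mul_assoc]
  ext a
  rw [H98.mem_cj]
  have k : g⁻¹ * a * g = g⁻¹ * a * g⁻¹⁻¹ := by rw [inv_inv]
  have key : a ∈ Q → (pr i *ᵥ l (g⁻¹ * a * g) = l (g⁻¹ * a * g) ↔ pr j *ᵥ l a = l a) := fun ha => by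
    rw [k, X.act _ (inv_mem hg) a ha, ← (unit_inj (unit X hg)).eq_iff]
    simp only [mulVec_mulVec]
    rw [← mul_assoc, e, mul_assoc, mu_inv X hg, mul_one, one_mulVec]
  constructor
  · intro h
    have ha : a ∈ Q := by simpa [mul_assoc] using cj_mem X hg h.1
    exact ⟨ha, (key ha).1 h.2⟩
  · exact fun h => ⟨k ▸ cj_mem X (inv_mem hg) h.1, (key h.1).2 h.2⟩

theorem eq_QQ (hs : s ∈ Ce z) (s2 : s * s = 1) (hμ : μ s = sg) : Q ⊓ Ce s = (DD X).QQ := by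
  have le : ∀ i, QI X i ≤ Q ⊓ Ce s := fun i a ha => ⟨ha.1, (comm_s X hs s2 ha.1).1 (by
    obtain ⟨x, e⟩ := pr_iff.1 ha.2
    rw [e, hμ, mulVec_mulVec, pres_sg i, Pi.one_apply, Matrix.mul_one])⟩
  refine le_antisymm (fun a ha => ?_) (sup_le (sup_le (le 0) (le 1)) (le 2))
  have h := (comm_s X hs s2 ha.1).2 ha.2
  choose b h1 h2 using fun i => exists_QI X i (PP i *ᵥ l a)
  have m : b 0 * b 1 * b 2 ∈ (DD X).QQ :=
    mul_mem (mem_sup_left (mul_mem (mem_sup_left (h1 0)) (mem_sup_right (h1 1)))) (mem_sup_right (h1 2))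
  have q := fun i => (h1 i).1
  have := (l_eq X ha.1 (mul_mem (mul_mem (q 0) (q 1)) (q 2))).2 (by
    rw [X.l_mul _ (mul_mem (q 0) (q 1)) _ (q 2), X.l_mul _ (q 0) _ (q 1), h2, h2, h2, mulVec_mulVec,
      mulVec_mulVec, mulVec_mulVec, ← add_mulVec, ← add_mulVec]
    refine Eq.trans ?_ (congrArg (· *ᵥ l a) pr_sum).symm
    rw [neg_mulVec, add_mulVec, ← hμ, h, one_mulVec]
    funext i
    simp only [Pi.neg_apply, Pi.add_apply]
    generalize l a i = x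
    revert x; decide)
  rw [← inv_mul_cancel_right a (b 0 * b 1 * b 2)]
  exact mul_mem (mem_sup_left (mem_sup_left (zpowers_le.2 (sd X 0).zmem this))) m

end X

namespace F
variable (F : FR23 z Q l μ) {c s g : G} {A : M8}
include F

theorem ker (hc : c ∈ Ce z) (h : Pres (μ c) 1) : μ c = 1 ∨ μ c * sg = 1 := by
  obtain ⟨τ, h1, h2⟩ := tau F hc
  rcases V4 τ h1 (h2.fix h _ _) (h2.fix h _ _) with rfl | rfl
  · obtain ⟨u, hu⟩ := h2.kerl' (X.unit' F.toX8 hc) isUnit_one ac_one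
    exact Or.inl (triv (mul_one (rho u) ▸ hu) h)
  · obtain ⟨u, hu⟩ := h2.kerl' (X.unit' F.toX8 hc) sg_unit ac_sg
    have := hu.right sg
    rw [mul_assoc, sg_sq, mul_one] at this
    exact Or.inr (triv this (by simpa using h.mul pres_sg))

theorem perm (hg : g ∈ Nz z) (hs : μ g * sg = sg * μ g) :
    ∃ σ : Equiv.Perm (Fin 3), ∀ i, μ g * rr i = rr (σ i) * μ g := by
  obtain ⟨f, hf⟩ := exists_ac F hg
  choose σ hσ using hf.perm (X.mu_inv F.toX8 hg) (X.mu_inv' F.toX8 hg) hs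
  exact ⟨Equiv.ofBijective σ (Finite.injective_iff_bijective.1 fun i j e => us_inj (rho_inj (Or.inl
    (neg_injective ((X.unit F.toX8 hg).mul_left_cancel ((hσ i).trans (e ▸ (hσ j).symm))))))), hσ⟩

variable (hs : s ∈ Ce z) (s2 : s * s = 1) (hμ : μ s = sg)
include hs s2 hμ

theorem lift (h : In z μ A) (k : A * sg = sg * A) : ∃ c ∈ Ce z, c ∈ Ce s ∧ μ c = A := by
  obtain ⟨c, hc, rfl⟩ := h
  exact X.cen_lift F.toX8 hs s2 hc (hμ ▸ k)

omit s2 in
theorem comm (hg : g ∈ Nz z) (h : g ∈ Ce s) : μ g * sg = sg * μ g := by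
  rw [← hμ, ← F.μ_mul g hg s (ce_nz hs), mem_Ce.1 h, F.μ_mul s (ce_nz hs) g hg]

theorem liftP [Finite G] {n : Fin 3 → M2} (h : In z μ A) (k : A * sg = sg * A) (hn : Pres A n) :
    ∃ c ∈ (DD F.toX8).B, c ∈ Ce s ∧ ∀ i, ((DD F.toX8).m i c).1 = n i := by
  obtain ⟨c, hc, h1, rfl⟩ := lift F hs s2 hμ h k
  exact ⟨c, X.mem_B F.toX8 hc hn, h1, fun i => X.m_val F.toX8 hc (hn i)⟩

theorem card [Finite G] :
    Set.ncard {A : Fin 3 → SL3 | ∃ p ∈ Ce s, (DD F.toX8).P p ∧ ∀ i, (DD F.toX8).m i p = A i} = 128 := by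
  have cs : ∀ (A B : M8) (a : Bool), A * sg = sg * A → B * sg = sg * B → cond a A B * sg = sg * cond a A B :=
    fun A B a h k => by cases a; exacts [k, h]
  have ci : ∀ (A B : M8) (a : Bool), In z μ A → In z μ B → In z μ (cond a A B) :=
    fun A B a h k => by cases a; exacts [k, h]
  rw [← Set.ncard_image_of_injective (f := fun (A : Fin 3 → SL3) (i : Fin 3) => ((A i).1 : M2)) _
    fun A B e => funext fun i => Subtype.ext (congrFun e i),
    show 128 = (Set.range FN).ncard by rw [Set.ncard_range_of_injective FN_inj]; simp; rfl]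
  refine congrArg Set.ncard (Set.ext fun n => ⟨?_, ?_⟩)
  · rintro ⟨A, ⟨p, hp, ⟨hB, h4⟩, e⟩, rfl⟩
    have hc : p ∈ Ce z := hB.1.1.1
    have pp := X.pres_of F.toX8 hB
    have up := X.unit' F.toX8 hc
    have k := comm F hs hμ (ce_nz hc) hp
    obtain ⟨τ, h1, h2⟩ := tau F hc
    have k8 : μ p * μ p * (μ p * μ p) * (μ p * μ p * (μ p * μ p)) = 1 := by
      have e4 : μ p * μ p * (μ p * μ p) = μ (p ^ 4) := by
        rw [X.pow F.toX8 hc]; simp only [pow_succ, pow_zero, one_mul, mul_assoc]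
      rw [e4]
      rcases ker F (pow_mem hc 4) (by
        rw [X.pow F.toX8 hc]
        convert pp.pow 4 using 1
        exact funext fun i => ((four_iff rfl).1 (h4 i)).symm) with e | e
      · rw [e, mul_one]
      · rw [sg_unit.mul_right_cancel (e.trans sg_sq.symm), sg_sq]
    have a2 := h2.mulT h2
    obtain ⟨a, b, c, rfl⟩ := V5 τ h1 ((h2.mulT ac_sg).tau_eq (up.mul sg_unit) (k ▸ ac_sg.mulT h2))
      ((k8 ▸ (a2.mulT a2).mulT (a2.mulT a2)).tau_eq isUnit_one ac_one)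
    have ca : ∀ {A τ} (a : Bool), IsUnit A → Ac A (app τ) →
        IsUnit (cond a A 1) ∧ Ac (cond a A 1) (app (cond a τ oneT)) :=
      fun a h k => by cases a; exacts [⟨isUnit_one, ac_one⟩, ⟨h, k⟩]
    obtain ⟨u1, a1⟩ := ca a (IsUnit.of_mul_eq_one _ ((mul_assoc _ _ _).symm.trans g12.1)) ac_g1
    obtain ⟨u2, a2⟩ := ca b (IsUnit.of_mul_eq_one _ ((mul_assoc _ _ _).symm.trans g12.2.1)) ac_g2
    obtain ⟨u3, a3⟩ := ca c sg_unit ac_sg
    obtain ⟨⟨x, y, w⟩, hu⟩ := h2.kerl up ((u1.mul u2).mul u3) ((a1.mulT a2).mulT a3)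
    have c3 : Commute (cond a g1 1 * cond b g2 1 * cond c sg 1) sg :=
      (Commute.mul_left (cs _ _ a g12.2.2.1 (by simp)) (cs _ _ b g12.2.2.2.1 (by simp))).mul_left
        (cs _ _ c rfl (by simp))
    obtain rfl : y = x := comm_sg (u := (x, y, w)) Pm.rfl (((u1.mul u2).mul u3).mul_left_cancel (by
      have := hu.symm.comm k
      generalize cond a g1 1 * cond b g2 1 * cond c sg 1 = B at this c3
      rw [← mul_assoc, this, ← mul_assoc, ← c3.eq, mul_assoc]))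
    have fin : ∀ e : Bool, μ p = cond a g1 1 * cond b g2 1 * (cond c sg 1 * cond e (-rho (y, y, w))
        (rho (y, y, w))) → (fun i => (A i).1) ∈ Set.range FN := fun d h => ⟨(a, b, d, y, w), funext fun i => by
      have : μ p * EE i = FW (a, b, d, y, w) * EE i := by
        have r : ∀ B, B * sg = sg * B → cond c sg 1 * B * EE i = B * EE i := fun B hB => by
          cases c
          · simp
          · rw [cond_true, ← hB, Matrix.mul_assoc, pres_sg i, Pi.one_apply, Matrix.mul_one]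
        rw [h, Matrix.mul_assoc, r _ (cs _ _ d (by rw [neg_mul, mul_neg, sg_rho]) (sg_rho _ _ _).symm), FW,
          Matrix.mul_assoc (_ * _)]
      rw [← e, ← (pres_FW _).eq, ← this, pp.eq]⟩
    rcases hu with hu | hu
    exacts [fin false (by rw [hu, mul_assoc _ (cond c sg 1)]; rfl),
      fin true (by rw [hu, cond_true, mul_neg, mul_neg, mul_assoc _ (cond c sg 1)])]
  · rintro ⟨⟨a, b, d, x, w⟩, rfl⟩
    obtain ⟨c, h1, h2, h3⟩ := liftP F hs s2 hμ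
      (in_mul F (in_mul F (ci _ _ a (in_g1 F) (in_one F)) (ci _ _ b (in_g2 F) (in_one F)))
        (ci _ _ d (in_rho F (Or.inr rfl)) (in_rho F Pm.rfl)))
      ((Commute.mul_left (cs _ _ a g12.2.2.1 (by simp)) (cs _ _ b g12.2.2.2.1 (by simp))).mul_left
        (cs _ _ d (by rw [neg_mul, mul_neg, sg_rho]) (sg_rho _ _ _).symm)) (pres_FW (a, b, d, x, w))
    exact ⟨_, ⟨c, h2, ⟨h1, fun i => (four_iff (h3 i)).2 (FN_four _ i)⟩, fun _ => rfl⟩, funext h3⟩

theorem hs23 [Finite G] : HS (DD F.toX8) Q s := by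
  have X := F.toX8
  refine ⟨hs, s2, fun e => sg_ne (by rw [← hμ, e, H80.F23.X.mu_one X]), H80.F23.X.sd _,
    fun i j hij a ha b hb => ?_, H80.F23.X.eq_QQ _ hs s2 hμ, fun c hc h => ?_, fun g hg => ?_, fun i => ?_,
    fun g hg h => ⟨hg.1, fun i => ?_⟩, card F hs s2 hμ, fun g hg h => ?_, ?_, ?_⟩
  · obtain ⟨x, e⟩ := pr_iff.1 ha.2
    obtain ⟨y, e'⟩ := pr_iff.1 hb.2
    simpa [e, e', bt_E, hij.symm] using X.comm b hb.1 a ha.1
  · have hz : c ∈ Ce z := hc.1.1.1.1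
    refine (ker F hz ?_).imp (X.ker c hz) fun e => X.ker _ (mul_mem hz hs) (by
      rw [H80.F23.X.mul X hz hs, hμ, e])
    convert H80.F23.X.pres_of _ hc.1 using 1
    exact funext fun i => ((one_iff rfl).1 (h i)).symm
  · have k := comm F hs hμ hg.1 hg.2
    exact (perm F hg.1 k).imp fun σ h i => H80.F23.X.cj_QI X hg.1 k (h i)
  · have e : ∀ i j, (-nr (us i).1 .o) j = if j = i then -1 else 1 := by decide +kernel
    have e' : ∀ i, us i = ((us i).1, (us i).1, .o) := by decide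
    obtain ⟨c, h1, h2, h3⟩ := liftP F hs s2 hμ (A := rr i) (in_rho F (Or.inr rfl)) (sg_rr i).symm
      (by rw [rr, e' i]; exact (pres_rho _ _).neg)
    exact ⟨c, ⟨h1, h2⟩, (neg_iff (h3 i)).2 (by rw [e, if_pos rfl]),
      fun j hj => (one_iff (h3 j)).2 (by rw [e, if_neg hj])⟩
  · have key : ∀ w, ((DD F.toX8).m i g).1 * q w = q w * ((DD F.toX8).m i g).1 ∨
        ((DD F.toX8).m i g).1 * q w = -(q w * ((DD F.toX8).m i g).1) := fun w => by
      have e : ∀ w i, nr .o w i = q w ∧ q w ^ 4 = 1 := by decide +kernel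
      obtain ⟨c, h1, h2, h3⟩ := liftP F hs s2 hμ (A := rho (.o, .o, w)) (in_rho F (u := (.o, .o, w)) Pm.rfl)
        (sg_rho _ _ _).symm (pres_rho .o w)
      exact pm_val ((h3 i).trans (e w i).1)
        (h c h2 ⟨h1, fun j => (four_iff ((h3 j).trans (e w j).1)).2 (e w j).2⟩ i)
    have : ∀ n : M2, n.det = 1 → (∀ w, n * q w = q w * n ∨ n * q w = -(q w * n)) → n ^ 4 = 1 := by
      simp only [det_fin_two]; decide +kernel
    exact (four_iff rfl).2 (this _ ((DD F.toX8).m i g).2 key)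
  · have k := comm F hs hμ (ce_nz hg.1) hg.2
    obtain ⟨σ, hσ⟩ := perm F (ce_nz hg.1) k
    have q := fun i => H80.F23.X.cj_QI X (ce_nz hg.1) k (hσ i)
    obtain ⟨f, hf⟩ := exists_ac F (ce_nz hg.1)
    obtain ⟨w, hw⟩ := cz' F hg.1
    have ug := H80.F23.X.unit' X hg.1
    have f1 : ∀ i, f (us i) = us (σ i) := fun i => rho_inj (Pm.cancel ug ((hf _).symm.trans
      (Or.inl (neg_injective (by rw [← mul_neg, ← neg_mul]; exact hσ i)))))
    have s1 : ∀ i, σ (i + 1) = σ i + 1 := fun i => us_inj (by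
      rw [← f1, ← us_om, hf.map_om ug hw, f1, us_om])
    have s0 : σ 0 = 0 := by
      obtain ⟨a, ha, e⟩ := H80.F23.X.exists_QI X 0 ![1, 0]
      exact pr_test _ _ (e ▸ (((q 0).symm.trans h).ge ha).2)
    have s3 : ∀ i, σ i = i := fun i => by
      have a1 : σ 1 = 1 := (s1 0).trans (by rw [s0]; rfl)
      fin_cases i
      exacts [s0, a1, (s1 1).trans (by rw [a1]; rfl)]
    have n : ∀ i, g ∈ H42.L3.nr (QI X i) := fun i => H98.cj_eq_self_iff.1 ((q i).trans (by rw [s3]))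
    exact ⟨⟨⟨hg.1, n 0⟩, n 1⟩, n 2⟩
  · obtain ⟨a, a1, a2, a3⟩ := lift F hs s2 hμ (in_g1 F) g12.2.2.1
    obtain ⟨b, b1, b2, b3⟩ := lift F hs s2 hμ (in_g2 F) g12.2.2.2.1
    have m : a * b * a⁻¹ * b⁻¹ ∈ ⁅Ce s, Ce s⁆ := commutator_mem_commutator a2 b2
    have m1 : a * b * a⁻¹ * b⁻¹ ∈ Ce z := mul_mem (mul_mem (mul_mem a1 b1) (inv_mem a1)) (inv_mem b1)
    have m2 : a * b * a⁻¹ * b⁻¹ ∈ Ce s := mul_mem (mul_mem (mul_mem a2 b2) (inv_mem a2)) (inv_mem b2)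
    have e : μ (a * b * a⁻¹ * b⁻¹) = μ s := (H80.F23.X.unit' X (mul_mem b1 a1)).mul_right_cancel (by
      rw [← H80.F23.X.mul X m1 (mul_mem b1 a1), show a * b * a⁻¹ * b⁻¹ * (b * a) = a * b by group,
        H80.F23.X.mul X a1 b1, H80.F23.X.mul X b1 a1, a3, b3, hμ, g12.2.2.2.2])
    generalize a * b * a⁻¹ * b⁻¹ = x at m m1 m2 e
    have c3 := X.cube _ ((H80.F23.X.eq_iff X m1 hs).2 e)
    rw [(Commute.inv_right (mem_Ce.1 m2)).mul_pow, inv_pow, mul_inv_eq_one, pow_three s, s2, mul_one] at c3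
    exact c3 ▸ pow_mem m 3
  · obtain ⟨g, hg, e⟩ := in_rho F (u := (.a, .o, .o)) Pm.rfl
    have k : rho (.a, .o, .o) * sg = rr 0 * sg * rho (.a, .o, .o) ∧ rr 0 * sg ≠ sg ∧
        rr 0 * sg * sg = sg * (rr 0 * sg) ∧ rr 0 * sg * (rr 0 * sg) = 1 := by decide +kernel
    have m := mul_mem (mul_mem hg hs) (inv_mem hg)
    have e1 : μ (g * s * g⁻¹) = rr 0 * sg := (rho_unit _).mul_right_cancel (by
      rw [← k.1, ← e, H80.F23.X.cj_mul X (ce_nz hg) (ce_nz hs), hμ])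
    obtain ⟨c, c1, c2, c3⟩ := lift F hs s2 hμ ⟨_, m, e1⟩ k.2.2.1
    obtain ⟨k1, k2⟩ := H80.F23.X.inv_lift X c1 (by rw [c3, k.2.2.2])
    obtain ⟨q, hq, k3⟩ := H80.F23.X.conj_of X m (pow_mem c1 3)
      (by rw [conj_mul, s2, mul_one, mul_inv_cancel]) k1 (by rw [k2, c3, e1])
    have e2 : q * g * s * (q * g)⁻¹ = c ^ 3 := by rw [← k3]; group
    exact ⟨q * g, e2 ▸ pow_mem c2 3, fun h => k.2.1 (by rw [← c3, ← k2, ← e2, h, hμ])⟩

end F

/-- **F23-M** -/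
theorem jobM : JobM.{u} := by
  intro G _ _ z Q l μ F
  obtain ⟨c, hc, e⟩ := H80.F23.F.in_sg F
  obtain ⟨k1, k2⟩ := X.inv_lift F.toX8 hc (by rw [e, sg_sq])
  exact ⟨c ^ 3, DD F.toX8, rfl, H80.F23.F.gf23 F (pow_mem hc 3) k1 (k2.trans e),
    H80.F23.F.hs23 F (pow_mem hc 3) k1 (k2.trans e)⟩

end H80.F23
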