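import Cfsg.Agent.H80.F22Fa
import Cfsg.Agent.H38.FiCen
import Cfsg.Agent.H39.F22Spec
/-! PS3B, job F22-F: the Fischer space of the conjugates of `r 0`. -/
set_option autoImplicit false
namespace H80.F22
open Cfsg H71 H75 H80 H38 H6 Subgroup H39.F22 H42.L3 H56.L3
universe u

section
variable {G Γ : Type*} [Group G] [Group Γ] {d : G}

theorem OO_le (d : G) : OO d ≤ Ce d := (closure_le _).2 fun _ h => h.1

theorem OO_conj {g x : G} (hg : Commute g d) (hx : x ∈ OO d) : g * x * g⁻¹ ∈ OO d := by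
  have := mem_map_of_mem (H38.cj g) hx
  rw [OO, MonoidHom.map_closure] at this
  refine closure_mono ?_ this
  rintro _ ⟨y, hy, rfl⟩
  exact ⟨mem_cent.2 ((hg.mul_left (mem_cent.1 hy.1)).mul_left hg.inv_left),
    by rw [← map_pow, hy.2, map_one]⟩

/-- the image of `OO d` -/
abbrev UU (p : Ce d →* Γ) : Subgroup Γ := ((OO d).subgroupOf (Ce d)).map p

/-- `p` on `OO d` -/
def fo (p : Ce d →* Γ) : OO d →* Γ := p.comp (inclusion (OO_le d))

theorem mem_UU {p : Ce d →* Γ} {γ : Γ} : γ ∈ UU p ↔ ∃ g, fo p g = γ :=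
  ⟨fun ⟨g, hg, e⟩ => ⟨⟨g, hg⟩, e⟩, fun ⟨g, e⟩ => ⟨inclusion (OO_le d) g, g.2, e⟩⟩

/-- `s` maps to a transvection -/
def Tv (p : Ce d →* Γ) (s : Ce d) : Prop :=
  (s : G) ∈ OO d ∧ orderOf (p s) = 2 ∧ 27 ∣ Nat.card ↥(UU p ⊓ Ce (p s))

/-- the hypotheses on the centraliser of `d` -/
structure Hy (d : G) (p : Ce d →* Γ) : Prop where
  dd : d * d = 1
  d1 : d ≠ 1
  der : d ∈ ⁅OO d, OO d⁆
  kl : KL d p
  uf : UF (UU p)

theorem card_Ce {U : Subgroup Γ} (hU : U.Normal) (g y : Γ) :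
    Nat.card ↥(U ⊓ Ce (g * y * g⁻¹)) = Nat.card ↥(U ⊓ Ce y) := by
  rw [← H98.card_cj g (U ⊓ Ce y)]
  congr 2
  ext c
  rw [H98.mem_cj, mem_inf, mem_inf, mem_cent, mem_cent, hU.mem_comm_iff, ← mul_assoc, mul_inv_cancel,
    one_mul]
  exact and_congr_right fun _ => ⟨fun h => (commute_conj_iff'.1 h.symm).symm,
    fun h => (commute_conj_iff'.2 h.symm).symm⟩

namespace Hy
variable {p : Ce d →* Γ} (H : Hy d p)
include H

theorem dO : d ∈ OO d := (commutator_le.2 fun _ ha _ hb =>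
  mul_mem (mul_mem (mul_mem ha hb) (inv_mem ha)) (inv_mem hb) : ⁅OO d, OO d⁆ ≤ OO d) H.der

theorem E : CExt p ⟨d, mem_cent.2 (Commute.refl d)⟩ :=
  ⟨H.kl.1, fun g => (H.kl.2.1 g).trans
    ⟨fun h => h.imp Subtype.ext Subtype.ext, fun h => h.imp (congrArg Subtype.val) (congrArg Subtype.val)⟩,
    fun g => Subtype.ext (mem_cent.1 g.2), fun h => H.d1 (congrArg Subtype.val h)⟩

theorem eq_or {a b : Ce d} (h : p a = p b) : (a : G) = b ∨ d * a = b :=
  (H.E.eq_or h).imp (congrArg Subtype.val) fun e => by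
    rw [e, coe_mul, ← mul_assoc, ← (mem_cent.1 b.2).eq, mul_assoc, H.dd, mul_one]

theorem normal : (UU p).Normal :=
  Normal.map (H := (OO d).subgroupOf (Ce d)) ⟨fun _ hx g => OO_conj (mem_cent.1 g.2) hx⟩ p H.kl.1

theorem mem_O {a : Ce d} (h : p a ∈ UU p) : (a : G) ∈ OO d := by
  obtain ⟨b, hb, e⟩ := h
  rcases H.eq_or e with k | k <;> rw [← k]
  exacts [hb, mul_mem H.dO hb]

theorem tv_conj {s : Ce d} (h : Tv p s) (k : Ce d) : Tv p (k * s * k⁻¹) := by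
  refine ⟨OO_conj (mem_cent.1 k.2) h.1, ?_⟩
  rw [map_mul, map_mul, map_inv, card_Ce H.normal]
  exact ⟨(orderOf_injective (H38.cj (p k)) (MulAut.conj _).injective _).trans h.2.1, h.2.2⟩

theorem cen {z : G} (h1 : Commute z d) (h2 : ∀ y ∈ OO d, Commute z y) : z = 1 ∨ z = d := by
  refine (H.kl.2.1 ⟨z, mem_cent.2 h1⟩).1 (mem_bot.1 (H.kl.2.2.2 ▸ ?_))
  rintro _ ⟨y, hy, rfl⟩
  rw [← map_mul, ← map_mul]
  exact congrArg p (Subtype.ext (h2 y hy).symm)

theorem exists_cv : Nat.card (UU p) = ord21 ∧ ∃ X θ, Cv M21 (⟨d, H.dO⟩ : OO d) X θ := by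
  obtain ⟨F, _, _, hF, ⟨e⟩⟩ := H.kl.2.2.1
  obtain ⟨T, Θ, I, -⟩ := exists_isFi21 hF e
  let π : OO d →* UU p := (fo p).codRestrict _ fun g => mem_UU.2 ⟨g, rfl⟩
  have E : CExt π ⟨d, H.dO⟩ := ⟨fun u => (mem_UU.1 u.2).imp fun g h => Subtype.ext h,
    fun g => Subtype.ext_iff.trans ((H.kl.2.1 (inclusion (OO_le d) g)).trans
      ⟨fun h => h.imp Subtype.ext Subtype.ext,
        fun h => h.imp (congrArg Subtype.val) (congrArg Subtype.val)⟩),
    fun g => Subtype.ext (mem_cent.1 (OO_le d g.2)), fun h => H.d1 (congrArg Subtype.val h)⟩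
  have pU : commutator (UU p) = ⊤ := by
    have := perfect_of_odd wf21 I.real (line21 I.real).1.2.1 (by simp)
      (I.eq_one_of_comm fun y hy => ((line21 I.real).2 y hy).symm)
    rw [I.tt.2.2] at this
    have k := map_subtype_commutator (⊤ : Subgroup (UU p))
    rw [this.commutator_eq_top, ← MonoidHom.range_eq_map, range_subtype] at k
    exact k.symm
  have dc : (⟨d, H.dO⟩ : OO d) ∈ commutator (OO d) := by
    have := H.der
    rw [← map_subtype_commutator] at this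
    obtain ⟨x, hx, e⟩ := this
    rwa [← Subtype.ext (a2 := ⟨d, H.dO⟩) e]
  have hp : Group.IsPerfect (OO d) := ⟨eq_top_iff.2 fun g _ => by
    have : π g ∈ (commutator (OO d)).map π := by
      rw [map_commutator_eq, MonoidHom.range_eq_top.2 E.surj, ← commutator_def, pU]; trivial
    obtain ⟨c, hc, e⟩ := this
    rcases E.eq_or e.symm with rfl | rfl
    exacts [hc, mul_mem hc dc]⟩
  obtain ⟨X, θ, C, -⟩ := E.cv21 I hp
  exact ⟨I.card, X, θ, C⟩

variable {X : Set (OO d)} {θ : ℕ → OO d} (C : Cv M21 (⟨d, H.dO⟩ : OO d) X θ)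
include C

theorem tv_of_mem {x : OO d} (hx : x ∈ X) : Tv p (inclusion (OO_le d) x) := by
  have cm : ∀ g : OO d, Commute g ⟨d, H.dO⟩ := fun g => Subtype.ext (mem_cent.1 (OO_le d g.2))
  refine ⟨x.2, orderOf_eq_prime (by rw [← map_pow, ← map_pow, pow_two, tt_sq C.tt hx, map_one, map_one])
    fun e => ?_, ?_⟩
  · rcases (H.kl.2.1 _).1 e with k | k
    exacts [tt_ne_one C.tt hx (Subtype.ext k), C.dX (by rwa [← Subtype.ext (a2 := ⟨d, H.dO⟩) k])]
  have inj : Set.InjOn (fo p) X := fun a ha b hb e => by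
    by_contra n
    have k : (⟨d, H.dO⟩ : OO d) * a = b := Subtype.ext ((H.eq_or e).resolve_left fun k => n (Subtype.ext k))
    obtain ⟨v, -, c⟩ := noRel21 C.tt ⟨θ, C.R⟩ [a, b] (cl_two.2 ⟨ha, hb, Ne.symm n,
      k ▸ (cm a).mul_right (Commute.refl a)⟩) (by simp) (by simp)
    rw [← k, List.prod_cons, List.prod_singleton, (cm a).left_comm, tt_sq C.tt ha, mul_one] at c
    exact c (cm v)
  have := card_orbit (UU p) (fo p x) (X := fo p '' X) fun y => ⟨by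
      rintro ⟨y, hy, rfl⟩
      obtain ⟨k, -, rfl⟩ := C.R.exists_conj wf21 hx hy
      exact ⟨_, mem_UU.2 ⟨k, rfl⟩, by rw [map_mul, map_mul, map_inv]⟩, by
      rintro ⟨h, hh, rfl⟩
      obtain ⟨k, rfl⟩ := mem_UU.1 hh
      exact ⟨_, C.cl wf21 (cm k) hx, by rw [map_mul, map_mul, map_inv]⟩⟩
  rw [H.exists_cv.1, inj.ncard_image, C.R.ncard, show M21.n = 693 from rfl, ord21] at this
  exact ⟨491520, by change Nat.card ↥(UU p ⊓ centralizer {fo p x}) = _; omega⟩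

theorem mem_of_tv {s : Ce d} (h : Tv p s) : (s : G) ∈ (↑) '' X ∨ d * s ∈ (↑) '' X := by
  have hx := C.R.mem 0 (by decide)
  have t := H.tv_of_mem C hx
  obtain ⟨g, hg, e⟩ := H.uf.u2 _ ⟨_, t.1, rfl⟩ _ ⟨s, h.1, rfl⟩ t.2.1 h.2.1 t.2.2 h.2.2
  obtain ⟨k, rfl⟩ := mem_UU.1 hg
  have m := C.cl wf21 (g := k) (Subtype.ext (mem_cent.1 (OO_le d k.2))) hx
  have e' : p s = p (inclusion (OO_le d) (k * θ 0 * k⁻¹)) := by
    rw [← e, map_mul, map_mul, map_mul, map_mul, map_inv, map_inv]; rfl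
  exact (H.eq_or e').imp (fun k => ⟨_, m, k.symm⟩) fun k => ⟨_, m, k.symm⟩

omit H C in
theorem cl_up {l : List (OO d)} (h : CL X l) : CL ((↑) '' X : Set G) (l.map (OO d).subtype) :=
  h.map _ (subtype_injective _).injOn fun a ha => ⟨a, h.2.1 a ha, rfl⟩

omit H C in
theorem cl_down {l : List G} (h : CL ((↑) '' X : Set G) l) :
    ∃ l', CL X l' ∧ l'.map (OO d).subtype = l := by
  obtain ⟨l', h1, rfl⟩ := exists_map_eq (f := (OO d).subtype) (P := (· ∈ X)) h.2.1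
  exact ⟨l', ⟨List.Nodup.of_map _ h.1, h1, fun a ha b hb => Subtype.ext
    (h.2.2 _ (List.mem_map_of_mem ha) _ (List.mem_map_of_mem hb))⟩, rfl⟩

theorem pre : Pre d (OO d) ((↑) '' X) := by
  refine ⟨⟨_, C.R.map wf21 (OO d).subtype (subtype_injective _).injOn⟩, ⟨?_, ?_⟩, H.dd, H.d1,
    fun ⟨x, hx, e⟩ => C.dX (by rwa [← Subtype.ext (a2 := ⟨d, H.dO⟩) e]), ?_, H.dO,
    fun g hg => mem_cent.1 (OO_le d hg), fun t ht e => ?_, ?_⟩
  · rintro _ ⟨x, hx, rfl⟩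
    rw [orderOf_coe, C.tt.1 x hx]
  · rintro _ ⟨x, hx, rfl⟩ _ ⟨y, hy, rfl⟩
    exact (C.tt.2 x hx y hy).imp (congrArg Subtype.val) (congrArg Subtype.val)
  · refine ((OO d).subtype.map_closure X).symm.trans ?_
    rw [C.gen]
    exact le_antisymm (map_subtype_le _) fun g hg =>
      ⟨⟨g, hg⟩, mem_cent.2 (Subtype.ext (mem_cent.1 (OO_le d hg))), rfl⟩
  · obtain ⟨l, k1, k2, k3⟩ := C.fac ⟨t, ht⟩ (Subtype.ext (mem_cent.1 (OO_le d ht)))
      (Or.inl (Subtype.ext e))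
    refine ⟨_, cl_up k1, by simpa using k2, ?_⟩
    rw [← map_list_prod]
    exact k3.imp (congrArg Subtype.val) (congrArg Subtype.val)
  · rintro g hg _ ⟨x, hx, rfl⟩
    exact H.mem_of_tv C (H.tv_conj (H.tv_of_mem C hx) ⟨g, mem_cent.2 hg⟩)

end Hy

theorem card_Q [Finite G] {z : G} {Q : Subgroup G} {l : G → Fin 2 → ZMod 3} {m : G → H28.PS.SL3}
    (S : Sd z Q l m) (hz : orderOf z = 3) : Nat.card Q = 27 := by
  let φ : Q →* Multiplicative (Fin 2 → ZMod 3) :=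
    MonoidHom.mk' (fun a => Multiplicative.ofAdd (l a)) fun a b => congrArg _ (S.l_mul _ a.2 _ b.2)
  have k : φ.ker = (zpowers z).subgroupOf Q := by
    ext a; exact S.l_ker a a.2
  have r : φ.range = ⊤ := MonoidHom.range_eq_top.2 fun v => by
    obtain ⟨a, ha, e⟩ := S.l_surj v.toAdd
    exact ⟨⟨a, ha⟩, congrArg Multiplicative.ofAdd e⟩
  rw [← φ.ker.card_mul_index, index_ker, r, k,
    Nat.card_congr (subgroupOfEquivOfLe (zpowers_le.2 S.zmem)).toEquiv, Nat.card_zpowers, hz]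
  simp

end

section
variable {G Γ : Type*} [Group G] [Group Γ] [Finite G] {D : D3 G} {t π : G} {r : Fin 3 → G}
  {R : Subgroup G} {p : Ce (r 0) →* Γ} (h3 : H3 D) (K : KF D t r π R)
include K

omit [Finite G] in
theorem tri_of : Tri (r 0) (r 1) (r 2) π :=
  ⟨K.πr 0, K.πr 1, K.πr 2, K.rr 1 2, K.nd.1, K.nd.2.1, K.nd.2.2.1, K.nd.2.2.2⟩

omit [Finite G] in
theorem r_ne : r 0 ≠ 1 := fun e => K.nd.1 (by rw [← (tri_of K).e1, e]; simp)

variable (H : Hy (r 0) p)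
include h3 H

theorem tv_r {i j : Fin 3} (hi : i ≠ 0) (hj : j ≠ 0) (hij : j ≠ i) :
    Tv p ⟨r i, mem_cent.2 (K.rr i 0)⟩ := by
  have ne : ∀ i, i ≠ 0 → r i ≠ r 0 := fun i hi e => by
    have := K.rm' i 0 hi.symm
    rw [e, K.rm 0] at this
    exact absurd this (by decide)
  have c : ∀ i, IsConj (r 0) (r i) := fun i => by
    have a1 : IsConj (r 0) (r 1) := isConj_iff.2 ⟨π, K.πr 0⟩
    fin_cases i
    exacts [IsConj.refl _, a1, a1.trans (isConj_iff.2 ⟨π, K.πr 1⟩)]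
  refine ⟨K.bo ⟨K.rB i, mem_cent.2 (K.rr i 0)⟩, orderOf_eq_prime (by
    rw [← map_pow, ← map_one p]; exact congrArg p (Subtype.ext (by simpa [pow_two] using K.rsq i)))
    fun e => ?_, ?_⟩
  · rcases (H.kl.2.1 _).1 e with k | k
    exacts [H.d1 (isConj_one_left.1 (by simpa only [show r i = 1 from k] using c i)), ne i hi k]
  have le : D.Q j ≤ Ce (r 0) := fun a ha => mem_cent.2 (K.rc 0 j hj a ha)
  rw [← card_Q (h3.sd j) h3.ord]
  refine card_dvd_of_injective ((p.comp (inclusion le)).codRestrict _ fun a =>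
    ⟨⟨inclusion le a, subset_closure ⟨le a.2, (h3.sd j).cube _ a.2⟩, rfl⟩, mem_cent.2 ?_⟩)
    ((injective_iff_map_eq_one _).2 fun a e => ?_)
  · exact Commute.map (x := inclusion le a) (y := ⟨r i, _⟩) (Subtype.ext (K.rc i j hij a a.2)) p
  · refine Subtype.ext (((H.kl.2.1 (inclusion le a)).1 (congrArg Subtype.val e)).resolve_right fun k => ?_)
    have := (h3.sd j).cube _ a.2
    rw [show (a : G) = r 0 from k, pow_succ, pow_two, H.dd, one_mul] at this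
    exact H.d1 this

/-- Conjugates of `r 0` that commute with a `3`-central element modulo `r 0` are inner. -/
theorem c3 {s : Ce (r 0)} (hs : IsConj (r 0) s) (h : C3 (UU p) (p s)) : (s : G) ∈ OO (r 0) := by
  have : Finite Γ := Finite.of_surjective p H.kl.1
  have : Fact (Nat.Prime 3) := ⟨by decide⟩
  obtain ⟨y, hy, y3, y9, yc⟩ := h
  have S := K.syl.subgroupOf_top.map p
  rw [map_top_of_surjective p H.kl.1] at S
  have hc := K.sylc
  have hz := K.sylz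
  have hP := K.syl.isPGroup
  have hle := K.syl.le
  generalize D.Q 1 ⊔ D.Q 2 ⊔ zpowers t = S0 at S hc hz hP hle
  obtain ⟨P, hP1, hP2⟩ := H98.exists_isSyl_le (p := 3) (Q := zpowers y) (H := UU p ⊓ Ce y)
    (IsPGroup.of_card (n := 1) (by rw [Nat.card_zpowers, y3]; rfl))
    (zpowers_le.2 ⟨hy, mem_cent.2 (Commute.refl y)⟩)
  obtain ⟨γ, -, hγ⟩ := S.exists_cj_le hP1.isPGroup le_top
  have e : H98.cj γ P = (S0.subgroupOf (Ce (r 0))).map p := by
    refine eq_of_le_of_card_ge hγ ?_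
    rw [H98.card_cj, hP1.card_eq]
    refine (Nat.le_of_dvd Nat.card_pos (card_map_dvd _ p)).trans ?_
    rw [Nat.card_congr (subgroupOfEquivOfLe hle).toEquiv, hc]
    exact Nat.pow_le_pow_right (n := 3) (i := 6) (by decide)
      ((Nat.prime_three.pow_dvd_iff_le_factorization (k := 6) Nat.card_pos.ne').1 y9)
  obtain ⟨k, rfl⟩ := H.kl.1 γ
  obtain ⟨y0, m0, e0⟩ : p k * y * (p k)⁻¹ ∈ (S0.subgroupOf (Ce (r 0))).map p :=
    hγ ⟨y, hP2 (mem_zpowers y), rfl⟩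
  have nd : r 0 ∉ S0 := fun k => by
    obtain ⟨n, e⟩ := hP ⟨_, k⟩
    have e1 : r 0 ^ 3 ^ n = 1 := congrArg Subtype.val e
    obtain ⟨j, hj⟩ : Odd (3 ^ n) := Odd.pow (by decide)
    rw [hj, pow_succ, pow_mul, pow_two, H.dd, one_pow, one_mul] at e1
    exact H.d1 e1
  have z0 : (y0 : G) ∈ zpowers D.z := hz y0 m0 fun u hu => by
    have u1 : p ⟨u, hle hu⟩ ∈ H98.cj (p k) P := e ▸ ⟨⟨u, hle hu⟩, hu, rfl⟩
    have u2 : Commute (p y0) (p ⟨u, hle hu⟩) :=
      e0 ▸ commute_conj_iff'.2 (mem_cent.1 (hP1.le (H98.mem_cj.1 u1)).2).symm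
    refine (H.eq_or (a := ⟨u, hle hu⟩ * y0) (b := y0 * ⟨u, hle hu⟩)
      (by rw [map_mul, map_mul, u2.eq])).resolve_right fun k => nd ?_
    rw [eq_mul_inv_of_mul_eq k]
    exact mul_mem (mul_mem m0 hu) (inv_mem (mul_mem hu m0))
  have c0 : (y0 : G) ^ 3 = 1 := by
    obtain ⟨n, e⟩ := z0
    rw [← e, ← zpow_natCast, ← zpow_mul, mul_comm, zpow_mul, zpow_natCast, ← h3.ord, pow_orderOf_eq_one,
      one_zpow]
  have o0 : orderOf (y0 : G) = 3 := orderOf_eq_prime c0 fun e => by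
    rw [show y0 = 1 from Subtype.ext e, map_one, eq_comm, conj_eq_one_iff] at e0
    simp [e0] at y3
  have z1 : D.z ∈ zpowers (y0 : G) := by
    rw [eq_of_le_of_card_ge (zpowers_le.2 z0) (by rw [Nat.card_zpowers, Nat.card_zpowers, o0, h3.ord])]
    exact mem_zpowers _
  have c1 : Commute ((k * s * k⁻¹ : Ce (r 0)) : G) y0 := by
    have u2 : Commute (p (k * s * k⁻¹)) (p y0) := by
      rw [e0, map_mul, map_mul, map_inv]; exact commute_conj_iff.2 yc.symm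
    generalize k * s * k⁻¹ = s' at u2
    refine conj_eq_iff_commute.1 ((H.eq_or (a := s' * y0 * s'⁻¹) (b := y0)
      (by rw [map_mul, map_mul, map_inv, conj_eq_iff_commute.2 u2])).resolve_right fun k => ?_)
    have c2 := c0
    rw [← k, (mem_cent.1 (s' * y0 * s'⁻¹).2).symm.mul_pow, coe_mul, coe_mul, coe_inv, conj_pow,
      c2, pow_succ, pow_two, H.dd] at c0
    exact H.d1 (by simpa using c0)
  have m : ((k * s * k⁻¹ : Ce (r 0)) : G) ∈ OO (r 0) := by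
    obtain ⟨n, e⟩ := z1
    have r1 : ∀ i, r i ∈ OO (r 0) := fun i => K.bo ⟨K.rB i, mem_cent.2 (K.rr i 0)⟩
    rcases K.ld _ (hs.trans (isConj_iff.2 ⟨k, rfl⟩)) (mem_cent.2 (e ▸ c1.zpow_right n))
      (k * s * k⁻¹).2 with k' | ⟨k, hk, k' | k'⟩ <;> rw [coe_mul, coe_mul, coe_inv, k']
    exacts [r1 0, mul_mem (mul_mem hk (r1 1)) (inv_mem hk), mul_mem (mul_mem hk (r1 2)) (inv_mem hk)]
  simpa [mul_assoc] using OO_conj (mem_cent.1 k⁻¹.2) m

theorem out_of {X : Set G} (P : Pre (r 0) (OO (r 0)) X) (ha : r 1 ∈ X)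
    (hX : ∀ s : Ce (r 0), Tv p s → (s : G) ∈ X ∨ r 0 * s ∈ X) (e : G) (h1 : IsConj (r 0) e)
    (h2 : Commute e (r 0)) (hO : e ∉ OO (r 0)) : ∃ x ∈ X,
      (∀ m, Commute m (r 0) → Commute m e → Commute m x) ∧ ¬ IsConj (r 0) (x * e) ∧
      ¬ IsConj (r 0) (r 0 * x * e) ∧ ∀ w ∈ OO (r 0), (∀ m, Commute m (r 0) → Commute m e → Commute m w) →
        w = 1 ∨ w = r 0 ∨ w = x ∨ w = r 0 * x := by
  have T := tri_of K
  obtain ⟨e, rfl⟩ : ∃ e' : Ce (r 0), e' = e := ⟨⟨e, mem_cent.2 h2⟩, rfl⟩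
  have ee : e * e = 1 := Subtype.ext (P.sq h1)
  obtain ⟨u, u1, u2, u3, u4, u5, u6, u7⟩ := (H.uf.u3 (p e) (fun k => hO (H.mem_O k))
    (by rw [← map_mul, ee, map_one])).resolve_left fun k => hO (c3 h3 K H h1 k)
  obtain ⟨x, hx, rfl⟩ : ∃ x : Ce (r 0), (x : G) ∈ X ∧ p x = u := by
    obtain ⟨x, hx, rfl⟩ := u1
    rcases hX x ⟨hx, u2, u3⟩ with k | k
    · exact ⟨x, k, rfl⟩
    · exact ⟨⟨r 0, mem_cent.2 (Commute.refl _)⟩ * x, k, by rw [map_mul, H.E.πd, one_mul]⟩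
  have lift : ∀ m : Ce (r 0), p m * p x = p x * p m → Commute (m : G) x := fun m k =>
    conj_eq_iff_commute.1 ((H.eq_or (a := m * x * m⁻¹) (b := x) (by
      rw [map_mul, map_mul, map_inv, k, mul_inv_cancel_right])).resolve_right fun k =>
        (P.one T ha (P.nrm' T ha (mem_cent.1 m.2) hx)).2 (k.symm ▸ (P.one T ha hx).1 :
          IsConj (r 0) (r 0 * (m * x * m⁻¹ : Ce (r 0)))))
  have ex := lift e u4.symm
  have inn : ∀ m ∈ OO (r 0), Commute m e → Commute m x := fun m hm c =>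
    lift ⟨m, OO_le _ hm⟩ (u6 _ ⟨_, hm, rfl⟩ (by
      rw [← map_mul, ← map_mul]; exact congrArg p (Subtype.ext c)))
  have no : ∀ s : Ce (r 0), p s = p e * p x → ¬ IsConj (r 0) s := fun s k i => hO (H.mem_O (by
    have := mul_mem (k ▸ mem_map_of_mem p (c3 h3 K H i (k ▸ u5))) (inv_mem u1)
    rwa [mul_inv_cancel_right] at this))
  refine ⟨x, hx, fun m m1 m2 => ?_, no (x * e) (by rw [map_mul, u4]),
    no (⟨r 0, mem_cent.2 (Commute.refl _)⟩ * x * e) (by rw [map_mul, map_mul, H.E.πd, one_mul, u4]),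
    fun w hw c => ?_⟩
  · by_cases k : m ∈ OO (r 0)
    · exact inn m k m2
    · have := (inn _ (K.two m (mem_cent.2 m1) e e.2 k hO) (m2.mul_left (Commute.refl _))).mul_left
        ex.inv_left
      rwa [mul_inv_cancel_right] at this
  · have := u7 (p ⟨w, OO_le _ hw⟩) ⟨_, hw, rfl⟩ fun g _ k => by
      obtain ⟨g, rfl⟩ := H.kl.1 g
      have k1 : Commute (g * g) e := by
        rcases H.E.eq_or (a := g * e) (b := e * g) (by rw [map_mul, map_mul, k]) with k | k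
        · exact Commute.mul_left k k
        · show _ = _
          rw [mul_assoc, k, ← mul_assoc, ← mul_assoc, k, mul_assoc, mul_assoc,
            (H.E.cen g).symm.left_comm, H.E.dd, mul_one, mul_assoc]
      rw [← map_mul, ← map_mul, ← map_mul]
      exact congrArg p (Subtype.ext (c _ (mem_cent.1 (g * g).2) (k1.map (Ce (r 0)).subtype)).symm)
    rcases this with k | k
    · rcases (H.kl.2.1 _).1 k with k | k
      exacts [Or.inl k, Or.inr (Or.inl k)]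
    · rcases H.eq_or k.symm with k | k
      exacts [Or.inr (Or.inr (Or.inl k.symm)), Or.inr (Or.inr (Or.inr k.symm))]

end

/-- **F22-F** -/
theorem jobF : JobF.{u} := by
  intro G _ _ D t r π R Γ _ p h3 K kl uf
  have H : Hy (r 0) p := ⟨K.rsq 0, r_ne K, K.der, kl, uf⟩
  have T := tri_of K
  obtain ⟨X, θ, C⟩ := H.exists_cv.2
  obtain ⟨X, θ, C, h0, h1⟩ := C.phi21
  have S := (C.six21 h0 h1).1
  have t1 := tv_r h3 K H (i := 1) (j := 2) (by decide) (by decide) (by decide)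
  have t2 := tv_r h3 K H (i := 2) (j := 1) (by decide) (by decide) (by decide)
  have P := H.pre C
  have ha : r 1 ∈ (↑) '' X := (H.mem_of_tv C t1).resolve_right fun ⟨x, hx, e⟩ => by
    have C' := C.swap wf21
    have P' := H.pre C'
    have a : r 1 ∈ (↑) '' (((⟨r 0, H.dO⟩ : OO (r 0)) * ·) '' X) :=
      ⟨_, ⟨x, hx, rfl⟩, by rw [coe_mul, e]; exact P.dd' _⟩
    refine P'.five T a (P'.of_or T a ((P'.one T a a).1.trans (isConj_iff.2 ⟨π, T.e2⟩))
      (H.mem_of_tv C' t2)) (Hy.cl_up (line21 C'.R).1) rfl ?_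
    rw [← map_list_prod]
    exact (congrArg _ ((C.prod_odd (line21 C.R).1 (by simp)).trans (by rw [h0, C.dd]))).trans (map_one _)
  have hb : r 2 ∈ (↑) '' X :=
    P.of_or T ha ((P.one T ha ha).1.trans (isConj_iff.2 ⟨π, T.e2⟩)) (H.mem_of_tv C t2)
  have e := P.loc T ha hb (fun l hl e => by
      obtain ⟨l, hl', rfl⟩ := Hy.cl_down hl
      obtain ⟨l', a, b, c⟩ : ∃ l', CL X l' ∧ (l'.length = 2 ∨ l'.length = 3) ∧
          l.prod = ⟨r 0, H.dO⟩ * l'.prod := by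
        rcases S.t3 l hl' (by simpa using e) with ⟨l', a, b, c⟩ | ⟨g, hg, c⟩
        · exact ⟨l', a, Or.inl b, c⟩
        · have k := S.cl.tail.tail.tail
          refine ⟨_, k.conj g fun y hy => C.cl wf21 hg (k.2.1 y hy), Or.inr rfl, ?_⟩
          rw [prod_map_cj, ← c, ← C.dd' (θ 126 * θ 3 * θ 6), (S.calc6 C).1, ← conj_mul,
            conj_eq_iff_commute.2 hg]
          simp only [List.prod_cons, List.prod_nil, mul_one, mul_assoc]
      exact ⟨_, Hy.cl_up a, by simpa using b, by rw [← map_list_prod, ← map_list_prod, c]; rfl⟩)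
    (fun g g' a b => K.two g (mem_cent.2 a) g' (mem_cent.2 b))
    (out_of h3 K H P ha fun s => H.mem_of_tv C)
  obtain ⟨L, hloc⟩ := locD (orderOf_eq_prime (by rw [pow_two, H.dd]) H.d1) (e ▸ P.rz) (e ▸ P.tt)
    (e ▸ Hy.cl_up S.cl) rfl (by rw [← map_list_prod, S.prod]; rfl)
  obtain ⟨i1, i2⟩ := iso_of_loc L hloc fun z z1 z2 => H.cen z1 fun y hy =>
    comm_closure (e ▸ z2) (P.gen.ge hy)
  refine ⟨_, normal_closure_of_conj cl_conjugatesOf, i1, i2, fun h => eq_top_iff.2 fun g _ => ?_⟩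
  obtain ⟨k, hk, k1⟩ := conj_in L hloc (cl_conjugatesOf g _ mem_conjugatesOf_self)
  have : k⁻¹ * g ∈ closure (conjugatesOf (r 0)) := closure_Dc_le (r 0) (e ▸ P.gen.ge (K.top h
    (mem_cent.2 (conj_eq_iff_commute.1 (by
      rw [mul_inv_rev, mul_assoc k⁻¹, ← mul_assoc, mul_assoc k⁻¹, ← k1]; group)))))
  simpa using mul_mem hk this

end H80.F22
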