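/- Slot B2c of the tower FB: weak closure of the element of order three. -/
import Cfsg.Agent.H11.FBSpec

set_option autoImplicit false

namespace H80.FBB2c

open MulAction Subgroup H11.FB

universe u v

variable {G : Type u} [Group G]

theorem cube {h : G} (h3 : orderOf h = 3) : h * h = h⁻¹ := by
  rw [eq_inv_iff_mul_eq_one, ← pow_orderOf_eq_one h, h3, pow_three']

theorem z3 {h x : G} (h3 : orderOf h = 3) (hx : x ∈ zpowers h) : x = 1 ∨ x = h ∨ x = h⁻¹ := by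
  obtain ⟨k, rfl⟩ := mem_zpowers_iff.1 hx
  rw [← zpow_mod_orderOf, h3]
  have : k % ((3 : ℕ) : ℤ) = 0 ∨ k % ((3 : ℕ) : ℤ) = 1 ∨ k % ((3 : ℕ) : ℤ) = 2 := by omega
  rcases this with e | e | e <;> rw [e]
  exacts [.inl (zpow_zero h), .inr (.inl (zpow_one h)), .inr (.inr (by rw [zpow_two, cube h3]))]

theorem norm_of [Finite G] {h s : G} (e : s * h * s⁻¹ ∈ zpowers h) :
    s ∈ normalizer (zpowers h : Set G) :=
  mem_normalizer_fintype fun x hx => by
    obtain ⟨k, rfl⟩ := mem_zpowers_iff.1 hx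
    rw [← conj_zpow]
    exact zpow_mem e k

theorem nr [Finite G] {h : G} (h3 : orderOf h = 3)
    (cen : ∀ g ∈ normalizer (zpowers h : Set G), g * h = h * g) {x s u : G}
    (hu : u * x * u⁻¹ ∈ zpowers h) (x1 : x ≠ 1) (hs : s * x * s⁻¹ = x⁻¹) : False := by
  have e1 : u * s * u⁻¹ * (u * x * u⁻¹) * (u * s * u⁻¹)⁻¹ = (u * x * u⁻¹)⁻¹ := by
    calc _ = u * (s * x * s⁻¹) * u⁻¹ := by group
      _ = _ := by rw [hs]; group
  have e2 : u * s * u⁻¹ * h * (u * s * u⁻¹)⁻¹ = h⁻¹ := by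
    rcases z3 h3 hu with e | e | e
    · exact (x1 (by simpa using e)).elim
    · rwa [e] at e1
    · rw [e] at e1
      calc _ = (u * s * u⁻¹ * h⁻¹ * (u * s * u⁻¹)⁻¹)⁻¹ := by group
        _ = _ := by rw [e1, inv_inv]
  have e3 := cen _ (norm_of (e2 ▸ inv_mem (mem_zpowers h)))
  rw [e3, mul_inv_cancel_right] at e2
  have := cube h3
  rw [← e2, mul_eq_left] at this
  rw [this, orderOf_one] at h3
  omega

variable {Ω : Type v} [MulAction G Ω]

theorem f4 [Finite G] [Fintype Ω] [DecidableEq Ω] {a b c d : Ω} {K H P : Subgroup G} {h : G}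
    (C : Cx a b c d K H P) (hH : h ∈ H) (h3 : orderOf h = 3) {x : G} (x3 : orderOf x = 3)
    {p q r e : Ω} (D : D4 p q r e) (hp : x • p = p) (hq : x • q = q) (hr : x • r = r)
    (he : x • e = e) : ∃ u, u * x * u⁻¹ ∈ zpowers h := by
  obtain ⟨u, ua, ub, uc, ud⟩ := C.hy.exists_smul C.hy.ne D
  have m : u⁻¹ * x * u ∈ L4 G a b c d := by
    rw [mem_L4]
    simp only [conj_smul_iff, ua, ub, uc, ud, hp, hq, hr, he, and_self]
  have oc : ∀ g y : G, orderOf (g * y * g⁻¹) = orderOf y := fun g y =>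
    (MulAut.conj g).orderOf_eq y
  have o1 : orderOf (u⁻¹ * x * u) = 3 := by simpa [x3] using oc u⁻¹ x
  obtain ⟨k, -, hk⟩ := C.hy.fr.cjH _ m (C.hy.fr.not_mem_K (fun e => by simp [e] at o1)
    (o1 ▸ Nat.Coprime.coprime_dvd_left (h3 ▸ orderOf_dvd_natCard H hH) C.hy.fr.cop.symm))
  refine ⟨k * u⁻¹, ?_⟩
  have := C.fh.uniq h hH _ hk (h3 ▸ Nat.prime_three) (by rw [oc, o1, h3])
  convert this using 1
  group

theorem exists_fix [Finite G] {U : Subgroup G} (hU : Nat.card U = 27) {O : Set Ω} (hO : O.ncard = 3)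
    (hm : ∀ v ∈ U, ∀ o ∈ O, v • o ∈ O) {γ : G} (h3 : orderOf γ = 3) :
    ∃ v ∈ U, v ∉ zpowers γ ∧ ∀ o ∈ O, v • o = o := by
  obtain ⟨p, q, r, pq, pr, qr, rfl⟩ := Set.ncard_eq_three.1 hO
  have h1 : (stabilizer U p).index ≤ 3 := by
    rw [index_stabilizer, ← hO]
    refine Set.ncard_le_ncard ?_ (Set.toFinite _)
    rintro _ ⟨v, rfl⟩
    exact hm v v.2 p (by simp)
  have h2 := (stabilizer U p).card_mul_index
  obtain ⟨v, hv, hn⟩ : ∃ v : U, v ∈ stabilizer U p ∧ (v : G) ∉ zpowers γ := by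
    by_contra k
    push Not at k
    have : Nat.card (stabilizer U p) ≤ Nat.card (zpowers γ) :=
      Nat.card_le_card_of_injective (fun v => ⟨v.1.1, k _ v.2⟩) fun v w e =>
        Subtype.ext (Subtype.ext (Subtype.mk.inj e))
    rw [Nat.card_zpowers, h3] at this
    nlinarith
  have vp : (v : G) • p = p := hv
  have i := MulAction.injective (β := Ω) (v : G)
  have k : ∀ o : Ω, (v : G) • (v : G) • o = o → (v : G) • o = o := fun o e => by
    have e1 : (v : G) = ((v : G) * v) ^ 14 := by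
      have : (v : G) ^ 27 = 1 := congrArg Subtype.val (hU ▸ pow_card_eq_one' (x := v))
      rw [← pow_two, ← pow_mul, pow_succ, this, one_mul]
    have e2 : (v : G) * v ∈ stabilizer G o := by rw [mem_stabilizer_iff, mul_smul, e]
    exact e1 ▸ pow_mem e2 14
  have hq := hm v v.2 q (by simp)
  have hr := hm v v.2 r (by simp)
  simp only [Set.mem_insert_iff, Set.mem_singleton_iff] at hq hr
  have nq : (v : G) • q ≠ p := fun e => pq (i (vp.trans e.symm))
  have nr : (v : G) • r ≠ p := fun e => pr (i (vp.trans e.symm))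
  have vq : (v : G) • q = q := by
    rcases hq with e | e | e
    exacts [(nq e).elim, e, k q (by
      rcases hr with e' | e' | e'
      exacts [(nr e').elim, by rw [e, e'], (qr (i (e.trans e'.symm))).elim])]
  have vr : (v : G) • r = r := by
    rcases hr with e | e | e
    exacts [(nr e).elim, (qr (i (vq.trans e.symm))).elim, e]
  refine ⟨v, v.2, hn, ?_⟩
  rintro o (rfl | rfl | rfl)
  exacts [vp, vq, vr]

theorem jobB2c : JobB2c.{u, v} := by
  intro b0 b2a b2b G Ω _ _ _ _ _ _ a b c d K H P h C hH h3 t6 g hg hc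
  by_contra hn
  have pr : (orderOf h).Prime := h3 ▸ Nat.prime_three
  have d3 : 3 ∣ Nat.card H := h3 ▸ orderOf_dvd_natCard H hH
  have mf : orderOf h = (Nat.card H).minFac := by
    have p1 := Nat.minFac_prime (n := Nat.card H) fun e => by rw [e] at d3; omega
    have p2 := Nat.minFac_le_of_dvd (by norm_num) d3
    have p3 : (Nat.card H).minFac ≠ 2 := fun e =>
      (Nat.not_even_iff_odd.2 C.odd) (even_iff_two_dvd.2 (e ▸ Nat.minFac_dvd _))
    have := p1.two_le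
    omega
  have cen := (C.th2 h hH pr).perf (.inl t6) (C.fh.cen h hH mf)
  have hL := mem_L4.1 (C.hy.fr.Hle hH)
  have hX : h ∈ X3 G a b c := mem_X3.2 ⟨hL.1, hL.2.1, hL.2.2.1⟩
  have f6 : (fixedBy Ω (g * h * g⁻¹)).ncard = 6 := by
    rw [← smul_fixedBy, Set.ncard_smul_set, t6]
  have γ3 : orderOf (g * h * g⁻¹) = 3 := ((MulAut.conj g).orderOf_eq h).trans h3
  have γX : g * h * g⁻¹ ∈ X3 G a b c := mul_mem (mul_mem hg hX) (inv_mem hg)
  have NR : ∀ {s x y : G}, s * (g * h * g⁻¹) * s⁻¹ = x → y * x * y⁻¹ = x⁻¹ → False :=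
    fun {s x y} e e' => nr h3 cen (u := (s * g)⁻¹) (by
      rw [← e]; convert mem_zpowers h using 1; group) (fun e1 => by
        rw [e1, mul_inv_eq_one, mul_eq_left] at e
        rw [e, orderOf_one] at γ3; omega) e'
  obtain ⟨U, t, hU, -, γU, th, Uh, Ua, Uc, Ut⟩ :=
    b2b C hH h3 t6 (fun e => hn (b2a b0 C hH h3 t6 g hg hc e)) γX γ3 hc
  generalize g * h * g⁻¹ = γ at *
  obtain ⟨w, hw⟩ : ∃ w, w = t * γ * t⁻¹ * γ := ⟨_, rfl⟩
  have wz : w ∈ zpowers h := hw ▸ Ut γ γU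
  have tγ : t * γ * t⁻¹ = w * γ⁻¹ := by rw [hw]; group
  have w1 : w ≠ 1 := fun e => NR (s := 1) (x := γ) (y := t) (by group) (by rw [tγ, e, one_mul])
  have wh := (z3 h3 wz).resolve_left w1
  have cw : ∀ {s}, s * h = h * s → Commute s w := fun {s} e => by
    rcases wh with e' | e' <;> rw [e']
    exacts [e, (show Commute s h from e).inv_right]
  have ww : w * w = w⁻¹ := cube (by rcases wh with e | e <;> simp [e, h3])
  have hz : ∀ z ∈ zpowers h, z = 1 ∨ z = w ∨ z = w⁻¹ := fun z hz => by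
    rcases wh with e | e <;> rw [e]
    exacts [z3 h3 hz, by rw [inv_inv]; exact (z3 h3 hz).imp_right Or.symm]
  have ty : t * (w * γ) * t⁻¹ = (w * γ)⁻¹ := by
    calc _ = t * w * t⁻¹ * (t * γ * t⁻¹) := by group
      _ = w * w * γ⁻¹ := by rw [(cw th).eq, tγ]; group
      _ = _ := by rw [ww, mul_inv_rev, (cw hc).inv_inv.eq]
  have Uγ : ∀ v ∈ U, Commute v γ := fun v hv => by
    rcases hz _ (Uc v hv γ γU) with e | e | e
    · exact mul_inv_eq_iff_eq_mul.1 (mul_inv_eq_one.1 e)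
    · exact (NR (mul_inv_eq_iff_eq_mul.1 e) ty).elim
    · refine (NR (s := v⁻¹) ?_ ty).elim
      calc _ = v⁻¹ * w * (v * γ * v⁻¹ * γ⁻¹)⁻¹⁻¹ * γ * v := by rw [inv_inv, e]; group
        _ = _ := by rw [(cw (Uh v hv)).inv_left.eq]; group
  have γL := mem_X3.1 γX
  have ne := C.hy.ne
  have O3 : (fixedBy Ω γ \ {a, b, c}).ncard = 3 := by
    rw [Set.ncard_sdiff (by rintro _ (rfl | rfl | rfl); exacts [γL.1, γL.2.1, γL.2.2]), f6,
      Set.ncard_eq_three.2 ⟨a, b, c, ne.1, ne.2.1, ne.2.2.2.1, rfl⟩]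
  obtain ⟨v, hv, vn, vf⟩ := exists_fix hU O3 (fun v hv o ho => ⟨by
      rw [mem_fixedBy, ← mul_smul, ← (Uγ v hv).eq, mul_smul, ho.1], fun e => ho.2 (by
      obtain ⟨i1, i2, i3⟩ := Ua _ (inv_mem hv)
      rw [← inv_smul_smul v o]
      rcases e with e | e | e <;> rw [e] <;> assumption)⟩) γ3
  obtain ⟨x, hx, x1, xt, xf⟩ : ∃ x ∈ U, x ≠ 1 ∧ t * x * t⁻¹ = x⁻¹ ∧
      ∀ o ∈ fixedBy Ω γ \ {a, b, c}, x • o = o := by
    have k : ∀ i : ℤ, t * v * t⁻¹ * v * w ^ i = 1 → ∃ x ∈ U, x ≠ 1 ∧ t * x * t⁻¹ = x⁻¹ ∧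
        ∀ o ∈ fixedBy Ω γ \ {a, b, c}, x • o = o := fun i e =>
      ⟨v * γ ^ i, mul_mem hv (zpow_mem γU i),
        fun e1 => vn (eq_inv_of_mul_eq_one_left e1 ▸ inv_mem (zpow_mem (mem_zpowers γ) i)), by
        calc _ = t * v * t⁻¹ * (t * γ * t⁻¹) ^ i := by rw [conj_zpow]; group
          _ = t * v * t⁻¹ * v * (v⁻¹ * w ^ i) * γ⁻¹ ^ i := by
            rw [tγ, (cw hc).symm.inv_right.mul_zpow]; group
          _ = t * v * t⁻¹ * v * w ^ i * (v⁻¹ * γ⁻¹ ^ i) := by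
            rw [((cw (Uh v hv)).inv_left.zpow_right i).eq]; group
          _ = _ := by
            rw [e, one_mul, ((Uγ v hv).inv_inv.zpow_right i).eq]; group,
        fun o ho => by
          rw [mul_smul, show γ ^ i • o = o from zpow_mem (K := stabilizer G o) ho.1 i, vf o ho]⟩
    rcases hz _ (Ut v hv) with e | e | e
    exacts [k 0 (by rw [e]; group), k (-1) (by rw [e]; group), k 1 (by rw [e]; group)]
  obtain ⟨n, n1, n3⟩ : ∃ n : ℕ, x ^ n ≠ 1 ∧ (x ^ n) ^ 3 = 1 := by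
    have : x ^ 27 = 1 := congrArg Subtype.val (hU ▸ pow_card_eq_one' (x := (⟨x, hx⟩ : U)))
    by_cases c9 : x ^ 9 = 1
    · by_cases c3 : x ^ 3 = 1
      exacts [⟨1, by simpa, by simpa⟩, ⟨3, c3, by rwa [← pow_mul]⟩]
    · exact ⟨9, c9, by rwa [← pow_mul]⟩
  have : Fact (Nat.Prime 3) := ⟨Nat.prime_three⟩
  have yt : t * x ^ n * t⁻¹ = (x ^ n)⁻¹ := by rw [← conj_pow, xt, inv_pow]
  have yf : ∀ o ∈ fixedBy Ω γ \ {a, b, c}, x ^ n ∈ stabilizer G o := fun o ho =>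
    pow_mem (xf o ho) n
  have tO : ∀ o ∈ fixedBy Ω γ \ {a, b, c}, t⁻¹ • o ∈ fixedBy Ω γ \ {a, b, c} := fun o ho => by
    by_contra k
    have e1 : x ^ n • t⁻¹ • o = t⁻¹ • o := by
      rw [← mul_smul, show x ^ n * t⁻¹ = t⁻¹ * (t * x ^ n * t⁻¹) by group, yt, mul_smul,
        show (x ^ n)⁻¹ • o = o from inv_mem (yf o ho)]
    obtain ⟨p, q, r, pq, pr, qr, e⟩ := Set.ncard_eq_three.1 O3
    rw [e] at k yf
    simp only [Set.mem_insert_iff, Set.mem_singleton_iff, not_or] at k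
    obtain ⟨u, hu⟩ := f4 C hH h3 (orderOf_eq_prime n3 n1)
      (⟨pq, pr, Ne.symm k.1, qr, Ne.symm k.2.1, Ne.symm k.2.2⟩ : D4 p q r (t⁻¹ • o))
      (yf p (by simp)) (yf q (by simp)) (yf r (by simp)) e1
    exact nr h3 cen hu n1 yt
  have sub : fixedBy Ω γ ⊆ fixedBy Ω h := fun o ho => by
    by_cases k : o ∈ ({a, b, c} : Set Ω)
    · rcases k with rfl | rfl | rfl
      exacts [hL.1, hL.2.1, hL.2.2.1]
    · have e1 : w ∈ stabilizer G o := by
        rw [mem_stabilizer_iff, hw, mul_smul, show γ • o = o from ho, mul_smul, mul_smul,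
          show γ • t⁻¹ • o = t⁻¹ • o from (tO o ⟨ho, k⟩).1, smul_inv_smul]
      rcases wh with e | e <;> rw [e] at e1
      exacts [e1, (inv_mem_iff (H := stabilizer G o)).1 e1]
  have γd : d ∈ fixedBy Ω γ :=
    Set.eq_of_subset_of_ncard_le sub (by rw [t6, f6]) (Set.toFinite _) ▸ hL.2.2.2
  exact hn (C.fh.uniq h hH γ (((C.th1 h hH pr).nl γ (mem_L4.2 ⟨γL.1, γL.2.1, γL.2.2, γd⟩)).1
    (norm_of (by rw [hc, mul_inv_cancel_right]; exact mem_zpowers h))) pr (γ3.trans h3.symm))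

end H80.FBB2c
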