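/- Slot LOC of chapter U0, section B: case beta is dead. -/
import Cfsg.Agent.H92.DP0BSpec
import Cfsg.Agent.H1.CoprimeGen
import Cfsg.Agent.H98.Core
import Cfsg.Agent.H80.FBB2c

set_option autoImplicit false

namespace H80.U0BLoc

open Subgroup Cfsg H98 H48.DP H57.DPC H48.DP2 H92.DPB
open H80.FBB2c (z3 cube)
open scoped commutatorElement

universe u

variable {G : Type u} [Group G]

/-- `u` centralises a nontrivial element of `Q` -/
def Pc (Q : Subgroup G) (u : G) : Prop := ∃ q ∈ Q, q ≠ 1 ∧ Commute q u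

theorem Pc.inv {Q : Subgroup G} {u : G} (h : Pc Q u) : Pc Q u⁻¹ :=
  let ⟨q, h1, h2, h3⟩ := h; ⟨q, h1, h2, h3.inv_right⟩

theorem Pc.conj {Q : Subgroup G} {u d : G} (h : Pc Q u) (hd : d ∈ No Q) : Pc Q (d * u * d⁻¹) :=
  let ⟨q, h1, h2, h3⟩ := h
  ⟨d * q * d⁻¹, conj_mem_of_mem_normalizer hd h1, fun e => h2 (by simpa using e),
    h3.map (MulAut.conj d)⟩

theorem jobLOC : JobLOC.{u} := by
  intro g0 na is l2 G _ _ M Q ua
  refine ⟨ua, fun H B hH b27 hB => ?_⟩
  obtain hM | hA | ⟨D, x, be⟩ := (g0 G M Q H B ua hH b27 hB).2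
  · exact hM
  · exact (na G M Q H B ua hH b27 hB hA).elim
  exfalso
  have : Fact (Nat.Prime 3) := ⟨Nat.prime_three⟩
  obtain ⟨h, ⟨-, hD⟩, hM⟩ := SetLike.not_le_iff_exists.1 be.out
  obtain ⟨⟨e, eD, ex, B1, BM, B27, UB⟩, iso⟩ := is G M Q H D x ua be
  have q2 : IsPGroup 2 Q := ua.o2 ▸ isPGroup_pCoreOf M
  have DQ : D ≤ No Q := fun d hd => ua.no.symm ▸ (be.le hd).2
  have xD : zpowers x ≤ D := be.der ▸ commutator_le.2 fun a ha b hb =>
    mul_mem (mul_mem (mul_mem ha hb) (inv_mem ha)) (inv_mem hb)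
  have UD : zpowers e ⊔ zpowers x ≤ D := sup_le (zpowers_le.2 eD) xD
  have e3 : orderOf e = 3 := orderOf_eq_prime (be.ex e eD) fun k => ex (k ▸ one_mem _)
  have cex : Commute e x :=
    el_comm B27.1 (UB (mem_sup_left (mem_zpowers e))) (UB (mem_sup_right (mem_zpowers x)))
  obtain ⟨U3, U9⟩ := e9 e3 be.x3 cex ex
  have K : ∀ w ∈ zpowers e ⊔ zpowers x, w ≠ 1 → Pc Q w → No (C1 w) ≤ M := by
    rintro w hw w1 ⟨q, h1, h2, h3⟩
    have w3 := orderOf_eq_prime (U3.2 w hw) w1
    have k := ua.dq w w3 ⟨B1, BM, B27, zpowers_le.2 (UB hw)⟩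
    refine (normalizer_le_normalizer_pCoreOf (p := 2) _).trans (l2 G M Q _ B1 ua
      (isPGroup_pCoreOf _) (fun e => h2 ?_) B27 (le_inf (le_normalizer_pCoreOf_of_le fun b hb =>
        mem_centralizer_singleton_iff.2 (el_comm B27.1 hb (UB hw))) BM))
    have : q ∈ O2 (C1 w) := k ▸ ⟨h1, mem_centralizer_singleton_iff.2 h3⟩
    exact mem_bot.1 (e ▸ this)
  have hx : h ∈ No (zpowers x) := be.der ▸ le_normalizer_commutator
    (H := zpowers h) (zpowers_le.2 hD) (zpowers_le.2 hD) (mem_zpowers h)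
  have x1 : x ≠ 1 := fun k => ex (by have := be.x3; rw [k, orderOf_one] at this; omega)
  have nx : ∀ w ∈ zpowers x, w ≠ 1 → ¬ Pc Q w := fun w hw w1 p => by
    have px : Pc Q x := by
      rcases z3 be.x3 hw with k | k | k
      exacts [(w1 k).elim, k ▸ p, by simpa [k] using p.inv]
    refine hM (K x (mem_sup_right (mem_zpowers x)) x1 px (mem_normalizer_fintype fun g hg => ?_))
    have c : Commute g (h⁻¹ * x * h) := by
      obtain ⟨i, hi⟩ := mem_zpowers_iff.1 (conj_mem_of_mem_normalizer' hx (mem_zpowers x))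
      exact hi ▸ (show Commute g x from mem_centralizer_singleton_iff.1 hg).zpow_right i
    have := c.map (MulAut.conj h)
    exact mem_centralizer_singleton_iff.2 (by simpa [mul_assoc] using this.eq)
  have gen : ∀ X Y : Subgroup G, IsPGroup 2 X → D ≤ No X →
      (∀ a ∈ zpowers e ⊔ zpowers x, a ≠ 1 → X ⊓ C1 a ≤ Y) → X ≤ Y := fun X Y x2 hX k => by
    have := U3.1
    obtain ⟨n, hn⟩ := x2.exists_card_eq
    refine H1.le_of_noncyclic_centralizer_le (fun c => ?_) (UD.trans hX)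
      (by rw [U9, hn]; exact Nat.Coprime.pow_right n (by norm_num)) Y k
    obtain ⟨g, hg⟩ := c.exists_ofOrder_eq_natCard
    have := orderOf_dvd_of_pow_eq_one (show g ^ 3 = 1 from Subtype.ext (U3.2 g g.2))
    rw [hg, U9] at this
    omega
  have dec : ∀ a ∈ zpowers e ⊔ zpowers x, a ∉ zpowers x →
      ∃ b ∈ zpowers x, a = e * b ∨ a⁻¹ = e * b := fun a ha an => by
    obtain ⟨s, hs, b, hb, rfl⟩ := (mem_sup_left_norm (le_normalizer_of_le_centralizer
      fun s hs b hb => (el_comm U3 (mem_sup_right hb) (mem_sup_left hs)).eq)).1 ha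
    rcases z3 e3 hs with k | k | k <;> subst k
    · exact (an (by simpa using hb)).elim
    · exact ⟨b, hb, .inl rfl⟩
    · refine ⟨b⁻¹, inv_mem hb, .inr ?_⟩
      rw [mul_inv_rev, inv_inv]
      exact (el_comm U3 (mem_sup_right (inv_mem hb)) (mem_sup_left (mem_zpowers e))).eq
  obtain ⟨d, dD, de⟩ : ∃ d ∈ D, ⁅d, e⁆ ≠ 1 := by
    by_contra k
    push Not at k
    exact ex (be.cen e (be.le eD).1
      (fun d hd => commutatorElement_eq_one_iff_mul_comm.1 (k d hd)) (be.ex e eD))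
  have cx : ⁅d, e⁆ ∈ zpowers x := be.der ▸ commutator_mem_commutator dD eD
  have dx : Commute d x := by
    have nx : d ∈ No (zpowers x) := be.der ▸ le_normalizer_commutator
      le_normalizer le_normalizer dD
    rcases z3 be.x3 (conj_mem_of_mem_normalizer nx (mem_zpowers x)) with k | k | k
    · exact (x1 (by simpa using k)).elim
    · exact mul_inv_eq_iff_eq_mul.1 k
    · have c2 : Commute (d * d) x := mul_inv_eq_iff_eq_mul.1 (by
        calc d * d * x * (d * d)⁻¹ = d * (d * x * d⁻¹) * d⁻¹ := by group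
          _ = (d * x * d⁻¹)⁻¹ := by rw [k]; conv_rhs => rw [← k]
                                    group
          _ = x := by rw [k, inv_inv])
      have := c2.mul_left c2
      rwa [show d * d * (d * d) = d ^ 3 * d by simp only [pow_succ, pow_zero, one_mul, mul_assoc],
        be.ex d dD, one_mul] at this
  have step : ∀ b ∈ zpowers x, Pc Q (e * b) → Pc Q (e * (⁅d, e⁆ * b)) := fun b hb p => by
    obtain ⟨i, rfl⟩ := mem_zpowers_iff.1 hb
    have := p.conj (DQ dD)
    rwa [show d * (e * x ^ i) * d⁻¹ = ⁅d, e⁆ * e * (d * x ^ i * d⁻¹) by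
      rw [commutatorElement_def]; group, (dx.zpow_right i).eq, mul_inv_cancel_right,
      (el_comm U3 (mem_sup_right cx) (mem_sup_left (mem_zpowers e))).eq, mul_assoc] at this
  have c3 : orderOf ⁅d, e⁆ = 3 := orderOf_eq_prime (be.ex _ (xD cx)) de
  have zc : zpowers ⁅d, e⁆ = zpowers x := eq_of_le_of_card_ge (zpowers_le.2 cx)
    (by rw [Nat.card_zpowers, Nat.card_zpowers, c3, be.x3])
  have all : ∀ b ∈ zpowers x, Pc Q (e * b) := by
    obtain ⟨b0, hb0, p0⟩ : ∃ b ∈ zpowers x, Pc Q (e * b) := by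
      by_contra k
      push Not at k
      refine ua.nt (le_bot_iff.1 (gen Q ⊥ q2 DQ fun a ha a1 q hq => by_contra fun q1 => ?_))
      have p : Pc Q a := ⟨q, hq.1, q1, mem_centralizer_singleton_iff.1 hq.2⟩
      by_cases ax : a ∈ zpowers x
      · exact nx a ax a1 p
      · obtain ⟨b, hb, k' | k'⟩ := dec a ha ax
        exacts [k b hb (k' ▸ p), k b hb (k' ▸ p.inv)]
    intro b hb
    have p1 := step b0 hb0 p0
    rcases z3 c3 (zc ▸ mul_mem hb (inv_mem hb0)) with k | k | k <;>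
      rw [mul_inv_eq_iff_eq_mul] at k <;> rw [k]
    · rwa [one_mul]
    · exact p1
    · rw [← cube c3, mul_assoc]
      exact step _ (mul_mem cx hb0) p1
  have DQ' : D ≤ No (cj h Q) :=
    (cj_eq_self hD).ge.trans ((cj_mono h DQ).trans (cj_normalizer h Q).le)
  have one : ∀ a : G, h⁻¹ * a * h = 1 → a = 1 := fun a k => by
    calc a = h * (h⁻¹ * a * h) * h⁻¹ := by group
      _ = 1 := by rw [k]; group
  refine hM (ua.no ▸ mem_normalizer_of_cj_le (iso _ (gen _ M (isPGroup_cj h q2) DQ'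
    fun a ha a1 q hq => ?_) (isPGroup_cj h q2) DQ'))
  by_cases ax : a ∈ zpowers x
  · by_contra q1
    refine nx _ (conj_mem_of_mem_normalizer' hx ax) (fun k => a1 (one a k))
      ⟨_, mem_cj.1 hq.1, fun k => q1 ?_, ?_⟩
    · rw [one q k]; exact one_mem M
    · have := (show Commute q a from mem_centralizer_singleton_iff.1 hq.2).map (MulAut.conj h⁻¹)
      simpa using this
  · refine K a ha a1 ?_ (le_normalizer hq.2)
    obtain ⟨b, hb, k | k⟩ := dec a ha ax
    exacts [k ▸ all b hb, by simpa [← k] using (all b hb).inv]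

end H80.U0BLoc
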