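/- Tower KU, slot K1: characters of the torus through a homomorphism to the cyclic group. -/
import Cfsg.Agent.H53.KUSpec

set_option autoImplicit false

namespace H80.KU

open H53.KU

theorem exists_char {C : Type} [CommGroup C] [Finite C] [IsCyclic C] {K H : Subgroup C}
    (h : K ≤ H) {d : ℕ} (hd : d ∣ K.relIndex H) :
    ∃ φ : C →* ℂˣ, (∀ x ∈ K, φ x = 1) ∧ Nat.card (H.map φ) = d := by
  have : NeZero (Nat.card C) := ⟨Nat.card_pos.ne'⟩
  let ι : C →* ℂˣ := (rootsOfUnity (Nat.card C) ℂ).subtype.comp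
    (mulEquivOfCyclicCardEq (G := C) (Complex.card_rootsOfUnity _).symm).toMonoidHom
  have hι : Function.Injective ι := Subtype.val_injective.comp (MulEquiv.injective _)
  obtain ⟨c, hc⟩ := hd
  have e : Nat.card H = Nat.card K * c * d := by
    have := Subgroup.relIndex_mul_relIndex ⊥ K H bot_le h
    rw [Subgroup.relIndex_bot_left, Subgroup.relIndex_bot_left, hc] at this
    rw [← this]; ring
  have k0 : Nat.card K * c ≠ 0 := fun k => by
    rw [k, zero_mul] at e; exact Nat.card_pos.ne' e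
  refine ⟨ι.comp (powMonoidHom (Nat.card K * c)), fun x hx => ?_, ?_⟩
  · have : x ^ Nat.card K = 1 := congrArg Subtype.val (pow_card_eq_one' (x := (⟨x, hx⟩ : K)))
    simp [pow_mul, this]
  · obtain ⟨x, rfl⟩ := (Subgroup.isCyclic_iff_exists_zpowers_eq_top H).1 inferInstance
    rw [Nat.card_zpowers] at e
    rw [MonoidHom.map_zpowers, Nat.card_zpowers, MonoidHom.comp_apply, orderOf_injective ι hι,
      powMonoidHom_apply, orderOf_pow_of_dvd k0 ⟨d, e⟩, e, Nat.mul_div_cancel_left _ (Nat.pos_of_ne_zero k0)]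

theorem jobK1 : JobK1 := fun F _ _ m q o D hD ν d h1 h2 => by
  obtain ⟨φ, k1, k2⟩ := exists_char (Subgroup.map_mono hD) h2
  have k3 : od q o (φ.comp ν) = d := by rw [od, ← Subgroup.map_map, k2]
  refine ⟨φ, ⟨?_, fun a ha => k1 _ ⟨a, ha, rfl⟩⟩, k3⟩
  by_contra k
  push Not at k
  have : (Tor F m q o).map (φ.comp ν) = ⊥ := (Subgroup.map_eq_bot_iff _).2 k
  rw [od, this, Subgroup.card_bot] at k3
  omega

end H80.KU
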