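/- Tower A8S, slot HM: the table model of `W U` maps into the group. -/
import Cfsg.Agent.H63.A8Def
import Cfsg.Agent.H67.SABasic

set_option autoImplicit false

namespace H80.A8HM

open H32.HS

variable {G : Type*} [Group G]

/-- The relations. -/
structure Rl (w₁ w₂ w₃ a b : G) : Prop where
  c12 : Commute w₁ w₂
  c13 : Commute w₁ w₃
  c23 : Commute w₂ w₃
  o1 : w₁ ^ 4 = 1
  o2 : w₂ ^ 4 = 1
  o3 : w₃ ^ 4 = 1
  aa : a * a = 1
  bb : b * b = 1
  ab : a * b * a * b = b * (a * b * a)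
  a1 : a * w₁ * a⁻¹ = w₁⁻¹ * w₂ * w₃ * w₃
  a2 : a * w₂ * a⁻¹ = w₂
  a3 : a * w₃ * a⁻¹ = w₃⁻¹
  b1 : b * w₁ * b⁻¹ = w₁⁻¹
  b2 : b * w₂ * b⁻¹ = w₂⁻¹ * w₃ * w₁ * w₁
  b3 : b * w₃ * b⁻¹ = w₃

def c1 (u : ℕ) : ℕ := (u / 4 % 4 + 3 * (u / 16 % 4)) % 4
def c2 (u : ℕ) : ℕ := u / 16 % 4
def c3 (u : ℕ) : ℕ := (3 * (u % 4) + 2 * (u / 16 % 4)) % 4

/-- The abelian part. -/
def ps (w₁ w₂ w₃ : G) (u : ℕ) : G := w₁ ^ c1 u * w₂ ^ c2 u * w₃ ^ c3 u
/-- The dihedral part. -/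
def de (a b : G) (d : ℕ) : G := b ^ (d % 2) * (a * b * a) ^ (d / 2 % 2) * a ^ (d / 4)

theorem ps_eq (w₁ w₂ w₃ : G) {u : ℕ} (i j k : ℕ) (h : c1 u = i ∧ c2 u = j ∧ c3 u = k) :
    ps w₁ w₂ w₃ u = w₁ ^ i * w₂ ^ j * w₃ ^ k := by
  obtain ⟨rfl, rfl, rfl⟩ := h; rfl

theorem c_add : ∀ u < 64, ∀ v < 64, c1 (add u v) = (c1 u + c1 v) % 4 ∧
    c2 (add u v) = (c2 u + c2 v) % 4 ∧ c3 (add u v) = (c3 u + c3 v) % 4 := by
  have : allLt (fun u => allLt (fun v => Nat.beq (c1 (add u v)) ((c1 u + c1 v) % 4) &&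
      (Nat.beq (c2 (add u v)) ((c2 u + c2 v) % 4) &&
        Nat.beq (c3 (add u v)) ((c3 u + c3 v) % 4))) 64) 64 = true := by decide +kernel
  simpa [allLt_iff] using this

theorem inv_add : ∀ u < 64, invN u < 64 ∧ ∀ v < 64, invN (add u v) = add (invN u) (invN v) := by
  have : allLt (fun u => Nat.blt (invN u) 64 && allLt (fun v =>
      Nat.beq (invN (add u v)) (add (invN u) (invN v))) 64) 64 = true := by decide +kernel
  simpa [allLt_iff, Nat.blt_eq] using this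

theorem ind64 {P : ℕ → Prop} (h4 : P 4) (h22 : P 22) (h3 : P 3)
    (hm : ∀ u < 64, ∀ v < 64, P u → P v → P (add u v)) : ∀ u < 64, P u := by
  have m : ∀ u v, u < 64 ∧ P u → v < 64 ∧ P v → add u v < 64 ∧ P (add u v) :=
    fun u v p q => ⟨add_lt _ _, hm u p.1 v q.1 p.2 q.2⟩
  have p4 : 4 < 64 ∧ P 4 := ⟨by decide, h4⟩
  have p3 : 3 < 64 ∧ P 3 := ⟨by decide, h3⟩
  have p1 : 1 < 64 ∧ P 1 := (by decide +kernel : add 3 (add 3 3) = 1) ▸ m _ _ p3 (m _ _ p3 p3)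
  have p16 : 16 < 64 ∧ P 16 := (by decide +kernel : add 22 (add 4 (add 4 (add 4 (add 1 1)))) = 16) ▸
    m _ _ ⟨by decide, h22⟩ (m _ _ p4 (m _ _ p4 (m _ _ p4 (m _ _ p1 p1))))
  have k : ∀ u < 64, u = add 1 3 ∨ ∃ v < u, u = add 1 v ∨ u = add 4 v ∨ u = add 16 v := by
    decide +kernel
  intro u
  induction u using Nat.strong_induction_on with
  | _ u ih =>
  intro hu
  rcases k u hu with rfl | ⟨v, hv, e⟩
  · exact (m _ _ p1 p3).2
  have pv : v < 64 ∧ P v := ⟨hv.trans hu, ih v hv (hv.trans hu)⟩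
  rcases e with e | e | e
  exacts [e ▸ (m _ _ p1 pv).2, e ▸ (m _ _ p4 pv).2, e ▸ (m _ _ p16 pv).2]

theorem dm_eq : ∀ d < 8, ∀ f < 8, dm d f =
    if d < 4 then d ^^^ f else d ^^^ (f / 2 % 2 + 2 * (f % 2) + 4 * (f / 4)) := by decide +kernel

theorem inv3 {w : G} (h : w ^ 4 = 1) : w⁻¹ = w ^ 3 :=
  inv_eq_of_mul_eq_one_left (by rw [← pow_succ, h])

section Gen

variable (w₁ w₂ w₃ : G)

theorem ps4 : ps w₁ w₂ w₃ 4 = w₁ := (ps_eq _ _ _ 1 0 0 (by decide)).trans (by simp)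
theorem ps22 : ps w₁ w₂ w₃ 22 = w₂ := (ps_eq _ _ _ 0 1 0 (by decide)).trans (by simp)
theorem ps3 : ps w₁ w₂ w₃ 3 = w₃ := (ps_eq _ _ _ 0 0 1 (by decide)).trans (by simp)
theorem ps0 : ps w₁ w₂ w₃ 0 = 1 := (ps_eq _ _ _ 0 0 0 (by decide)).trans (by simp)

end Gen

namespace Rl

variable {w₁ w₂ w₃ a b : G} (h : Rl w₁ w₂ w₃ a b)
include h

theorem ps_add {u v : ℕ} (hu : u < 64) (hv : v < 64) :
    ps w₁ w₂ w₃ (add u v) = ps w₁ w₂ w₃ u * ps w₁ w₂ w₃ v := by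
  rw [ps_eq _ _ _ _ _ _ (c_add u hu v hv), ← pow_eq_pow_mod _ h.o1, ← pow_eq_pow_mod _ h.o2,
    ← pow_eq_pow_mod _ h.o3, ps, ps, pow_add, pow_add, pow_add,
    ((h.c13.pow_pow _ _).mul_left (h.c23.pow_pow _ _)).symm.mul_mul_mul_comm,
    (h.c12.pow_pow _ _).symm.mul_mul_mul_comm]

theorem cj {g : G} {θ : ℕ → ℕ} (h0 : ∀ u < 64, θ u < 64)
    (h1 : ∀ u < 64, ∀ v < 64, θ (add u v) = add (θ u) (θ v))
    (k1 : g * w₁ * g⁻¹ = ps w₁ w₂ w₃ (θ 4)) (k2 : g * w₂ * g⁻¹ = ps w₁ w₂ w₃ (θ 22))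
    (k3 : g * w₃ * g⁻¹ = ps w₁ w₂ w₃ (θ 3)) :
    ∀ u < 64, g * ps w₁ w₂ w₃ u * g⁻¹ = ps w₁ w₂ w₃ (θ u) :=
  ind64 (by rwa [ps4]) (by rwa [ps22]) (by rwa [ps3]) fun u hu v hv p q => by
    rw [h1 u hu v hv, h.ps_add hu hv, h.ps_add (h0 u hu) (h0 v hv), ← p, ← q, conj_mul]

theorem de_dm {d f : ℕ} (hd : d < 8) (hf : f < 8) : de a b (dm d f) = de a b d * de a b f := by
  have aa := h.aa
  have bb := h.bb
  have ab := h.ab
  have cc : a * b * a * (a * b * a) = 1 := by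
    rw [mul_assoc, ← mul_assoc a, ← mul_assoc a, aa, one_mul, mul_assoc, ← mul_assoc b, bb,
      one_mul, aa]
  have e1 : a * b = a * b * a * a := by rw [mul_assoc _ a, aa, mul_one]
  have e2 : a * (a * b * a) = b * a := by rw [← mul_assoc, ← mul_assoc, aa, one_mul]
  rw [dm_eq d hd f hf]
  unfold de
  generalize a * b * a = c at ab cc e1 e2
  have r : ∀ {p q r s : G}, p * q = r * s → ∀ y, p * (q * y) = r * (s * y) := fun e y => by
    rw [← mul_assoc, e, mul_assoc]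
  have o : ∀ {p : G}, p * p = 1 → ∀ y, p * (p * y) = y := fun e y => by
    rw [← mul_assoc, e, one_mul]
  interval_cases d <;> interval_cases f <;>
    simp [mul_assoc, aa, bb, cc, ab, e1, e2, r ab, r e1, r e2, o bb, o cc]

theorem de_ps : ∀ d < 8, ∀ u < 64,
    de a b d * ps w₁ w₂ w₃ u * (de a b d)⁻¹ = ps w₁ w₂ w₃ (act d u) := by
  have m : ∀ d f, d < 8 ∧ (∀ u < 64, de a b d * ps w₁ w₂ w₃ u * (de a b d)⁻¹ = ps w₁ w₂ w₃ (act d u)) →
      f < 8 ∧ (∀ u < 64, de a b f * ps w₁ w₂ w₃ u * (de a b f)⁻¹ = ps w₁ w₂ w₃ (act f u)) →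
      dm d f < 8 ∧ ∀ u < 64, de a b (dm d f) * ps w₁ w₂ w₃ u * (de a b (dm d f))⁻¹ =
        ps w₁ w₂ w₃ (act (dm d f) u) := fun d f p q => ⟨dm_lt _ _, fun u hu => by
    rw [h.de_dm p.1 q.1, act_dm d p.1 f q.1 u hu, ← p.2 _ (act_lt _ _), ← q.2 u hu]; group⟩
  have p4 := And.intro (by decide : 4 < 8) ((show de a b 4 = a by simp [de]).symm ▸
    h.cj (g := a) (fun u _ => act_lt 4 u) (act_add 4 (by decide))
      (by rw [h.a1, ps_eq _ _ _ 3 1 2 (by decide +kernel), inv3 h.o1, pow_one, pow_two w₃, mul_assoc])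
      (by rw [h.a2, ps_eq _ _ _ 0 1 0 (by decide +kernel)]; simp)
      (by rw [h.a3, ps_eq _ _ _ 0 0 3 (by decide +kernel), inv3 h.o3]; simp) :
      ∀ u < 64, de a b 4 * _ * (de a b 4)⁻¹ = _)
  have p1 := And.intro (by decide : 1 < 8) ((show de a b 1 = b by simp [de]).symm ▸
    h.cj (g := b) (fun u _ => act_lt 1 u) (act_add 1 (by decide))
      (by rw [h.b1, ps_eq _ _ _ 3 0 0 (by decide +kernel), inv3 h.o1]; simp)
      (by rw [h.b2, ps_eq _ _ _ 2 3 1 (by decide +kernel), inv3 h.o2, pow_one, mul_assoc, ← pow_two,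
        mul_assoc (w₁ ^ 2)]
          exact (((h.c12.pow_pow 2 3).mul_right (h.c13.pow_left 2)).eq).symm)
      (by rw [h.b3, ps_eq _ _ _ 0 0 1 (by decide +kernel)]; simp) :
      ∀ u < 64, de a b 1 * _ * (de a b 1)⁻¹ = _)
  have p5 := m _ _ p1 p4
  have p2 := m _ _ p4 p5
  have p3 := m _ _ p1 p2
  have k : ∀ d < 8, d = 1 ∨ d = 4 ∨ d = dm 1 1 ∨ d = dm 1 4 ∨ d = dm 4 (dm 1 4) ∨
      d = dm 1 (dm 4 (dm 1 4)) ∨ d = dm (dm 4 (dm 1 4)) 4 ∨ d = dm (dm 1 (dm 4 (dm 1 4))) 4 := by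
    decide +kernel
  intro d hd
  rcases k d hd with e | e | e | e | e | e | e | e <;> rw [e]
  exacts [p1.2, p4.2, (m _ _ p1 p1).2, p5.2, p2.2, p3.2, (m _ _ p2 p4).2, (m _ _ p3 p4).2]

/-- The homomorphism. -/
def hom : U →* G := MonoidHom.mk' (fun s => ps w₁ w₂ w₃ (s.n % 64) * de a b (s.n / 64)) fun s t => by
  have d : ∀ s : U, s.n / 64 < 8 := fun s => by have := s.lt; omega
  have m : ∀ s : U, s.n % 64 < 64 := fun s => Nat.mod_lt _ (by decide)
  have := add_lt s.n (act (s.n / 64) (t.n % 64))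
  have e1 : (s * t).n / 64 = dm (s.n / 64) (t.n / 64) := by rw [mul_n, mulN_eq]; omega
  have e2 : (s * t).n % 64 = add s.n (act (s.n / 64) (t.n % 64)) := by rw [mul_n, mulN_eq]; omega
  rw [e1, e2, ← add_mod, h.ps_add (m s) (act_lt _ _), h.de_dm (d s) (d t), ← h.de_ps _ (d s) _ (m t)]
  group

theorem hom_el (u d : ℕ) (hu : u < 64) (hd : d < 8) :
    h.hom (el (u + 64 * d)) = ps w₁ w₂ w₃ u * de a b d := by
  change ps w₁ w₂ w₃ ((u + 64 * d) % 512 % 64) * de a b ((u + 64 * d) % 512 / 64) = _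
  congr 2 <;> omega

theorem hom_A (u : ℕ) (hu : u < 64) : h.hom (el u) = ps w₁ w₂ w₃ u :=
  (h.hom_el u 0 hu (by decide)).trans (by simp [de])

theorem hom_D (d : ℕ) (hd : d < 8) : h.hom (el (0 + 64 * d)) = de a b d := by
  rw [h.hom_el 0 d (by decide) hd, ps0, one_mul]

end Rl

/-- The level in the upper central series. -/
def rk (s : U) : ℕ := Nat.mod (Nat.shiftRight 0x55555555555555555555555555555555555555555555555555555555555555555555555555555555555555555555555555555555555555555555555555555555555555555555555555555555555555555555555555555555555555555555555555555555555555555555555555555555555555555555555555555555555555554444555544445555555544445555444444445555444455555555444455554444555555555555555555555555555555555555555555555555555555555555555555555555555555555555555555555555555555555555555555555555555555554444555544445555555522225555333344445555444455555555333355552120 (Nat.mul 4 s.n))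 16

theorem inj_of (φ : U →* G) (h : φ ez ≠ 1) : Function.Injective φ := by
  have k : ∀ s : U, s = 1 ∨ s = ez ∨ ∃ g ∈ [ei, gq, gr, u2, ea],
      g * s * g⁻¹ * s⁻¹ ≠ 1 ∧ rk (g * s * g⁻¹ * s⁻¹) < rk s := by decide +kernel
  refine (injective_iff_map_eq_one φ).2 fun s hs => ?_
  induction e : rk s using Nat.strong_induction_on generalizing s with
  | _ n ih =>
  rcases k s with p | rfl | ⟨g, -, p, q⟩
  · exact p
  · exact absurd hs h
  · exact absurd (ih _ (e ▸ q) _ (by simp [hs]) rfl) p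

open H67.SA H63.A8

universe u

theorem jobHM : J8HM.{u} := by
  intro n F _ _ _ hp G _ _ e t w₁ w₂ w₃ b c
  obtain rfl := hp.three
  have o : ∀ {w : G} {j : Fin (3 + 1)}, w * w = e (x 0 j 1) → w ^ 4 = 1 := fun {w j} k => by
    rw [show w ^ 4 = w * w * (w * w) by simp only [pow_succ, pow_zero, one_mul, mul_assoc], k,
      ← map_mul, x_mul_self, map_one]
  have cc : x 1 2 (1 : F) * x 2 (la 3) 1 * x 1 2 1 * x 2 (la 3) 1 = x 1 (la 3) 1 := by
    have := x_cm (n := 3) (F := F) (i := 1) (j := 2) (k := la 3) (by decide) (by decide) (by decide) 1 1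
    rwa [cm, x_inv, x_inv, mul_one] at this
  have cc' : x 2 (la 3) (1 : F) * (x 1 2 1 * x 2 (la 3) 1 * x 1 2 1) = x 1 (la 3) 1 := by
    rw [← x_inv 1 (la 3), ← cc]
    simp only [_root_.mul_inv_rev, x_inv, mul_assoc]
  have h : Rl w₁ w₂ w₃ (e (x 1 2 1)) (e (x 2 (la 3) 1)) :=
    ⟨c.c12, c.c13, c.c23, o c.s1, o c.s2, o c.s3, by rw [← map_mul, x_mul_self, map_one],
      by rw [← map_mul, x_mul_self, map_one], by simp only [← map_mul, cc, cc'],
      c.a1, c.a2, c.a3, c.b1, c.b2, c.b3⟩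
  have e1 : h.hom (el 4) = w₁ := (h.hom_A 4 (by decide)).trans (ps4 ..)
  have e2 : h.hom (el 22) = w₂ := (h.hom_A 22 (by decide)).trans (ps22 ..)
  have e3 : h.hom (el 3) = w₃ := (h.hom_A 3 (by decide)).trans (ps3 ..)
  have ea : h.hom (el 256) = e (x 1 2 1) := (h.hom_D 4 (by decide)).trans (by simp [de])
  have eb : h.hom (el 64) = e (x 2 (la 3) 1) := (h.hom_D 1 (by decide)).trans (by simp [de])
  have ec : h.hom (el 192) = e (x 1 (la 3) 1) := (h.hom_D 3 (by decide)).trans (by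
    rw [← cc']; simp [de])
  have v1 : h.hom (el 4 * el 4) = e (x 0 1 1) := by rw [map_mul, e1, c.s1]
  have v2 : h.hom (el 22 * el 22) = e (x 0 2 1) := by rw [map_mul, e2, c.s2]
  have v3 : h.hom (el 3 * el 3) = e (x 0 (la 3) 1) := by rw [map_mul, e3, c.s3]
  have inj : Function.Injective h.hom := inj_of _ fun k => by
    rw [(by decide +kernel : ez = el 3 * el 3), v3] at k
    exact one_ne_zero ((x_mem_center (by decide)).1 (b.ker k))
  have m1 : w₁ ∈ WW w₁ w₂ w₃ := Subgroup.subset_closure (by simp)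
  have m2 : w₂ ∈ WW w₁ w₂ w₃ := Subgroup.subset_closure (by simp)
  have m3 : w₃ ∈ WW w₁ w₂ w₃ := Subgroup.subset_closure (by simp)
  have mp : ∀ u, ps w₁ w₂ w₃ u ∈ WW w₁ w₂ w₃ := fun u =>
    mul_mem (mul_mem (pow_mem m1 _) (pow_mem m2 _)) (pow_mem m3 _)
  have lt : ∀ s ∈ A, s.n < 64 := by decide +kernel
  have mA : A.map h.hom = WW w₁ w₂ w₃ := by
    refine le_antisymm ?_ ((Subgroup.closure_le _).2 ?_)
    · rintro _ ⟨s, hs, rfl⟩
      rw [← el_n s, h.hom_A _ (lt s hs)]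
      exact mp _
    · rintro _ (rfl | rfl | rfl)
      exacts [⟨_, (by decide +kernel : el 4 ∈ A), e1⟩, ⟨_, (by decide +kernel : el 22 ∈ A), e2⟩,
        ⟨_, (by decide +kernel : el 3 ∈ A), e3⟩]
  have mV : V.map h.hom = (Er 3 F).map e := by
    refine le_antisymm ?_ (map_Pat_le.2 fun i j hij hi a => ?_)
    · rintro _ ⟨s, hs, rfl⟩
      have k : ∀ s ∈ V, ∃ i < 2, ∃ j < 2, ∃ k < 2,
          s = (el 4 * el 4) ^ i * (el 22 * el 22) ^ j * (el 3 * el 3) ^ k := by decide +kernel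
      obtain ⟨i, -, j, -, k, -, rfl⟩ := k s hs
      rw [map_mul, map_mul, map_pow, map_pow, map_pow, v1, v2, v3]
      have r : ∀ j, e (x 0 j 1) ∈ (Er 3 F).map e := fun j => ⟨_, x_mem_Row _ _ _, rfl⟩
      exact mul_mem (mul_mem (pow_mem (r _) _) (pow_mem (r _) _)) (pow_mem (r _) _)
    · subst hi
      rcases hp.fld a with rfl | rfl
      · rw [x_zero, map_one]; exact one_mem _
      fin_cases j
      · exact absurd rfl hij
      exacts [⟨_, (by decide +kernel : el 4 * el 4 ∈ V), v1⟩,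
        ⟨_, (by decide +kernel : el 22 * el 22 ∈ V), v2⟩, ⟨_, (by decide +kernel : el 3 * el 3 ∈ V), v3⟩]
  have ct : ∀ s, t * e s * t⁻¹ = e s := fun s => by
    rw [← b.cen _ ⟨s, rfl⟩, mul_inv_cancel_right]
  have ta : ∀ s, t * h.hom s * t⁻¹ = h.hom (tau s) := fun s => by
    have m : s.n % 64 < 64 := Nat.mod_lt _ (by decide)
    rw [tau, h.hom_el _ _ (inv_add _ m).1 (by have := s.lt; omega),
      ← h.cj (g := t) (fun u hu => (inv_add u hu).1) (fun u hu => (inv_add u hu).2)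
        (by rw [c.t1, ps_eq _ _ _ 3 0 0 (by decide +kernel), inv3 h.o1]; simp)
        (by rw [c.t2, ps_eq _ _ _ 0 3 0 (by decide +kernel), inv3 h.o2]; simp)
        (by rw [c.t3, ps_eq _ _ _ 0 0 3 (by decide +kernel), inv3 h.o3]; simp) _ m]
    have : de (e (x 1 2 1)) (e (x 2 (la 3) 1)) (s.n / 64) =
        e (de (x 1 2 1) (x 2 (la 3) 1) (s.n / 64)) := by simp [de]
    change t * (ps _ _ _ _ * de _ _ _) * _ = _
    rw [this, ← ct (de _ _ _), conj_mul, ct]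
  refine ⟨h.hom, inj, le_antisymm ?_ (sup_le (mA ▸ Subgroup.map_le_range _ _)
    (map_Pat_le.2 fun i j _ hij a => ?_)), mA, mV, ea, eb, ec, ta, ?_⟩
  · rintro _ ⟨s, rfl⟩
    have ma : e (x 1 2 1) ∈ (UU 3 F).map e := ⟨_, x_mem_UU (by decide) _, rfl⟩
    have mb : e (x 2 (la 3) 1) ∈ (UU 3 F).map e := ⟨_, x_mem_UU (by decide) _, rfl⟩
    exact Subgroup.mul_mem_sup (mp _) (mul_mem (mul_mem (pow_mem mb _)
      (pow_mem (mul_mem (mul_mem ma mb) ma) _)) (pow_mem ma _))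
  · rcases hp.fld a with rfl | rfl
    · rw [x_zero, map_one]; exact one_mem _
    fin_cases i <;> fin_cases j <;> first
      | exact absurd hij (by decide)
      | exact ⟨_, v1⟩ | exact ⟨_, v2⟩ | exact ⟨_, v3⟩ | exact ⟨_, ea⟩ | exact ⟨_, eb⟩ | exact ⟨_, ec⟩
  · rintro ⟨s, rfl⟩
    have k : ∀ s : U, ∃ g ∈ [ei, gq, gr], s * g * s⁻¹ ≠ tau g := by decide +kernel
    obtain ⟨g, -, k⟩ := k s
    exact k (inj (by rw [← ta, map_mul, map_mul, map_inv]))

end H80.A8HM
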