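/- Tower EA, slot Frob: the sum of a generalized character over the `p`-elements. -/
import Cfsg.Agent.H68.EaSpec
import Cfsg.Agent.H35.PRegInd

set_option autoImplicit false

namespace H80.EA

open Cfsg H28 H68.EA

universe u

theorem jobFrob : JobFrob.{u} := by
  intro G _ _ p χ hp hχ
  classical
  have n0 : Nat.card G ≠ 0 := Nat.card_pos.ne'
  have key : ∀ s : Finset ℕ, (∀ q ∈ s, q.Prime) → IsGeneralizedCharacter G fun x =>
      (if ∀ q ∈ s, ¬ q ∣ orderOf x then ((∏ q ∈ s, q ^ (Nat.card G).factorization q : ℕ) : ℂ) else 0) *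
        χ x := fun s hs => by
    induction s using Finset.induction_on with
    | empty => simpa using hχ
    | insert q s hq ih =>
      convert (H35.isGenChar_pRegInd (G := G) (hs q (Finset.mem_insert_self _ _))).mul
        (ih fun r hr => hs r (Finset.mem_insert_of_mem hr)) using 1
      funext x
      simp only [Finset.forall_mem_insert, Finset.prod_insert hq, Pi.mul_apply, Pi.smul_apply,
        pRegularPart, smul_eq_mul]
      by_cases h1 : q ∣ orderOf x <;> by_cases h2 : ∀ r ∈ s, ¬ r ∣ orderOf x <;>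
        simp [IsPRegular, h1, h2, mul_assoc]
  obtain ⟨n, hn⟩ := (key ((Nat.card G).primeFactors.erase p) fun q hq =>
    Nat.prime_of_mem_primeFactors (Finset.mem_of_mem_erase hq)).classInner_int
      isGeneralizedCharacter_one
  refine ⟨n, ?_⟩
  set m := ∏ q ∈ (Nat.card G).primeFactors.erase p, q ^ (Nat.card G).factorization q with hm
  have e : p ^ (Nat.card G).factorization p * m = Nat.card G := by
    conv_rhs => rw [← Nat.prod_factorization_pow_eq_self n0, Finsupp.prod, Nat.support_factorization]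
    by_cases h : p ∈ (Nat.card G).primeFactors
    · exact Finset.mul_prod_erase _ (fun q => q ^ (Nat.card G).factorization q) h
    · rw [hm, Finset.erase_eq_of_notMem h, Finsupp.notMem_support_iff.1 h, pow_zero, one_mul]
  have m0 : (m : ℂ) ≠ 0 := Nat.cast_ne_zero.2 fun k => n0 (by rw [← e, k, mul_zero])
  have iff : ∀ x : G, (∀ q ∈ (Nat.card G).primeFactors.erase p, ¬ q ∣ orderOf x) ↔
      ∃ k, orderOf x = p ^ k := fun x => ⟨fun h => ⟨_, Nat.eq_prime_pow_of_unique_prime_dvd
        (orderOf_pos x).ne' fun {q} hq d => by_contra fun k => h q (Finset.mem_erase.2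
          ⟨k, Nat.mem_primeFactors.2 ⟨hq, d.trans (orderOf_dvd_natCard x), n0⟩⟩) d⟩,
      fun ⟨k, hk⟩ q hq d => (Finset.mem_erase.1 hq).1 ((Nat.prime_dvd_prime_iff_eq
        (Nat.prime_of_mem_primeFactors (Finset.mem_of_mem_erase hq)) hp).1
          ((Nat.prime_of_mem_primeFactors (Finset.mem_of_mem_erase hq)).dvd_of_dvd_pow (hk ▸ d)))⟩
  simp only [classInner, iff, map_one, mul_one, ite_mul, zero_mul] at hn
  rw [← Finset.sum_filter, ← Finset.mul_sum, inv_mul_eq_iff_eq_mul₀ (Nat.cast_ne_zero.2 n0), ← e] at hn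
  push_cast at hn
  exact mul_left_cancel₀ m0 (by rw [← mul_assoc, mul_comm (m : ℂ) (_ ^ _), ← hn])

end H80.EA
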