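import Cfsg.Agent.H80.Scr
import Cfsg.Agent.H80.M21
/-! Classification of the closed subsets of the model on 693 points. -/
namespace H80
open H71
noncomputable def Q22 : ℕ := nat_lit 0x3fffffffffffffffffffffffffffffff
noncomputable def goals22 : List ℕ := [Q22]
def Y22 : List ℕ := [126]
def U22 : List ℕ := [3, 43, 667, 686]
theorem scr22_0 : Scr.chk M21 A21 Lam21 (maskL Y22) (maskL U22) goals22 [(maskL [0], 0)]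
  (.mv [2, 3]
  (.call 0))
  (maskL [126]) 0 = true := by decide +kernel
theorem scr22_1 : Scr.chk M21 A21 Lam21 (maskL Y22) (maskL U22) goals22 [(maskL [0, 43], 0)]
  (.case 43
  (.call 0)
  (.case 128
  (.mv [5, 6, 4, 3, 2, 3, 4, 5]
  (.call 0))
  (.case 533
  (.mv [5, 12, 8, 4, 3, 2, 3, 4, 5, 12, 7, 4, 3, 4, 7, 8, 5, 7, 4, 3, 4, 7, 6, 5]
  (.call 0))
  (.lineI [2, 3] 689
  (.mv [5, 12, 8, 7, 4, 3, 4, 7, 8, 4, 3, 2, 3, 4, 5, 12, 8, 7, 4, 3, 4, 7, 6, 5]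
  (.call 0))))))
  (maskL [0]) 0 = true := by decide +kernel
theorem scr22_2 : Scr.chk M21 A21 Lam21 (maskL Y22) (maskL U22) goals22 [(maskL [0, 43, 24], 0)]
  (.case 24
  (.call 0)
  (.case 203
  (.mv [12, 5, 12, 6, 5, 4, 3, 2, 3, 4, 5, 6, 12, 5]
  (.call 0))
  (.case 386
  (.mv [7, 4, 3, 4, 7, 5, 4, 3, 7, 6, 5, 4, 3, 2, 3, 4, 5, 6, 7, 3, 4, 5]
  (.call 0))
  (.lineI [2, 3, 12, 5, 4, 8, 12, 5] 441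
  (.mv [7, 3, 2, 3, 7, 4, 5, 12, 6, 5, 4, 3, 4, 5, 6, 12, 5, 4]
  (.call 0))))))
  (maskL [0, 43]) 0 = true := by decide +kernel
theorem scr22_3 : Scr.chk M21 A21 Lam21 (maskL Y22) (maskL U22) goals22 [(maskL [0, 43, 24, 23], 0)]
  (.case 23
  (.call 0)
  (.case 270
  (.lineO [7, 3, 2, 8, 7, 3] 270
  .contra)
  (.case 421
  (.mv [7, 4, 3, 4, 7, 5, 4, 3, 7, 6, 5, 4, 3, 2, 3, 4, 5, 6, 7, 3, 4, 7, 4, 3, 4, 7, 8, 12, 5, 7, 4, 3, 4, 7, 4, 3, 2, 3, 4, 5, 12, 14]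
  (.call 0))
  (.lineI [2, 7, 4, 3, 2, 3, 4, 7, 3, 5, 4, 8, 12, 5] 427
  (.mv [2, 14, 15]
  (.call 0))))))
  (maskL [0, 43, 24]) 0 = true := by decide +kernel
theorem scr22_4 : Scr.chk M21 A21 Lam21 (maskL Y22) (maskL U22) goals22 [(maskL [0, 43, 24, 23, 95], 0)]
  (.case 95
  (.call 0)
  (.case 159
  (.lineO [7, 3, 2, 8, 7, 3] 159
  .contra)
  (.case 411
  (.lineO [7, 3, 2, 8, 4, 3, 2, 3, 4, 7, 3, 5, 4, 8, 12, 5] 23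
  .contra)
  (.lineI [2, 3, 5, 4, 7, 8, 3, 7, 4, 3, 2, 3, 4, 7, 3, 5] 445
  (.lineO [2, 3, 5, 4, 6, 5, 7, 3, 4, 8, 7, 3, 8, 7, 12, 5, 4, 8, 12, 5] 23
  .contra)))))
  (maskL [0, 43, 24, 23]) 0 = true := by decide +kernel
theorem scr22_5 : Scr.chk M21 A21 Lam21 (maskL Y22) (maskL U22) goals22 [(maskL [0, 43, 24, 23, 95, 98], 0)]
  (.case 98
  (.call 0)
  (.case 138
  (.lineO [5, 4, 3, 2, 6, 5, 4, 3, 7, 8, 3, 7, 4, 3, 2, 3, 4, 7, 3, 5] 23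
  .contra)
  (.case 292
  (.lineO [4, 12, 5, 6, 8, 7, 12, 5, 4, 3] 24
  .contra)
  (.lineI [2, 3, 5, 4, 7, 8, 12, 5] 584
  (.lineO [2, 12, 5, 6, 8, 7, 12, 5, 4, 3, 8, 7, 12, 5, 6, 8, 12, 5] 584
  .contra)))))
  (maskL [0, 43, 24, 23, 95]) 0 = true := by decide +kernel
theorem scr22_6 : Scr.chk M21 A21 Lam21 (maskL Y22) (maskL U22) goals22 [(maskL [0, 43, 24, 23, 95, 98, 3], 0)]
  (.case 3
  (.call 0)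
  (.case 126
  (.mv [4, 3, 2, 3, 4, 3]
  (.call 0))
  (.case 667
  (.mv [7, 8, 12, 3, 7, 8, 5, 4, 3, 7, 6, 5, 4, 3, 2, 3, 4, 5, 6, 7, 3, 4, 5, 8, 7, 3, 12, 8, 7, 3]
  (.call 0))
  (.lineI [5, 4, 3, 2, 6, 5, 4, 3] 686
  (.mv [12, 8, 7, 4, 3, 4, 7, 8, 12, 2, 3, 7, 8, 5, 4, 3, 7, 6, 5, 4, 3, 2, 3, 4, 5, 6, 7, 3, 4, 5, 8, 7, 3, 2]
  (.call 0))))))
  (maskL [0, 43, 24, 23, 95, 98]) 0 = true := by decide +kernel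
theorem scr22_7 : Scr.chk M21 A21 Lam21 (maskL Y22) (maskL U22) goals22 [(maskL [0, 43, 24, 23, 95, 98, 3, 6], 0)]
  (.case 6
  (.call 0)
  (.case 136
  (.mv [8, 7, 8, 3, 7, 4, 3, 2, 3, 4, 7, 3, 8, 7]
  (.call 0))
  (.case 389
  (.mv [12, 8, 5, 4, 3, 7, 6, 5, 4, 3, 2, 3, 4, 5, 6, 7, 3, 4, 5, 8, 12, 8]
  (.call 0))
  (.lineI [5, 4, 3, 2, 6, 5, 4, 3, 5, 3, 7, 4, 3, 2, 3, 4, 7, 3, 4, 5] 684
  (.mv [8, 5, 6, 4, 5, 12, 8, 3, 4, 5, 12, 6, 5, 4, 3, 2, 3, 4, 5, 6, 12, 5, 4, 3, 8, 12, 5, 4, 6, 5]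
  (.call 0))))))
  (maskL [0, 43, 24, 23, 95, 98, 3]) 0 = true := by decide +kernel
theorem scr22_8 : Scr.chk M21 A21 Lam21 (maskL Y22) (maskL U22) goals22 [(maskL [0, 43, 24, 23, 95, 98, 3, 6, 15], 0)]
  (.case 15
  (.call 0)
  (.case 133
  (.clo ⟨[], 7⟩
  (.clo ⟨[], 4⟩
  (.clo ⟨[], 3⟩
  (.clo ⟨[], 8⟩
  (.clo ⟨[], 7⟩
  (.clo ⟨[], 8⟩
  (.clo ⟨[], 6⟩
  (.clo ⟨[], 4⟩
  (.clo ⟨[6, 5, 4, 3], 2⟩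
  (.lineO [2, 4, 7, 12, 5, 6, 8, 12, 5, 4, 3] 13
  .contra))))))))))
  (.case 567
  (.clo ⟨[], 4⟩
  (.clo ⟨[], 7⟩
  (.clo ⟨[], 3⟩
  (.clo ⟨[], 8⟩
  (.clo ⟨[], 6⟩
  (.clo ⟨[], 7⟩
  (.clo ⟨[], 4⟩
  (.clo ⟨[], 8⟩
  (.clo ⟨[], 3⟩
  (.clo ⟨[12, 8, 7, 4], 3⟩
  (.lineO [3, 4, 5, 6, 5, 12, 5, 4, 8, 7, 3, 4, 12, 5] 671
  .contra)))))))))))
  (.lineI [2, 3, 4, 5] 666
  (.clo ⟨[], 4⟩
  (.clo ⟨[], 7⟩
  (.clo ⟨[], 3⟩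
  (.clo ⟨[], 8⟩
  (.clo ⟨[], 6⟩
  (.clo ⟨[], 7⟩
  (.clo ⟨[], 4⟩
  (.clo ⟨[], 8⟩
  (.clo ⟨[], 3⟩
  (.clo ⟨[12, 8, 7, 4], 3⟩
  (.lineO [3, 4, 8, 7, 3, 12, 5, 4, 6, 5, 12, 8, 7, 3, 5, 3, 7, 4, 3, 2, 3, 4, 7, 3, 12, 5] 592
  .contra)))))))))))))))
  (maskL [0, 43, 24, 23, 95, 98, 3, 6]) 0 = true := by decide +kernel
theorem scr22_9 : Scr.chk M21 A21 Lam21 (maskL Y22) (maskL U22) goals22 [(maskL [0, 3, 15, 43, 6, 24, 45], 0)]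
  (.clo ⟨[], 4⟩
  (.clo ⟨[], 7⟩
  (.clo ⟨[], 5⟩
  (.clo ⟨[], 3⟩
  (.clo ⟨[], 6⟩
  (.clo ⟨[], 4⟩
  (.clo ⟨[], 7⟩
  (.clo ⟨[], 8⟩
  (.call 0)))))))))
  (maskL [0, 43, 24, 23, 95, 98, 3, 6, 15]) 0 = true := by decide +kernel
theorem scr22_10 : Scr.chk M21 A21 Lam21 (maskL Y22) (maskL U22) goals22 []
  (.lineO [2, 3] 43
  (.clo ⟨[], 5⟩
  (.clo ⟨[], 4⟩
  (.clo ⟨[], 7⟩
  (.clo ⟨[], 3⟩
  (.clo ⟨[], 8⟩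
  (.clo ⟨[], 12⟩
  (.clo ⟨[], 6⟩
  (.clo ⟨[], 5⟩
  (.clo ⟨[], 4⟩
  (.clo ⟨[], 8⟩
  (.clo ⟨[], 7⟩
  (.clo ⟨[], 3⟩
  (.clo ⟨[], 12⟩
  (.clo ⟨[], 8⟩
  (.clo ⟨[], 6⟩
  (.clo ⟨[], 5⟩
  (.clo ⟨[], 12⟩
  (.clo ⟨[], 6⟩
  (.fin 0))))))))))))))))))))
  (maskL [0, 3, 15, 43, 6, 24, 45]) 0 = true := by decide +kernel
theorem classify22 {G : Type*} [Group G] {S Q : Set G} {C : Prop}
    (H : ScrHyp M21 A21 Lam21 (maskL Y22) (maskL U22) goals22 S Q C) :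
    Holds' M21 S Q C (maskL Y22) 0 := by
  have step : ∀ {a b : List ℕ} {s : Scr}, Scr.chk M21 A21 Lam21 (maskL Y22) (maskL U22) goals22
      [(maskL a, 0)] s (maskL b) 0 = true → Holds' M21 S Q C (maskL a) 0 →
      Holds' M21 S Q C (maskL b) 0 := fun h h' =>
    Scr.sound H (fun z hz => by rw [List.mem_singleton.1 hz]; exact h') _ h
  exact step scr22_0 <| step scr22_1 <| step scr22_2 <| step scr22_3 <| step scr22_4 <| step scr22_5 <| step scr22_6 <| step scr22_7 <| step scr22_8 <| step scr22_9 <| Scr.sound H (by simp) _ scr22_10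
end H80
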