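import Cfsg.Agent.H80.Step5
import Cfsg.Agent.H80.C22
import Cfsg.Agent.H80.M22
/-! The enumeration certificate for the model on 3510 points. -/
set_option Elab.async false
namespace H80
open H71
universe u
def X22 : List ℕ := [2, 3, 4, 5, 6, 7, 8, 12]
theorem lvl22a : compatChk A21 A22 10 M21.n X22 = true := by decide +kernel
theorem lvl22b : lvlChk1 M21 M22 F22 X22 0 1 2 695 696 Q22 0 = true := by decide +kernel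
theorem lvl22c : lvlChk2 M21 M22 A22 X22 0 1 2 695 696 [2, 4, 6, 3, 7, 8, 12, 4, 3, 7, 8, 5, 4, 3, 7, 6, 5, 4, 3, 2, 3, 4, 5, 6, 7, 3, 4, 5, 8, 7, 3, 4, 2, 3, 7, 8, 5, 4, 3, 7, 6, 5, 4, 3, 2, 3, 4, 5, 6, 7, 3, 4, 5, 8, 7, 3, 2, 12, 8, 7, 3]
  [1, 0, 2, 5, 3, 6, 7, 1, 4, 3, 6, 2, 5, 1, 4, 0, 3, 5, 2, 6, 7, 1, 2, 3, 5, 6]
  [0, 1, 2, 3, 6, 4, 7, 8, 2, 5, 1, 4, 7, 6, 2, 3, 1, 8, 7, 2, 4, 5, 6, 8, 7, 4, 3, 2, 8, 1] = true := by decide +kernel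
theorem lvl22d0 : allL (fun l => maps A22 [0, 2, 4, 6, 3, 7, 8, 12, 4, 3, 7, 8, 5, 4, 3, 7, 6, 5, 4, 3, 2, 3, 4, 5, 6, 7, 3, 4, 5, 8, 7, 3, 4, 2, 3, 7, 8, 5, 4, 3, 7, 6, 5, 4, 3, 2, 3, 4, 5, 6, 7, 3, 4, 5, 8, 7, 3, 2, 12, 8, 7, 3] (M22.g l) (M22.g l)) [0, 1, 2, 3, 4, 5, 6, 7, 8, 12] = true := by decide +kernel
theorem lvl22 : Lvl M21 M22 X22 0 1 2 695 696 Q22 := lvl_of_chk bm21 bm22 rfl lvl22a lvl22b lvl22c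
  (of_allL lvl22d0)
def rels22 : List (Rel × ℕ) := [
  (.pp ⟨⟨[], 2⟩, 126⟩ ⟨⟨[], 3⟩, 0⟩ 3, 0),
  (.pp ⟨⟨[], 2⟩, 126⟩ ⟨⟨[], 4⟩, 3⟩ 2, 0),
  (.pp ⟨⟨[], 2⟩, 126⟩ ⟨⟨[], 5⟩, 15⟩ 2, 0),
  (.pp ⟨⟨[], 2⟩, 126⟩ ⟨⟨[], 6⟩, 43⟩ 2, 0),
  (.pp ⟨⟨[], 2⟩, 126⟩ ⟨⟨[], 7⟩, 6⟩ 2, 0),
  (.pp ⟨⟨[], 2⟩, 126⟩ ⟨⟨[], 8⟩, 24⟩ 2, 0),
  (.pp ⟨⟨[], 2⟩, 126⟩ ⟨⟨[], 12⟩, 45⟩ 2, 0),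
  (.dp ⟨⟨[], 2⟩, 126⟩, 0),
  (.pp ⟨⟨[], 3⟩, 0⟩ ⟨⟨[], 4⟩, 3⟩ 3, 0),
  (.pp ⟨⟨[], 3⟩, 0⟩ ⟨⟨[], 5⟩, 15⟩ 2, 0),
  (.pp ⟨⟨[], 3⟩, 0⟩ ⟨⟨[], 6⟩, 43⟩ 2, 0),
  (.pp ⟨⟨[], 3⟩, 0⟩ ⟨⟨[], 7⟩, 6⟩ 3, 0),
  (.pp ⟨⟨[], 3⟩, 0⟩ ⟨⟨[], 8⟩, 24⟩ 2, 0),
  (.pp ⟨⟨[], 3⟩, 0⟩ ⟨⟨[], 12⟩, 45⟩ 2, 0),
  (.dp ⟨⟨[], 3⟩, 0⟩, 0),
  (.pp ⟨⟨[], 4⟩, 3⟩ ⟨⟨[], 5⟩, 15⟩ 3, 0),
  (.pp ⟨⟨[], 4⟩, 3⟩ ⟨⟨[], 7⟩, 6⟩ 2, 0),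
  (.pp ⟨⟨[], 4⟩, 3⟩ ⟨⟨[], 8⟩, 24⟩ 2, 0),
  (.pp ⟨⟨[], 4⟩, 3⟩ ⟨⟨[], 12⟩, 45⟩ 2, 0),
  (.dp ⟨⟨[], 4⟩, 3⟩, 0),
  (.pp ⟨⟨[], 5⟩, 15⟩ ⟨⟨[], 7⟩, 6⟩ 2, 0),
  (.pp ⟨⟨[], 5⟩, 15⟩ ⟨⟨[], 8⟩, 24⟩ 2, 0),
  (.dp ⟨⟨[], 5⟩, 15⟩, 0),
  (.pp ⟨⟨[], 6⟩, 43⟩ ⟨⟨[], 7⟩, 6⟩ 2, 0),
  (.pp ⟨⟨[], 6⟩, 43⟩ ⟨⟨[], 8⟩, 24⟩ 2, 0),
  (.dp ⟨⟨[], 6⟩, 43⟩, 0),
  (.pp ⟨⟨[], 7⟩, 6⟩ ⟨⟨[], 8⟩, 24⟩ 3, 0),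
  (.pp ⟨⟨[], 7⟩, 6⟩ ⟨⟨[], 12⟩, 45⟩ 2, 0),
  (.dp ⟨⟨[], 7⟩, 6⟩, 0),
  (.pp ⟨⟨[], 8⟩, 24⟩ ⟨⟨[], 12⟩, 45⟩ 3, 0),
  (.dp ⟨⟨[], 8⟩, 24⟩, 0),
  (.dp ⟨⟨[], 12⟩, 45⟩, 0),
  (.dc, 0),
  (.pp ⟨⟨[2, 5], 4⟩, 8⟩ ⟨⟨[5], 4⟩, 8⟩ 1, 0),
  (.pp ⟨⟨[2, 8], 7⟩, 13⟩ ⟨⟨[8], 7⟩, 13⟩ 1, 0),
  (.cp ⟨⟨[], 3⟩, 0⟩ 2, 0),
  (.cp ⟨⟨[], 4⟩, 3⟩ 2, 0),
  (.cp ⟨⟨[], 7⟩, 6⟩ 2, 0),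
  (.cp ⟨⟨[], 5⟩, 15⟩ 2, 0),
  (.cp ⟨⟨[], 8⟩, 24⟩ 2, 0),
  (.cp ⟨⟨[], 6⟩, 43⟩ 2, 0),
  (.cp ⟨⟨[], 12⟩, 45⟩ 2, 0),
  (.cp ⟨⟨[], 2⟩, 126⟩ 3, 0),
  (.cp ⟨⟨[8], 7⟩, 13⟩ 2, 0),
  (.cp ⟨⟨[12], 5⟩, 28⟩ 2, 0),
  (.d4 ⟨⟨[], 2⟩, 126⟩ ⟨⟨[3, 4, 5, 12, 6, 5, 4, 3], 2⟩, 200⟩ ⟨⟨[8, 7, 3, 4, 2, 3, 7, 8, 5, 4, 3, 7, 6, 5, 4, 3], 2⟩, 687⟩ [⟨⟨[], 4⟩, 3⟩, ⟨⟨[], 5⟩, 15⟩], 0)]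
def rl22 : List (List ℕ) := [[2, 3, 2, 3, 2, 3], [2, 4, 2, 4], [2, 5, 2, 5], [2, 6, 2, 6], [2, 7, 2, 7], [2, 8, 2, 8], [2, 12, 2, 12], [0, 2, 0, 2], [3, 4, 3, 4, 3, 4], [3, 5, 3, 5], [3, 6, 3, 6], [3, 7, 3, 7, 3, 7], [3, 8, 3, 8], [3, 12, 3, 12], [0, 3, 0, 3], [4, 5, 4, 5, 4, 5], [4, 7, 4, 7], [4, 8, 4, 8], [4, 12, 4, 12], [0, 4, 0, 4], [5, 7, 5, 7], [5, 8, 5, 8], [0, 5, 0, 5], [6, 7, 6, 7], [6, 8, 6, 8], [0, 6, 0, 6], [7, 8, 7, 8, 7, 8], [7, 12, 7, 12], [0, 7, 0, 7], [8, 12, 8, 12, 8, 12], [0, 8, 0, 8], [0, 12, 0, 12], [0, 1, 0, 1, 0, 1], [2, 5, 4, 5, 2, 5, 4, 5], [2, 8, 7, 8, 2, 8, 7, 8], [1, 3, 1, 3], [1, 4, 1, 4], [1, 7, 1, 7], [1, 5, 1, 5], [1, 8, 1, 8], [1, 6, 1, 6], [1, 12, 1,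 12], [1, 2, 1, 2, 1, 2], [1, 8, 7, 8, 1, 8, 7, 8], [1, 12, 5, 12, 1, 12, 5, 12], [8, 7, 3, 4, 2, 3, 7, 8, 5, 4, 3, 7, 6, 5, 4, 3, 2, 3, 4, 5, 6, 7, 3, 4, 5, 8, 7, 3, 2, 4, 3, 7, 8, 1, 0, 2, 3, 4, 5, 12, 6, 5, 4, 3, 2, 3, 4, 5, 6, 12, 5, 4, 3, 1, 0, 2, 3, 4, 5, 12, 6, 5, 4, 3, 2, 3, 4, 5, 6, 12, 5, 4, 3, 1]]
theorem tc22a : allL (fun r => r.1.ok M21 A21 F21 X22 Q22) rels22 = true := by decide +kernel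
theorem tc22b : rels22.map (fun r => cred (r.1.wd 0 1) r.2) = rl22 := by decide +kernel
theorem tc22c0 : allL (isId A22 12 M22.n) [[2, 3, 2, 3, 2, 3], [2, 4, 2, 4], [2, 5, 2, 5], [2, 6, 2, 6], [2, 7, 2, 7], [2, 8, 2, 8], [2, 12, 2, 12], [0, 2, 0, 2], [3, 4, 3, 4, 3, 4], [3, 5, 3, 5], [3, 6, 3, 6], [3, 7, 3, 7, 3, 7], [3, 8, 3, 8], [3, 12, 3, 12], [0, 3, 0, 3], [4, 5, 4, 5, 4, 5], [4, 7, 4, 7], [4, 8, 4, 8], [4, 12, 4, 12], [0, 4, 0, 4], [5, 7, 5, 7], [5, 8, 5, 8], [0, 5, 0, 5], [6, 7, 6, 7], [6, 8, 6, 8], [0, 6, 0, 6], [7, 8, 7, 8, 7, 8], [7, 12, 7, 12], [0, 7, 0, 7], [8, 12, 8, 12, 8, 12], [0, 8, 0, 8], [0, 12, 0, 12], [0, 1, 0, 1, 0, 1], [2, 5, 4, 5, 2, 5, 4, 5], [2, 8, 7, 8, 2, 8,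 7, 8], [1, 3, 1, 3], [1, 4, 1, 4], [1, 7, 1, 7], [1, 5, 1, 5], [1, 8, 1, 8], [1, 6, 1, 6], [1, 12, 1, 12], [1, 2, 1, 2, 1, 2], [1, 8, 7, 8, 1, 8, 7, 8], [1, 12, 5, 12, 1, 12, 5, 12], [8, 7, 3, 4, 2, 3, 7, 8, 5, 4, 3, 7, 6, 5, 4, 3, 2, 3, 4, 5, 6, 7, 3, 4, 5, 8, 7, 3, 2, 4, 3, 7, 8, 1, 0, 2, 3, 4, 5, 12, 6, 5, 4, 3, 2, 3, 4, 5, 6, 12, 5, 4, 3, 1, 0, 2, 3, 4, 5, 12, 6, 5, 4, 3, 2, 3, 4, 5, 6, 12, 5, 4, 3, 1]] = true := by decide +kernel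
theorem tc22c : ∀ r ∈ rl22, evw M22.π r = 1 := fun r hr => env22.eq_one_of_isId bm22.le
  (((of_allL tc22c0) : ∀ r ∈ rl22, _) r hr)
theorem tc22d : tcRun A22 0 M21.n (List.map (mkRule 0 rl22) [335874, 327682, 319490, 311298, 303106, 294914, 286722, 344066, 253954, 245762, 229378, 204802, 180226, 155650, 114690, 262146, 57346, 368717, 40960, 49152, 16384, 57344, 49154, 40962, 32770, 24578, 16386, 8194, 344064, 2, 114688, 106498, 98306, 81922, 73730, 0, 286720, 65538, 90114, 303104, 352256, 335872, 360448, 294912, 327680, 311296, 32768, 8192, 270336, 278528, 319488, 262144, 229376, 221186, 188416, 163840, 131072, 90112, 212994, 139264, 122880, 245760, 196608, 172032, 98304, 212992, 237570,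 147456]) []
  [2, 6, 10, 1, 5, 9, 13, 17, 21, 4, 25, 1, 5, 9, 13, 17, 21, 29, 0, 33, 37, 41, 45, 49, 53, 57, 61, 65, 69, 10, 73, 77, 81, 8, 85, 89, 93, 97, 101, 105, 109, 113, 117, 12, 121, 125, 129, 133, 137, 141, 145, 149, 153, 61, 157, 161, 17, 165, 25, 169, 21, 173, 177, 149, 141, 25, 181, 185, 109, 189, 141, 193, 165, 177, 173, 145, 197, 81, 117, 201, 17, 77, 153, 145, 4, 21, 17, 1, 5, 9, 13, 25, 205, 29, 53, 41, 28, 157, 209, 213, 217, 221, 185, 225, 229, 233, 29, 237, 241, 32, 237, 73, 201, 245, 249, 253, 257, 261, 265, 269, 185, 8, 89, 109, 85, 93, 97, 101, 105, 113, 117, 21, 1]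
  (finSt A22 M22.L (full M22.n)) (initD M21 M22 1 695 696)
  ((List.range 13).map (initK M21 M22 X22 0 1 2 695 696 Q22)) = true := by decide +kernel
theorem tc22 : TCOK.{u} M21 M22 X22 0 1 Q22 := fun _ _ _ _ _ _ hCP C =>
  lvl22.tc hCP bm21 C env22 tc22a tc22b tc22c tc22d
theorem odd22a : bnd (overB M22.L (rep [0, 1, 2, 3, 4, 5, 7] 9)) (allL (fun l => maps A22 (rep [0, 1, 2, 3, 4, 5, 7] 9) (M22.g l) (M22.g l)) M22.L) = true := by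
  decide +kernel
theorem odd22 : ∃ z, Over M22.L z ∧ z.length % 2 = 1 ∧ ∀ l ∈ M22.L, evw M22.π z (M22.g l) = M22.g l :=
  ⟨_, over_of (bnd_iff.1 odd22a).1, by decide +kernel,
    fun l hl => env22.of_maps (of_allL (bnd_iff.1 odd22a).2 l hl)⟩
end H80
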