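import Cfsg.Agent.H80.BS
/-! PS3B, job B-G: involutions and `3`-subgroups of `C(z)`. -/
set_option autoImplicit false
set_option maxRecDepth 100000
set_option synthInstance.maxSize 2000
namespace H80.F23.B
open Cfsg Subgroup H42.L3 H56.L3 H39.F22 H39.F23 H39.BB H80.BB Matrix
universe u

theorem fx_meet {A B : M8} (h : ∀ v, A *ᵥ v = v → A *ᵥ (B *ᵥ v) = B *ᵥ v → v = 0) : (Fx A).ncard ≤ 81 := by
  have := Nat.card_le_card_of_injective (fun p : Fx A × Fx A => B *ᵥ p.1.1 + p.2.1) (by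
    rintro ⟨⟨v, hv⟩, w, hw⟩ ⟨⟨v', hv'⟩, w', hw'⟩ e
    dsimp only at e
    have e' : B *ᵥ (v - v') = w' - w := by rw [mulVec_sub, sub_eq_sub_iff_add_eq_add, e, add_comm]
    obtain rfl : v = v' := sub_eq_zero.1 (h _ (by rw [mulVec_sub, hv, hv']) (by rw [e', mulVec_sub, hw, hw']))
    obtain rfl : w = w' := add_left_cancel e
    rfl)
  rw [Nat.card_prod, card_V8, Nat.card_coe_set_eq] at this
  nlinarith

theorem sing {A : M8} {f : U → U} (h : Ac A f) (big : ¬ (Fx A).ncard ≤ 81) (u : U) :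
    qb (ad (f u) u) = false := by
  by_contra hq
  refine big (fx_meet (B := rho u) fun v h1 h2 => ?_)
  have pm : ∀ {B C : M8}, Pm B C → B *ᵥ v = C *ᵥ v ∨ B *ᵥ v = -(C *ᵥ v) := fun k =>
    k.imp (congrArg (· *ᵥ v)) fun e => by rw [e, neg_mulVec]
  obtain ⟨C, c1, c2⟩ : ∃ C, Pm C (rho (f u)) ∧ A * rho u = C * A :=
    (h u).elim (fun e => ⟨_, Pm.rfl, e⟩) fun e => ⟨_, Or.inr rfl, by rw [e, neg_mul]⟩
  rw [mulVec_mulVec, c2, ← mulVec_mulVec, h1] at h2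
  have e : ∀ x, ¬ qb x = false → sn x x = -1 := by decide +kernel
  have k := ((c1.right (rho u)).trans (rho_pm _ _)).sq
  rw [rho_sq, e _ hq] at k
  have k2 : (C * rho u) *ᵥ v = v ∨ (C * rho u) *ᵥ v = -v := by
    rw [← mulVec_mulVec, ← h2, mulVec_mulVec, c1.sq, rho_sq]
    rcases sn_pm (f u) (f u) with e | e <;> simp [e, neg_mulVec]
  have k3 := congrArg (· *ᵥ v) k
  rw [← mulVec_mulVec, neg_smul, one_smul, neg_mulVec, one_mulVec] at k3
  refine two_inj ?_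
  rcases k2 with k2 | k2
  · rw [k2, k2] at k3; rw [add_zero, add_eq_zero_iff_eq_neg]; exact k3
  · rw [k2, mulVec_neg, k2, neg_neg] at k3; rw [add_zero, add_eq_zero_iff_eq_neg]; exact k3

def pw (a : W) (i : Fin 3) : W := if i = 0 then 0 else if i = 1 then a else star a a
def cmb (a b : W) (i j : Fin 3) : W := star (pw a i) (pw b j)
def pi3 (w : W) : ZMod 3 × ZMod 3 × ZMod 3 := (w.2.1 - w.1, w.2.2.1 - w.1, w.2.2.2)

theorem Rl.cmb {A : M8} {a b a' b' : W} (h : Rl A a a') (k : Rl A b b') (i j : Fin 3) :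
    Rl A (cmb a b i j) (cmb a' b' i j) := by
  have p : ∀ {a a'}, Rl A a a' → ∀ i, Rl A (pw a i) (pw a' i) := fun h i => by
    unfold pw
    split_ifs
    exacts [by rw [Rl, el_zero, mul_one, one_mul], h, h.mul h]
  exact (p h i).mul (p k j)

theorem W3 : ∀ a b, star a b = star b a → a = 0 ∨ b = 0 ∨ star a b = 0 ∨ a = b ∨
    (∃ i j, bad (cmb a b i j) (cmb (winv a) (winv b) i j)) ∨ ∀ y, star a y = star y a → star b y = star y b →
    y = 0 ∨ w2 y ∨ ∃ i j, bad (star (cmb a b i j) y) (star (cmb (winv a) (winv b) i j) y) := by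
  decide +kernel

theorem W4 : ∀ v, bad (star v (star v v)) (star (winv v) (star (winv v) (winv v))) ∨ pi3 v ≠ (1, 0, 1) ∧
    ∀ w, pi3 w = pi3 v → w = v ∨ bad (star w (star v v)) (star (winv w) (star (winv v) (winv v))) := by
  decide +kernel

variable {G : Type*} [Group G] {z : G} {Q : Subgroup G} {l : G → V8} {μ : G → M8} {a b c e s : G} {v w : W}

/-- `c` conjugates `a` to `el w` -/
def Lw (μ : G → M8) (c a : G) (w : W) : Prop := μ c * μ a = el w * μ c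

section
variable (X : X8 z Q l μ) (hc : c ∈ Ce z) (ha : a ∈ Ce z)
include X hc ha

omit hc in
theorem Lw.mul (hb : b ∈ Ce z) (h : Lw μ c a v) (k : Lw μ c b w) : Lw μ c (a * b) (star v w) := by
  rw [Lw, H80.F23.X.mul X ha hb, ← mul_assoc, h, mul_assoc, k, ← mul_assoc, el_mul]

theorem Lw.eq (hb : b ∈ Ce z) (h : Lw μ c a v) (k : Lw μ c b w) : a * b⁻¹ ∈ Q ↔ v = w := by
  rw [H80.F23.X.eq_iff X ha hb, ← el_inj.eq_iff, ← (H80.F23.X.unit' X hc).mul_left_inj (b := el _), ← h, ← k,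
    (H80.F23.X.unit' X hc).mul_right_inj]

theorem Lw.zero (h : Lw μ c a v) : a ∈ Q ↔ v = 0 := by
  simpa using h.eq X hc ha (one_mem _) (w := 0) (by rw [Lw, H80.F23.X.mu_one X, el_zero, mul_one, one_mul])

theorem Lw.comm (hb : b ∈ Ce z) (h : Lw μ c a v) (k : Lw μ c b w) :
    a * b * a⁻¹ * b⁻¹ ∈ Q ↔ star v w = star w v := by
  rw [mul_assoc, ← _root_.mul_inv_rev, (h.mul X ha hb k).eq X hc (mul_mem ha hb) (mul_mem hb ha) (k.mul X hb ha h)]

omit ha in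
theorem Lw.rl (he : e ∈ Ce z) (h : Lw μ c a v) (k : μ c * (μ e * μ a) = el w * μ c * μ e) :
    Rl (μ (c * e * c⁻¹)) v w := (H80.F23.X.unit' X hc).mul_right_cancel (by
  rw [mul_assoc, ← h, ← mul_assoc, H80.F23.X.cj_mul X (ce_nz hc) (ce_nz he), mul_assoc, k, mul_assoc,
    mul_assoc (el w), H80.F23.X.cj_mul X (ce_nz hc) (ce_nz he)])

theorem Lw.inv (he : e ∈ Ce z) (h : Lw μ c a v) (k : e * a * e⁻¹ * a ∈ Q) :
    Rl (μ (c * e * c⁻¹)) v (winv v) := by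
  refine h.rl X hc he ((elU v).isUnit.mul_left_cancel ?_)
  have m := mul_mem (mul_mem he ha) (inv_mem he)
  have k1 := H80.F23.X.mu_Q X k
  rw [H80.F23.X.mul X m ha] at k1
  change el v * _ = el v * _
  rw [← mul_assoc, ← h, mul_assoc (el _), ← mul_assoc (el v), el_mul, (star_inv v).1, el_zero, one_mul, mul_assoc,
    ← H80.F23.X.cj_mul X (ce_nz he) (ce_nz ha), ← mul_assoc (μ a), mul_eq_one_comm.1 k1, one_mul]

omit ha in
theorem fx_cj (h : Lw μ c a v) : (Fx (μ a)).ncard = (Fx (el v)).ncard := fx_conj (H80.F23.X.unit' X hc) h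

end

variable (F : FRB z Q l μ) (hA : All z μ)
include F hA

theorem inv (hs : s ∈ Ce z) (s2 : s * s = 1) (hμ : μ s = sg) (he : e ∈ Ce z) (e2 : e * e = 1) (e1 : e ≠ 1)
    [Finite G] (h : 3 ^ 6 ∣ Nat.card ↥(Q ⊓ Ce e)) : ∃ g ∈ Ce z, g * e * g⁻¹ = s := by
  have X := F.toX8
  have big : ¬ (Fx (μ e)).ncard ≤ 81 := fun k => by
    have := H80.F23.X.ncard_l X (Fx (μ e))
    rw [show {a | a ∈ Q ∧ l a ∈ Fx (μ e)} = (Q ⊓ Ce e : Subgroup G) from Set.ext fun a =>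
      and_congr_right fun ha => H80.F23.X.comm_s X he e2 ha] at this
    have h' := Nat.le_of_dvd Nat.card_pos h
    change _ ≤ Set.ncard ((Q ⊓ Ce e : Subgroup G) : Set G) at h'
    omega
  have sq : ∀ g ∈ Ce z, g * e * g⁻¹ * (g * e * g⁻¹) = 1 := fun g _ => by
    rw [conj_mul, e2, mul_one, mul_inv_cancel]
  have ue := H80.F23.X.unit' X he
  obtain ⟨f, hf⟩ := R.exists_ac F.toFR (ce_nz he)
  obtain ⟨g, ⟨A, -, a1, a2⟩, hg⟩ := move (S := Set.range fun u => ad (f u) u) (by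
    rintro _ ⟨u, rfl⟩ _ ⟨v, rfl⟩
    exact ⟨sing hf big u, by rw [ad4, ← hf.map_ad ue]; exact sing hf big _⟩)
  obtain ⟨c, hc, rfl⟩ := in_of hA a1 a2
  have uc := H80.F23.X.unit' X hc
  have he' := mul_mem (mul_mem hc he) (inv_mem hc)
  have ue' := H80.F23.X.unit' X he'
  have k1 := H80.F23.X.cj_mul X (ce_nz hc) (ce_nz he)
  obtain ⟨f', hf'⟩ := R.exists_ac F.toFR (ce_nz he')
  rw [fx_conj uc k1.symm] at big
  rcases LS ue' hf' fun u => by
    obtain ⟨u, rfl⟩ := ac_surj uc a2 u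
    rw [show f' (g u) = g (f u) from (hf'.mul a2).uniq (g := g ∘ f) (ue'.mul uc) (by rw [k1]; exact a2.mul hf) u,
      ← a2.map_ad uc]
    exact hg _ ⟨u, rfl⟩ with h2 | h2
  · obtain ⟨u, hu⟩ := h2.kerl' ue' isUnit_one ac_one
    refine absurd (fx_R (mul_one (rho u) ▸ hu) fun k => e1 ?_) big
    simpa [pow_three, e2] using X.cube e (X.ker e he (uc.mul_left_cancel (by rw [← k1, k, mul_one, one_mul])))
  obtain ⟨u, hu⟩ := h2.kerl ue' sg_unit ac_sg
  obtain ⟨v, hv⟩ := inv_coset hu (by rw [← H80.F23.X.mul X he' he', sq c hc, H80.F23.X.mu_one X])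
  rcases hv with hv | hv
  · obtain ⟨d, hd, k3⟩ := R.in_rho F.toFR (u := v) Pm.rfl
    have hd' := mul_mem (mul_mem hd he') (inv_mem hd)
    obtain ⟨q, hq, k4⟩ := H80.F23.X.conj_of X hs hd' s2 (by rw [conj_mul, sq c hc, mul_one, mul_inv_cancel])
      ((rho_unit v).mul_right_cancel (by
        rw [← k3, H80.F23.X.cj_mul X (ce_nz hd) (ce_nz he'), k3, hv, hμ]))
    refine ⟨q⁻¹ * d * c, mul_mem (mul_mem (inv_mem (H80.F23.X.Q_le X hq)) hd) hc, ?_⟩
    rw [show q⁻¹ * d * c * e * (q⁻¹ * d * c)⁻¹ = q⁻¹ * (d * (c * e * c⁻¹) * d⁻¹) * q by group, ← k4]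
    group
  · refine absurd ?_ big
    rw [fx_conj (B := -sg) (rho_unit v) (by rw [hv, neg_mul])]
    exact fx_nsg

theorem inv9 [Finite G] (he : e ∈ Ce z) (e2 : e * e = 1) {Y : Subgroup G} (hY : Y ≤ Ce z)
    (h3 : IsPGroup 3 Y) (hn : e ∈ H42.L3.nr Y) : Nat.card Y ∣ 9 * Nat.card ↥((Y ⊓ Q) ⊔ (Y ⊓ Ce e)) := by
  have X := F.toX8
  obtain ⟨-, c, hc, all, -⟩ := syl F hA hY h3
  have m : ∀ y : Y, y * e * (y : G)⁻¹ * e⁻¹ ∈ Y := fun y => by
    have := mul_mem y.2 ((mem_normalizer_iff.1 hn _).1 (inv_mem y.2))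
    rwa [← mul_assoc, ← mul_assoc] at this
  choose t ht using fun y : Y => all _ (m y)
  have r : ∀ y, Rl (μ (c * e * c⁻¹)) (t y) (winv (t y)) := fun y => Lw.inv X hc (hY (m y)) he (ht y) (by
    rw [inv_eq_of_mul_eq_one_right e2, show e * (y * e * (y : G)⁻¹ * e) * e * (y * e * (y : G)⁻¹ * e) =
      e * (y * (e * ((y : G)⁻¹ * (e * e) * y) * e) * (y : G)⁻¹) * e by group, e2, mul_one, inv_mul_cancel,
      mul_one, e2, mul_one, mul_inv_cancel, mul_one, e2]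
    exact one_mem _)
  have nb := fun v w (h : Rl (μ (c * e * c⁻¹)) v w) => h.not_bad (mu_of X (mul_mem (mul_mem hc he) (inv_mem hc)))
  have w4 := fun y => (W4 (t y)).resolve_left (nb _ _ ((r y).mul ((r y).mul (r y))))
  have le : (Y ⊓ Q) ⊔ (Y ⊓ Ce e) ≤ Y := sup_le inf_le_left inf_le_left
  have k := index_le (((Y ⊓ Q) ⊔ (Y ⊓ Ce e)).subgroupOf Y) (fun y => pi3 (t y)) (S := {(1, 0, 1)}ᶜ)
    (Set.toFinite _) (fun y => (w4 y).1) fun y y' k => by
      have q1 := (Lw.eq X hc (hY (m y)) (hY (m y')) (ht y) (ht y')).2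
        (((w4 y').2 _ k).resolve_right (nb _ _ ((r y).mul ((r y').mul (r y')))))
      obtain ⟨w, rfl⟩ : ∃ w, y' = y * w := ⟨y⁻¹ * y', by simp⟩
      rw [inv_mul_cancel_left, mem_subgroupOf]
      have q2 : w * e * (w : G)⁻¹ * e⁻¹ ∈ Q := by
        simpa [mul_assoc] using H80.F23.X.cj_mem X (inv_mem (ce_nz (hY y.2))) (inv_mem q1)
      have qY := m w
      have q3 := dih e2 (X.cube _ q2) (by
        rw [inv_mul_cancel_right, conj_mul, e2, mul_one, mul_inv_cancel])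
      rw [inv_mul_cancel_right] at q3
      generalize (w : G) * e * (w : G)⁻¹ * e⁻¹ = q at qY q2 q3
      rw [← mul_inv_cancel_left (q * q) w]
      refine mul_mem (mem_sup_left ⟨mul_mem qY qY, mul_mem q2 q2⟩) (mem_sup_right (mem_inf.2
        ⟨mul_mem (inv_mem (mul_mem qY qY)) w.2, mem_Ce.2 (mul_inv_eq_iff_eq_mul.1 ?_)⟩))
      generalize q * q = q' at q3
      rw [show q'⁻¹ * w * e * (q'⁻¹ * w)⁻¹ = q'⁻¹ * (w * e * (w : G)⁻¹) * q' by group, ← q3]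
      group
  rw [Set.ncard_compl, Set.ncard_singleton, show Nat.card (ZMod 3 × ZMod 3 × ZMod 3) = 27 by simp] at k
  have : Fact (Nat.Prime 3) := ⟨by decide⟩
  obtain ⟨n, hn⟩ := h3.index (((Y ⊓ Q) ⊔ (Y ⊓ Ce e)).subgroupOf Y)
  rw [← (((Y ⊓ Q) ⊔ (Y ⊓ Ce e)).subgroupOf Y).index_mul_card,
    Nat.card_congr (subgroupOfEquivOfLe le).toEquiv, hn]
  rw [hn] at k
  refine Nat.mul_dvd_mul_right (pow_dvd_pow 3 (?_ : n ≤ 2)) _
  by_contra h
  exact absurd (k.trans' (Nat.pow_le_pow_right (by decide) (not_le.1 h))) (by decide)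

theorem three {y : G} (ha : a ∈ Ce z) (hb : b ∈ Ce z) (hy : y ∈ Ce z) (h3 : IsPGroup 3 ↥(closure {a, b, y})) :
    ∃ c ∈ Ce z, ∃ u v w, Lw μ c a u ∧ Lw μ c b v ∧ Lw μ c y w := by
  obtain ⟨-, c, hc, k, -⟩ := syl F hA (Y := closure {a, b, y}) ((closure_le _).2 (by
    rintro _ (rfl | rfl | rfl) <;> assumption)) h3
  obtain ⟨wa, ea⟩ := k a (subset_closure (by simp))
  obtain ⟨wb, eb⟩ := k b (subset_closure (by simp))
  obtain ⟨w, e⟩ := k y (subset_closure (by simp))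
  exact ⟨c, hc, _, _, _, ea, eb, e⟩

omit hA in
theorem fix_one {y : G} (hc : c ∈ Ce z) (hy : y ∈ Ce z) (h : Lw μ c y w) :
    (FixQ z Q {y}).ncard = 3 * (Fx (el w)).ncard := by
  rw [H80.F23.X.fixQ F.toX8 (by simpa using hy), H80.F23.X.ncard_l F.toX8, ← fx_cj F.toX8 hc h]
  simp [Fx]

theorem gfb [Finite G] (hs : s ∈ Ce z) (s2 : s * s = 1) (hμ : μ s = sg) : GFB z Q s := by
  have X := F.toX8
  refine ⟨?_, fun e he e2 e1 h => inv F hA hs s2 hμ he e2 e1 h,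
    fun e he e2 Y hY h3 hn => inv9 F hA he e2 hY h3 hn,
    fun e he e2 a ha b hb y hy _ _ h3 h1 h2 h4 h5 h6 h7 h8 => ?_, fun Y hY h3 => (syl F hA hY h3).1,
    fun Y hY h3 h27 => ?_, fun Y hY h3 h27 hab => ?_, fun a ha b hb y hy h3 h1 h2 h4 h5 => ?_⟩
  · obtain ⟨c, hc, e⟩ := R.in_rho F.toFR (A := -1) (u := u0) (Or.inr (by rw [rho_zero]))
    obtain ⟨k1, k2⟩ := H80.F23.X.inv_lift X hc (by simp [e])
    have hr := pow_mem hc 3
    refine ⟨_, hr, k1, fun a ha => ?_, fun g hg => (H80.F23.X.comm_iff X hg hr).2 (by simp [k2, e])⟩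
    have m := H80.F23.X.cj_mem X (ce_nz hr) ha
    rw [← X.l_ker _ (mul_mem m ha), X.l_mul _ m _ ha, X.act _ (ce_nz hr) a ha, k2, e, neg_mulVec, one_mulVec,
      neg_add_cancel]
  · obtain ⟨c, hc, u, v, w, ea, eb, ey⟩ := three F hA ha hb hy h3
    have nb := fun v w (h : Rl (μ (c * e * c⁻¹)) v w) =>
      h.not_bad (mu_of X (mul_mem (mul_mem hc he) (inv_mem hc)))
    have r := (ea.inv X hc ha he h1).cmb (eb.inv X hc hb he h2)
    rw [ea.zero X hc ha, eb.zero X hc hb, (ea.mul X ha hb eb).zero X hc (mul_mem ha hb), ea.eq X hc ha hb eb]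
    refine (W3 u v ((ea.comm X hc ha hb eb).1 h4)).imp_right fun k => k.imp_right fun k => k.imp_right fun k =>
      k.imp_right fun k => ?_
    rcases k.resolve_left (fun ⟨i, j, k⟩ => nb _ _ (r i j) k) w ((ea.comm X hc ha hy ey).1 h5)
      ((eb.comm X hc hb hy ey).1 h6) with k | k | ⟨i, j, k⟩
    · exact absurd ((ey.zero X hc hy).2 k) h8
    · rw [fix_one F hc hy ey, fx_w.2 k]
    · refine absurd k (nb _ _ ((r i j).mul (ey.rl X hc he ?_)))
      rw [← H80.F23.X.mul X he hy, h7, H80.F23.X.mul X hy he, ← mul_assoc, ey]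
  · obtain ⟨-, c, hc, -, k⟩ := syl F hA hY h3
    obtain ⟨⟨y, hy, e⟩, -⟩ := k h27
    refine ⟨c, hc, fun a ha => ?_⟩
    rw [H80.F23.X.fixQ X hY] at ha
    rw [← H80.F23.X.comm_s X hs s2 (H80.F23.X.cj_mem X (ce_nz hc) ha.1), X.act c (ce_nz hc) a ha.1, hμ]
    refine fx_d (show _ *ᵥ _ = _ from ?_)
    rw [mulVec_mulVec, ← e, ← mulVec_mulVec, ha.2 y hy]
  · obtain ⟨-, c, hc, k0, k⟩ := syl F hA hY h3
    obtain ⟨⟨y, hy, e⟩, -, k⟩ := k h27
    have uc := H80.F23.X.unit' X hc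
    have k2 : ∀ y' ∈ Y, ∀ w : W, μ c * μ y' = el w * μ c → w.2.2.2 = 0 := fun y' hy' w e' =>
      W1 w ((Lw.comm X hc (hY hy') (hY hy) e' e).1 (hab y' hy' y hy))
    replace k := k k2
    rw [H80.F23.X.fixQ X hY, H80.F23.X.ncard_l X]
    refine congrArg (3 * ·) (Eq.trans ?_ ((ncard_pre uc _).trans fx_D))
    refine congrArg Set.ncard (Set.ext fun v => ⟨fun h w hw => ?_, fun h y' hy' => ?_⟩)
    · obtain ⟨y', hy', e'⟩ := k w hw
      rw [mulVec_mulVec, ← e', ← mulVec_mulVec, h y' hy']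
    · obtain ⟨w, e'⟩ := k0 y' hy'
      refine unit_inj uc ?_
      dsimp only
      rw [mulVec_mulVec, e', ← mulVec_mulVec, h w (k2 y' hy' w e')]
  · obtain ⟨c, hc, u, v, w, ea, eb, ey⟩ := three F hA ha hb hy h3
    have : (Fx (el w)).ncard = 27 := by
      by_contra k
      exact h1 ((ea.comm X hc ha hb eb).2 (W2 w (mt (ey.zero X hc hy).2 h5) (fun k' => k (k' ▸ fx_ze.1))
        (fun k' => k (k' ▸ fx_ze.2)) _ ((ea.comm X hc ha hy ey).1 h2) _ ((eb.comm X hc hb hy ey).1 h4)))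
    rw [fix_one F hc hy ey, this]

omit F hA in
/-- **B-G** -/
theorem jobG : H39.BB.JobG.{u} := fun _ _ _ _ _ _ _ _ F hA hs s2 hμ => gfb F hA hs s2 hμ

end H80.F23.B
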