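import Cfsg.Agent.H39.BSpec
/-! PS3B, chapter B: tools, and job B-N (all symplectic matrices that normalise `R0` occur). -/
set_option autoImplicit false
set_option maxRecDepth 100000
namespace H80.BB
open Cfsg Subgroup H42.L3 H56.L3 H39.F22 H39.F23 H39.BB H80.F23 Matrix
open scoped Kronecker
universe u

/-- the matrix of the form -/
abbrev JJ : M8 := kr qi qi qi
/-- `A` multiplies the form by `m` -/
def Mu (m : ZMod 3) (A : M8) : Prop := Aᵀ * JJ * A = m • JJ

theorem bt_eq (A B : M8) (v w : V8) : bt (A *ᵥ v) (B *ᵥ w) = v ⬝ᵥ ((Aᵀ * JJ * B) *ᵥ w) := by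
  rw [bt, dotProduct_comm, dotProduct_mulVec, ← mulVec_transpose, mulVec_mulVec, mulVec_mulVec, dotProduct_comm]

theorem Mu.bt {m : ZMod 3} {A : M8} (h : Mu m A) (v w : V8) : bt (A *ᵥ v) (A *ᵥ w) = m * bt v w := by
  rw [bt_eq, h, smul_mulVec, dotProduct_smul, smul_eq_mul]; rfl

theorem Mu.mul {m n : ZMod 3} {A B : M8} (h : Mu m A) (k : Mu n B) : Mu (m * n) (A * B) := by
  rw [Mu, transpose_mul, mul_assoc, mul_assoc, ← mul_assoc JJ, ← mul_assoc Aᵀ, ← mul_assoc Aᵀ, h, smul_mul_assoc,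
    mul_smul_comm, ← mul_assoc, k, smul_smul]

theorem mu_kr (a b c : M2) : Mu (a.det * (b.det * c.det)) (kr a b c) := by
  have : ∀ a : M2, aᵀ * qi * a = a.det • qi := by simp only [det_fin_two]; decide +kernel
  rw [Mu, show (kr a b c)ᵀ = kr aᵀ bᵀ cᵀ from rfl, kr_mul, kr_mul, this, this, this, kr_smul]

theorem Mu.one {A : M8} (h : Mu 1 A) : Aᵀ * JJ * A = JJ := h.trans (one_smul _ _)

theorem Mu.uniq {m n : ZMod 3} {A : M8} (h : Mu m A) (k : Mu n A) : m = n :=
  smul_left_injective (ZMod 3) (by decide +kernel : JJ ≠ 0) (h.symm.trans k)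

/-- `a` induces `α` on the quaternion group modulo its centre -/
def Ac2 (a : M2) (α : E → E) : Prop := ∀ x, ∃ s : ZMod 3, (s = 1 ∨ s = -1) ∧ a * q x = s • (q (α x) * a)

theorem ac_kr {a b c : M2} {α β γ : E → E} (h : Ac2 a α) (k : Ac2 b β) (m : Ac2 c γ) :
    Ac (kr a b c) fun u => (α u.1, β u.2.1, γ u.2.2) := fun u => by
  obtain ⟨s, s1, s2⟩ := h u.1
  obtain ⟨t, t1, t2⟩ := k u.2.1
  obtain ⟨r, r1, r2⟩ := m u.2.2
  rw [rho, rho, kr_mul, kr_mul, s2, t2, r2, kr_smul]
  exact Pm.of_smul (by rcases s1 with rfl | rfl <;> rcases t1 with rfl | rfl <;>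
    rcases r1 with rfl | rfl <;> simp) _

/-- the Frobenius map -/
def fr : E → E | .o => .o | .a => .a | .b => .c | .c => .b
/-- a diagonal matrix -/
def hh (x : ZMod 3) : M2 := !![1, 0; 0, x]
theorem ac2_one : Ac2 1 id := by unfold Ac2; decide +kernel
theorem ac2_h : Ac2 (hh 2) fr := by unfold Ac2; decide +kernel
theorem ac2_i : Ac2 (1 + qi) fr := by unfold Ac2; decide +kernel

section
variable {A B : M8} {f g : U → U}

theorem ac_inj (hA : IsUnit A) (h : Ac A f) : Function.Injective f := fun u v e =>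
  rho_inj (Pm.cancel' hA ((h u).trans (e ▸ (h v).symm)))

theorem ac_surj (hA : IsUnit A) (h : Ac A f) : Function.Surjective f :=
  Finite.surjective_of_injective (ac_inj hA h)

theorem ac_zero (hA : IsUnit A) (h : Ac A f) : f u0 = u0 := by
  have := h.map_ad hA u0 u0
  rwa [ad_self, ad_self] at this

theorem ac_ext (hA : IsUnit A) (hB : IsUnit B) (h : Ac A f) (k : Ac B g) (e : ∀ u ∈ gens, f u = g u) :
    ∀ u, f u = g u := U_ind (by rw [ac_zero hA h, ac_zero hB k])
  (fun u v a b => by rw [h.map_ad hA, k.map_ad hB, a, b]) e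

theorem ac_ex (h : ∀ e ∈ gens, ∃ v, Pm (A * rho e) (rho v * A)) : ∃ f, Ac A f := by
  refine Classical.axiomOfChoice (r := fun u v => Pm (A * rho u) (rho v * A)) (U_ind (P := fun u =>
    ∃ v, Pm (A * rho u) (rho v * A)) ⟨u0, by rw [rho_zero, mul_one, one_mul]; exact Pm.rfl⟩ ?_ h)
  rintro u v ⟨x, a⟩ ⟨y, b⟩
  refine ⟨_, (Pm.rfl.mul (rho_pm u v).symm).trans (Pm.trans ?_ ((rho_pm x y).mul Pm.rfl))⟩
  have h1 := a.right (rho v)
  have h2 := b.left (rho x)
  simp only [mul_assoc] at h1 h2 ⊢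
  exact h1.trans h2

end

/-- the normaliser of `R0` -/
def NM : Subgroup M8ˣ where
  carrier := {A | ∃ f, Ac A f}
  one_mem' := ⟨_, ac_one⟩
  mul_mem' := fun ⟨_, a⟩ ⟨_, b⟩ => ⟨_, a.mul b⟩
  inv_mem' := fun {A} ⟨f, a⟩ => ⟨Function.surjInv (ac_surj A.isUnit a), fun u => by
    have := ((a (Function.surjInv (ac_surj A.isUnit a) u)).left ↑A⁻¹).right ↑A⁻¹
    rw [Function.surjInv_eq (ac_surj A.isUnit a), Units.inv_mul_cancel_left, ← mul_assoc,
      Units.mul_inv_cancel_right] at this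
    exact this.symm⟩

def an (u v : U) : Bool := qb (ad u v)
def pp (a b : U) (P : List U) : List U := P.filter fun v => !an a v && !an b v
def NS : List U := allU.filter qb
/-- the possible images of the six generators -/
def OL : List (U × U × U × U × U × U) := NS.flatMap fun a => (NS.filter (an a)).flatMap fun b =>
  (pp a b NS).flatMap fun c => ((pp a b NS).filter (an c)).flatMap fun d =>
  (pp c d (pp a b NS)).flatMap fun e => ((pp c d (pp a b NS)).filter (an e)).map fun g => (a, b, c, d, e, g)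

theorem OL_length : OL.length = 51840 := by
  simp only [OL, List.length_flatMap, List.length_map]
  decide +kernel

/-- the images of the generators -/
def six (f : U → U) : U × U × U × U × U × U :=
  (f (.a, .o, .o), f (.b, .o, .o), f (.o, .a, .o), f (.o, .b, .o), f (.o, .o, .a), f (.o, .o, .b))

theorem six_mem {A : M8} {f : U → U} (hA : IsUnit A) (h : Ac A f) : six f ∈ OL := by
  have m : ∀ u, u ∈ allU := by decide +kernel
  have t : ∀ u v, an (f u) (f v) = an u v := fun u v => by rw [an, ← h.map_ad hA, h.map_qb hA, an]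
  simp only [OL, NS, pp, List.mem_flatMap, List.mem_map, List.mem_filter, m, true_and]
  refine ⟨_, ?_, _, ?_, _, ?_, _, ?_, _, ?_, _, ?_, rfl⟩ <;> simp only [t, h.map_qb hA] <;> decide

theorem card_NM : Nat.card NM ≤ 128 * 51840 := by
  classical
  choose f hf using fun c : NM => c.2
  let r : _ → NM := Function.invFun fun c => six (f c)
  have k : ∀ c : NM, ∃ p : Bool × U, (c.1 : M8) = cond p.1 ((r (six (f c))).1 * rho p.2)
      (-((r (six (f c))).1 * rho p.2)) := fun c => by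
    have e : six (f (r (six (f c)))) = six (f c) := Function.invFun_eq (f := fun c => six (f c)) ⟨c, rfl⟩
    generalize r (six (f c)) = d at e
    simp only [six, Prod.mk.injEq] at e
    obtain ⟨u, e | e⟩ := (hf c).kerl c.1.isUnit d.1.isUnit ((hf d).congr
      (ac_ext d.1.isUnit c.1.isUnit (hf d) (hf c) (by simpa [gens] using e)))
    exacts [⟨(true, u), e⟩, ⟨(false, u), e⟩]
  choose p hp using k
  have := index_le (⊥ : Subgroup NM) (fun c => (six (f c), p c))
    (S := (OL.toFinset : Set _) ×ˢ Set.univ) ((Finset.finite_toSet _).prod Set.finite_univ)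
    (fun c => ⟨List.mem_toFinset.2 (six_mem c.1.isUnit (hf c)), trivial⟩) fun c d e => by
      rw [mem_bot, inv_mul_eq_one]
      exact Subtype.ext (Units.ext (by rw [hp c, (Prod.mk.inj e).1, (Prod.mk.inj e).2, ← hp d]))
  rw [index_bot, Set.ncard_prod, Set.ncard_coe_finset, Set.ncard_univ,
    show Nat.card (Bool × U) = 128 by simp; rfl] at this
  have := OL_length ▸ List.toFinset_card_le OL
  omega

variable {G : Type*} [Group G] {z : G} {Q : Subgroup G} {l : G → V8} {μ : G → M8}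

theorem mu_of (X : X8 z Q l μ) {c : G} (hc : c ∈ Ce z) : Mu 1 (μ c) :=
  ext_iff_mulVec.2 fun w => dotProduct_eq _ _ fun v => by
    rw [dotProduct_comm, ← bt_eq, H80.F23.X.bt_inv X hc, one_smul, dotProduct_comm]; rfl

namespace R
variable (F : FR z Q l μ) {c : G} {A B : M8}
include F

theorem in_mul (h : In z μ A) (k : In z μ B) : In z μ (A * B) := by
  obtain ⟨c, hc, rfl⟩ := h
  obtain ⟨d, hd, rfl⟩ := k
  exact ⟨_, mul_mem hc hd, X.mul F.toX8 hc hd⟩
theorem in_rho {u : U} (h : Pm A (rho u)) : In z μ A := F.onto A (mem_R0.2 ⟨u, h⟩)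
theorem in_one : In z μ 1 := ⟨1, one_mem _, X.mu_one F.toX8⟩

theorem exists_ac (hc : c ∈ Nz z) : ∃ f, Ac (μ c) f := by
  have : ∀ u, ∃ v, Pm (μ c * rho u) (rho v * μ c) := fun u => by
    obtain ⟨A, hA, e⟩ := F.norR c hc _ (mem_R0.2 ⟨u, Pm.rfl⟩)
    obtain ⟨v, hv⟩ := mem_R0.1 hA
    exact ⟨v, e ▸ hv.right _⟩
  exact Classical.axiomOfChoice this

end R

theorem card_range (F : FRB z Q l μ) : Nat.card (X.hom F.toX8).range = 128 * 25920 := by
  have := (Q.subgroupOf (Ce z)).card_mul_index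
  rw [Nat.card_congr (subgroupOfEquivOfLe (X.Q_le F.toX8)).toEquiv, X.card_Q F.toX8, F.card] at this
  rw [← index_ker, X.hom_ker]
  omega

/-- **B-N** -/
theorem jobN : H39.BB.JobN.{u} := by
  intro G _ _ z Q l μ F A f hA hf hs
  have le : (X.hom F.toX8).range ≤ NM := by
    rintro _ ⟨c, rfl⟩
    exact R.exists_ac F.toFR (ce_nz c.2)
  have sp : ∀ B ∈ (X.hom F.toX8).range, Mu 1 B := by
    rintro _ ⟨c, rfl⟩
    exact mu_of F.toX8 c.2
  have h1 := ((X.hom F.toX8).range.subgroupOf NM).card_mul_index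
  rw [Nat.card_congr (subgroupOfEquivOfLe le).toEquiv, card_range F] at h1
  have h2 := card_NM
  have h3 := index_ne_zero_of_finite (H := (X.hom F.toX8).range.subgroupOf NM)
  have mx : Mu (-1) (kr (1 + qi) 1 1) := by
    have := mu_kr (1 + qi) 1 1
    rwa [det_one, mul_one, mul_one, show (1 + qi).det = -1 by rw [det_fin_two]; decide] at this
  obtain ⟨x, ex⟩ : IsUnit (kr (1 + qi) 1 1) := IsUnit.of_pow_eq_one (n := 8) (by decide +kernel) (by decide)
  obtain ⟨A, rfl⟩ := hA
  have hx : x ∈ NM := ⟨_, ex ▸ ac_kr ac2_i ac2_one ac2_one⟩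
  have nx : (⟨x, hx⟩ : NM) ∉ (X.hom F.toX8).range.subgroupOf NM := fun h =>
    absurd ((sp x h).uniq (ex ▸ mx)) (by decide)
  have h4 : ((X.hom F.toX8).range.subgroupOf NM).index = 2 := by
    have : ((X.hom F.toX8).range.subgroupOf NM).index ≠ 1 := fun e => nx (index_eq_one.1 e ▸ mem_top _)
    omega
  by_contra hn
  have := (mul_mem_iff_of_index_two h4 (a := ⟨x, hx⟩) (b := ⟨A, f, hf⟩)).2 (iff_of_false nx fun ⟨c, e⟩ =>
    hn ⟨c, c.2, congrArg Units.val e⟩)
  exact absurd ((sp _ this).uniq ((ex ▸ mx).mul (n := 1) (hs.trans (one_smul _ _).symm))) (by decide)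

end H80.BB
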