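import Cfsg.Agent.H80.BN
/-! PS3B, chapter B: totally singular subspaces, the Sylow `3`-subgroup and its classes. -/
set_option autoImplicit false
set_option maxRecDepth 100000
set_option synthInstance.maxSize 2000
namespace H80.F23.B
open Cfsg Subgroup H42.L3 H56.L3 H39.F22 H39.F23 H39.BB H80.BB Matrix

/-! ### Singular lines -/

theorem ad_ad (u v : U) : ad (ad u v) v = u := by
  have : ∀ x y : E, (x.ad y).ad y = x := by decide
  simp only [ad, this]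

theorem ad4 (a b c d : U) : ad (ad a b) (ad c d) = ad (ad a c) (ad b d) := by
  have : ∀ x y z w : E, (x.ad y).ad (z.ad w) = (x.ad z).ad (y.ad w) := by decide +kernel
  simp only [ad, this a.1, this a.2.1, this a.2.2]

/-- the singular line of `sg` -/
def LL : List U := [u0, us 0, us 1, us 2]

def chk (a b c d e g : U) : Bool := qb a && qb b && an a b && qb c && !an a c && !an b c && qb d && an c d &&
  !an a d && !an b d && qb e && !an a e && !an b e && !an c e && !an d e && qb g && !an a g && !an b g &&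
  !an c g && !an d g

theorem LS {A : M8} {f : U → U} (hA : IsUnit A) (h : Ac A f) (k : ∀ u, ad (f u) u ∈ LL) :
    Ac A (app oneT) ∨ Ac A (app tS) := by
  have t : ∀ u v, an (f u) (f v) = an u v := fun u v => by rw [an, ← h.map_ad hA, h.map_qb hA, an]
  have key : ∀ a ∈ LL, ∀ b ∈ LL, ∀ c ∈ LL, ∀ d ∈ LL, ∀ e ∈ LL, ∀ g ∈ LL,
      chk (ad a (.a, .o, .o)) (ad b (.b, .o, .o)) (ad c (.o, .a, .o)) (ad d (.o, .b, .o)) (ad e (.o, .o, .a))
        (ad g (.o, .o, .b)) = true → ∃ τ ∈ [oneT, tS], (ad a (.a, .o, .o), ad b (.b, .o, .o), ad c (.o, .a, .o),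
        ad d (.o, .b, .o), ad e (.o, .o, .a), ad g (.o, .o, .b)) = six (app τ) := by decide +kernel
  have := key _ (k (.a, .o, .o)) _ (k (.b, .o, .o)) _ (k (.o, .a, .o)) _ (k (.o, .b, .o)) _ (k (.o, .o, .a)) _
    (k (.o, .o, .b))
  simp only [ad_ad] at this
  obtain ⟨τ, h1, h2⟩ := this (by simp only [chk, t, h.map_qb hA]; decide)
  simp only [six, Prod.mk.injEq] at h2
  simp only [List.mem_cons, List.not_mem_nil, or_false] at h1
  exact h1.imp (fun e => h.congr (ac_ext hA isUnit_one h ac_one (by simpa [gens, e] using h2)))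
    fun e => h.congr (ac_ext hA sg_unit h ac_sg (by simpa [gens, e] using h2))

/-- induced by a symplectic matrix -/
def Gd (f : U → U) : Prop := ∃ A, IsUnit A ∧ Mu 1 A ∧ Ac A f

theorem Gd.comp {f g : U → U} (h : Gd f) (k : Gd g) : Gd (f ∘ g) := by
  obtain ⟨A, a, b, c⟩ := h
  obtain ⟨B, a', b', c'⟩ := k
  exact ⟨_, a.mul a', b.mul b', c.mul c'⟩

theorem mu_sg : Mu 1 sg ∧ Mu 1 cy ∧ Mu 1 g1 ∧ Mu 1 g2 := by unfold Mu; decide +kernel
theorem g1_unit : IsUnit g1 := IsUnit.of_mul_eq_one _ ((mul_assoc _ _ _).symm.trans g12.1)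
theorem g2_unit : IsUnit g2 := IsUnit.of_mul_eq_one _ ((mul_assoc _ _ _).symm.trans g12.2.1)
theorem cy_unit : IsUnit cy := IsUnit.of_pow_eq_one cy_cube (by decide)
theorem mu_kr' {a b c : M2} {m : ZMod 3} (h : a.det * (b.det * c.det) = m) : Mu m (kr a b c) := h ▸ mu_kr a b c
theorem _root_.H80.BB.Mu.unit {A : M8} (h : Mu 1 A) : IsUnit A :=
  IsUnit.of_mul_eq_one_right (-JJ * (Aᵀ * JJ)) (by rw [mul_assoc, h.one]; decide +kernel)

def gF : ℕ → U → U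
  | 0 => app tD | 1 => app tS | 2 => app tC | 3 => app t1 | _ => fun u => (u.1, fr u.2.1, fr u.2.2)
def wF (w : List ℕ) (u : U) : U := w.foldr gF u

theorem gd_wF (w : List ℕ) : Gd (wF w) := by
  induction w with
  | nil => exact ⟨1, isUnit_one, by simp [Mu], ac_one.congr app_one⟩
  | cons i w ih =>
    refine Gd.comp (f := gF i) ?_ ih
    have m : Mu 1 (kr qd 1 1) ∧ Mu 1 (kr 1 (hh 2) (hh 2)) :=
      ⟨mu_kr' (by simp only [det_fin_two]; decide), mu_kr' (by simp only [det_fin_two]; decide)⟩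
    have a := ac_kr ac2_one ac2_h ac2_h
    rcases i with _ | _ | _ | _ | i
    exacts [⟨_, m.1.unit, m.1, ac_d⟩, ⟨_, sg_unit, mu_sg.1, ac_sg⟩, ⟨_, cy_unit, mu_sg.2.1, ac_cy⟩,
      ⟨_, g1_unit, mu_sg.2.2.1, ac_g1⟩, ⟨_, m.2.unit, m.2, a.congr fun _ => rfl⟩]

theorem move {S : Set U} (h : ∀ u ∈ S, ∀ v ∈ S, qb u = false ∧ qb (ad u v) = false) :
    ∃ f, Gd f ∧ ∀ u ∈ S, f u ∈ LL := by
  have M1 : ∀ u, qb u = false → u = u0 ∨ ∃ w ∈ [[], [0], [2], [0, 0], [0, 1], [0, 2], [0, 3], [2, 0], [2, 1],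
      [2, 3], [0, 0, 1], [0, 0, 2], [0, 0, 3], [0, 1, 0], [0, 1, 3], [0, 2, 1], [0, 2, 2], [0, 2, 3], [0, 3, 2],
      [0, 3, 4], [2, 0, 0], [2, 0, 3], [2, 1, 3], [0, 0, 2, 2], [0, 0, 3, 0], [0, 2, 2, 3], [2, 0, 0, 3]],
      wF w u = us 0 := by decide +kernel
  have M2 : ∀ v, qb v = false → qb (ad (us 0) v) = false → v ∈ LL ∨ ∃ w ∈ [[4], [4, 1], [4, 3], [4, 1, 3],
      [4, 1, 4], [4, 3, 2, 1, 0, 2], [4, 3, 2, 2, 0, 2], [0, 4, 3, 0, 4, 3, 0], [0, 4, 3, 2, 0, 1, 0]],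
      v ≠ u0 ∧ v ≠ us 0 ∧ wF w (us 0) = us 0 ∧ wF w v = us 1 := by decide +kernel
  have M3 : ∀ v, qb v = false → qb (ad (us 0) v) = false → qb (ad (us 1) v) = false → v ∈ LL := by
    decide +kernel
  have key : ∀ {f}, Gd f → ∀ u ∈ S, ∀ v ∈ S, qb (f u) = false ∧ qb (ad (f u) (f v)) = false :=
    fun ⟨A, a, _, c⟩ u hu v hv => by rw [← c.map_ad a, c.map_qb a, c.map_qb a]; exact h u hu v hv
  by_cases h0 : ∀ u ∈ S, u = u0
  · exact ⟨_, gd_wF [], fun u hu => h0 u hu ▸ List.mem_cons_self⟩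
  push Not at h0
  obtain ⟨u, hu, h0⟩ := h0
  obtain ⟨w, -, e⟩ := (M1 u (h u hu u hu).1).resolve_left h0
  by_cases h1 : ∀ v ∈ S, wF w v ∈ LL
  · exact ⟨_, gd_wF w, h1⟩
  push Not at h1
  obtain ⟨v, hv, h1⟩ := h1
  obtain ⟨w', -, -, -, e1, e2⟩ :=
    (M2 _ (key (gd_wF w) v hv v hv).1 (e ▸ (key (gd_wF w) u hu v hv).2)).resolve_left h1
  have g := (gd_wF w').comp (gd_wF w)
  exact ⟨_, g, fun x hx => M3 _ (key g x hx x hx).1 (e1 ▸ e ▸ (key g u hu x hx).2) (e2 ▸ (key g v hv x hx).2)⟩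

/-! ### Classes in the base group -/

theorem fx_cert {A B : M8} {k : ℕ} {X : Matrix I8 (Fin k) (ZMod 3)} {Y : Matrix (Fin k) I8 (ZMod 3)}
    (h : Y * X = 1 ∧ A * X = X ∧ X * Y = 1 - B * (A - 1)) : (Fx A).ncard = 3 ^ k := by
  refine Eq.trans (congrArg Set.ncard (Set.ext fun v => ?_)) (ncard_range h.1)
  refine ⟨fun hv => ⟨Y *ᵥ v, ?_⟩, ?_⟩
  · have h' : A *ᵥ v = v := hv
    dsimp only
    rw [mulVec_mulVec, h.2.2, sub_mulVec, ← mulVec_mulVec, sub_mulVec, h', one_mulVec, sub_self,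
      mulVec_zero, sub_zero]
  · rintro ⟨v, rfl⟩
    exact (mulVec_mulVec _ _ _).trans (by rw [h.2.1])

theorem el_D (x y t : ZMod 3) : el (x, y, t, 0) = kr (dq x) (dq y) (dq t) := mul_one _

theorem hconj {a b c : ZMod 3} (ha : a ≠ 0) (hb : b ≠ 0) (hc : c ≠ 0) (x y t : ZMod 3) :
    kr (hh a) (hh b) (hh c) * el (x, y, t, 0) = el (a * x, b * y, c * t, 0) * kr (hh a) (hh b) (hh c) := by
  have : ∀ a, a ≠ 0 → ∀ x, hh a * dq x = dq (a * x) * hh a := by decide +kernel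
  rw [el_D, el_D, kr_mul, kr_mul, this a ha, this b hb, this c hc]

theorem mu_hh (a b c : ZMod 3) : Mu (a * (b * c)) (kr (hh a) (hh b) (hh c)) := mu_kr' (by simp [hh])

/-- weight three -/
def w3 (w : W) : Prop := w.2.2.2 = 0 ∧ w.1 ≠ 0 ∧ w.2.1 ≠ 0 ∧ w.2.2.1 ≠ 0
/-- weight one or two -/
def w2 (w : W) : Prop := w.2.2.2 = 0 ∧ w ≠ 0 ∧ ¬ w3 w
instance : DecidablePred w3 := fun w => by unfold w3; infer_instance
instance : DecidablePred w2 := fun w => by unfold w2; infer_instance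

theorem fx_w {w : W} : (w3 w → (Fx (el w)).ncard = 27) ∧ (w2 w → (Fx (el w)).ncard = 81) := by
  have c : ∀ x y t, (Fx (el (x, y, t, 0))).ncard = (Fx (el (t, x, y, 0))).ncard := fun x y t =>
    fx_conj (elU (0, 0, 0, 1)).isUnit (by
      change el _ * _ = _ * el _
      rw [el_mul, el_mul]; simp [star])
  have s : ∀ x y t, (Fx (el (x, y, t, 0))).ncard = (Fx (el (x * x, y * y, t * t, 0))).ncard := fun x y t => by
    have k : ∀ x : ZMod 3, ∃ a, a ≠ 0 ∧ a * x = x * x ∧ hh a * hh a = 1 := by decide +kernel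
    obtain ⟨a, a1, a2, a3⟩ := k x
    obtain ⟨b, b1, b2, b3⟩ := k y
    obtain ⟨d, d1, d2, d3⟩ := k t
    rw [← a2, ← b2, ← d2]
    exact fx_conj (IsUnit.of_mul_eq_one _ (by rw [kr_mul, a3, b3, d3, kr_one])) (hconj a1 b1 d1 x y t)
  have f1 : (Fx (el (1, 0, 0, 0))).ncard = 81 := fx_cert (X := mkE 4 551880) (Y := mkP 4 282558735720)
    (B := mk8 14131104026201275754713219560) (by decide +kernel)
  have f2 : (Fx (el (1, 1, 0, 0))).ncard = 81 := fx_cert (X := mkE 4 65091602352) (Y := mkP 4 2543028096360)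
    (B := mk8 14131104682748564907186707952) (by decide +kernel)
  obtain ⟨x, y, t, k⟩ := w
  have e : ∀ x : ZMod 3, x = 0 ∧ x * x = 0 ∨ x ≠ 0 ∧ x * x = 1 := by decide
  refine ⟨?_, ?_⟩ <;> rintro ⟨rfl, h⟩ <;> rw [s]
  · rw [((e x).resolve_left fun k => h.1 k.1).2, ((e y).resolve_left fun k => h.2.1 k.1).2,
      ((e t).resolve_left fun k => h.2.2 k.1).2, fx_ze.1]
  · rcases e x with a | a <;> rcases e y with b | b <;> rcases e t with d | d <;> rw [a.2, b.2, d.2]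
    exacts [absurd (by rw [a.1, b.1, d.1]; rfl) h.1, (c _ _ _).trans f1, (c _ _ _).symm.trans f1,
      (c _ _ _).symm.trans f2, f1, (c _ _ _).trans f2, f2, absurd ⟨rfl, a.1, b.1, d.1⟩ h.2]

/-- an invariant of unipotent elements -/
def Tp (ε : ZMod 3) (A : M8) : Prop := ∃ v, ((A - 1) * (A - 1)) *ᵥ v = 0 ∧ bt v (A *ᵥ v) = ε

theorem Tp.conj {ε m : ZMod 3} {A B g : M8} (h : Tp ε A) (k : Mu m g) (e : g * A = B * g) : Tp (m * ε) B := by
  obtain ⟨v, h1, h2⟩ := h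
  have e' : (B - 1) * g = g * (A - 1) := by rw [sub_mul, mul_sub, e, one_mul, mul_one]
  exact ⟨g *ᵥ v, by rw [mulVec_mulVec, mul_assoc, e', ← mul_assoc, e', mul_assoc, ← mulVec_mulVec, h1,
    mulVec_zero], by rw [mulVec_mulVec, ← e, ← mulVec_mulVec, k.bt, h2]⟩

theorem tp_ze : Tp (-1) (el (1, 1, 1, 0)) ∧ ¬ Tp 1 (el (1, 1, 1, 0)) := by
  refine ⟨⟨mkE 1 1701 *ᵥ ![1], by decide +kernel⟩, ?_⟩
  have k : JJ * el (1, 1, 1, 0) + (JJ * el (1, 1, 1, 0))ᵀ = (mkP 1 297)ᵀ * mkP 1 297 +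
      (mk8 3140085822485053766949715059 * ((el (1, 1, 1, 0) - 1) * (el (1, 1, 1, 0) - 1)) +
      (mk8 3140085822485053766949715059 * ((el (1, 1, 1, 0) - 1) * (el (1, 1, 1, 0) - 1)))ᵀ) := by
    decide +kernel
  rintro ⟨v, h1, h2⟩
  have t : ∀ M : M8, v ⬝ᵥ (Mᵀ *ᵥ v) = v ⬝ᵥ (M *ᵥ v) := fun M => by
    rw [mulVec_transpose, dotProduct_comm, dotProduct_mulVec]
  have := congrArg (fun M => v ⬝ᵥ (M *ᵥ v)) k
  rw [bt, mulVec_mulVec] at h2
  simp only [add_mulVec, dotProduct_add, t] at this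
  rw [h2, ← mulVec_mulVec _ (mk8 _), h1, mulVec_zero, dotProduct_zero, ← mulVec_mulVec, mulVec_transpose,
    dotProduct_comm, ← dotProduct_mulVec, dotProduct, Fin.sum_univ_one] at this
  revert this
  generalize (mkP 1 297 *ᵥ v) 0 = x
  revert x; decide

/-- `A` conjugates `el v` to `el w` -/
def Rl (A : M8) (v w : W) : Prop := A * el v = el w * A

theorem Rl.mul {A : M8} {v w v' w' : W} (h : Rl A v w) (k : Rl A v' w') : Rl A (star v v') (star w w') := by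
  rw [Rl, ← el_mul, ← el_mul, ← mul_assoc, h, mul_assoc, k, mul_assoc]

/-- impossible pairs -/
def bad (v w : W) : Prop := w3 v ∧ w = winv v ∨ w2 v ∧ w3 w
instance (v w : W) : Decidable (bad v w) := by unfold bad; infer_instance

theorem Rl.not_bad {A : M8} (hA : Mu 1 A) {v w : W} (h : Rl A v w) : ¬ bad v w := by
  rintro (⟨a, rfl⟩ | ⟨a, b⟩)
  · obtain ⟨x, y, t, k⟩ := v
    obtain ⟨rfl, a, b, c⟩ := a
    have h1 := hconj a b c 1 1 1
    rw [mul_one, mul_one, mul_one] at h1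
    have h2 := hconj (neg_ne_zero.2 a) (neg_ne_zero.2 b) (neg_ne_zero.2 c) (-x) (-y) (-t)
    have e : ∀ x : ZMod 3, x ≠ 0 → -x * -x = 1 := by decide
    rw [e x a, e y b, e t c] at h2
    rw [Rl, show winv (x, y, t, 0) = (-x, -y, -t, 0) from if_pos rfl] at h
    have := ((tp_ze.1.conj (mu_hh x y t) h1).conj hA h).conj (mu_hh (-x) (-y) (-t)) h2
    have e' : ∀ x y t : ZMod 3, x ≠ 0 → y ≠ 0 → t ≠ 0 → -x * (-y * -t) * (1 * (x * (y * t) * -1)) = 1 := by decide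
    rw [e' x y t a b c] at this
    exact tp_ze.2 this
  · have := fx_conj hA.unit h
    rw [fx_w.2 a, fx_w.1 b] at this
    omega

/-! ### The Sylow subgroup -/

def om (x : ZMod 3) : E := if x = 0 then .a else if x = 1 then .b else .c
theorem ac2_dq : ∀ x, Ac2 (dq x) (om x).mu := by unfold Ac2; decide +kernel

variable {G : Type*} [Group G] {z : G} {Q : Subgroup G} {l : G → V8} {μ : G → M8}

theorem in_of (hA : All z μ) {A : M8} {f : U → U} (h : Mu 1 A) (k : Ac A f) : In z μ A :=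
  hA A f h.unit k h.one

theorem in_el (F : FR z Q l μ) (hA : All z μ) (w : W) : In z μ (el w) := by
  refine R.in_mul F (in_of hA (mu_kr' (by simp [dq])) (ac_kr (ac2_dq _) (ac2_dq _) (ac2_dq _))) ?_
  induction w.2.2.2.val with
  | zero => exact R.in_one F
  | succ n ih => exact pow_succ cy n ▸ R.in_mul F ih (in_of hA mu_sg.2.1 ac_cy)

/-- The `3`-subgroups of `C(z)`. -/
theorem syl (F : FRB z Q l μ) (hA : All z μ) {Y : Subgroup G} (hY : Y ≤ Ce z) (h3 : IsPGroup 3 Y) :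
    Q.relIndex Y ∣ 81 ∧ ∃ c ∈ Ce z, (∀ y ∈ Y, ∃ w, μ c * μ y = el w * μ c) ∧ (27 ∣ Q.relIndex Y →
      (∃ y ∈ Y, μ c * μ y = el (1, 2, 0, 0) * μ c) ∧ (∃ y ∈ Y, μ c * μ y = el (0, 1, 2, 0) * μ c) ∧
      ((∀ y ∈ Y, ∀ w, μ c * μ y = el w * μ c → w.2.2.2 = 0) →
        ∀ w : W, w.2.2.2 = 0 → ∃ y ∈ Y, μ c * μ y = el w * μ c)) := by
  have e : Q.relIndex Y = Nat.card ((Y.subgroupOf (Ce z)).map (X.hom F.toX8)) := by
    rw [← relIndex_ker, X.hom_ker, relIndex_subgroupOf hY]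
  have c27 : {w : W | w.2.2.2 = 0}.ncard = 27 := by
    rw [Set.ncard_eq_toFinset_card']; decide +kernel
  have k : ∀ v ∈ [((1, 0, 0, 0), (1, 2, 0, 0)), ((0, 1, 0, 0), (0, 1, 2, 0))],
      star (star (star v.1 (0, 0, 0, 1)) (winv v.1)) (winv (0, 0, 0, 1)) = v.2 := by decide
  have : Fact (Nat.Prime 3) := ⟨by decide⟩
  have hS : S0 ≤ (X.hom F.toX8).range := by
    rintro _ ⟨w, rfl⟩; exact (in_el F.toFR hA w).elim fun c h => ⟨⟨c, h.1⟩, Units.ext h.2⟩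
  obtain ⟨_, ⟨c, rfl⟩, h⟩ := (H98.isSyl_of_not_dvd_relIndex hS (IsPGroup.of_card (n := 4) card_S0) fun h => by
    have := (S0.subgroupOf (X.hom F.toX8).range).card_mul_index
    rw [Nat.card_congr (subgroupOfEquivOfLe hS).toEquiv, card_S0, card_range F] at this
    change 81 * S0.relIndex _ = _ at this
    omega).exists_cj_le ((H98.isPGroup_subgroupOf h3 _).map _) (map_le_range _ (Y.subgroupOf (Ce z)))
  rw [← H98.card_cj (X.hom F.toX8 c)] at e
  have key : ∀ w, elU w ∈ H98.cj (X.hom F.toX8 c) ((Y.subgroupOf (Ce z)).map (X.hom F.toX8)) ↔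
      ∃ y ∈ Y, μ c * μ y = el w * μ c := fun w => by
    constructor
    · rintro ⟨_, ⟨y, hy, rfl⟩, k⟩
      exact ⟨y, hy, congrArg Units.val (mul_inv_eq_iff_eq_mul.1 k)⟩
    · rintro ⟨y, hy, k⟩
      exact ⟨_, ⟨⟨y, hY hy⟩, hy, rfl⟩, mul_inv_eq_iff_eq_mul.2 (Units.ext k)⟩
  have all : ∀ y ∈ Y, ∃ w, μ c * μ y = el w * μ c := fun y hy => by
    obtain ⟨w, k⟩ := h ⟨_, ⟨⟨y, hY hy⟩, hy, rfl⟩, rfl⟩
    exact ⟨w, congrArg Units.val (mul_inv_eq_iff_eq_mul.1 k.symm)⟩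
  generalize H98.cj (X.hom F.toX8 c) ((Y.subgroupOf (Ce z)).map (X.hom F.toX8)) = T at e h key
  rw [e]
  have cm : 27 ∣ Nat.card T → ∀ v w, elU (star (star (star v w) (winv v)) (winv w)) ∈ T := fun h27 v w => by
    have := comm_mem card_S0 h h27 (a := elU v) (b := elU w) ⟨_, rfl⟩ ⟨_, rfl⟩
    convert this using 1
    exact Units.ext (by
      change _ = el _ * el _ * el _ * el _
      rw [el_mul, el_mul, el_mul]; rfl)
  refine ⟨card_S0 ▸ card_dvd_of_le h, c, c.2, all, fun h27 => ⟨(key _).1 ?_, (key _).1 ?_, fun k w hw => ?_⟩⟩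
  · exact (congrArg (elU · ∈ T) (k _ List.mem_cons_self)).mp (cm h27 _ _)
  · exact (congrArg (elU · ∈ T) (k _ (List.mem_cons_of_mem _ List.mem_cons_self))).mp (cm h27 _ _)
  have s : (T : Set M8ˣ) ⊆ elU '' {w | w.2.2.2 = 0} := fun A hA => by
    obtain ⟨w, rfl⟩ := h hA
    obtain ⟨y, hy, k'⟩ := (key w).1 hA
    exact ⟨w, k y hy w k', rfl⟩
  have := Set.eq_of_subset_of_ncard_le s ((Set.ncard_image_le).trans (c27.trans_le
    (Nat.le_of_dvd (Nat.card_pos (α := T)) h27)))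
  exact (key w).1 (this.ge ⟨w, hw, rfl⟩)

end H80.F23.B
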