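/- Slot Ba of chapter C4: basic facts of the configuration. -/
import Cfsg.Agent.H48.DC4Spec
import Cfsg.Agent.H98.Coprime
import Cfsg.Agent.H98.Core

set_option autoImplicit false

namespace H80.C4Ba

open Subgroup Cfsg H98 H48.DP H57.DPC H48.DP2
open scoped commutatorElement

universe u

theorem not_mem_two {G : Type u} [Group G] {J : Subgroup G} (hJ : IsPGroup 2 J) {z : G}
    (hz : orderOf z = 3) : z ∉ J := fun h => by
  obtain ⟨k, hk⟩ := hJ ⟨z, h⟩
  have h1 := orderOf_dvd_of_pow_eq_one (congrArg Subtype.val hk : z ^ 2 ^ k = 1)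
  rw [hz] at h1
  exact absurd (Nat.prime_three.dvd_of_dvd_pow h1) (by norm_num)

theorem job : JBa.{u} := by
  intro f7 G _ _ M Q J L y z u h
  have bd := h.bd
  have lt := h.lt
  obtain ⟨f, hf, hk⟩ := lt.iso
  obtain ⟨P, PM, yP, zP, -⟩ := bd.syl
  have q2 : IsPGroup 2 Q := bd.o2 ▸ isPGroup_pCoreOf M
  have QM : Q ≤ M := bd.o2 ▸ pCoreOf_le M
  have j2 : IsPGroup 2 J := q2.to_le lt.JQ
  have MQ : ∀ {m}, m ∈ M → m ∈ No Q := fun hm => bd.no.symm ▸ hm
  have ker : ∀ {l : L}, f l = 1 ↔ (l : G) ∈ J := fun {l} => by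
    rw [← MonoidHom.mem_ker, hk, mem_subgroupOf]
  have nb : ∀ l : L, (l : G) ∈ No (Q ⊓ L) → f l ∈ No (((Q ⊓ L).subgroupOf L).map f) :=
    fun l hl => mem_normalizer_fintype (by
      rintro _ ⟨q, hq, rfl⟩
      exact ⟨l * q * l⁻¹, conj_mem_of_mem_normalizer (G := G) hl hq, by simp⟩)
  have nq : L ⊓ M ≤ No (Q ⊓ L) := fun l hl =>
    inf_normalizer_le_normalizer_inf ⟨MQ hl.2, le_normalizer hl.1⟩
  have c4 : Nat.card ↥(((Q ⊓ L).subgroupOf L).map f) = 4 := by
    rw [← relIndex_ker, hk, relIndex_subgroupOf inf_le_right, lt.idx]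
  have : Fact (Nat.Prime 3) := ⟨Nat.prime_three⟩
  have o3 : orderOf (f ⟨z, lt.zL⟩) = 3 := orderOf_eq_prime (by
    rw [← map_pow, ← map_one f]
    exact congrArg f (Subtype.ext (bd.z3 ▸ pow_orderOf_eq_one z))) fun e =>
      not_mem_two j2 bd.z3 (ker.1 e)
  have F := f7 _ _ c4 o3 (nb _ (nq ⟨lt.zL, PM zP⟩))
  have pre : ∀ {N : Subgroup G} {l : L}, f l ∈ (N.subgroupOf L).map f → (l : G) ∈ J ⊔ N := by
    rintro N l ⟨m, hm, e⟩
    have : ((l * m⁻¹ : L) : G) ∈ J := ker.1 (by rw [map_mul, map_inv, e, mul_inv_cancel])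
    simpa using mul_mem_sup this hm
  have preM : ∀ {l : L}, f l ∈ (M.subgroupOf L).map f → (l : G) ∈ M := fun hl =>
    sup_le (lt.JQ.trans QM) le_rfl (pre hl)
  refine ⟨h, ⟨f, ⟨z, lt.zL⟩, hf, hk, rfl, F, c4, o3⟩, j2,
    lt.two _ inf_le_right (q2.to_le inf_le_left)
      (inf_normalizer_le_normalizer_inf ⟨MQ (PM yP), le_normalizer lt.yN⟩),
    le_antisymm (le_inf inf_le_left nq) fun l hl => ⟨hl.1, preM (l := ⟨l, hl.1⟩) ?_⟩,
    fun l hl => ?_, fun c hc => ?_, fun C c2 c1 hM => ?_, fun N hN hL => ?_, lt.nor lt.yN,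
    fun e => ?_⟩
  · refine sup_le (map_mono (subgroupOf_mono L (inf_le_left.trans QM))) (fun x hx => ?_)
      (F.nb (nb ⟨l, hl.1⟩ hl.2))
    obtain ⟨x, rfl⟩ := hf x
    obtain ⟨B, -, b27, hB⟩ := bd.uU
    refine ⟨x, bd.tg z x bd.z3 ⟨B, b27, hB (mem_sup_left (mem_zpowers z))⟩ (PM zP)
      (preM (l := x * ⟨z, lt.zL⟩ * x⁻¹) ?_), rfl⟩
    rw [map_mul, map_mul, map_inv]
    exact zpowers_le.2 (mem_map_of_mem f (K := M.subgroupOf L) (x := ⟨z, lt.zL⟩) (PM zP))
      (conj_mem_of_mem_normalizer hx.2 (mem_zpowers _))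
  · obtain ⟨n, hn, e⟩ := exists_mul_mem_centralizer (p := 3) (A := zpowers y) (N := J) (y := l)
      (IsPGroup.of_card (n := 1) (by rw [Nat.card_zpowers, bd.y3, pow_one]))
      (not_dvd_card_of_isPGroup_ne Nat.prime_three (by norm_num) j2) (zpowers_le.2 lt.yN) (by
        intro a ha
        obtain ⟨k, rfl⟩ := mem_powers_iff_mem_zpowers.2 ha
        clear ha
        induction k with
        | zero => simp
        | succ k ih =>
          have e : ⁅y ^ (k + 1), l⁆ = y * ⁅y ^ k, l⁆ * y⁻¹ * ⁅y, l⁆ := by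
            simp only [commutatorElement_def, pow_succ']; group
          exact e ▸ mul_mem (conj_mem_of_mem_normalizer lt.yN ih) (lt.yL l hl))
    have := mul_mem_sup (inv_mem hn) (show n * l ∈ L ⊓ C1 y from ⟨mul_mem (lt.JL hn) hl,
      mem_centralizer_singleton_iff.2 (e y (mem_zpowers y)).symm⟩)
    rwa [inv_mul_cancel_left] at this
  · exact lt.o2.le <| mem_map_of_mem (No J).subtype (bd.char.2 J j2 lt.nt
      (x := ⟨c, centralizer_le_normalizer _ hc⟩) fun p hp =>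
        Subtype.ext (hc p (lt.o2.le (mem_map_of_mem (No J).subtype hp))))
  · obtain ⟨B, hB, b27⟩ := bd.e27
    refine bd.loc _ B (fun e => ?_) b27 (le_inf (hB.trans hM) hB)
    have := bd.simple
    exact not_mem_two c2 bd.y3
      (((normalizer_eq_top_iff.1 e).eq_bot_or_eq_top.resolve_left c1).symm ▸ mem_top y)
  · have := F.simple
    have hn : (N.subgroupOf L).Normal := (normal_subgroupOf_iff_le_normalizer hN).2 hL
    rcases (hn.map f hf).eq_bot_or_eq_top with e | e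
    · exact .inl fun n hn => ker (l := ⟨n, hN hn⟩).1
        (mem_bot.1 (e ▸ mem_map_of_mem f (K := N.subgroupOf L) hn))
    · exact .inr fun l hl => pre (l := ⟨l, hl⟩) (e ▸ mem_top _)
  · have h1 : ((Q ⊓ L).subgroupOf L).map f ≤ zpowers (f ⟨z, lt.zL⟩) := by
      rintro _ ⟨x, -, rfl⟩
      rw [← F.cz, mem_centralizer_singleton_iff, eq_comm,
        ← commutatorElement_eq_one_iff_mul_comm, ← map_commutatorElement]
      exact ker.2 (e x x.2)
    have := card_dvd_of_le h1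
    rw [c4, Nat.card_zpowers, o3] at this
    omega

end H80.C4Ba
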