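import Cfsg.Agent.H6.Rec
/-! PS3B, job F22-F: the abstract part (a class whose neighbourhoods are the Fischer space of `U₆(2)`). -/
set_option autoImplicit false
namespace H80.F22
open Cfsg H71 H75 H80 H38 H6
universe u

section Top
variable {G : Type*} [Group G] {M : Mdl} {S : Set G}

theorem rz_pull (W : M.WF) (H : Subgroup G) (h : Rz M S) (hS : ∀ x ∈ S, x ∈ H) :
    Rz M {x : H | (x : G) ∈ S} := by
  classical
  obtain ⟨θ, R⟩ := h
  let θ' : ℕ → H := fun p => if hp : p < M.n then ⟨θ p, hS _ (R.mem p hp)⟩ else 1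
  have e : ∀ p < M.n, (θ' p : G) = θ p := fun p hp => by simp [θ', hp]
  exact ⟨θ', fun p hp q hq k => R.inj p hp q hq (by rw [← e p hp, ← e q hq, k]),
    fun p hp => by rw [Set.mem_ofPred_eq, e p hp]; exact R.mem p hp,
    fun x hx => by
      obtain ⟨p, hp, k⟩ := R.surj x hx
      exact ⟨p, hp, Subtype.ext ((e p hp).trans k)⟩,
    fun p hp => Subtype.ext (by rw [Subgroup.coe_mul, e p hp]; exact R.sq p hp),
    fun l hl p hp => Subtype.ext (by
      rw [Subgroup.coe_mul, Subgroup.coe_mul, e p hp, e _ (W.lt l hp), e _ (W.glt l hl)]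
      exact R.conj l hl p hp)⟩

theorem tt_conj (h : IsThreeTranspositionSet S) (g : G) : IsThreeTranspositionSet (cj g '' S) := by
  constructor
  · rintro _ ⟨x, hx, rfl⟩
    rw [orderOf_injective (cj g) (MulAut.conj g).injective, h.1 x hx]
  · rintro _ ⟨x, hx, rfl⟩ _ ⟨y, hy, rfl⟩
    rw [← map_mul, ← map_pow, ← map_pow]
    exact (h.2 x hx y hy).imp (fun h => by rw [h, map_one]) fun h => by rw [h, map_one]

variable {d : G}

theorem locD (hd : orderOf d = 2) (h : Rz M21 (Dc (conjugatesOf d) d))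
    (tt : IsThreeTranspositionSet (Dc (conjugatesOf d) d)) {l₀ : List G}
    (h1 : CL (Dc (conjugatesOf d) d) l₀) (h2 : l₀.length = 6) (h3 : l₀.prod = d) :
    LocD (conjugatesOf d) ∧ ∀ y ∈ conjugatesOf d, Rz M21 (Dc (conjugatesOf d) y) := by
  have hloc : ∀ y ∈ conjugatesOf d, Rz M21 (Dc (conjugatesOf d) y) := fun y hy => by
    obtain ⟨g, rfl⟩ := isConj_iff.1 hy
    exact Dc_conj_image cl_conjugatesOf d g ▸ h.conj wf21 g
  have htt : ∀ y ∈ conjugatesOf d, IsThreeTranspositionSet (Dc (conjugatesOf d) y) := fun y hy => by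
    obtain ⟨g, rfl⟩ := isConj_iff.1 hy
    exact Dc_conj_image cl_conjugatesOf d g ▸ tt_conj tt g
  refine ⟨⟨cl_conjugatesOf, fun y hy => ?_, htt, fun y hy => noRel21 (htt y hy) (hloc y hy),
    fun a ha l hl e => ?_, fun a ha c hc' e he h k => ?_⟩, hloc⟩
  · obtain ⟨g, rfl⟩ := isConj_iff.1 hy
    exact (orderOf_injective (cj g) (MulAut.conj g).injective d).trans hd
  · have z := hloc a ha
    obtain ⟨g, rfl⟩ := isConj_iff.1 ha
    have k1 := h1.conj g fun y hy => Dc_conj cl_conjugatesOf (h1.2.1 y hy) g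
    have k2 := prod_map_cj g l₀
    have k3 : (l₀.map (cj g)).length = 6 := by simpa using h2
    rw [h3] at k2
    generalize l₀.map (cj g) = l₁ at k1 k2 k3
    obtain ⟨k, hk, e1⟩ := tr21_le z _ e (l₁.take l.length) l (k1.sublist (List.take_sublist _ _)) hl
      (by simp; omega) rfl
    have e2 : l ++ (l₁.drop l.length).map (cj k) = l₁.map (cj k) := by
      conv_lhs => rw [← e1, ← List.map_append, List.length_map, List.length_take,
        min_eq_left (by omega), List.take_append_drop]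
    refine ⟨(l₁.drop l.length).map (cj k), ?_⟩
    rw [e2, prod_map_cj, k2]
    exact ⟨by simpa using k3, (cl_of_real wf21 z).conj_cl hk k1,
      conj_eq_iff_commute.2 (comm_of_mem_closure_Dc hk)⟩
  · by_cases h1 : Commute a c
    · exact ⟨c, hc', h1, k⟩
    by_cases h2 : e = c
    · exact h2 ▸ h
    obtain ⟨y, hy, k1, k2⟩ := h
    obtain ⟨θ, R, hQ⟩ := qb22 hloc hc' ha (fun k => h1 k.symm) (y := y)
      ⟨hy, fun e => h1 (e ▸ k1), k2.symm⟩ k1.symm
    obtain ⟨p, hp, rfl⟩ := R.surj e ⟨he, h2, k⟩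
    obtain ⟨q, k3, k4, k5⟩ := cov_of_chk bm21 cov22 R hp
    exact ⟨_, (R.mem q k3).1, (hQ q k3).2 k4, k5⟩

theorem conj_in [Finite G] (L : LocD (conjugatesOf d))
    (hloc : ∀ y ∈ conjugatesOf d, Rz M21 (Dc (conjugatesOf d) y)) {y : G} (hy : y ∈ conjugatesOf d) :
    ∃ k ∈ Subgroup.closure (conjugatesOf d), k * d * k⁻¹ = y := by
  have T := L.tt_all
  have hd : d ∈ conjugatesOf d := mem_conjugatesOf_self
  by_cases h1 : Commute d y
  · by_cases h2 : y = d
    · exact ⟨1, one_mem _, by simp [h2]⟩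
    obtain ⟨x, _, _, _, _, h, -⟩ := L.six1 hd ⟨hy, h2, h1⟩
    have hx := (cl_cons.1 h).2.2.1 x (by simp)
    obtain ⟨θ, R⟩ := hloc x hx.1.1
    obtain ⟨k, hk, e⟩ := R.exists_conj wf21 ⟨hd, hx.1.2.1.symm, hx.1.2.2.symm⟩
      ⟨hy, hx.2.1.symm, hx.2.2.symm⟩
    exact ⟨k, closure_Dc_le _ hk, e⟩
  · refine ⟨d * y, mul_mem (Subgroup.subset_closure hd) (Subgroup.subset_closure hy), ?_⟩
    rw [mul_inv_rev, tt_inv T hd, tt_inv T hy, mul_assoc d y d, ← mul_assoc,
      mul_assoc d, ← tt_braid T hd hy h1, tt_conj_conj T hd]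

end Top

/-- The group generated by the class is `Fi₂₂`. -/
theorem iso_of_loc {G : Type u} [Group G] [Finite G] {d : G} (L : LocD (conjugatesOf d))
    (hloc : ∀ y ∈ conjugatesOf d, Rz M21 (Dc (conjugatesOf d) y))
    (cen : ∀ z, Commute z d → (∀ y ∈ Dc (conjugatesOf d) d, Commute z y) → z = 1 ∨ z = d) :
    Spor.IsoFi22 (Subgroup.closure (conjugatesOf d)) ∧
      Subgroup.centralizer (Subgroup.closure (conjugatesOf d) : Set G) = ⊥ := by
  have T := L.tt_all
  have hd : d ∈ conjugatesOf d := mem_conjugatesOf_self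
  have hC : Subgroup.centralizer (Subgroup.closure (conjugatesOf d) : Set G) = ⊥ :=
    eq_bot_iff.2 fun z hz => by
      have c : ∀ y ∈ conjugatesOf d, Commute z y := fun y hy =>
        (hz y (Subgroup.subset_closure hy)).symm
      refine (cen z (c d hd) fun y hy => c y hy.1).resolve_right fun e => ?_
      obtain ⟨y, -, w, hw, k⟩ := exists_c (fun _ => vtriv21) (by decide) hloc hd
      exact k (e ▸ c w hw.1)
  refine ⟨?_, hC⟩
  set H := Subgroup.closure (conjugatesOf d) with hH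
  let D : Set H := {x | (x : G) ∈ conjugatesOf d}
  have T' : IsThreeTranspositionGroup D := ⟨⟨fun x hx => (Subgroup.orderOf_coe x).symm.trans (T.1 x hx),
    fun x hx y hy => (T.2 x hx y hy).imp (fun h => Subtype.ext h) fun h => Subtype.ext h⟩,
    fun g x hx => cl_conjugatesOf (g : G) x hx, Subgroup.closure_preimage_eq_top _⟩
  have hZ : Subgroup.center H = ⊥ := eq_bot_iff.2 fun z hz => by
    have : (z : G) ∈ Subgroup.centralizer (H : Set G) := fun y hy =>
      congrArg Subtype.val (Subgroup.mem_center_iff.1 hz ⟨y, hy⟩)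
    rw [hC] at this
    exact Subtype.ext this
  have hl : ∀ y ∈ D, Rz M21 (Dc D y) := fun y hy => by
    have := rz_pull wf21 H (hloc y hy) fun x hx => Subgroup.subset_closure hx.1
    convert this using 1
    ext x
    exact ⟨fun h => ⟨h.1, fun e => h.2.1 (Subtype.ext e), h.2.2.map H.subtype⟩,
      fun h => ⟨h.1, fun e => h.2.1 (congrArg Subtype.val e), Subtype.ext h.2.2⟩⟩
  have hd' : (⟨d, Subgroup.subset_closure hd⟩ : H) ∈ D := hd
  obtain ⟨y, hy, c, hc, hdc⟩ := exists_c (fun _ => vtriv21) (by decide) hl hd'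
  obtain ⟨θ, R, hQ⟩ := qb22 hl hd' hc.1 hdc hy hc.2.2
  obtain ⟨Θ, F⟩ := lvl22.main tc22 a21.{0}.cp T' hZ hd' hc.1 hdc R hQ (fun u hu => fprop21 (hl u hu))
    (Or.inr ⟨fun y hy => by
      obtain ⟨k, hk, e⟩ := conj_in L hloc hy
      exact ⟨⟨k, hk⟩, Subtype.ext e⟩, odd22⟩)
  exact ⟨F.iso22.choose⟩

section Loc
variable {G : Type*} [Group G]

/-- One of the two classes of lifts of the transvections. -/
structure Pre (d : G) (O : Subgroup G) (X : Set G) : Prop where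
  rz : Rz M21 X
  tt : IsThreeTranspositionSet X
  dd : d * d = 1
  d1 : d ≠ 1
  dX : d ∉ X
  gen : Subgroup.closure X = O
  dO : d ∈ O
  cm : ∀ g ∈ O, Commute g d
  fac : ∀ t ∈ O, t * t = 1 → ∃ l, CL X l ∧ l.length ≤ 3 ∧ (t = l.prod ∨ t = d * l.prod)
  nrm : ∀ g, Commute g d → ∀ x ∈ X, g * x * g⁻¹ ∈ X ∨ d * (g * x * g⁻¹) ∈ X

/-- Three commuting conjugates permuted cyclically. -/
structure Tri (d a b π : G) : Prop where
  e1 : π * d * π⁻¹ = a
  e2 : π * a * π⁻¹ = b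
  e3 : π * b * π⁻¹ = d
  ab : Commute a b
  n1 : ¬ IsConj d (d * a)
  n2 : ¬ IsConj d (d * b)
  n3 : ¬ IsConj d (a * b)
  n4 : ¬ IsConj d (d * (a * b))

/-- `x` belongs to the copy of `X` at `w`. -/
def Ad (d : G) (X : Set G) (w x : G) : Prop := ∃ g, g * d * g⁻¹ = w ∧ g⁻¹ * x * g ∈ X

variable {d a b π : G} {O : Subgroup G} {X : Set G}

theorem Ad.conj {w x : G} (h : Ad d X w x) (k : G) : Ad d X (k * w * k⁻¹) (k * x * k⁻¹) := by
  obtain ⟨g, rfl, h⟩ := h
  exact ⟨k * g, by group, by convert h using 1; group⟩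

theorem isConj_cj (g x : G) : IsConj d (g * x * g⁻¹) ↔ IsConj d x :=
  mem_conj_iff (D := conjugatesOf d) (fun _ => Iff.rfl) g x

theorem isConj_dcj {g : G} (hg : Commute g d) (x : G) : IsConj d (d * (g * x * g⁻¹)) ↔ IsConj d (d * x) :=
  mem_conj_d (D := conjugatesOf d) (fun _ => Iff.rfl) hg x

namespace Pre
variable (P : Pre d O X)
include P

theorem mem {x : G} (hx : x ∈ X) : x ∈ O := P.gen ▸ Subgroup.subset_closure hx
theorem comm {x : G} (hx : x ∈ X) : Commute x d := P.cm x (P.mem hx)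
theorem dd' (g : G) : d * (d * g) = g := by rw [← mul_assoc, P.dd, one_mul]
theorem cm' {g : G} (hg : g ∈ Subgroup.closure X) : Commute g d := P.cm g (P.gen ▸ hg)

theorem ne_d {l : List G} (hl : CL X l) (h0 : l ≠ []) (h4 : l.length ≤ 4) : l.prod ≠ d := fun e => by
  obtain ⟨v, hv, k⟩ := noRel21 P.tt P.rz l hl h0 h4
  exact k (e ▸ P.comm hv)

theorem sq {t : G} (h : IsConj d t) : t * t = 1 := by
  obtain ⟨g, rfl⟩ := isConj_iff.1 h
  rw [conj_mul, P.dd, mul_one, mul_inv_cancel]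

theorem not_one : ¬ IsConj d 1 := fun h => P.d1 (isConj_one_left.1 h)

variable (T : Tri d a b π) (ha : a ∈ X)
include T ha

theorem one {x : G} (hx : x ∈ X) : IsConj d x ∧ ¬ IsConj d (d * x) := by
  obtain ⟨g, hg, rfl⟩ := conj_of_rz wf21 P.rz a ha x hx
  rw [isConj_cj, isConj_dcj (P.cm' hg)]
  exact ⟨isConj_iff.2 ⟨π, T.e1⟩, T.n1⟩

theorem of_or {x : G} (h : IsConj d x) (k : x ∈ X ∨ d * x ∈ X) : x ∈ X :=
  k.resolve_right fun k => (P.one T ha k).2 (by rwa [P.dd'])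

theorem nrm' {g x : G} (hg : Commute g d) (hx : x ∈ X) : g * x * g⁻¹ ∈ X :=
  P.of_or T ha ((isConj_cj g x).2 (P.one T ha hx).1) (P.nrm g hg x hx)

theorem ad_iff {g x : G} : Ad d X (g * d * g⁻¹) x ↔ g⁻¹ * x * g ∈ X := by
  refine ⟨fun ⟨k, e, h⟩ => ?_, fun h => ⟨g, rfl, h⟩⟩
  have := P.nrm' T ha (g := g⁻¹ * k) (conj_eq_iff_commute.1 (by
    rw [show g⁻¹ * k * d * (g⁻¹ * k)⁻¹ = g⁻¹ * (k * d * k⁻¹) * g by group, e]; group)) h
  convert this using 1; group

theorem ad_d {x : G} : Ad d X d x ↔ x ∈ X := by simpa using P.ad_iff T ha (g := 1) (x := x)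

omit ha in
theorem ne_ab : b ≠ a := fun e => T.n4 (by
  rw [e, P.sq (isConj_iff.2 ⟨π, T.e1⟩), mul_one])

variable (hb : b ∈ X)
include hb

theorem sym {w x : G} (h : Ad d X w x) : Ad d X x w := by
  obtain ⟨g, rfl, h⟩ := h
  obtain ⟨k, hk, e⟩ := conj_of_rz wf21 P.rz b hb _ h
  have h1 : Ad d X b d := ⟨π⁻¹, by rw [← T.e3]; group, by rw [inv_inv, T.e1]; exact ha⟩
  have := (h1.conj k).conj g
  rwa [e, conj_eq_iff_commute.2 (P.cm' hk), show g * (g⁻¹ * x * g) * g⁻¹ = x by group] at this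

theorem two {x y : G} (hx : x ∈ X) (hy : y ∈ X) (h : y ≠ x) (c : Commute x y) :
    ∃ k, Commute k d ∧ k * a * k⁻¹ = x ∧ k * b * k⁻¹ = y := by
  obtain ⟨k, hk, e⟩ := tr21 P.rz [a, b] [x, y] (cl_two.2 ⟨ha, hb, P.ne_ab T, T.ab⟩)
    (cl_two.2 ⟨hx, hy, h, c⟩) rfl rfl
  simp only [List.map_cons, List.map_nil, List.cons.injEq, and_true, cj_apply] at e
  exact ⟨k, P.cm' hk, e⟩

theorem tri {w x y : G} (hx : Ad d X w x) (hy : Ad d X w y) (h : y ≠ x) (c : Commute x y) :
    Ad d X x y := by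
  obtain ⟨g, rfl, hx⟩ := hx
  rw [P.ad_iff T ha] at hy
  obtain ⟨k, -, e1, e2⟩ := P.two T ha hb hx hy (fun e => h (mul_left_cancel (mul_right_cancel e)))
    (by simpa using (commute_conj_iff (g := g⁻¹)).2 c)
  have h1 : Ad d X a b := ⟨π, T.e1, by rw [← T.e2]; simpa [mul_assoc] using ha⟩
  have := (h1.conj k).conj g
  rwa [e1, e2, show g * (g⁻¹ * x * g) * g⁻¹ = x by group,
    show g * (g⁻¹ * y * g) * g⁻¹ = y by group] at this

theorem pair {l : List G} (hl : CL X l) (e : l.length = 2) :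
    ¬ IsConj d l.prod ∧ ¬ IsConj d (d * l.prod) := by
  obtain ⟨x, y, rfl⟩ := List.length_eq_two.1 e
  obtain ⟨hx, hy⟩ := cl_two.1 hl
  obtain ⟨k, hk, rfl, rfl⟩ := P.two T ha hb hx hy.1 hy.2.1 hy.2.2
  rw [List.prod_cons, List.prod_singleton, conj_mul, isConj_cj, isConj_dcj hk]
  exact ⟨T.n3, T.n4⟩

/-- Moving the first member of a list to `d`. -/
theorem shift {x : G} {l : List G} (hl : CL X (x :: l)) :
    ∃ g l', CL X l' ∧ l'.length = l.length ∧ g * d * g⁻¹ = x ∧ g * l'.prod * g⁻¹ = l.prod := by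
  obtain ⟨hx, h⟩ := cl_cons.1 hl
  obtain ⟨g, rfl⟩ := isConj_iff.1 (P.one T ha hx).1
  refine ⟨g, l.map (cj g⁻¹), h.conj g⁻¹ fun y hy => ?_, by simp, rfl, by rw [prod_map_cj]; group⟩
  have k := h.2.1 y hy
  rw [inv_inv, ← P.ad_iff T ha]
  exact P.tri T ha hb ((P.ad_d T ha).2 hx) ((P.ad_d T ha).2 k.1) k.2.1 k.2.2

theorem three {l : List G} (hl : CL X l) (e : l.length = 3) : ¬ IsConj d l.prod := by
  obtain ⟨x, l, rfl⟩ := List.exists_cons_of_length_eq_add_one e
  obtain ⟨g, l', h1, h2, rfl, h3⟩ := P.shift T ha hb hl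
  rw [List.prod_cons, ← h3, conj_mul, isConj_cj]
  exact (P.pair T ha hb h1 (by simp at e; omega)).2

theorem five {l : List G} (hl : CL X l) (e : l.length = 5) : l.prod ≠ 1 := fun k => by
  obtain ⟨x, l, rfl⟩ := List.exists_cons_of_length_eq_add_one e
  obtain ⟨g, l', h1, h2, rfl, h3⟩ := P.shift T ha hb hl
  rw [List.prod_cons, ← h3, conj_mul, conj_eq_one_iff] at k
  simp only [List.length_cons] at e
  refine P.ne_d h1 (fun k => by rw [k] at h2; simp at h2; omega) (by omega) ?_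
  rw [eq_inv_of_mul_eq_one_right k, inv_eq_of_mul_eq_one_right P.dd]

variable (t3 : ∀ l, CL X l → l.length = 3 →
  ∃ l', CL X l' ∧ (l'.length = 2 ∨ l'.length = 3) ∧ l.prod = d * l'.prod)
include t3

/-- The conjugates of `d` in `O`. -/
theorem inner {s : G} (h : IsConj d s) (hs : s ∈ O) : s = d ∨ s ∈ X := by
  obtain ⟨l, k1, k2, k3⟩ := P.fac s hs (P.sq h)
  obtain e | e | e | e : l.length = 0 ∨ l.length = 1 ∨ l.length = 2 ∨ l.length = 3 := by omega
  · rw [List.length_eq_zero_iff.1 e, List.prod_nil, mul_one] at k3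
    exact Or.inl (k3.resolve_left fun e => P.not_one (e ▸ h))
  · obtain ⟨x, rfl⟩ := List.length_eq_one_iff.1 e
    rw [List.prod_singleton] at k3
    rcases k3 with rfl | rfl
    exacts [Or.inr (cl_one.1 k1), absurd h (P.one T ha (cl_one.1 k1)).2]
  · rcases k3 with rfl | rfl
    exacts [absurd h (P.pair T ha hb k1 e).1, absurd h (P.pair T ha hb k1 e).2]
  · rcases k3 with rfl | rfl
    · exact absurd h (P.three T ha hb k1 e)
    · obtain ⟨l', a1, a2, a3⟩ := t3 l k1 e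
      rw [a3, P.dd'] at h
      exact absurd h (a2.elim (fun e => (P.pair T ha hb a1 e).1) (P.three T ha hb a1))

/-- There are no outer conjugates in the centraliser. -/
theorem loc (h2 : ∀ g g', Commute g d → Commute g' d → g ∉ O → g' ∉ O → g * g' ∈ O)
    (out : ∀ e, IsConj d e → Commute e d → e ∉ O → ∃ x ∈ X,
      (∀ m, Commute m d → Commute m e → Commute m x) ∧ ¬ IsConj d (x * e) ∧ ¬ IsConj d (d * x * e) ∧
      ∀ w ∈ O, (∀ m, Commute m d → Commute m e → Commute m w) → w = 1 ∨ w = d ∨ w = x ∨ w = d * x) :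
    Dc (conjugatesOf d) d = X := by
  refine le_antisymm (fun e he => ?_) fun x hx =>
    ⟨(P.one T ha hx).1, fun e => P.dX (e ▸ hx), (P.comm hx).symm⟩
  obtain ⟨h1, h3, h4⟩ := he
  replace h1 : IsConj d e := h1
  have key : e ∈ O := by
    by_contra hO
    have nX : ¬ Ad d X d e := fun k => hO (P.mem ((P.ad_d T ha).1 k))
    obtain ⟨x, hx, -, x2, x3, x4⟩ := out e h1 h4.symm hO
    have ee := P.sq h1
    obtain ⟨g, hg⟩ := isConj_iff.1 h1
    have c : Commute (g⁻¹ * d * g) d := (commute_conj_iff (g := g)).1 (by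
      rw [hg, show g * (g⁻¹ * d * g) * g⁻¹ = d by group]; exact h4)
    have i : IsConj d (g⁻¹ * d * g) := isConj_iff.2 ⟨g⁻¹, by rw [inv_inv]⟩
    have o : g⁻¹ * d * g ∉ O := fun k => (P.inner T ha hb t3 i k).elim
      (fun k => h3 (by rw [← hg]; nth_rewrite 1 [← k]; group))
      fun k => nX (P.sym T ha hb ⟨g, hg, k⟩)
    obtain ⟨y, hy, y1, -⟩ := out _ i c o
    have y2 : ∀ m, Commute m d → Commute m e → Commute m (g * y * g⁻¹) := fun m m1 m2 =>
      (commute_conj_iff'.2 (y1 (g⁻¹ * m * g) (commute_conj_iff'.1 (hg ▸ m2.symm)).symm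
        (by simpa using (commute_conj_iff (g := g⁻¹)).2 m1)).symm).symm
    have y3 : Ad d X e (g * y * g⁻¹) := ⟨g, hg, by simpa [mul_assoc] using hy⟩
    have y4 : IsConj d (g * y * g⁻¹) := (isConj_cj g y).2 (P.one T ha hy).1
    have y5 := (y2 d (Commute.refl d) h4).symm
    by_cases k : g * y * g⁻¹ ∈ O
    · rcases P.inner T ha hb t3 y4 k with k | k
      · exact o (by nth_rewrite 1 [← k]; simpa [mul_assoc] using P.mem hy)
      · exact nX (P.tri T ha hb (P.sym T ha hb ((P.ad_d T ha).2 k)) (P.sym T ha hb y3) h3 h4)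
    have fin : ∀ w, g * y * g⁻¹ * e = w → g * y * g⁻¹ = w * e := fun w k => by
      rw [← k, mul_assoc _ e, ee, mul_one]
    rcases x4 _ (h2 _ _ y5 h4.symm k hO) fun m m1 m2 => (y2 m m1 m2).mul_right m2 with k | k | k | k
    · rw [fin _ k, one_mul, ← hg, P.ad_iff T ha] at y3
      exact P.dX (by simpa [mul_assoc] using y3)
    · rw [← hg, conj_mul, (P.comm hy).eq] at k
      exact (P.one T ha hy).2 ((isConj_cj g _).1 (by rw [k]))
    · exact x2 (fin _ k ▸ y4)
    · exact x3 (fin _ k ▸ y4)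
  exact (P.inner T ha hb t3 h1 key).resolve_left h3

end Pre
end Loc
end H80.F22
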