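import Cfsg.Agent.H39.F23Spec
/-! PS3B, job F23-M: the group `2^{1+6}` and the action of its normaliser on `F₄³`. -/
set_option autoImplicit false
set_option maxRecDepth 100000
namespace H80.F23
open H39.F23 Matrix
open scoped Kronecker

/-- the field with four elements -/
inductive E | o | a | b | c deriving DecidableEq

instance : Fintype E := ⟨⟨↑[E.o, .a, .b, .c], by decide⟩, fun x => by cases x <;> decide⟩

def E.ad : E → E → E
  | .o, y => y
  | .a, y => match y with | .o => .a | .a => .o | .b => .c | .c => .b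
  | .b, y => match y with | .o => .b | .a => .c | .b => .o | .c => .a
  | .c, y => match y with | .o => .c | .a => .b | .b => .a | .c => .o

def E.mu : E → E → E
  | .o, _ => .o
  | .a, y => y
  | .b, y => match y with | .o => .o | .a => .b | .b => .c | .c => .a
  | .c, y => match y with | .o => .o | .a => .c | .b => .a | .c => .b

def E.nz : E → Bool | .o => false | _ => true

abbrev U := E × E × E
abbrev Tp := U × U × U

def ad (u v : U) : U := (u.1.ad v.1, u.2.1.ad v.2.1, u.2.2.ad v.2.2)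
def sm (x : E) (u : U) : U := (x.mu u.1, x.mu u.2.1, x.mu u.2.2)
def u0 : U := (.o, .o, .o)
def app (τ : Tp) (u : U) : U := ad (sm u.1 τ.1) (ad (sm u.2.1 τ.2.1) (sm u.2.2 τ.2.2))
def mulT (τ κ : Tp) : Tp := (app τ κ.1, app τ κ.2.1, app τ κ.2.2)
def oneT : Tp := ((.a, .o, .o), (.o, .a, .o), (.o, .o, .a))
def gens : List U := [(.a, .o, .o), (.b, .o, .o), (.o, .a, .o), (.o, .b, .o), (.o, .o, .a), (.o, .o, .b)]

def q : E → M2 | .o => 1 | .a => qi | .b => qj | .c => qi * qj
def rho (u : U) : M8 := kr (q u.1) (q u.2.1) (q u.2.2)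
def s2 : E → E → ZMod 3
  | .o, _ => 1
  | .a, y => match y with | .o => 1 | .a => -1 | .b => 1 | .c => -1
  | .b, y => match y with | .o => 1 | .a => -1 | .b => -1 | .c => 1
  | .c, y => match y with | .o => 1 | .a => 1 | .b => -1 | .c => -1
def sn (u v : U) : ZMod 3 := s2 u.1 v.1 * (s2 u.2.1 v.2.1 * s2 u.2.2 v.2.2)
def qb (u : U) : Bool := xor u.1.nz (xor u.2.1.nz u.2.2.nz)
/-- the element `qd ⊗ qd ⊗ qd` -/
abbrev ze : M8 := kr qd qd qd

theorem kr_mul (a b c a' b' c' : M2) : kr a b c * kr a' b' c' = kr (a * a') (b * b') (c * c') := by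
  simp only [kr, mul_kronecker_mul]
theorem kr_smul (x y z : ZMod 3) (a b c : M2) :
    kr (x • a) (y • b) (z • c) = (x * (y * z)) • kr a b c := by
  simp only [kr, smul_kronecker, kronecker_smul, smul_smul]; congr 1; ring
theorem kr_one : kr 1 1 1 = 1 := by simp only [kr, one_kronecker_one]

theorem q_mul : ∀ x y, q x * q y = s2 x y • q (x.ad y) := by decide +kernel
theorem q_om : ∀ x, qd * q x = q (E.b.mu x) * qd := by decide +kernel
theorem rho_mul (u v : U) : rho u * rho v = sn u v • rho (ad u v) := by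
  simp only [rho, kr_mul, q_mul, kr_smul]; rfl
theorem rho_zero : rho u0 = 1 := kr_one
theorem ze_rho (u : U) : ze * rho u = rho (sm .b u) * ze := by
  simp only [rho, kr_mul, q_om]; rfl
theorem sn_pm (u v : U) : sn u v = 1 ∨ sn u v = -1 := by
  have : ∀ x y, s2 x y = 1 ∨ s2 x y = -1 := by decide
  rcases this u.1 v.1 with h | h <;> rcases this u.2.1 v.2.1 with h' | h' <;>
    rcases this u.2.2 v.2.2 with h'' | h'' <;> simp [sn, h, h', h'']
theorem ad_self : ∀ u, ad u u = u0 := by decide +kernel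
theorem ad_comm (u v : U) : ad u v = ad v u := by
  have : ∀ x y : E, x.ad y = y.ad x := by decide
  simp only [ad, this u.1, this u.2.1, this u.2.2]
theorem eq_of_ad (u v : U) (h : ad u v = u0) : u = v := by
  have : ∀ x y : E, x.ad y = .o → x = y := by decide
  simp only [ad, u0, Prod.mk.injEq] at h
  exact Prod.ext (this _ _ h.1) (Prod.ext (this _ _ h.2.1) (this _ _ h.2.2))
theorem rho_sq (u : U) : rho u * rho u = sn u u • 1 := by rw [rho_mul, ad_self, rho_zero]

/-- equality up to sign -/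
def Pm (A B : M8) : Prop := A = B ∨ A = -B

namespace Pm
variable {A B C D : M8}
theorem rfl : Pm A A := Or.inl (Eq.refl _)
theorem symm (h : Pm A B) : Pm B A := h.imp Eq.symm fun e => by rw [e, neg_neg]
theorem trans (h : Pm A B) (k : Pm B C) : Pm A C := by
  rcases h with rfl | rfl <;> rcases k with rfl | rfl <;> simp [Pm]
theorem mul (h : Pm A B) (k : Pm C D) : Pm (A * C) (B * D) := by
  rcases h with rfl | rfl <;> rcases k with rfl | rfl <;> simp [Pm]
theorem left (h : Pm A B) (C : M8) : Pm (C * A) (C * B) := Pm.rfl.mul h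
theorem right (h : Pm A B) (C : M8) : Pm (A * C) (B * C) := h.mul Pm.rfl
theorem of_smul {x : ZMod 3} (h : x = 1 ∨ x = -1) (A : M8) : Pm (x • A) A := by
  rcases h with rfl | rfl <;> simp [Pm]
theorem cancel (hC : IsUnit C) (h : Pm (A * C) (B * C)) : Pm A B :=
  h.imp hC.mul_right_cancel fun e => hC.mul_right_cancel (by rw [e, neg_mul])
theorem cancel' (hC : IsUnit C) (h : Pm (C * A) (C * B)) : Pm A B :=
  h.imp hC.mul_left_cancel fun e => hC.mul_left_cancel (by rw [e, mul_neg])
theorem sq (h : Pm A B) : A * A = B * B := by rcases h with rfl | rfl <;> simp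
theorem comm (h : Pm A B) (k : B * C = C * B) : A * C = C * A := by
  rcases h with rfl | rfl <;> simp [k]
end Pm

theorem rho_pm (u v : U) : Pm (rho u * rho v) (rho (ad u v)) :=
  rho_mul u v ▸ Pm.of_smul (sn_pm u v) _
theorem rho_cm (u v : U) : Pm (rho u * rho v) (rho v * rho u) :=
  (rho_pm u v).trans (ad_comm u v ▸ (rho_pm v u).symm)
theorem rho_one : ∀ u, Pm (rho u) 1 → u = u0 := by unfold Pm; decide +kernel
theorem rho_inj {u v : U} (h : Pm (rho u) (rho v)) : u = v :=
  eq_of_ad u v (rho_one _ ((rho_pm u v).symm.trans ((h.mul Pm.rfl).trans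
    ((rho_pm v v).trans (by rw [ad_self, rho_zero]; exact Pm.rfl)))))
theorem rho_four (u : U) : rho u ^ 4 = 1 := by
  rw [show (4 : ℕ) = 2 * 2 from rfl, pow_mul, pow_two (rho u), rho_sq]
  rcases sn_pm u u with h | h <;> simp [h]
theorem rho_unit (u : U) : IsUnit (rho u) := IsUnit.of_pow_eq_one (rho_four u) (by decide)
theorem Pm.four {A : M8} {u : U} (h : Pm A (rho u)) : A ^ 4 = 1 := by
  rcases h with rfl | rfl
  exacts [rho_four u, by rw [Even.neg_pow (by decide), rho_four]]

theorem U_ind {P : U → Prop} (h0 : P u0) (ha : ∀ u v, P u → P v → P (ad u v)) (hg : ∀ e ∈ gens, P e)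
    (u : U) : P u := by
  simp only [gens, List.forall_mem_cons] at hg
  obtain ⟨h1, h2, h3, h4, h5, h6, -⟩ := hg
  obtain ⟨x, y, z⟩ := u
  have k1 : P (x, .o, .o) := by cases x; exacts [h0, h1, h2, ha _ _ h1 h2]
  have k2 : P (.o, y, .o) := by cases y; exacts [h0, h3, h4, ha _ _ h3 h4]
  have k3 : P (.o, .o, z) := by cases z; exacts [h0, h5, h6, ha _ _ h5 h6]
  have := ha _ _ k1 (ha _ _ k2 k3)
  cases x <;> cases y <;> exact this

theorem mem_R0 {A : M8} : A ∈ R0 ↔ ∃ u, Pm A (rho u) := by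
  constructor
  · intro h
    induction h using Submonoid.closure_induction with
    | mem x hx =>
      rcases hx with rfl | rfl | rfl | rfl | rfl | rfl
      exacts [⟨(.a, .o, .o), Pm.rfl⟩, ⟨(.b, .o, .o), Pm.rfl⟩, ⟨(.o, .a, .o), Pm.rfl⟩,
        ⟨(.o, .b, .o), Pm.rfl⟩, ⟨(.o, .o, .a), Pm.rfl⟩, ⟨(.o, .o, .b), Pm.rfl⟩]
    | one => exact ⟨u0, rho_zero ▸ Pm.rfl⟩
    | mul x y _ _ hx hy =>
      obtain ⟨u, hu⟩ := hx
      obtain ⟨v, hv⟩ := hy
      exact ⟨_, (hu.mul hv).trans (rho_pm u v)⟩
  · have g : ∀ e ∈ gens, rho e ∈ R0 := by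
      simp only [gens, List.forall_mem_cons]
      refine ⟨?_, ?_, ?_, ?_, ?_, ?_, by simp⟩ <;> exact Submonoid.subset_closure (by simp [rho, q])
    have n : (-1 : M8) ∈ R0 := by
      have := mul_mem (g (.a, .o, .o) (by simp [gens])) (g (.a, .o, .o) (by simp [gens]))
      rwa [rho_sq, show sn (.a, .o, .o) (.a, .o, .o) = -1 by decide, neg_smul, one_smul] at this
    have pm : ∀ A B : M8, Pm A B → B ∈ R0 → A ∈ R0 := by
      rintro A B (rfl | rfl) h
      exacts [h, by simpa using mul_mem n h]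
    rintro ⟨u, hu⟩
    exact pm _ _ hu (U_ind (P := fun u => rho u ∈ R0) (rho_zero ▸ one_mem _)
      (fun u v a b => pm _ _ (rho_pm u v).symm (mul_mem a b)) g u)

theorem M2_ind {P : M2 → Prop} (hq : ∀ x, P (q x)) (ha : ∀ a b, P a → P b → P (a + b))
    (hs : ∀ (x : ZMod 3) a, P a → P (x • a)) (a : M2) : P a := by
  have : ∀ a : M2, ∃ x y z w : ZMod 3, a = x • q .o + (y • q .a + (z • q .b + w • q .c)) := by
    decide +kernel
  obtain ⟨x, y, z, w, rfl⟩ := this a
  exact ha _ _ (hs _ _ (hq _)) (ha _ _ (hs _ _ (hq _)) (ha _ _ (hs _ _ (hq _)) (hs _ _ (hq _))))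

/-- A matrix commuting with `R0` is scalar. -/
theorem scalar {A : M8} (h : ∀ e ∈ gens, Commute A (rho e)) : ∃ x : ZMod 3, A = x • 1 := by
  have h1 : ∀ u, Commute A (rho u) := U_ind (rho_zero ▸ Commute.one_right A)
    (fun u v a b => ((rho_pm u v).symm.comm (a.mul_right b).symm.eq).symm) h
  have h2 : ∀ x y c, Commute A (kr (q x) (q y) c) := fun x y => M2_ind (fun z => h1 (x, y, z))
    (fun a b k k' => by simpa only [kr, kronecker_add] using k.add_right k')
    fun t a k => by simpa only [kr, kronecker_smul] using k.smul_right t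
  have h3 : ∀ x c b, Commute A (kr (q x) b c) := fun x c => M2_ind (fun y => h2 x y c)
    (fun a b k k' => by simpa only [kr, kronecker_add, add_kronecker] using k.add_right k')
    fun t a k => by simpa only [kr, kronecker_smul, smul_kronecker] using k.smul_right t
  have h4 : ∀ b c a, Commute A (kr a b c) := fun b c => M2_ind (fun x => h3 x c b)
    (fun a b k k' => by simpa only [kr, add_kronecker] using k.add_right k')
    fun t a k => by simpa only [kr, smul_kronecker] using k.smul_right t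
  obtain ⟨x, hx⟩ := mem_range_scalar_of_commute_single (M := A) fun i j _ => by
    have := h4 (single i.2.1 j.2.1 1) (single i.2.2 j.2.2 1) (single i.1 j.1 1)
    simp only [kr, single_kronecker_single, mul_one] at this
    exact this.symm
  exact ⟨x, by rw [← hx, scalar_apply, smul_one_eq_diagonal]⟩

/-- `A` induces `f` on `R0 / ±1`. -/
def Ac (A : M8) (f : U → U) : Prop := ∀ u, Pm (A * rho u) (rho (f u) * A)

theorem sign_ex : ∀ s1 s2 s3 s4 s5 s6 : Bool, ∃ v : U, ∀ z ∈ gens.zip [s1, s2, s3, s4, s5, s6],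
    sn v z.1 * cond z.2 1 (-1) = sn z.1 v := by decide +kernel

theorem inner {A : M8} (hA : IsUnit A) (h : Ac A id) : ∃ v, Pm A (rho v) := by
  have k : ∀ u, ∃ s : Bool, A * rho u = (cond s 1 (-1) : ZMod 3) • (rho u * A) := fun u =>
    (h u).elim (fun e => ⟨true, by simpa using e⟩) fun e => ⟨false, by simpa using e⟩
  choose s hs using k
  obtain ⟨v, hv⟩ := sign_ex (s (.a, .o, .o)) (s (.b, .o, .o)) (s (.o, .a, .o)) (s (.o, .b, .o))
    (s (.o, .o, .a)) (s (.o, .o, .b))
  have hv' : ∀ e ∈ gens, sn v e * cond (s e) 1 (-1) = sn e v := by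
    simpa only [gens, List.zip_cons_cons, List.zip_nil_left, List.forall_mem_cons, List.not_mem_nil,
      false_imp_iff, implies_true] using hv
  obtain ⟨x, hx⟩ := scalar (A := rho v * A) fun e he => by
    show _ = _
    rw [mul_assoc, hs, Matrix.mul_smul, ← mul_assoc, ← mul_assoc, rho_mul, rho_mul, ad_comm e,
      Matrix.smul_mul, Matrix.smul_mul, smul_smul, mul_comm, hv' e he]
  have x0 : x = 1 ∨ x = -1 := by
    have : x ≠ 0 := fun e => ((rho_unit v).mul hA).ne_zero (by rw [hx, e, zero_smul])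
    revert this; generalize x = x; revert x; decide
  refine ⟨v, Pm.cancel' (rho_unit v) ?_⟩
  rw [hx, rho_sq]
  exact (Pm.of_smul x0 _).trans (Pm.of_smul (sn_pm v v) _).symm

namespace Ac
variable {A B : M8} {f g : U → U}

theorem mul (h : Ac A f) (k : Ac B g) : Ac (A * B) (f ∘ g) := fun u => by
  have h1 := (k u).left A
  have h2 := (h (g u)).right B
  simp only [mul_assoc] at h1 h2 ⊢
  exact h1.trans h2

theorem uniq (hA : IsUnit A) (h : Ac A f) (k : Ac A g) (u : U) : f u = g u :=
  rho_inj (((h u).symm.trans (k u)).cancel hA)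

theorem congr (h : Ac A f) (k : ∀ u, f u = g u) : Ac A g := fun u => k u ▸ h u

theorem of_pm (h : Ac A f) (k : Pm B A) : Ac B f := fun u =>
  (k.mul Pm.rfl).trans ((h u).trans (Pm.rfl.mul k.symm))

theorem two (h : Ac A f) (u v : U) : Pm (A * (rho u * rho v)) (rho (f u) * rho (f v) * A) := by
  have h1 := (h u).right (rho v)
  have h2 := (h v).left (rho (f u))
  simp only [mul_assoc] at h1 h2 ⊢
  exact h1.trans h2

theorem map_ad (hA : IsUnit A) (h : Ac A f) (u v : U) : f (ad u v) = ad (f u) (f v) :=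
  rho_inj (Pm.cancel hA ((h _).symm.trans ((Pm.rfl.mul (rho_pm u v).symm).trans
    ((h.two u v).trans ((rho_pm _ _).mul Pm.rfl)))))

theorem map_qb (hA : IsUnit A) (h : Ac A f) (u : U) : qb (f u) = qb u := by
  have e : A * (rho u * rho u) = rho (f u) * rho (f u) * A := by
    rcases h u with k | k <;> rw [← mul_assoc, k]
    · rw [mul_assoc, k, mul_assoc]
    · rw [neg_mul, mul_assoc, k, mul_neg, neg_neg, mul_assoc]
  rw [rho_sq, rho_sq, Matrix.mul_smul, Matrix.smul_mul, mul_one, one_mul] at e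
  have : ∀ u, qb u = decide (sn u u = -1) := by decide +kernel
  rw [this, this, smul_left_injective (ZMod 3) hA.ne_zero e]

theorem map_om (hA : IsUnit A) (h : Ac A f) {w : U} (hz : Pm (A * ze) (rho w * (ze * A))) (u : U) :
    f (sm .b u) = sm .b (f u) := by
  have zu : IsUnit ze := IsUnit.of_pow_eq_one (n := 3) (by decide +kernel) (by decide)
  refine rho_inj (Pm.cancel (hA.mul zu) ?_)
  have k1 : Pm (rho (f (sm .b u)) * (A * ze)) (A * ze * rho u) := by
    rw [← mul_assoc, mul_assoc A, ze_rho, ← mul_assoc]; exact (h _).symm.mul Pm.rfl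
  have k2 : Pm (rho w * (ze * A) * rho u) (rho w * rho (sm .b (f u)) * (ze * A)) := by
    rw [mul_assoc, mul_assoc, mul_assoc, ← mul_assoc _ ze A, ← ze_rho, mul_assoc]
    exact Pm.rfl.mul (Pm.rfl.mul (h u))
  have k3 := hz.symm.left (rho (sm .b (f u)))
  rw [← mul_assoc] at k3
  exact k1.trans ((hz.right _).trans (k2.trans (((rho_cm _ _).right _).trans k3)))

/-- Matrices with the same action differ by an element of `R0`. -/
theorem kerl (hA : IsUnit A) (hB : IsUnit B) (h : Ac A f) (k : Ac B f) : ∃ u, Pm A (B * rho u) := by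
  obtain ⟨b, rfl⟩ := hB
  obtain ⟨v, hv⟩ := inner (A := ↑b⁻¹ * A) (b⁻¹.isUnit.mul hA) fun u => Pm.cancel' b.isUnit (by
    rw [mul_assoc, Units.mul_inv_cancel_left, ← mul_assoc, ← mul_assoc]
    refine (h u).trans (Pm.mul (Pm.cancel b.isUnit ?_) Pm.rfl)
    rw [Units.inv_mul_cancel_right]; exact (k u).symm)
  exact ⟨v, by simpa using (Pm.rfl (A := (b : M8))).mul hv⟩

end Ac

theorem ac_rho (v : U) : Ac (rho v) id := fun u => rho_cm v u

theorem app_ad (τ : Tp) (u v : U) : app τ (ad u v) = ad (app τ u) (app τ v) := by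
  have h1 : ∀ x y t : E, (x.ad y).mu t = (x.mu t).ad (y.mu t) := by decide
  have h2 : ∀ x y z w : E, (x.ad y).ad (z.ad w) = (x.ad z).ad (y.ad w) := by decide +kernel
  simp only [app, ad, sm, h1]
  refine Prod.ext ?_ (Prod.ext ?_ ?_) <;> dsimp only <;> rw [h2 (u.2.1.mu _), h2]

theorem ac_of_gens {A : M8} {τ : Tp} (h : ∀ e ∈ gens, A * rho e = rho (app τ e) * A ∨
    A * rho e = -(rho (app τ e) * A)) : Ac A (app τ) := by
  refine U_ind (by rw [show app τ u0 = u0 from rfl, rho_zero, mul_one, one_mul]; exact Pm.rfl)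
    (fun u v a b => ?_) h
  rw [app_ad]
  refine (Pm.rfl.mul (rho_pm u v).symm).trans (Pm.trans ?_ ((rho_pm _ _).mul Pm.rfl))
  have h1 := a.right (rho v)
  have h2 := b.left (rho (app τ u))
  simp only [mul_assoc] at h1 h2 ⊢
  exact h1.trans h2

def allU : List U := [E.o, .a, .b, .c].flatMap fun x => [E.o, .a, .b, .c].flatMap fun y =>
  [E.o, .a, .b, .c].map fun z => (x, y, z)
def orth (u v : U) : Bool := !qb (ad u v) && !qb (ad u (sm .b v))
/-- the orthonormal bases -/
def VL : List Tp := (allU.filter qb).flatMap fun u => ((allU.filter qb).filter (orth u)).flatMap fun v =>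
  (((allU.filter qb).filter (orth u)).filter (orth v)).map fun w => (u, v, w)

theorem Ac.lin {A : M8} {f : U → U} (hA : IsUnit A) (h : Ac A f) {w : U}
    (hz : Pm (A * ze) (rho w * (ze * A))) : ∃ τ ∈ VL, Ac A (app τ) := by
  have a := h.map_ad hA
  have o := h.map_om hA hz
  have n := h.map_qb hA
  have s : ∀ x u, f (sm x u) = sm x (f u) := fun x u => by
    have e1 : ∀ u, sm .c u = sm .b (sm .b u) := by decide +kernel
    cases x
    · have := a u0 u0
      rwa [ad_self, ad_self] at this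
    · rfl
    · exact o u
    · rw [e1, e1, o, o]
  have m : ∀ u, u ∈ allU := by decide +kernel
  have t : ∀ u v, orth u v = true → orth (f u) (f v) = true := fun u v k => by
    rwa [orth, ← s, ← a, ← a, n, n]
  refine ⟨(f oneT.1, f oneT.2.1, f oneT.2.2), ?_, h.congr fun u => ?_⟩
  · simp only [VL, List.mem_flatMap, List.mem_map, List.mem_filter, m, true_and]
    exact ⟨_, (n _).trans rfl, _, ⟨(n _).trans rfl, t _ _ rfl⟩, _,
      ⟨⟨(n _).trans rfl, t _ _ rfl⟩, t _ _ rfl⟩, rfl⟩
  · have : ∀ u, app oneT u = u := by decide +kernel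
    conv_lhs => rw [← this u, app, a, a, s, s, s]
    rfl

theorem app_tau (τ : Tp) : (app τ oneT.1, app τ oneT.2.1, app τ oneT.2.2) = τ := by
  have : ∀ x : E, x.ad .o = x := by decide
  obtain ⟨⟨_, _, _⟩, ⟨_, _, _⟩, _, _, _⟩ := τ
  simp only [app, oneT, ad, sm, E.mu, this]
  rfl

theorem app_one : ∀ u, app oneT u = u := by decide +kernel

theorem Ac.tau_eq {A : M8} {τ κ : Tp} (hA : IsUnit A) (h : Ac A (app τ)) (k : Ac A (app κ)) : τ = κ := by
  rw [← app_tau τ, ← app_tau κ, h.uniq hA k, h.uniq hA k, h.uniq hA k]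

theorem VL_length : VL.length = 648 := by decide +kernel

end H80.F23
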