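import Cfsg.Agent.H80.F23Ma
/-! PS3B, job F23-M: explicit matrices, tables for `GU₃(2)`, and the Sylow `3`-subgroup. -/
set_option autoImplicit false
set_option maxRecDepth 100000
set_option synthInstance.maxSize 2000
namespace H80.F23
open H39.F23 Matrix
open scoped Kronecker

def ix (i : I8) : ℕ := 4 * i.1.val + 2 * i.2.1.val + i.2.2.val
def mk8 (n : ℕ) : M8 := of fun i j => ((n / 3 ^ (8 * ix i + ix j) : ℕ) : ZMod 3)
def mkE (k n : ℕ) : Matrix I8 (Fin k) (ZMod 3) := of fun i j => ((n / 3 ^ (k * ix i + j.val) : ℕ) : ZMod 3)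
def mkP (k n : ℕ) : Matrix (Fin k) I8 (ZMod 3) := of fun i j => ((n / 3 ^ (8 * i.val + ix j) : ℕ) : ZMod 3)

def swE : I8 ≃ I8 := ⟨fun i => (i.2.1, i.1, i.2.2), fun i => (i.2.1, i.1, i.2.2), fun _ => rfl, fun _ => rfl⟩
def cyE : I8 ≃ I8 := ⟨fun i => (i.2.1, i.2.2, i.1), fun i => (i.2.2, i.1, i.2.1), fun _ => rfl, fun _ => rfl⟩
/-- exchange of the first two factors -/
def sg : M8 := swE.toPEquiv.toMatrix
/-- cyclic permutation of the factors -/
def cy : M8 := cyE.toPEquiv.toMatrix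
def g1 : M8 := mk8 1238807027412429406696984336092
def g2 : M8 := mk8 1623482286603561303400366085430

theorem sg_kr (a b c : M2) : sg * kr a b c = kr b a c * sg := by
  rw [sg, PEquiv.toMatrix_toPEquiv_mul, PEquiv.mul_toMatrix_toPEquiv]
  ext i j
  simp [kr, swE, mul_left_comm]
theorem cy_kr (a b c : M2) : cy * kr a b c = kr c a b * cy := by
  rw [cy, PEquiv.toMatrix_toPEquiv_mul, PEquiv.mul_toMatrix_toPEquiv]
  ext i j
  simp only [kr, cyE, submatrix_apply, kroneckerMap_apply, Equiv.coe_fn_mk, Equiv.coe_fn_symm_mk, id]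
  ring
theorem sg_rho (x y w : E) : sg * rho (x, y, w) = rho (y, x, w) * sg := sg_kr _ _ _
theorem sg_sq : sg * sg = 1 := by decide +kernel
theorem cy_cube : cy ^ 3 = 1 := by decide +kernel
theorem sg_unit : IsUnit sg := IsUnit.of_mul_eq_one _ sg_sq
theorem sg_ne : sg ≠ 1 := by decide +kernel

def tS : Tp := ((.o, .a, .o), (.a, .o, .o), (.o, .o, .a))
def tC : Tp := ((.o, .a, .o), (.o, .o, .a), (.a, .o, .o))
def tD : Tp := ((.b, .o, .o), (.o, .a, .o), (.o, .o, .a))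
def t1 : Tp := ((.b, .c, .a), (.c, .b, .a), (.a, .a, .a))
def t2 : Tp := ((.b, .c, .c), (.c, .b, .c), (.b, .b, .a))

theorem ac_sg : Ac sg (app tS) := ac_of_gens (by decide +kernel)
theorem ac_cy : Ac cy (app tC) := ac_of_gens (by decide +kernel)
theorem ac_d : Ac (kr qd 1 1) (app tD) := ac_of_gens (by decide +kernel)
theorem ac_g1 : Ac g1 (app t1) := ac_of_gens (by decide +kernel)
theorem ac_g2 : Ac g2 (app t2) := ac_of_gens (by decide +kernel)
theorem g12 : g1 * g1 * (g1 * g1) = 1 ∧ g2 * g2 * (g2 * g2) = 1 ∧ g1 * sg = sg * g1 ∧ g2 * sg = sg * g2 ∧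
    g1 * g2 = sg * (g2 * g1) := by decide +kernel
attribute [-instance] Fintype.decidableForallFintype in
theorem mem_VL : ∀ τ ∈ [tS, tC, tD, t1, t2], τ ∈ VL := by decide +kernel

theorem app_mulT (τ κ : Tp) (u : U) : app (mulT τ κ) u = app τ (app κ u) := by
  have s : ∀ x v, app τ (sm x v) = sm x (app τ v) := fun x v => by
    have h1 : ∀ x y t : E, (x.mu y).mu t = x.mu (y.mu t) := by decide
    have h2 : ∀ x y t : E, x.mu (y.ad t) = (x.mu y).ad (x.mu t) := by decide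
    simp only [app, ad, sm, h1, h2]
  conv_rhs => rw [app.eq_1 κ, app_ad, app_ad, s, s, s]
  rfl

theorem Ac.mulT {A B : M8} {τ κ : Tp} (h : Ac A (app τ)) (k : Ac B (app κ)) :
    Ac (A * B) (app (mulT τ κ)) := (h.mul k).congr fun u => (app_mulT τ κ u).symm

theorem ac_one : Ac 1 (app oneT) := fun u => by rw [app_one, one_mul, mul_one]; exact Pm.rfl

/-- the involutions with elements that conjugate them to `tS` -/
def IL : List (Tp × Tp) :=
  [(((.o, .c, .o), (.b, .o, .o), (.o, .o, .a)), ((.o, .a, .o), (.b, .o, .o), (.o, .o, .a))),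
  (((.o, .o, .b), (.o, .a, .o), (.c, .o, .o)), ((.o, .a, .o), (.o, .o, .a), (.c, .o, .o))),
  (((.a, .o, .o), (.o, .o, .a), (.o, .a, .o)), ((.o, .o, .a), (.o, .a, .o), (.a, .o, .o))),
  (((.a, .o, .o), (.o, .o, .b), (.o, .c, .o)), ((.o, .o, .a), (.o, .a, .o), (.c, .o, .o))),
  (((.o, .o, .c), (.o, .a, .o), (.b, .o, .o)), ((.o, .a, .o), (.o, .o, .a), (.b, .o, .o))),
  (((.o, .b, .o), (.c, .o, .o), (.o, .o, .a)), ((.o, .a, .o), (.c, .o, .o), (.o, .o, .a))),
  (((.a, .o, .o), (.o, .o, .c), (.o, .b, .o)), ((.o, .o, .a), (.o, .a, .o), (.b, .o, .o))),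
  (((.o, .o, .a), (.o, .a, .o), (.a, .o, .o)), ((.o, .a, .o), (.o, .o, .a), (.a, .o, .o))),
  (((.o, .a, .o), (.a, .o, .o), (.o, .o, .a)), ((.o, .a, .o), (.a, .o, .o), (.o, .o, .a)))]

def sqT (a : Tp) : Tp := mulT a a
def cub (a : Tp) : Tp := mulT a (mulT a a)
section
attribute [-instance] Fintype.decidableForallFintype
theorem V2 : ∀ τ ∈ VL, mulT τ τ = oneT → τ = oneT ∨ τ ∈ IL.map Prod.fst := by decide +kernel
theorem V2' : ∀ z ∈ IL, z.2 ∈ VL ∧ mulT z.2 z.1 = mulT tS z.2 := by decide +kernel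
theorem V3 : ∀ t ∈ oneT :: IL.map Prod.fst, ∀ x ∈ oneT :: IL.map Prod.fst, ∀ y ∈ oneT :: IL.map Prod.fst,
    cub (mulT t x) = oneT → cub (mulT t y) = oneT → mulT (mulT t x) (mulT t y) = mulT (mulT t y) (mulT t x) →
      mulT t x = oneT ∨ mulT t y = oneT ∨ mulT (mulT t x) (mulT t y) = oneT ∨ mulT t x = mulT t y := by
  decide +kernel
theorem V4 : ∀ τ ∈ VL, app τ (.a, .a, .o) = (.a, .a, .o) → app τ (.o, .o, .a) = (.o, .o, .a) →
    τ = oneT ∨ τ = tS := by decide +kernel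
theorem V5 : ∀ τ ∈ VL, mulT τ tS = mulT tS τ →
    sqT (sqT (sqT τ)) = oneT →
    ∃ a b c : Bool, τ = mulT (mulT (cond a t1 oneT) (cond b t2 oneT)) (cond c tS oneT) := by
  decide +kernel

end

/-! ### Fixed vectors -/

/-- the fixed vectors -/
def Fx (A : M8) : Set V8 := {v | A *ᵥ v = v}

theorem card_V8 : Nat.card V8 = 6561 := by simp

theorem unit_inj {A : M8} (h : IsUnit A) : Function.Injective (A *ᵥ ·) := mulVec_injective_of_isUnit h

theorem ncard_pre {A : M8} (h : IsUnit A) (S : Set V8) : ((A *ᵥ ·) ⁻¹' S).ncard = S.ncard :=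
  Set.ncard_preimage_of_injective_subset_range (unit_inj h) fun v _ => mulVec_surjective_iff_isUnit.2 h v

theorem fx_conj {A B g : M8} (hg : IsUnit g) (h : g * A = B * g) : (Fx A).ncard = (Fx B).ncard := by
  rw [← ncard_pre hg (Fx B)]
  refine congrArg Set.ncard (Set.ext fun v => ?_)
  simp only [Fx, Set.mem_preimage, Set.mem_ofPred_eq, mulVec_mulVec, ← h]
  rw [← mulVec_mulVec]
  exact (unit_inj hg).eq_iff.symm

theorem two_inj {v w : V8} (h : v + v = w + w) : v = w := funext fun i => by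
  have := congrFun h i
  simp only [Pi.add_apply] at this
  revert this; generalize v i = x; generalize w i = y; revert x y; decide

theorem fx_anti {A B : M8} (hB : IsUnit B) (h : A * B = -(B * A)) : (Fx A).ncard ≤ 81 := by
  have := Nat.card_le_card_of_injective (fun p : Fx A × Fx A => p.1.1 + B *ᵥ p.2.1) (by
    rintro ⟨⟨v, hv⟩, w, hw⟩ ⟨⟨v', hv'⟩, w', hw'⟩ e
    have k : ∀ {v w}, v ∈ Fx A → w ∈ Fx A → A *ᵥ (v + B *ᵥ w) + (v + B *ᵥ w) = v + v := fun a b => by
      rw [mulVec_add, mulVec_mulVec, h, neg_mulVec, ← mulVec_mulVec, a, b]; abel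
    dsimp only at e
    obtain rfl : v = v' := two_inj (by rw [← k hv hw, e, k hv' hw'])
    obtain rfl : w = w' := unit_inj hB (add_left_cancel e)
    rfl)
  rw [Nat.card_prod, card_V8, Nat.card_coe_set_eq] at this
  nlinarith

theorem ncard_range {k : ℕ} {X : Matrix I8 (Fin k) (ZMod 3)} {Y : Matrix (Fin k) I8 (ZMod 3)}
    (h : Y * X = 1) : (Set.range (X *ᵥ ·)).ncard = 3 ^ k := by
  rw [Set.ncard_range_of_injective fun v w e => by
    simpa only [mulVec_mulVec, h, one_mulVec] using congrArg (Y *ᵥ ·) e]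
  simp

theorem fx_nsg : (Fx (-sg)).ncard ≤ 81 := by
  have h : mkP 2 1948716 * mkE 2 369684 = 1 ∧ mkE 2 369684 * mkP 2 1948716 = 1 - (-sg - 1) := by
    decide +kernel
  refine (Set.ncard_le_ncard (t := Set.range (mkE 2 369684 *ᵥ ·)) (fun v hv => ⟨mkP 2 1948716 *ᵥ v, ?_⟩)).trans
    (by rw [ncard_range h.1]; decide)
  have hv' : (-sg) *ᵥ v = v := hv
  show _ *ᵥ _ = _
  rw [mulVec_mulVec, h.2, sub_mulVec, sub_mulVec, hv', one_mulVec, sub_self, sub_zero]

theorem fx_neg : (Fx (-1)).ncard ≤ 81 := by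
  refine (Set.ncard_le_ncard (t := {0}) fun v hv => two_inj ?_).trans (by simp)
  have : -v = v := by simpa [Fx, neg_mulVec] using hv
  nth_rewrite 1 [← this]; simp

/-! ### The Sylow subgroup -/

abbrev W := ZMod 3 × ZMod 3 × ZMod 3 × ZMod 3
def dq (x : ZMod 3) : M2 := !![1, x; 0, 1]
def el (w : W) : M8 := kr (dq w.1) (dq w.2.1) (dq w.2.2.1) * cy ^ w.2.2.2.val
def star (v w : W) : W :=
  if v.2.2.2 = 0 then (v.1 + w.1, v.2.1 + w.2.1, v.2.2.1 + w.2.2.1, w.2.2.2)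
  else if v.2.2.2 = 1 then (v.1 + w.2.2.1, v.2.1 + w.1, v.2.2.1 + w.2.1, 1 + w.2.2.2)
  else (v.1 + w.2.1, v.2.1 + w.2.2.1, v.2.2.1 + w.1, 2 + w.2.2.2)
def winv (v : W) : W :=
  if v.2.2.2 = 0 then (-v.1, -v.2.1, -v.2.2.1, 0)
  else if v.2.2.2 = 1 then (-v.2.1, -v.2.2.1, -v.1, 2) else (-v.2.2.1, -v.1, -v.2.1, 1)

theorem dq_mul : ∀ x y, dq x * dq y = dq (x + y) := by decide +kernel
theorem el_mul (v w : W) : el v * el w = el (star v w) := by
  obtain ⟨x, y, z, k⟩ := v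
  obtain ⟨x', y', z', k'⟩ := w
  have c : ∀ k k' : ZMod 3, cy ^ k.val * cy ^ k'.val = cy ^ (k + k').val := fun k k' => by
    rw [← pow_add, ZMod.val_add, ← pow_eq_pow_mod _ cy_cube]
  have e : ∀ k : ZMod 3, k = 0 ∨ k = 1 ∨ k = 2 := by decide
  have c1 : cy ^ (1 : ZMod 3).val = cy := pow_one cy
  have c2 : cy ^ (2 : ZMod 3).val = cy * cy := pow_two cy
  rcases e k with rfl | rfl | rfl
  · simp only [el, star, if_true, ZMod.val_zero, pow_zero, mul_one, ← mul_assoc, kr_mul, dq_mul]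
  · simp only [el, star, if_true, if_neg (show (1 : ZMod 3) ≠ 0 by decide), ← c, c1]
    rw [mul_assoc, ← mul_assoc cy, cy_kr, ← mul_assoc, ← mul_assoc, kr_mul, dq_mul, dq_mul, dq_mul,
      mul_assoc]
  · simp only [el, star, if_neg (show (2 : ZMod 3) ≠ 0 by decide),
      if_neg (show (2 : ZMod 3) ≠ 1 by decide), ← c, c2]
    rw [mul_assoc, ← mul_assoc (cy * cy), mul_assoc cy cy, cy_kr, ← mul_assoc cy, cy_kr, ← mul_assoc,
      ← mul_assoc, ← mul_assoc, kr_mul, dq_mul, dq_mul, dq_mul, mul_assoc, mul_assoc, mul_assoc]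
theorem el_zero : el 0 = 1 := by decide +kernel
theorem el_one : ∀ w, el w = 1 → w = 0 := by decide +kernel
theorem star_inv : ∀ w, star w (winv w) = 0 ∧ star (winv w) w = 0 := by decide +kernel
theorem el_inj : Function.Injective el := fun v w e => by
  have : ∀ v w, star v (winv w) = 0 → v = w := by decide +kernel
  exact this v w (el_one _ (by rw [← el_mul, e, el_mul, (star_inv w).1, el_zero]))
theorem W1 : ∀ w, star w (1, 2, 0, 0) = star (1, 2, 0, 0) w → w.2.2.2 = 0 := by decide +kernel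
theorem W2 : ∀ y, y ≠ 0 → y ≠ (1, 1, 1, 0) → y ≠ (2, 2, 2, 0) → ∀ a, star a y = star y a →
    ∀ b, star b y = star y b → star a b = star b a := by decide +kernel

/-- `el` as a unit -/
def elU (w : W) : M8ˣ := ⟨el w, el (winv w), by rw [el_mul, (star_inv w).1, el_zero],
  by rw [el_mul, (star_inv w).2, el_zero]⟩

/-- the wreath product `3 ≀ 3` -/
def S0 : Subgroup M8ˣ where
  carrier := Set.range elU
  one_mem' := ⟨0, Units.ext el_zero⟩
  mul_mem' := by rintro _ _ ⟨v, rfl⟩ ⟨w, rfl⟩; exact ⟨star v w, Units.ext (el_mul v w).symm⟩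
  inv_mem' := by rintro _ ⟨v, rfl⟩; exact ⟨winv v, Units.ext rfl⟩

theorem card_S0 : Nat.card S0 = 81 := by
  refine (Nat.card_range_of_injective (f := elU) fun v w e => el_inj (congrArg Units.val e)).trans ?_
  simp

theorem conj_S0 {Γ Y : Subgroup M8ˣ} (hc : Nat.card Γ = 82944) (hS : S0 ≤ Γ) (hY : Y ≤ Γ)
    (h3 : IsPGroup 3 Y) : ∃ g ∈ Γ, H98.cj g Y ≤ S0 := by
  have : Fact (Nat.Prime 3) := ⟨by decide⟩
  refine (H98.isSyl_of_not_dvd_relIndex hS (IsPGroup.of_card (n := 4) card_S0) fun h => ?_).exists_cj_le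
    h3 hY
  have := (S0.subgroupOf Γ).card_mul_index
  rw [Nat.card_congr (Subgroup.subgroupOfEquivOfLe hS).toEquiv, card_S0, hc] at this
  change 81 * S0.relIndex Γ = _ at this
  omega

theorem comm_mem {H : Type*} [Group H] {S Y : Subgroup H} (hS : Nat.card S = 81) (hY : Y ≤ S)
    (h27 : 27 ∣ Nat.card Y) {a b : H} (ha : a ∈ S) (hb : b ∈ S) : a * b * a⁻¹ * b⁻¹ ∈ Y := by
  have : Fact (Nat.Prime 3) := ⟨by decide⟩
  have h := (Y.subgroupOf S).card_mul_index
  rw [Nat.card_congr (Subgroup.subgroupOfEquivOfLe hY).toEquiv, hS] at h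
  obtain ⟨k, hk⟩ := h27
  have : (Y.subgroupOf S).index ∣ 3 := Dvd.intro_left k (by rw [hk, mul_assoc] at h; omega)
  change (⟨a, ha⟩ * ⟨b, hb⟩ * ⟨a, ha⟩⁻¹ * ⟨b, hb⟩⁻¹ : S) ∈ Y.subgroupOf S
  rcases (Nat.dvd_prime Nat.prime_three).1 this with e | e
  · rw [Subgroup.index_eq_one.1 e]; trivial
  · have := Subgroup.normal_of_index_eq_minFac_card (H := Y.subgroupOf S) (by rw [e, hS]; norm_num)
    have := isCyclic_of_prime_card (α := S ⧸ Y.subgroupOf S) e
    rw [← QuotientGroup.eq_one_iff]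
    simp only [QuotientGroup.mk_mul, QuotientGroup.mk_inv]
    rw [mul_inv_eq_one, mul_inv_eq_iff_eq_mul]
    exact IsCyclic.isMulCommutative.is_comm.comm _ _

theorem fx_d {v : V8} (h : v ∈ Fx (el (1, 2, 0, 0))) : v ∈ Fx sg := by
  have k : sg = 1 + mk8 729496996420509326520 * (el (1, 2, 0, 0) - 1) := by decide +kernel
  have h' : el (1, 2, 0, 0) *ᵥ v = v := h
  show _ *ᵥ _ = _
  rw [k, add_mulVec, ← mulVec_mulVec, sub_mulVec, h', one_mulVec, sub_self, mulVec_zero, add_zero]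

theorem fx_ze : (Fx (el (1, 1, 1, 0))).ncard = 27 ∧ (Fx (el (2, 2, 2, 0))).ncard = 27 := by
  have k : mkP 3 129199213 * mkE 3 12757015 = 1 ∧ el (1, 1, 1, 0) * mkE 3 12757015 = mkE 3 12757015 ∧
      mkE 3 12757015 * mkP 3 129199213 = 1 - mk8 14147139525222915648098480241 * (el (1, 1, 1, 0) - 1) := by
    decide +kernel
  have e : Fx (el (1, 1, 1, 0)) = Set.range (mkE 3 12757015 *ᵥ ·) := by
    ext v
    constructor
    · intro hv
      have h' : el (1, 1, 1, 0) *ᵥ v = v := hv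
      refine ⟨mkP 3 129199213 *ᵥ v, ?_⟩
      dsimp only
      rw [mulVec_mulVec, k.2.2, sub_mulVec, ← mulVec_mulVec, sub_mulVec, h', one_mulVec, sub_self,
        mulVec_zero, sub_zero]
    · rintro ⟨v, rfl⟩
      exact (mulVec_mulVec _ _ _).trans (by rw [k.2.1])
  have e' : Fx (el (2, 2, 2, 0)) = Fx (el (1, 1, 1, 0)) := by
    have s : ∀ w, Fx (el w) ⊆ Fx (el (star w w)) := fun w v hv => by
      have h' : el w *ᵥ v = v := hv
      show _ *ᵥ _ = _
      rw [← el_mul, ← mulVec_mulVec, h', h']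
    exact le_antisymm (s (2, 2, 2, 0)) (s (1, 1, 1, 0))
  rw [e', e, ncard_range k.1]
  exact ⟨rfl, rfl⟩

theorem fx_D : {v : V8 | ∀ w : W, w.2.2.2 = 0 → el w *ᵥ v = v}.ncard = 3 := by
  have k : mkP 1 1 * mkE 1 1 = 1 ∧ (∀ x y z, el (x, y, z, 0) * mkE 1 1 = mkE 1 1) ∧
      mkE 1 1 * mkP 1 1 = 1 - (mk8 14131104026201275754713219560 * (el (1, 0, 0, 0) - 1) +
        (mk8 847331656164 * (el (0, 1, 0, 0) - 1) + mk8 6561 * (el (0, 0, 1, 0) - 1))) := by
    decide +kernel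
  refine Eq.trans (congrArg Set.ncard (Set.ext fun v => ?_)) (ncard_range k.1)
  constructor
  · intro hv
    refine ⟨mkP 1 1 *ᵥ v, ?_⟩
    dsimp only
    rw [mulVec_mulVec, k.2.2]
    simp only [sub_mulVec, add_mulVec, ← mulVec_mulVec, hv (1, 0, 0, 0) rfl, hv (0, 1, 0, 0) rfl,
      hv (0, 0, 1, 0) rfl, one_mulVec, sub_self, mulVec_zero,
      add_zero, sub_zero]
  · rintro ⟨v, rfl⟩ ⟨x, y, z, _⟩ rfl
    exact (mulVec_mulVec _ _ _).trans (by rw [k.2.1])

/-! ### The three planes in the fixed space of `sg` -/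

def EE (i : Fin 3) : Matrix I8 (Fin 2) (ZMod 3) := mkE 2 (![14880376, 15066380, 15252356] i)
def PP (i : Fin 3) : Matrix (Fin 2) I8 (ZMod 3) := mkP 2 (![28738640, 16160564, 17932124] i)
def us (i : Fin 3) : U := (![E.a, .b, .c] i, ![E.a, .b, .c] i, .o)
def rr (i : Fin 3) : M8 := -rho (us i)
def pr (i : Fin 3) : M8 := EE i * PP i

theorem PE : ∀ i, PP i * EE i = 1 := by decide +kernel
theorem pr_eq : ∀ i, pr i = (1 + sg) * (1 - rr i) := by decide +kernel
theorem pr_sum : pr 0 + pr 1 + pr 2 = -(1 + sg) := by decide +kernel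
theorem form : ∀ i j, (EE i)ᵀ * (kr qi qi qi * EE j) = if i = j then !![0, 1; -1, 0] else 0 := by
  decide +kernel
theorem pr_test : ∀ i j, pr i *ᵥ (EE j *ᵥ ![1, 0]) = EE j *ᵥ ![1, 0] → i = j := by decide +kernel
theorem us_om : ∀ i, sm .b (us i) = us (i + 1) := by decide +kernel
theorem us_inj : Function.Injective us := by decide +kernel
theorem tr_rr : ∀ i, trace (rr i * sg) = 1 := by decide +kernel
theorem tr_x : ∀ x, (trace (rho (x, x, .o) * sg) = 1 → x = .o) ∧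
    (trace (-rho (x, x, .o) * sg) = 1 → ∃ i, us i = (x, x, .o)) := by decide +kernel

/-- `A` preserves the planes and acts by the matrices `n` -/
def Pres (A : M8) (n : Fin 3 → M2) : Prop := ∀ i, A * EE i = EE i * n i

theorem Pres.mul {A B : M8} {n m : Fin 3 → M2} (h : Pres A n) (k : Pres B m) : Pres (A * B) (n * m) :=
  fun i => by rw [Matrix.mul_assoc, k, ← Matrix.mul_assoc, h, Matrix.mul_assoc, Pi.mul_apply]
theorem Pres.neg {A : M8} {n : Fin 3 → M2} (h : Pres A n) : Pres (-A) (-n) :=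
  fun i => by rw [Matrix.neg_mul, h, Pi.neg_apply, Matrix.mul_neg]
theorem pres_one : Pres 1 1 := fun i => by rw [Matrix.one_mul, Pi.one_apply, Matrix.mul_one]
theorem Pres.pow {A : M8} {n : Fin 3 → M2} (h : Pres A n) (k : ℕ) : Pres (A ^ k) (n ^ k) := by
  induction k with
  | zero => simpa using pres_one
  | succ k ih => rw [pow_succ, pow_succ]; exact ih.mul h
theorem Pres.eq {A : M8} {n : Fin 3 → M2} (h : Pres A n) (i : Fin 3) : PP i * (A * EE i) = n i := by
  rw [h, ← Matrix.mul_assoc, PE, Matrix.one_mul]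

def n1 : Fin 3 → M2 := ![1, !![2, 1; 1, 1], !![2, 2; 2, 1]]
def n2 : Fin 3 → M2 := ![!![0, 2; 1, 0], !![1, 2; 2, 2], -1]
def nr (x w : E) (i : Fin 3) : M2 := if x = .o ∨ (us i).1 = x then q w else -q w
theorem pres_sg : Pres sg 1 := by unfold Pres; decide +kernel
theorem pres_g1 : Pres g1 n1 := by unfold Pres; decide +kernel
theorem pres_g2 : Pres g2 n2 := by unfold Pres; decide +kernel
theorem pres_rho : ∀ x w, Pres (rho (x, x, w)) (nr x w) := by unfold Pres; decide +kernel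

theorem triv {A : M8} {u : U} (h : Pm A (rho u)) (k : Pres A 1) : A = 1 := by
  have : ∀ u, (Pres (rho u) 1 → u = u0) ∧ ¬ Pres (-rho u) 1 := by unfold Pres; decide +kernel
  rcases h with rfl | rfl
  exacts [by rw [(this u).1 k, rho_zero], absurd k (this u).2]

theorem Ac.fix {A : M8} {f : U → U} (h : Ac A f) (k : Pres A 1) (x w : E) : f (x, x, w) = (x, x, w) := by
  obtain ⟨C, h1, h2⟩ : ∃ C, Pm C (rho (f (x, x, w))) ∧ A * rho (x, x, w) = C * A :=
    (h (x, x, w)).elim (fun e => ⟨_, Pm.rfl, e⟩) fun e => ⟨_, Or.inr rfl, by rw [e, neg_mul]⟩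
  have h3 : Pres C (nr x w) := fun i => by
    have := (k.mul (pres_rho x w)) i
    rwa [h2, Matrix.mul_assoc, k, one_mul, Pi.one_apply, Matrix.mul_one] at this
  have h4 := (pres_rho x w).mul h3
  have h5 := ((Pm.rfl.mul h1).trans (rho_pm (x, x, w) _))
  have e : ∀ x w, nr x w * nr x w = 1 ∨ nr x w * nr x w = -1 := by decide +kernel
  refine (eq_of_ad _ _ (rho_one _ (h5.symm.trans ?_))).symm
  rcases e x w with e | e <;> rw [e] at h4
  · exact Or.inl (triv h5 h4)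
  · exact Or.inr (neg_eq_iff_eq_neg.1 (triv (Pm.trans (Or.inr rfl) h5) (by simpa using h4.neg)))

/-- the `128` triples -/
def FW (t : Bool × Bool × Bool × E × E) : M8 :=
  cond t.1 g1 1 * cond t.2.1 g2 1 * cond t.2.2.1 (-rho (t.2.2.2.1, t.2.2.2.1, t.2.2.2.2))
    (rho (t.2.2.2.1, t.2.2.2.1, t.2.2.2.2))
def FN (t : Bool × Bool × Bool × E × E) : Fin 3 → M2 :=
  cond t.1 n1 1 * cond t.2.1 n2 1 * cond t.2.2.1 (-nr t.2.2.2.1 t.2.2.2.2) (nr t.2.2.2.1 t.2.2.2.2)

theorem pres_FW (t : Bool × Bool × Bool × E × E) : Pres (FW t) (FN t) := by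
  obtain ⟨a, b, c, x, w⟩ := t
  refine Pres.mul (Pres.mul ?_ ?_) ?_
  · cases a; exacts [pres_one, pres_g1]
  · cases b; exacts [pres_one, pres_g2]
  · cases c; exacts [pres_rho x w, (pres_rho x w).neg]
theorem FN_four : ∀ t i, FN t i ^ 4 = 1 := by decide +kernel
theorem FN_inj : Function.Injective FN := by decide +kernel

end H80.F23
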