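import Cfsg.Agent.H80.F23Mb
/-! PS3B, job F23-M: the group `C(z)` and its matrices. -/
set_option autoImplicit false
set_option maxRecDepth 100000
namespace H80.F23
open Cfsg Subgroup H42.L3 H56.L3 H39.F22 H39.F23 Matrix

theorem index_le {Y α : Type*} [Group Y] (H : Subgroup Y) (f : Y → α) {S : Set α} (hS : S.Finite)
    (hf : ∀ y, f y ∈ S) (h : ∀ y y', f y = f y' → y⁻¹ * y' ∈ H) : H.index ≤ S.ncard := by
  have := hS.to_subtype
  exact Nat.card_le_card_of_injective (fun c : Y ⧸ H => (⟨f c.out, hf _⟩ : S)) fun c c' e => by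
    rw [← c.out_eq', ← c'.out_eq', QuotientGroup.eq]
    exact h _ _ (congrArg Subtype.val e)

variable {G : Type*} [Group G] {z : G} {Q : Subgroup G} {l : G → V8} {μ : G → M8}

theorem dih {s q : G} (hs : s * s = 1) (hq : q ^ 3 = 1) (h : q * s * (q * s) = 1) :
    q * q * s * (q * q)⁻¹ = q * s := by
  have k : s * q⁻¹ = q * s := by
    rw [eq_inv_of_mul_eq_one_left h, _root_.mul_inv_rev, inv_eq_of_mul_eq_one_right hs]
  calc q * q * s * (q * q)⁻¹ = q * q * (s * q⁻¹) * q⁻¹ := by group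
    _ = q ^ 3 * (s * q⁻¹) := by
      nth_rewrite 1 [k]; simp only [pow_succ, pow_zero, one_mul, mul_assoc]
    _ = q * s := by rw [hq, one_mul, k]

theorem mem_Ce {a b : G} : a ∈ Ce b ↔ a * b = b * a := mem_centralizer_singleton_iff

theorem ce_nz {c : G} (h : c ∈ Ce z) : c ∈ Nz z := centralizer_le_normalizer _ (by
  rintro _ ⟨k, rfl⟩
  exact (Commute.zpow_left (mem_Ce.1 h).symm k).eq)

namespace X
variable (X : X8 z Q l μ) {a b c d s e : G}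
include X

theorem l_one : l 1 = 0 := (X.l_ker 1 (one_mem _)).2 (one_mem _)
theorem l_inv (ha : a ∈ Q) : l a⁻¹ = -l a :=
  eq_neg_of_add_eq_zero_left (by rw [← X.l_mul _ (inv_mem ha) _ ha, inv_mul_cancel, l_one X])
theorem l_eq (ha : a ∈ Q) (hb : b ∈ Q) : a * b⁻¹ ∈ zpowers z ↔ l a = l b := by
  rw [← X.l_ker _ (mul_mem ha (inv_mem hb)), X.l_mul _ ha _ (inv_mem hb), l_inv X hb, add_neg_eq_zero]
theorem ext {A B : M8} (h : ∀ a ∈ Q, A *ᵥ l a = B *ᵥ l a) : A = B := ext_iff_mulVec.2 fun v => by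
  obtain ⟨a, ha, rfl⟩ := X.l_surj v
  exact h a ha
theorem cj_mem (hc : c ∈ Nz z) (ha : a ∈ Q) : c * a * c⁻¹ ∈ Q :=
  (mem_normalizer_iff.1 (X.nor hc) a).1 ha
theorem mu_one : μ 1 = 1 := ext X fun a ha => by
  rw [← X.act 1 (one_mem _) a ha, one_mulVec, one_mul, inv_one, mul_one]
theorem mu_inv (hc : c ∈ Nz z) : μ c * μ c⁻¹ = 1 := by
  rw [← X.μ_mul c hc _ (inv_mem hc), mul_inv_cancel, mu_one X]
theorem mu_inv' (hc : c ∈ Nz z) : μ c⁻¹ * μ c = 1 := by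
  rw [← X.μ_mul _ (inv_mem hc) c hc, inv_mul_cancel, mu_one X]
theorem unit (hc : c ∈ Nz z) : IsUnit (μ c) := IsUnit.of_mul_eq_one _ (mu_inv X hc)
theorem unit' (hc : c ∈ Ce z) : IsUnit (μ c) := unit X (ce_nz hc)
theorem mul (hc : c ∈ Ce z) (hd : d ∈ Ce z) : μ (c * d) = μ c * μ d := X.μ_mul c (ce_nz hc) d (ce_nz hd)
theorem pow (hc : c ∈ Ce z) (n : ℕ) : μ (c ^ n) = μ c ^ n := by
  induction n with
  | zero => rw [pow_zero, pow_zero, mu_one X]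
  | succ n ih => rw [pow_succ, pow_succ, mul X (pow_mem hc n) hc, ih]
theorem cj_mul (hc : c ∈ Nz z) (hd : d ∈ Nz z) : μ (c * d * c⁻¹) * μ c = μ c * μ d := by
  rw [← X.μ_mul _ (mul_mem (mul_mem hc hd) (inv_mem hc)) c hc, inv_mul_cancel_right, X.μ_mul c hc d hd]
theorem Q_le : Q ≤ Ce z := fun a ha => mem_Ce.2 (by
  rw [X.comm a ha z X.zmem, (X.l_ker z X.zmem).2 (mem_zpowers z)]; simp [bt])
theorem mu_Q (ha : a ∈ Q) : μ a = 1 := ext X fun b hb => by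
  rw [← X.act a (ce_nz (Q_le X ha)) b hb, X.l_mul _ (mul_mem ha hb) _ (inv_mem ha), X.l_mul a ha b hb,
    l_inv X ha, one_mulVec]; abel
theorem mem_Q (hc : c ∈ Ce z) : c ∈ Q ↔ μ c = 1 := ⟨mu_Q X, X.ker c hc⟩
theorem eq_iff (hc : c ∈ Ce z) (hd : d ∈ Ce z) : c * d⁻¹ ∈ Q ↔ μ c = μ d := by
  rw [mem_Q X (mul_mem hc (inv_mem hd)), mul X hc (inv_mem hd), ← mu_inv X (ce_nz hd)]
  exact (unit' X (inv_mem hd)).mul_left_inj
theorem comm_iff (hc : c ∈ Ce z) (hd : d ∈ Ce z) : c * d * c⁻¹ * d⁻¹ ∈ Q ↔ μ c * μ d = μ d * μ c := by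
  rw [mul_assoc, ← _root_.mul_inv_rev, eq_iff X (mul_mem hc hd) (mul_mem hd hc), mul X hc hd, mul X hd hc]
theorem one_of {u : U} {k : ℕ} (hc : c ∈ Ce z) (h : Pm (μ c) (rho u)) (h3 : μ c ^ 3 ^ k = 1) : c ∈ Q := by
  have := pow_gcd_eq_one.2 ⟨h.four, h3⟩
  rw [Nat.Coprime.gcd_eq_one (Nat.Coprime.pow_right k (by decide)), pow_one] at this
  exact X.ker c hc this

theorem ncard_l (S : Set V8) : {a | a ∈ Q ∧ l a ∈ S}.ncard = 3 * S.ncard := by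
  choose σ h1 h2 using X.l_surj
  have m : ∀ y : zpowers z, (y : G) ∈ Q := fun y => zpowers_le.2 X.zmem y.2
  have k : ∀ v (y : zpowers z), l (y * σ v) = v := fun v y => by
    rw [X.l_mul _ (m y) _ (h1 v), (X.l_ker _ (m y)).2 y.2, h2, zero_add]
  rw [← X.ord, ← Nat.card_zpowers, ← Nat.card_coe_set_eq, ← Nat.card_coe_set_eq, ← Nat.card_prod]
  refine (Nat.card_eq_of_bijective (fun p : zpowers z × S => (⟨p.1 * σ p.2, mul_mem (m _) (h1 _),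
    by rw [k]; exact p.2.2⟩ : {a | a ∈ Q ∧ l a ∈ S})) ⟨?_, ?_⟩).symm
  · rintro ⟨y, v, hv⟩ ⟨y', v', hv'⟩ e
    have e' : (y : G) * σ v = y' * σ v' := congrArg Subtype.val e
    obtain rfl : v = v' := by rw [← k v y, e', k]
    obtain rfl : y = y' := Subtype.ext (mul_right_cancel e')
    rfl
  · rintro ⟨a, ha, hv⟩
    exact ⟨⟨⟨_, (l_eq X ha (h1 (l a))).2 (h2 _).symm⟩, _, hv⟩, Subtype.ext (inv_mul_cancel_right _ _)⟩

theorem card_Q : Nat.card Q = 3 ^ 9 := by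
  have := ncard_l X Set.univ
  rw [Set.ncard_univ, card_V8] at this
  exact (congrArg Set.ncard (Set.ext fun a => by simp)).trans this

theorem fixQ {Y : Set G} (hY : ∀ y ∈ Y, y ∈ Ce z) :
    FixQ z Q Y = {a | a ∈ Q ∧ l a ∈ {v | ∀ y ∈ Y, μ y *ᵥ v = v}} :=
  Set.ext fun a => and_congr_right fun ha => forall₂_congr fun y hy => by
    rw [l_eq X (cj_mem X (ce_nz (hY y hy)) ha) ha, X.act y (ce_nz (hY y hy)) a ha]

theorem conj_of (hs : s ∈ Ce z) (he : e ∈ Ce z) (s2 : s * s = 1) (e2 : e * e = 1) (h : μ e = μ s) :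
    ∃ q ∈ Q, q * s * q⁻¹ = e := by
  have m := (eq_iff X he hs).2 h
  exact ⟨_, mul_mem m m, by simpa using dih s2 (X.cube _ m) (by simpa using e2)⟩

theorem inv_lift (hc : c ∈ Ce z) (h : μ c * μ c = 1) : c ^ 3 * c ^ 3 = 1 ∧ μ (c ^ 3) = μ c :=
  ⟨by rw [← (Commute.refl c).mul_pow, X.cube _ (X.ker _ (mul_mem hc hc) (by rw [mul X hc hc, h]))],
    by rw [pow X hc, pow_three, h, mul_one]⟩

theorem cen_lift (hs : s ∈ Ce z) (s2 : s * s = 1) (hc : c ∈ Ce z) (h : μ c * μ s = μ s * μ c) :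
    ∃ d ∈ Ce z, d ∈ Ce s ∧ μ d = μ c := by
  obtain ⟨q, hq, e⟩ := conj_of X hs (mul_mem (mul_mem hc hs) (inv_mem hc)) s2
    (by rw [conj_mul, s2, mul_one, mul_inv_cancel])
    ((unit' X hc).mul_right_cancel ((cj_mul X (ce_nz hc) (ce_nz hs)).trans h))
  refine ⟨q⁻¹ * c, mul_mem (inv_mem (Q_le X hq)) hc, mem_Ce.2 ?_, ?_⟩
  · rw [← mul_inv_eq_iff_eq_mul, show q⁻¹ * c * s * (q⁻¹ * c)⁻¹ = q⁻¹ * (c * s * c⁻¹) * q by group, ← e]
    group
  · rw [mul X (inv_mem (Q_le X hq)) hc, mu_Q X (inv_mem hq), one_mul]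

theorem bt_inv (hc : c ∈ Ce z) (v w : V8) : bt (μ c *ᵥ v) (μ c *ᵥ w) = bt v w := by
  obtain ⟨a, ha, rfl⟩ := X.l_surj v
  obtain ⟨b, hb, rfl⟩ := X.l_surj w
  have h := X.comm _ (cj_mem X (ce_nz hc) ha) _ (cj_mem X (ce_nz hc) hb)
  rw [conj_mul, conj_mul, X.comm a ha b hb, ← conj_mul, mul_left_inj, ← conj_pow,
    mul_inv_eq_iff_eq_mul.2 (mem_Ce.1 hc), pow_eq_pow_iff_modEq, X.ord, X.act c (ce_nz hc) a ha,
    X.act c (ce_nz hc) b hb] at h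
  exact (ZMod.val_injective 3 (h.eq_of_lt_of_lt (ZMod.val_lt _) (ZMod.val_lt _))).symm

theorem comm_s (hs : s ∈ Ce z) (s2 : s * s = 1) (ha : a ∈ Q) : μ s *ᵥ l a = l a ↔ a ∈ Ce s := by
  rw [← X.act s (ce_nz hs) a ha]
  refine ⟨fun h => ?_, fun h => by rw [← mem_Ce.1 h, mul_inv_cancel_right]⟩
  have m := (l_eq X (cj_mem X (ce_nz hs) ha) ha).2 h
  have c3 := X.cube _ (zpowers_le.2 X.zmem m)
  have c : s * (s * a * s⁻¹ * a⁻¹) * s⁻¹ = s * a * s⁻¹ * a⁻¹ := by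
    obtain ⟨k, e⟩ := m
    rw [← e]; exact mul_inv_eq_iff_eq_mul.2 (Commute.zpow_right (mem_Ce.1 hs) k).eq
  have c2 : s * a * s⁻¹ * a⁻¹ * (s * a * s⁻¹ * a⁻¹) = 1 := by
    nth_rewrite 1 [← c]
    rw [show s * (s * a * s⁻¹ * a⁻¹) * s⁻¹ * (s * a * s⁻¹ * a⁻¹) = s * s * a * (s * s)⁻¹ *
      (s * s⁻¹) * (s * (a⁻¹ * a) * s⁻¹) * a⁻¹ by group, s2]
    group
  rw [pow_three, c2, mul_one, mul_inv_eq_one, mul_inv_eq_iff_eq_mul] at c3
  exact mem_Ce.2 c3.symm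

/-- the matrix representation of `C(z)` -/
noncomputable def hom : Ce z →* M8ˣ := MonoidHom.toHomUnits
  { toFun := fun c => μ c, map_one' := mu_one X, map_mul' := fun c d => mul X c.2 d.2 }

theorem hom_ker : (hom X).ker = Q.subgroupOf (Ce z) := by
  ext c
  rw [MonoidHom.mem_ker, Units.ext_iff]
  exact (mem_Q X c.2).symm

end X

/-- the matrices of `C(z)` -/
def In (z : G) (μ : G → M8) (A : M8) : Prop := ∃ c ∈ Ce z, μ c = A

theorem Ac.kerl' {A B : M8} {f : U → U} (hA : IsUnit A) (hB : IsUnit B) (h : Ac A f) (k : Ac B f) :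
    ∃ u, Pm A (rho u * B) := (h.kerl hA hB k).elim fun u e => ⟨_, e.trans (k u)⟩

namespace F
variable (F : FR23 z Q l μ) {c : G} {A B : M8}
include F

theorem in_mul (h : In z μ A) (k : In z μ B) : In z μ (A * B) := by
  obtain ⟨c, hc, rfl⟩ := h
  obtain ⟨d, hd, rfl⟩ := k
  exact ⟨_, mul_mem hc hd, X.mul F.toX8 hc hd⟩
theorem in_rho {u : U} (h : Pm A (rho u)) : In z μ A := F.onto A (mem_R0.2 ⟨u, h⟩)
theorem in_one : In z μ 1 := ⟨1, one_mem _, X.mu_one F.toX8⟩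
theorem in_pm (h : Pm A B) (k : In z μ B) : In z μ A := by
  rcases h with rfl | rfl
  exacts [k, neg_one_mul B ▸ in_mul F (in_rho F (u := u0) (Or.inr (by rw [rho_zero]))) k]

theorem exists_ac (hc : c ∈ Nz z) : ∃ f, Ac (μ c) f := by
  have : ∀ u, ∃ v, Pm (μ c * rho u) (rho v * μ c) := fun u => by
    obtain ⟨A, hA, e⟩ := F.norR c hc _ (mem_R0.2 ⟨u, Pm.rfl⟩)
    obtain ⟨v, hv⟩ := mem_R0.1 hA
    exact ⟨v, e ▸ hv.right _⟩
  exact Classical.axiomOfChoice this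

theorem cz' (hc : c ∈ Ce z) : ∃ w, Pm (μ c * ze) (rho w * (ze * μ c)) := by
  obtain ⟨A, hA, e⟩ := F.cz c hc
  obtain ⟨v, hv⟩ := mem_R0.1 hA
  exact ⟨v, by rw [e]; exact hv.right _⟩

theorem tau (hc : c ∈ Ce z) : ∃ τ ∈ VL, Ac (μ c) (app τ) := by
  obtain ⟨f, hf⟩ := exists_ac F (ce_nz hc)
  obtain ⟨w, hw⟩ := cz' F hc
  exact hf.lin (X.unit' F.toX8 hc) hw

theorem index_Q : (Q.subgroupOf (Ce z)).index = 82944 := by
  have := (Q.subgroupOf (Ce z)).card_mul_index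
  rw [Nat.card_congr (subgroupOfEquivOfLe (X.Q_le F.toX8)).toEquiv, X.card_Q F.toX8, F.card] at this
  omega

theorem surj {τ : Tp} (hτ : τ ∈ VL) : ∃ c ∈ Ce z, Ac (μ c) (app τ) := by
  classical
  by_contra hn
  choose t h1 h2 using fun c : Ce z => tau F c.2
  let r : Tp → Ce z := Function.invFun t
  have k : ∀ c : Ce z, ∃ p : Bool × U, μ c = cond p.1 (μ (r (t c)) * rho p.2) (-(μ (r (t c)) * rho p.2)) :=
    fun c => by
      obtain ⟨u, e | e⟩ := (h2 c).kerl (X.unit' F.toX8 c.2) (X.unit' F.toX8 (r (t c)).2)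
        (by simpa only [Function.invFun_eq (f := t) ⟨c, rfl⟩, r] using h2 (r (t c)))
      exacts [⟨(true, u), e⟩, ⟨(false, u), e⟩]
  choose p hp using k
  have := index_le (Q.subgroupOf (Ce z)) (fun c => (t c, p c))
    (S := (VL.toFinset.erase τ : Set Tp) ×ˢ Set.univ) ((Finset.finite_toSet _).prod Set.finite_univ)
    (fun c => ⟨Finset.mem_erase.2 ⟨fun e => hn ⟨c, c.2, e ▸ h2 c⟩, List.mem_toFinset.2 (h1 c)⟩, trivial⟩)
    fun c d e => by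
      have := (X.eq_iff F.toX8 c⁻¹.2 d⁻¹.2).2 ((X.unit' F.toX8 c.2).mul_right_cancel (by
        rw [coe_inv, X.mu_inv' F.toX8 (ce_nz c.2), hp c, (Prod.mk.inj e).1, (Prod.mk.inj e).2, ← hp d,
          coe_inv, X.mu_inv' F.toX8 (ce_nz d.2)]))
      simpa [mem_subgroupOf] using this
  rw [index_Q F, Set.ncard_prod, Set.ncard_coe_finset, Finset.card_erase_of_mem (List.mem_toFinset.2 hτ),
    Set.ncard_univ, show Nat.card (Bool × U) = 128 by simp; rfl] at this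
  have := VL_length ▸ List.toFinset_card_le VL
  omega

theorem in_of_ac {τ : Tp} (hA : IsUnit A) (hτ : τ ∈ [tS, tC, tD, t1, t2]) (h : Ac A (app τ)) : In z μ A := by
  obtain ⟨c, hc, k⟩ := surj F (mem_VL τ hτ)
  obtain ⟨u, e⟩ := h.kerl hA (X.unit' F.toX8 hc) k
  exact in_pm F e (in_mul F ⟨c, hc, rfl⟩ (in_rho F Pm.rfl))

theorem in_sg : In z μ sg := in_of_ac F sg_unit (by simp) ac_sg
theorem in_g1 : In z μ g1 :=
  in_of_ac F (IsUnit.of_mul_eq_one _ ((mul_assoc _ _ _).symm.trans g12.1)) (by simp) ac_g1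
theorem in_g2 : In z μ g2 :=
  in_of_ac F (IsUnit.of_mul_eq_one _ ((mul_assoc _ _ _).symm.trans g12.2.1)) (by simp) ac_g2

theorem in_el (w : W) : In z μ (el w) := by
  have h1 : In z μ (el (1, 0, 0, 0)) := by
    have e : el (1, 0, 0, 0) = kr qd 1 1 := by decide +kernel
    exact in_of_ac F (τ := tD) (elU (1, 0, 0, 0)).isUnit (by simp) (by rw [e]; exact ac_d)
  have h2 : In z μ (el (0, 0, 0, 1)) := by
    have e : el (0, 0, 0, 1) = cy := by decide +kernel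
    exact in_of_ac F (τ := tC) (elU (0, 0, 0, 1)).isUnit (by simp) (by rw [e]; exact ac_cy)
  have m : ∀ v w, In z μ (el v) → In z μ (el w) → In z μ (el (star v w)) := fun v w a b =>
    el_mul v w ▸ in_mul F a b
  have h0 : In z μ (el 0) := el_zero ▸ in_one F
  have e : ∀ k : ZMod 3, k = 0 ∨ k = 1 ∨ k = 2 := by decide
  have k1 : ∀ x, In z μ (el (x, 0, 0, 0)) := fun x => by
    rcases e x with rfl | rfl | rfl
    exacts [h0, h1, (by decide : star (1, 0, 0, 0) (1, 0, 0, 0) = (2, 0, 0, 0)) ▸ m _ _ h1 h1]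
  have k2 : In z μ (el (0, 0, 0, w.2.2.2)) := by
    rcases e w.2.2.2 with k | k | k <;> rw [k]
    exacts [h0, h2, (by decide : star (0, 0, 0, 1) (0, 0, 0, 1) = (0, 0, 0, 2)) ▸ m _ _ h2 h2]
  have : ∀ w : W, w = star (w.1, 0, 0, 0) (star (0, 0, 0, 1) (star (w.2.1, 0, 0, 0) (star (0, 0, 0, 1)
      (star (w.2.2.1, 0, 0, 0) (star (0, 0, 0, 1) (0, 0, 0, w.2.2.2)))))) := by decide +kernel
  rw [this w]
  exact m _ _ (k1 _) (m _ _ h2 (m _ _ (k1 _) (m _ _ h2 (m _ _ (k1 _) (m _ _ h2 k2)))))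

/-- The `3`-subgroups of `C(z)`. -/
theorem syl {Y : Subgroup G} (hY : Y ≤ Ce z) (h3 : IsPGroup 3 Y) : Q.relIndex Y ∣ 81 ∧
    ∃ c ∈ Ce z, (∀ y ∈ Y, ∃ w, μ c * μ y = el w * μ c) ∧ (27 ∣ Q.relIndex Y →
      (∃ y ∈ Y, μ c * μ y = el (1, 2, 0, 0) * μ c) ∧
      ((∀ y ∈ Y, ∀ w, μ c * μ y = el w * μ c → w.2.2.2 = 0) →
        ∀ w : W, w.2.2.2 = 0 → ∃ y ∈ Y, μ c * μ y = el w * μ c)) := by
  have e : Q.relIndex Y = Nat.card ((Y.subgroupOf (Ce z)).map (X.hom F.toX8)) := by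
    rw [← relIndex_ker, X.hom_ker, relIndex_subgroupOf hY]
  obtain ⟨_, ⟨c, rfl⟩, h⟩ := conj_S0 (Γ := (X.hom F.toX8).range)
    (by rw [← index_ker, X.hom_ker, index_Q F])
    (by rintro _ ⟨w, rfl⟩; exact (in_el F w).elim fun c h => ⟨⟨c, h.1⟩, Units.ext h.2⟩)
    (map_le_range _ (Y.subgroupOf (Ce z))) ((H98.isPGroup_subgroupOf h3 _).map _)
  rw [← H98.card_cj (X.hom F.toX8 c)] at e
  have key : ∀ w, elU w ∈ H98.cj (X.hom F.toX8 c) ((Y.subgroupOf (Ce z)).map (X.hom F.toX8)) ↔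
      ∃ y ∈ Y, μ c * μ y = el w * μ c := fun w => by
    constructor
    · rintro ⟨_, ⟨y, hy, rfl⟩, k⟩
      exact ⟨y, hy, congrArg Units.val (mul_inv_eq_iff_eq_mul.1 k)⟩
    · rintro ⟨y, hy, k⟩
      exact ⟨_, ⟨⟨y, hY hy⟩, hy, rfl⟩, mul_inv_eq_iff_eq_mul.2 (Units.ext k)⟩
  have all : ∀ y ∈ Y, ∃ w, μ c * μ y = el w * μ c := fun y hy => by
    obtain ⟨w, k⟩ := h ⟨_, ⟨⟨y, hY hy⟩, hy, rfl⟩, rfl⟩
    exact ⟨w, congrArg Units.val (mul_inv_eq_iff_eq_mul.1 k.symm)⟩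
  generalize H98.cj (X.hom F.toX8 c) ((Y.subgroupOf (Ce z)).map (X.hom F.toX8)) = T at e h key
  rw [e]
  refine ⟨card_S0 ▸ card_dvd_of_le h, c, c.2, all, fun h27 => ⟨(key _).1 ?_, fun k w hw => ?_⟩⟩
  · have := comm_mem card_S0 h h27 (a := elU (1, 0, 0, 0)) (b := elU (0, 0, 0, 1)) ⟨_, rfl⟩ ⟨_, rfl⟩
    convert this using 1
    exact Units.ext (by
      change _ = el _ * el _ * el _ * el _
      rw [el_mul, el_mul, el_mul]; rfl)
  · have s : (T : Set M8ˣ) ⊆ elU '' {w | w.2.2.2 = 0} := fun A hA => by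
      obtain ⟨w, rfl⟩ := h hA
      obtain ⟨y, hy, k'⟩ := (key w).1 hA
      exact ⟨w, k y hy w k', rfl⟩
    have c27 : {w : W | w.2.2.2 = 0}.ncard = 27 := by
      rw [Set.ncard_eq_toFinset_card']; decide +kernel
    have := Set.eq_of_subset_of_ncard_le s ((Set.ncard_image_le).trans (c27.trans_le
      (Nat.le_of_dvd (Nat.card_pos (α := T)) h27)))
    exact (key w).1 (this.ge ⟨w, hw, rfl⟩)

end F
end H80.F23
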