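import Cfsg.Agent.H80.F23Mc
/-! PS3B, job F23-M: the facts `GF23`. -/
set_option autoImplicit false
set_option maxRecDepth 100000
namespace H80.F23
open Cfsg Subgroup H42.L3 H56.L3 H39.F22 H39.F23 Matrix

theorem inv_coset {A : M8} {u : U} (h : Pm A (sg * rho u)) (h2 : A * A = 1) :
    ∃ v, Pm (rho v * A) (sg * rho v) := by
  obtain ⟨x, y, w⟩ := u
  rw [h.sq, ← mul_assoc, mul_assoc sg, ← sg_rho, ← mul_assoc, sg_sq, one_mul, rho_mul] at h2
  have e := eq_of_ad _ _ (rho_one _ ((Pm.of_smul (sn_pm _ _) _).symm.trans (Or.inl h2)))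
  obtain rfl : y = x := (Prod.mk.inj e).1
  rw [ad_self, rho_zero] at h2
  obtain rfl : w = .o := by
    have : ∀ y w, sn (y, y, w) (y, y, w) • (1 : M8) = 1 → w = .o := by decide +kernel
    exact this _ _ h2
  refine ⟨(y, .o, .o), (h.left _).trans ?_⟩
  rw [← mul_assoc, ← sg_rho, mul_assoc]
  have : ∀ y, ad (.o, y, .o) (y, y, .o) = (y, .o, .o) := by decide
  exact this y ▸ (rho_pm _ _).left sg

theorem fx_R {A : M8} {u : U} (h : Pm A (rho u)) (h1 : A ≠ 1) : (Fx A).ncard ≤ 81 := by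
  by_cases e : u = u0
  · rw [e, rho_zero] at h
    exact h.resolve_left h1 ▸ fx_neg
  have : ∀ u, u ≠ u0 → ∃ v, sn u v = -sn v u := by decide +kernel
  obtain ⟨v, hv⟩ := this u e
  refine fx_anti (rho_unit v) ?_
  have k : rho u * rho v = -(rho v * rho u) := by rw [rho_mul, rho_mul, hv, ad_comm, neg_smul]
  rcases h with rfl | rfl
  exacts [k, by rw [neg_mul, mul_neg, k]]

variable {G : Type*} [Group G] {z : G} {Q : Subgroup G} {l : G → V8} {μ : G → M8}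

namespace F
variable (F : FR23 z Q l μ) {c e s : G}
include F

theorem tau2 (hc : c ∈ Ce z) (h : μ c * μ c = 1) : ∃ τ ∈ oneT :: IL.map Prod.fst, Ac (μ c) (app τ) := by
  obtain ⟨τ, h1, h2⟩ := tau F hc
  exact ⟨τ, List.mem_cons.2 (V2 τ h1 ((h ▸ h2.mulT h2).tau_eq isUnit_one ac_one)), h2⟩

theorem one_of {k : ℕ} (hc : c ∈ Ce z) (h : Ac (μ c) (app oneT)) (h3 : μ c ^ 3 ^ k = 1) : c ∈ Q := by
  obtain ⟨u, hu⟩ := h.kerl' (X.unit' F.toX8 hc) isUnit_one ac_one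
  exact X.one_of F.toX8 hc (mul_one (rho u) ▸ hu) h3

theorem inv (hs : s ∈ Ce z) (s2 : s * s = 1) (hμ : μ s = sg) (he : e ∈ Ce z) (e2 : e * e = 1) (e1 : e ≠ 1)
    [Finite G] (h : 3 ^ 6 ∣ Nat.card ↥(Q ⊓ Ce e)) : ∃ g ∈ Ce z, g * e * g⁻¹ = s := by
  have X := F.toX8
  have big : ¬ (Fx (μ e)).ncard ≤ 81 := fun k => by
    have := H80.F23.X.ncard_l X (Fx (μ e))
    rw [show {a | a ∈ Q ∧ l a ∈ Fx (μ e)} = (Q ⊓ Ce e : Subgroup G) from Set.ext fun a =>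
      and_congr_right fun ha => H80.F23.X.comm_s X he e2 ha] at this
    have h' := Nat.le_of_dvd Nat.card_pos h
    change _ ≤ Set.ncard ((Q ⊓ Ce e : Subgroup G) : Set G) at h'
    omega
  have sq : ∀ g ∈ Ce z, g * e * g⁻¹ * (g * e * g⁻¹) = 1 := fun g _ => by
    rw [conj_mul, e2, mul_one, mul_inv_cancel]
  obtain ⟨τ, h1, h2⟩ := tau2 F he (by rw [← H80.F23.X.mul X he he, e2, H80.F23.X.mu_one X])
  rcases List.mem_cons.1 h1 with rfl | h1
  · obtain ⟨u, hu⟩ := h2.kerl' (H80.F23.X.unit' X he) isUnit_one ac_one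
    refine absurd (fx_R (mul_one (rho u) ▸ hu) fun k => e1 ?_) big
    simpa [pow_three, e2] using X.cube e (X.ker e he k)
  obtain ⟨⟨τ, κ⟩, h0, rfl⟩ := List.mem_map.1 h1
  obtain ⟨c, hc, h3⟩ := surj F (V2' _ h0).1
  have uc := H80.F23.X.unit' X hc
  have he' := mul_mem (mul_mem hc he) (inv_mem hc)
  have k1 := H80.F23.X.cj_mul X (ce_nz hc) (ce_nz he)
  obtain ⟨u, hu⟩ := (h3.mulT h2).kerl (uc.mul (H80.F23.X.unit' X he)) (sg_unit.mul uc)
    ((V2' _ h0).2 ▸ ac_sg.mulT h3)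
  rw [← k1, mul_assoc sg] at hu
  have k2 := hu.trans ((h3 u).left sg)
  rw [← mul_assoc sg] at k2
  obtain ⟨v, hv⟩ := inv_coset (k2.cancel uc) (by
    rw [← H80.F23.X.mul X he' he', sq c hc, H80.F23.X.mu_one X])
  rcases hv with hv | hv
  · obtain ⟨d, hd, k3⟩ := in_rho F (u := v) Pm.rfl
    have hd' := mul_mem (mul_mem hd he') (inv_mem hd)
    obtain ⟨q, hq, k4⟩ := H80.F23.X.conj_of X hs hd' s2 (by rw [conj_mul, sq c hc, mul_one, mul_inv_cancel])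
      ((rho_unit v).mul_right_cancel (by
        rw [← k3, H80.F23.X.cj_mul X (ce_nz hd) (ce_nz he'), k3, hv, hμ]))
    refine ⟨q⁻¹ * d * c, mul_mem (mul_mem (inv_mem (H80.F23.X.Q_le X hq)) hd) hc, ?_⟩
    rw [show q⁻¹ * d * c * e * (q⁻¹ * d * c)⁻¹ = q⁻¹ * (d * (c * e * c⁻¹) * d⁻¹) * q by group, ← k4]
    group
  · refine absurd ?_ big
    rw [fx_conj uc k1.symm, fx_conj (B := -sg) (rho_unit v) (by rw [hv, neg_mul])]
    exact fx_nsg

theorem inv9 [Finite G] (he : e ∈ Ce z) (e2 : e * e = 1) {Y : Subgroup G} (hY : Y ≤ Ce z)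
    (h3 : IsPGroup 3 Y) (hn : e ∈ H42.L3.nr Y) : Nat.card Y ∣ 9 * Nat.card ↥((Y ⊓ Q) ⊔ (Y ⊓ Ce e)) := by
  classical
  have X := F.toX8
  have : Fact (Nat.Prime 3) := ⟨by decide⟩
  have m : ∀ y : Y, y * e * (y : G)⁻¹ ∈ Ce z := fun y => mul_mem (mul_mem (hY y.2) he) (inv_mem (hY y.2))
  choose t h1 h2 using fun y : Y => tau2 F (m y) (by
    rw [← H80.F23.X.mul X (m y) (m y), conj_mul, e2, mul_one, mul_inv_cancel, H80.F23.X.mu_one X])
  have le : (Y ⊓ Q) ⊔ (Y ⊓ Ce e) ≤ Y := sup_le inf_le_left inf_le_left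
  have := index_le (((Y ⊓ Q) ⊔ (Y ⊓ Ce e)).subgroupOf Y) t
    (S := (oneT :: IL.map Prod.fst).toFinset) (Finset.finite_toSet _)
    (fun y => List.mem_toFinset.2 (h1 y)) fun y y' k => by
      obtain ⟨u, hu⟩ := (h2 y').kerl' (H80.F23.X.unit' X (m y')) (H80.F23.X.unit' X (m y)) (k ▸ h2 y)
      obtain ⟨w, rfl⟩ : ∃ w, y' = y * w := ⟨y⁻¹ * y', by simp⟩
      rw [inv_mul_cancel_left, mem_subgroupOf]
      have qY : w * e * (w : G)⁻¹ * e⁻¹ ∈ Y := by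
        have := mul_mem w.2 ((mem_normalizer_iff.1 hn _).1 (inv_mem w.2))
        rwa [← mul_assoc, ← mul_assoc] at this
      have qY' := mul_mem (mul_mem y.2 qY) (inv_mem y.2)
      rw [show ((y * w : Y) : G) * e * ((y * w : Y) : G)⁻¹ =
        y * (w * e * (w : G)⁻¹ * e⁻¹) * (y : G)⁻¹ * (y * e * (y : G)⁻¹) by rw [coe_mul]; group,
        H80.F23.X.mul X (hY qY') (m y)] at hu
      obtain ⟨n, hn'⟩ := h3 ⟨_, qY'⟩
      have q1 := H80.F23.X.one_of X (k := n) (hY qY') (hu.cancel (H80.F23.X.unit' X (m y))) (by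
        rw [← H80.F23.X.pow X (hY qY'), show _ ^ _ = (1 : G) from congrArg Subtype.val hn',
          H80.F23.X.mu_one X])
      have q2 : w * e * (w : G)⁻¹ * e⁻¹ ∈ Q := by
        simpa [mul_assoc] using H80.F23.X.cj_mem X (inv_mem (ce_nz (hY y.2))) q1
      have q3 := dih e2 (X.cube _ q2) (by
        rw [inv_mul_cancel_right, conj_mul, e2, mul_one, mul_inv_cancel])
      rw [inv_mul_cancel_right] at q3
      generalize (w : G) * e * (w : G)⁻¹ * e⁻¹ = q at qY q2 q3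
      rw [← mul_inv_cancel_left (q * q) w]
      refine mul_mem (mem_sup_left ⟨mul_mem qY qY, mul_mem q2 q2⟩) (mem_sup_right (mem_inf.2
        ⟨mul_mem (inv_mem (mul_mem qY qY)) w.2, mem_Ce.2 (mul_inv_eq_iff_eq_mul.1 ?_)⟩))
      generalize q * q = q' at q3
      rw [show q'⁻¹ * w * e * (q'⁻¹ * w)⁻¹ = q'⁻¹ * (w * e * (w : G)⁻¹) * q' by group, ← q3]
      group
  rw [Set.ncard_coe_finset] at this
  have k := this.trans (List.toFinset_card_le _)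
  obtain ⟨n, hn⟩ := h3.index (((Y ⊓ Q) ⊔ (Y ⊓ Ce e)).subgroupOf Y)
  rw [← (((Y ⊓ Q) ⊔ (Y ⊓ Ce e)).subgroupOf Y).index_mul_card,
    Nat.card_congr (subgroupOfEquivOfLe le).toEquiv, hn]
  rw [hn] at k
  refine Nat.mul_dvd_mul_right (pow_dvd_pow 3 (?_ : n ≤ 2)) _
  by_contra h
  exact absurd (k.trans' (Nat.pow_le_pow_right (by decide) (not_le.1 h))) (by decide)

theorem inv3 {a b : G} (he : e ∈ Ce z) (e2 : e * e = 1) (ha : a ∈ Ce z) (hb : b ∈ Ce z) (a3 : a ^ 3 = 1)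
    (b3 : b ^ 3 = 1) (h1 : e * a * e⁻¹ * a ∈ Q) (h2 : e * b * e⁻¹ * b ∈ Q) (h3 : a * b * a⁻¹ * b⁻¹ ∈ Q) :
    a ∈ Q ∨ b ∈ Q ∨ a * b ∈ Q ∨ a * b⁻¹ ∈ Q := by
  have X := F.toX8
  obtain ⟨t, t1, t2⟩ := tau2 F he (by rw [← H80.F23.X.mul X he he, e2, H80.F23.X.mu_one X])
  have key : ∀ a ∈ Ce z, a ^ 3 = 1 → e * a * e⁻¹ * a ∈ Q → ∃ x ∈ oneT :: IL.map Prod.fst,
      Ac (μ a) (app (mulT t x)) ∧ cub (mulT t x) = oneT ∧ μ a ^ 3 ^ 1 = 1 := fun a ha a3 h => by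
    have m := mul_mem he ha
    obtain ⟨x, x1, x2⟩ := tau2 F m (by
      rw [← H80.F23.X.mul X m m, ← H80.F23.X.mu_Q X h, inv_eq_of_mul_eq_one_right e2, mul_assoc _ e a])
    have k := t2.mulT x2
    rw [← H80.F23.X.mul X he m, ← mul_assoc, e2, one_mul] at k
    have k3 : μ a ^ 3 = 1 := by rw [← H80.F23.X.pow X ha, a3, H80.F23.X.mu_one X]
    exact ⟨x, x1, k, ((pow_three (μ a)).symm.trans k3 ▸ k.mulT (k.mulT k)).tau_eq isUnit_one ac_one, k3⟩
  obtain ⟨x, x1, x2, x3, x4⟩ := key a ha a3 h1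
  obtain ⟨y, y1, y2, y3, y4⟩ := key b hb b3 h2
  have c : Commute (μ a) (μ b) := (H80.F23.X.comm_iff X ha hb).1 h3
  have ub := H80.F23.X.unit' X hb
  rcases V3 t t1 x x1 y y1 x3 y3 ((x2.mulT y2).tau_eq ((H80.F23.X.unit' X ha).mul ub)
    (c.eq ▸ y2.mulT x2)) with k | k | k | k
  · exact Or.inl (one_of F ha (k ▸ x2) x4)
  · exact Or.inr (Or.inl (one_of F hb (k ▸ y2) y4))
  · refine Or.inr (Or.inr (Or.inl (one_of F (k := 1) (mul_mem ha hb) ?_ ?_))) <;>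
      rw [H80.F23.X.mul X ha hb]
    exacts [k ▸ x2.mulT y2, by rw [c.mul_pow, x4, y4, mul_one]]
  · obtain ⟨u, hu⟩ := x2.kerl' (H80.F23.X.unit' X ha) ub (k ▸ y2)
    have m := mul_mem ha (inv_mem hb)
    have e1 : μ (a * b⁻¹) * μ b = μ a := by rw [← H80.F23.X.mul X m hb, inv_mul_cancel_right]
    refine Or.inr (Or.inr (Or.inr (H80.F23.X.one_of X (k := 1) m (Pm.cancel ub (e1 ▸ hu)) ?_)))
    have c' : Commute (μ (a * b⁻¹)) (μ b) := ub.mul_right_cancel (by rw [e1, mul_assoc, e1, c.eq])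
    have := c'.mul_pow (3 ^ 1)
    rw [e1, x4, y4, mul_one] at this
    exact this.symm

theorem gf23 [Finite G] (hs : s ∈ Ce z) (s2 : s * s = 1) (hμ : μ s = sg) : GF23 z Q s := by
  have X := F.toX8
  refine ⟨?_, fun e he e2 e1 h => inv F hs s2 hμ he e2 e1 h, fun e he e2 Y hY h3 hn => inv9 F he e2 hY h3 hn,
    fun e he e2 a ha b hb => inv3 F he e2 ha hb, fun Y hY h3 => (syl F hY h3).1, fun Y hY h3 h27 => ?_,
    fun Y hY h3 h27 hab => ?_, fun a ha b hb y hy h3 h1 h2 h4 h5 => ?_⟩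
  · obtain ⟨c, hc, e⟩ := in_rho F (A := -1) (u := u0) (Or.inr (by rw [rho_zero]))
    obtain ⟨k1, k2⟩ := H80.F23.X.inv_lift X hc (by simp [e])
    have hr := pow_mem hc 3
    refine ⟨_, hr, k1, fun a ha => ?_, fun g hg => (H80.F23.X.comm_iff X hg hr).2 (by simp [k2, e])⟩
    have m := H80.F23.X.cj_mem X (ce_nz hr) ha
    rw [← X.l_ker _ (mul_mem m ha), X.l_mul _ m _ ha, X.act _ (ce_nz hr) a ha, k2, e, neg_mulVec, one_mulVec,
      neg_add_cancel]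
  · obtain ⟨-, c, hc, -, k⟩ := syl F hY h3
    obtain ⟨⟨y, hy, e⟩, -⟩ := k h27
    refine ⟨c, hc, fun a ha => ?_⟩
    rw [H80.F23.X.fixQ X hY] at ha
    rw [← H80.F23.X.comm_s X hs s2 (H80.F23.X.cj_mem X (ce_nz hc) ha.1), X.act c (ce_nz hc) a ha.1, hμ]
    refine fx_d (show _ *ᵥ _ = _ from ?_)
    rw [mulVec_mulVec, ← e, ← mulVec_mulVec, ha.2 y hy]
  · obtain ⟨-, c, hc, k0, k⟩ := syl F hY h3
    obtain ⟨⟨y, hy, e⟩, k⟩ := k h27
    have uc := H80.F23.X.unit' X hc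
    replace k := k fun y' hy' w e' => W1 w (el_inj (uc.mul_right_cancel (by
      rw [← el_mul, ← el_mul, mul_assoc, mul_assoc, ← e, ← e', ← mul_assoc, ← mul_assoc, ← e, ← e',
        mul_assoc, mul_assoc, (H80.F23.X.comm_iff X (hY hy) (hY hy')).1 (hab y hy y' hy')])))
    have k1 : ∀ y' ∈ Y, ∃ w : W, w.2.2.2 = 0 ∧ μ c * μ y' = el w * μ c := fun y' hy' => by
      obtain ⟨w, e'⟩ := k0 y' hy'
      exact ⟨w, W1 w (el_inj (uc.mul_right_cancel (by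
        rw [← el_mul, ← el_mul, mul_assoc, mul_assoc, ← e, ← e', ← mul_assoc, ← mul_assoc, ← e, ← e',
          mul_assoc, mul_assoc, (H80.F23.X.comm_iff X (hY hy) (hY hy')).1 (hab y hy y' hy')]))), e'⟩
    rw [H80.F23.X.fixQ X hY, H80.F23.X.ncard_l X]
    refine congrArg (3 * ·) (Eq.trans ?_ ((ncard_pre uc _).trans fx_D))
    refine congrArg Set.ncard (Set.ext fun v => ⟨fun h w hw => ?_, fun h y' hy' => ?_⟩)
    · obtain ⟨y', hy', e'⟩ := k w hw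
      rw [mulVec_mulVec, ← e', ← mulVec_mulVec, h y' hy']
    · obtain ⟨w, hw, e'⟩ := k1 y' hy'
      refine unit_inj uc ?_
      dsimp only
      rw [mulVec_mulVec, e', ← mulVec_mulVec, h w hw]
  · obtain ⟨-, c, hc, k, -⟩ := syl F (Y := closure {a, b, y}) ((closure_le _).2 (by
      rintro _ (rfl | rfl | rfl) <;> assumption)) h3
    have uc := H80.F23.X.unit' X hc
    obtain ⟨wa, ea⟩ := k a (subset_closure (by simp))
    obtain ⟨wb, eb⟩ := k b (subset_closure (by simp))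
    obtain ⟨w, e⟩ := k y (subset_closure (by simp))
    have key : ∀ {a b v w}, a ∈ Ce z → b ∈ Ce z → μ c * μ a = el v * μ c → μ c * μ b = el w * μ c →
        (a * b * a⁻¹ * b⁻¹ ∈ Q ↔ star v w = star w v) := fun {a b v w} ha hb e e' => by
      rw [H80.F23.X.comm_iff X ha hb, ← el_inj.eq_iff, ← uc.mul_left_inj (b := el _), ← el_mul, ← el_mul,
        mul_assoc, mul_assoc, ← e, ← e', ← mul_assoc, ← mul_assoc, ← e, ← e', mul_assoc, mul_assoc, uc.mul_right_inj]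
    have w0 : w ≠ 0 := fun k => h5 (X.ker y hy (uc.mul_left_cancel (by rw [e, k, el_zero, mul_one, one_mul])))
    have : (Fx (el w)).ncard = 27 := by
      by_contra k
      exact h1 ((key ha hb ea eb).2 (W2 w w0 (fun k' => k (k' ▸ fx_ze.1)) (fun k' => k (k' ▸ fx_ze.2)) _
        ((key ha hy ea e).1 h2) _ ((key hb hy eb e).1 h4)))
    rw [H80.F23.X.fixQ X (by simpa using hy), H80.F23.X.ncard_l X, show 81 = 3 * 27 from rfl, ← this,
      ← fx_conj uc e]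
    simp [Fx]

end F
end H80.F23
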