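/- The facts `F7` on the simple group of order 168. -/
import Cfsg.Agent.H48.DC4Spec
import Cfsg.Agent.H80.F7A
import Cfsg.Agent.H80.FBB2c

set_option autoImplicit false

namespace H80.F7

open Subgroup Cfsg H98 H48.DP H57.DPC H48.DP2

theorem F7map {Λ Λ' : Type*} [Group Λ] [Group Λ'] (e : Λ ≃* Λ') {B : Subgroup Λ} {z : Λ}
    (h : F7 B z) : F7 (B.map (e : Λ →* Λ')) (e z) := by
  let μ : Subgroup Λ → Subgroup Λ' := fun S => S.map (e : Λ →* Λ')
  have ei : Function.Injective (e : Λ →* Λ') := e.injective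
  have su : Function.Surjective μ := fun S => ⟨S.comap e, map_comap_eq_self_of_surjective e.surjective S⟩
  have le : ∀ S S', μ S ≤ μ S' ↔ S ≤ S' := fun S S' => map_le_map_iff_of_injective ei
  have eq : ∀ S S', μ S = μ S' ↔ S = S' := fun S S' => (map_injective ei).eq_iff
  have tp : ∀ S, μ S = ⊤ ↔ S = ⊤ := fun S => by
    rw [← eq, show μ ⊤ = ⊤ from map_top_of_surjective _ e.surjective]
  have sp : ∀ S S', μ S ⊔ μ S' = μ (S ⊔ S') := fun S S' => (Subgroup.map_sup _ _ _).symm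
  have nf : ∀ S S', μ S ⊓ μ S' = μ (S ⊓ S') := fun S S' => (map_inf _ _ _ ei).symm
  have zp : ∀ x, zpowers (e x) = μ (zpowers x) := fun x => (MonoidHom.map_zpowers (e : Λ →* Λ') x).symm
  have no : ∀ S, No (μ S) = μ (No S) := fun S => (map_normalizer_eq_of_bijective S e.bijective).symm
  have me : ∀ x S, e x ∈ μ S ↔ x ∈ S := fun x S => mem_map_iff_mem ei
  have c1 : ∀ x, C1 (e x) = μ (C1 x) := fun x => by
    ext y
    obtain ⟨y, rfl⟩ := e.surjective y
    simp only [me, mem_centralizer_singleton_iff, ← map_mul, e.injective.eq_iff]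
  have cc : ∀ l S, cj (e l) (μ S) = μ (cj l S) := fun l S => by
    ext y
    obtain ⟨y, rfl⟩ := e.surjective y
    simp only [me, mem_cj, ← map_mul, ← map_inv]
  have cd : ∀ S, Nat.card (μ S) = Nat.card S := fun S => card_map_of_injective ei
  have ix : ∀ S, (μ S).index = S.index := fun S => index_map_equiv S e
  have pg : ∀ S, IsPGroup 2 (μ S) ↔ IsPGroup 2 S := fun S =>
    ⟨fun k => k.of_equiv (equivMapOfInjective S _ ei).symm, fun k => k.map _⟩
  have cl : ∀ a b c, closure {e a, e b, e c} = μ (closure {a, b, c}) := fun a b c => by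
    simp only [μ, MonoidHom.map_closure, Set.image_insert_eq, Set.image_singleton, MonoidHom.coe_coe]
  have o1 : ∀ x, e x = 1 ↔ x = 1 := fun x => e.map_eq_one_iff
  obtain ⟨h0, h1, h2, h3, h4, h5, h6, h7, h8, h9, h10, h11, h12, h13⟩ := h
  change F7 (μ B) (e z)
  refine ⟨e.symm.isSimpleGroup, ?_, ?_, ?_, ?_, ?_, ?_, ?_, ?_, ?_, ?_, ?_, ?_, ?_⟩ <;>
    simp only [e.surjective.forall, e.surjective.exists, su.forall, su.exists, le, eq, tp, sp, nf,
      zp, no, me, c1, cc, cd, ix, pg, cl, o1, ← map_mul, ← map_inv, ← map_pow, ne_eq,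
      e.injective.eq_iff, MulEquiv.orderOf_eq] <;> assumption

def sb (l : List T) (h : 1 ∈ l ∧ (∀ x ∈ l, ∀ y ∈ l, x * y ∈ l) ∧ ∀ x ∈ l, x⁻¹ ∈ l) :
    Subgroup T where
  carrier := {x | x ∈ l}
  one_mem' := h.1
  mul_mem' := fun ha hb => h.2.1 _ ha _ hb
  inv_mem' := fun ha => h.2.2 _ ha

theorem sb_card (l h) (n : l.Nodup) : Nat.card (sb l h) = l.length :=
  (Nat.subtype_card l.toFinset fun _ => List.mem_toFinset).trans (List.toFinset_card_of_nodup n)

theorem sb_no (l h) (x : T) : x ∈ No (sb l h) ↔ ∀ y ∈ l, x * y * x⁻¹ ∈ l :=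
  ⟨fun k _ hy => conj_mem_of_mem_normalizer k hy, fun k => mem_normalizer_fintype k⟩

def bl : List T := [0, 8, 79, 148].map f
def cl : List T := [0, 15, 111, 164].map f
def nl : List T := [0, 2, 8, 16, 30, 41, 46, 54, 59, 64, 73, 79, 88, 92, 104, 105, 117, 122, 130,
  135, 146, 148, 154, 166].map f
def kl : List T := [0, 2, 8, 16, 54, 64, 73, 79, 105, 122, 148, 154].map f
def dl : List T := [0, 8, 79, 92, 104, 117, 146, 148].map f
def B0 : Subgroup T := sb bl (by decide +kernel)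
def A0 : Subgroup T := sb cl (by decide +kernel)
def N0 : Subgroup T := sb nl (by decide +kernel)
def K0 : Subgroup T := sb kl (by decide +kernel)
def D0 : Subgroup T := sb dl (by decide +kernel)

theorem o2 {t : T} (h : orderOf t = 2) : t * t = 1 ∧ t ≠ 1 :=
  ⟨by rw [← pow_two, ← h, pow_orderOf_eq_one], fun k => by simp [k] at h⟩

theorem o3 {w : T} : orderOf w = 3 ↔ w * w * w = 1 ∧ w ≠ 1 :=
  have : Fact (Nat.Prime 3) := ⟨Nat.prime_three⟩
  ⟨fun h => ⟨by rw [← pow_three', ← h, pow_orderOf_eq_one], fun k => by simp [k] at h⟩,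
    fun h => orderOf_eq_prime (by rw [pow_three']; exact h.1) h.2⟩

theorem nocj (l : T) (H : Subgroup T) : No (cj l H) = cj l (No H) := (cj_normalizer l H).symm

theorem noB : No B0 = N0 := Subgroup.ext fun x => (sb_no _ _ x).trans
  ((by decide +kernel : ∀ x : T, (∀ y ∈ bl, x * y * x⁻¹ ∈ bl) ↔ x ∈ nl) x)

theorem kd : ∀ k ∈ kl, ∃ t ∈ bl, ∃ i ∈ [0, 1, 2], k = t * f 2 ^ i := by decide +kernel

theorem KB : B0 ⊔ zpowers (f 2) = K0 := le_antisymm
  (sup_le (by decide +kernel : ∀ x ∈ bl, x ∈ kl) (zpowers_le.2 (by decide +kernel : f 2 ∈ kl)))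
  fun k hk => by
    obtain ⟨t, ht, i, -, rfl⟩ := kd k hk
    exact mul_mem (mem_sup_left ht) (mem_sup_right (npow_mem_zpowers _ i))

theorem dc : ∀ x, x ∉ nl → ∃ k ∈ kl, ∃ k' ∈ kl, k * x * k' = f 1 := by decide +kernel

theorem mx (H : Subgroup T) (h : K0 ≤ H) : H ≤ N0 ∨ H = ⊤ := by
  refine or_iff_not_imp_left.2 fun k => gen1 ?_
  obtain ⟨x, hx, xn⟩ := SetLike.not_le_iff_exists.1 k
  obtain ⟨k1, h1, k2, h2, e⟩ := dc x xn
  simp only [List.forall_mem_cons, List.not_mem_nil, false_imp_iff, implies_true, and_true]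
  exact ⟨h (by decide +kernel : f 8 ∈ kl), h (by decide +kernel : f 2 ∈ kl),
    e ▸ mul_mem (mul_mem (h h1) hx) (h h2)⟩

theorem mx' {H : Subgroup T} {l x : T} (h : cj l K0 ≤ H) (hx : x ∈ H) (xn : l⁻¹ * x * l ∉ nl) :
    H = ⊤ := by
  rcases mx (cj l⁻¹ H) (by rw [← cj_inv_cj l K0]; exact cj_mono _ h) with k | k
  · exact (xn (k (mem_cj.2 (by simpa [mul_assoc] using hx)))).elim
  · rw [← cj_cj_inv l H, k, cj_top]

theorem iv : ∀ t : T, t * t = 1 → t ≠ 1 → ∃ l, l * f 8 * l⁻¹ = t := by decide +kernel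

theorem c3 : ∀ w : T, w * w * w = 1 → w ≠ 1 → ∃ l, l * f 2 * l⁻¹ = w := by decide +kernel

theorem d2 : ∀ t : T, t * t = 1 → t ≠ 1 → ∃ l, t * (l * t * l⁻¹) * (t * (l * t * l⁻¹)) *
    (t * (l * t * l⁻¹)) = 1 ∧ t * (l * t * l⁻¹) ≠ 1 := by decide +kernel

theorem d4 : ∀ l, l ∉ nl → (∃ t ∈ bl, t ≠ 1 ∧ l⁻¹ * t * l ∈ nl) ∧ (∃ t ∈ bl, l⁻¹ * t * l ∉ nl) ∧
    ∃ t ∈ bl, ∃ u ∈ bl, t * (l * u * l⁻¹) * (t * (l * u * l⁻¹)) * (t * (l * u * l⁻¹)) = 1 ∧
      t * (l * u * l⁻¹) ≠ 1 := by decide +kernel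

theorem ab : ∀ x : T, x ^ 4 = 1 → (x * (f 2 * x * (f 2)⁻¹)) ^ 4 = 1 →
    (x * (f 2 * x * (f 2)⁻¹) * (f 2 * (f 2 * x * (f 2)⁻¹) * (f 2)⁻¹)) ^ 4 = 1 →
    (x * (f 2 * x * (f 2)⁻¹)⁻¹) ^ 4 = 1 → x ∈ cl ∨ x ∈ bl := by decide +kernel

theorem two (S : Subgroup T) (h : IsPGroup 2 S) (hz : f 2 ∈ No S) : S ≤ A0 ∨ S ≤ B0 := by
  have p : ∀ x ∈ S, x ^ 4 = 1 := fun x hx => by
    obtain ⟨k, hk⟩ := h ⟨x, hx⟩
    rcases (by decide +kernel : ∀ x : T, x ^ 4 = 1 ∨ x ^ 21 = 1) x with e | e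
    · exact e
    · have : x = 1 := (pow_eq_one_iff_of_coprime (Nat.Coprime.pow_left k
        (by norm_num : Nat.Coprime 2 21))).1 ⟨congrArg Subtype.val hk, e⟩
      rw [this, one_pow]
  have q : ∀ x ∈ S, x ∈ cl ∨ x ∈ bl := fun x hx =>
    have c := conj_mem_of_mem_normalizer hz hx
    ab x (p x hx) (p _ (mul_mem hx c))
      (p _ (mul_mem (mul_mem hx c) (conj_mem_of_mem_normalizer hz c))) (p _ (mul_mem hx (inv_mem c)))
  by_contra k
  obtain ⟨x, hx, xn⟩ := SetLike.not_le_iff_exists.1 (not_or.1 k).1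
  obtain ⟨y, hy, yn⟩ := SetLike.not_le_iff_exists.1 (not_or.1 k).2
  exact ((by decide +kernel : ∀ x ∈ bl, ∀ y ∈ cl, x * y ∈ cl ∨ x * y ∈ bl → x ∈ cl ∨ y ∈ bl) x
    ((q x hx).resolve_left xn) y ((q y hy).resolve_right yn) (q _ (mul_mem hx hy))).elim xn yn

theorem DA : cj (f 1) A0 ⊔ zpowers (f 148) = D0 := le_antisymm
  (sup_le (fun x hx => (by decide +kernel : ∀ x : T, (f 1)⁻¹ * x * f 1 ∈ cl → x ∈ dl) x
    (mem_cj.1 hx)) (zpowers_le.2 (by decide +kernel : f 148 ∈ dl))) fun x hx => by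
  rcases (by decide +kernel : ∀ x ∈ dl, (f 1)⁻¹ * x * f 1 ∈ cl ∨
    (f 1)⁻¹ * (x * f 148) * f 1 ∈ cl) x hx with k | k
  · exact mem_sup_left (mem_cj.2 k)
  · exact (mul_mem_cancel_right (mem_sup_right (mem_zpowers _))).1 (mem_sup_left (mem_cj.2 k))

theorem cA : Nat.card A0 = 4 := sb_card _ _ (by decide +kernel)
theorem cB : Nat.card B0 = 4 := sb_card _ _ (by decide +kernel)

theorem base : F7 B0 (f 2) where
  simple := have := simpleP; eP.isSimpleGroup
  el := (by decide +kernel : ∀ t ∈ bl, t * t = 1)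
  cz := le_antisymm (fun x hx => by
      rcases (by decide +kernel : ∀ x : T, x * f 2 = f 2 * x → ∃ i ∈ [0, 1, 2], x = f 2 ^ i) x
        (mem_centralizer_singleton_iff.1 hx) with ⟨i, -, rfl⟩
      exact npow_mem_zpowers _ i)
    (zpowers_le.2 (mem_centralizer_singleton_iff.2 rfl))
  idx := by
    have := N0.card_mul_index
    rw [show Nat.card N0 = 24 from sb_card _ _ (by decide +kernel), cardT] at this
    rw [noB]; omega
  max := fun H h => noB ▸ mx H (KB ▸ h)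
  nb := fun x hx => by
    rw [noB] at hx ⊢
    obtain ⟨t, ht, k, i, -, e⟩ := (by decide +kernel : ∀ x ∈ nl, ∃ t ∈ bl, t * x ∈ nl ∧
      ∃ i ∈ [1, 2], t * x * f 2 * (t * x)⁻¹ = f 2 ^ i) x hx
    exact (mul_mem_cancel_left (mem_sup_left ht)).1
      (mem_sup_right ⟨k, H80.FBB2c.norm_of (e ▸ npow_mem_zpowers _ i)⟩)
  inv := fun t t' h h' => by
    obtain ⟨l, rfl⟩ := iv t (o2 h).1 (o2 h).2
    obtain ⟨l', rfl⟩ := iv t' (o2 h').1 (o2 h').2
    exact ⟨l' * l⁻¹, by group⟩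
  c3 := fun w h => c3 w (o3.1 h).1 (o3.1 h).2
  g1 := fun t ht t1 => by
    obtain ⟨l, k⟩ := (by decide +kernel : ∀ t ∈ bl, t ≠ 1 → ∃ l : T, l⁻¹ * t * l ∉ nl) t ht t1
    exact ⟨l, mx' (KB ▸ le_sup_left) (mem_sup_right (mem_zpowers t)) k⟩
  g2 := fun t h => (d2 t (o2 h).1 (o2 h).2).imp fun _ => o3.2
  g3 := fun t h => by
    obtain ⟨k, rfl⟩ := iv t (o2 h).1 (o2 h).2
    refine ⟨k * f 1 * k⁻¹, k * f 3 * k⁻¹, ?_⟩
    rw [← cj_cj_inv k (closure _), gen2 (H := cj k⁻¹ _) ?_, cj_top]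
    simp only [List.forall_mem_cons, List.not_mem_nil, false_imp_iff, implies_true, and_true, mem_cj]
    refine ⟨subset_closure (.inl ?_), subset_closure (.inr (.inl ?_)),
      subset_closure (.inr (.inr ?_))⟩
    · group
    · group
    · rw [Set.mem_singleton_iff]; group
  g4 := fun l hl => by
    rw [noB] at hl
    obtain ⟨⟨t, ht, t1, k1⟩, ⟨u, hu, k2⟩, a, ha, b, hb, k3⟩ := d4 l hl
    rw [nocj, noB, KB]
    exact ⟨mx' le_sup_right (mem_sup_left hu) k2, ⟨t, ht, t1, mem_cj.2 k1⟩,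
      ⟨u, hu, fun k => k2 (mem_cj.1 k)⟩, _, mul_mem (mem_sup_left ha)
        (mem_sup_right (mem_cj.2 (by simpa [mul_assoc] using (show b ∈ B0 from hb)))), o3.2 k3⟩
  line := fun l l' hl hl' => by
    rw [noB] at hl hl'
    obtain ⟨k1, h1, k2, h2, e⟩ := dc l hl
    obtain ⟨k3, h3, k4, h4, e'⟩ := dc l' hl'
    obtain ⟨t, ht, i, -, k⟩ := kd _ (K0.mul_mem (K0.inv_mem h3) h1)
    refine ⟨t, ht, i, ?_⟩
    have n : k2 * k4⁻¹ ∈ No B0 := noB ▸ (by decide +kernel : ∀ x ∈ kl, x ∈ nl) _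
      (K0.mul_mem h2 (K0.inv_mem h4))
    rw [← k, show l' = k3⁻¹ * k1 * l * (k2 * k4⁻¹) by
      calc l' = k3⁻¹ * (k3 * l' * k4) * k4⁻¹ := by group
        _ = _ := by rw [e', ← e]; group, ← cj_cj, cj_eq_self n]
  oth := by
    refine ⟨A0, cA, (sb_no _ _ _).2 (by decide +kernel), gen3 ?_, two, f 1, f 148,
      noB ▸ (by decide +kernel : f 1 ∉ nl), by decide +kernel, by decide +kernel, ?_, ?_⟩
    · simp only [List.forall_mem_cons, List.not_mem_nil, false_imp_iff, implies_true, and_true]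
      exact ⟨mem_sup_left (by decide +kernel : f 15 ∈ cl),
        mem_sup_left (by decide +kernel : f 111 ∈ cl),
        mem_sup_right (by decide +kernel : f 8 ∈ bl), mem_sup_right (by decide +kernel : f 79 ∈ bl)⟩
    · rw [nocj, mem_cj]
      exact (sb_no _ _ _).2 (by decide +kernel)
    have bd : B0 ≤ D0 := (by decide +kernel : ∀ x ∈ bl, x ∈ dl)
    rw [DA, noB]
    refine ⟨sb_card _ _ (by decide +kernel), bd, (by decide +kernel : ∀ x ∈ dl, x ∈ nl),
      (mx _ (KB ▸ sup_le_sup_right (bd.trans le_sup_left) _)).resolve_left fun k => ?_,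
      fun S h => ?_⟩
    · exact (by decide +kernel : f 1 * f 2 * (f 1)⁻¹ ∉ nl)
        (k (mem_sup_left (mem_sup_right (mem_zpowers _))))
    · obtain ⟨n, hn⟩ := h.exists_card_eq
      have d := card_subgroup_dvd_card S
      rw [hn, cardT] at d
      rw [hn]
      exact Nat.pow_le_pow_right (by norm_num) (show n ≤ 3 from not_lt.1 fun k =>
        absurd ((pow_dvd_pow 2 k).trans d) (by norm_num))

theorem inT (B : Subgroup T) (z : T) (c : Nat.card B = 4) (h : orderOf z = 3) (n : z ∈ No B) :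
    F7 B z := by
  obtain ⟨l, rfl⟩ := base.c3 z h
  have c' : Nat.card (cj l⁻¹ B) = 4 := (card_cj _ _).trans c
  have k : F7 (cj l⁻¹ B) (f 2) := by
    rcases two (cj l⁻¹ B) (IsPGroup.of_card (n := 2) c')
      (by rw [nocj, mem_cj]; simpa using n) with k | k
    · rw [eq_of_le_of_card_ge k (by rw [cA, c'])]
      have := F7map au base
      rwa [show au (f 2) = f 2 from (by decide +kernel : al (f 2) = f 2),
        show B0.map (au : T →* T) = A0 from Subgroup.ext fun x => mem_map_equiv.trans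
          ((by decide +kernel : ∀ x, al x ∈ bl ↔ x ∈ cl) x)] at this
    · rw [eq_of_le_of_card_ge k (by rw [cB, c'])]
      exact base
  have := F7map (MulAut.conj l) k
  rwa [show (cj l⁻¹ B).map (MulAut.conj l : T →* T) = B from cj_cj_inv l B] at this

theorem job : JF7 := fun B z c h n => by
  have := F7map eP (inT (B.map (eP.symm : P →* T)) (eP.symm z)
    ((card_map_of_injective eP.symm.injective).trans c) ((MulEquiv.orderOf_eq _ _).trans h)
    (le_normalizer_map _ ⟨z, n, rfl⟩))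
  rwa [map_map, MulEquiv.apply_symm_apply, MulEquiv.coe_monoidHom_comp_coe_monoidHom_symm,
    map_id] at this

end H80.F7
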