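/- Slot F of the tower FE: a point with a single vertex. -/
import Cfsg.Agent.H14.FEKit
import Cfsg.Agent.S1911

set_option autoImplicit false

namespace H80.FEF

open Cfsg Subgroup MulAction H14 H98 H1.Gold H14.GC H14.FE

universe u

theorem jobF : JobF.{u} := by
  intro se1 se2 X _ _ J Ω _ _ _ _ pt B β h a ha
  have hn := h.nor_eq a
  obtain ⟨d0, hd0, i0⟩ := h.exists_inv a
  have ev : Even (Nat.card (B a)) := Nat.not_odd_iff_even.1 fun e => ni_of_odd e d0 hd0 i0
  have k : ∀ g : X, g ∉ nor (B a) → NI (cj g (B a) ⊓ nor (B a)) := fun g hg d hd i => by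
    rw [hn] at hg hd
    rw [← h.B_smul] at hd
    refine hg (ha ?_)
    have e : d • a = a := hd.2
    have := h.fix _ d hd.1 i (pt a) (by rw [← h.pt_smul, e])
    rw [mem_stabilizer_iff, ← h.pt_smul, ← this]
  rcases Cfsg.Agent.S1911.result (B a) ⟨ev, fun g hg => NI.odd fun d hd =>
    k g hg d ⟨hd.2, le_normalizer hd.1⟩⟩ (fun g hg => (k g hg).odd) with N | S
  · exfalso
    have f : ∀ b, b = pt a := fun b => by
      obtain ⟨g, rfl⟩ := h.trans (pt a) b
      have : g ∈ stabilizer X a := by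
        rw [← hn, nor, normalizer_eq_top_iff.2 N]; trivial
      rw [← h.pt_smul, mem_stabilizer_iff.1 this]
    obtain ⟨b, c, e⟩ := h.two
    exact e ((f b).trans (f c).symm)
  · have le : B a ≤ normalClosure (B a : Set X) := le_normalClosure
    obtain ⟨s, hs, t, ht, i1, i2, ne, cm⟩ := (h.big a).four h.bt
    have c := se2 se1 _ _ S ⟨⟨s, le hs⟩, trivial, ⟨t, le ht⟩, trivial,
      ⟨fun e => i1.1 (congrArg Subtype.val e), Subtype.ext i1.2⟩,
      ⟨fun e => i2.1 (congrArg Subtype.val e), Subtype.ext i2.2⟩,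
      fun e => ne (congrArg Subtype.val e), Subtype.ext cm⟩
    intro U hU h2 x hx y hy e
    exact congrArg Subtype.val (c (U.subgroupOf _) le_top (h2.comap_subtype)
      ⟨x, le (hU hx)⟩ hx ⟨y, le (hU hy)⟩ hy (Subtype.ext e))

end H80.FEF
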