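import Cfsg.Agent.H80.KFCo2B
set_option maxRecDepth 1000000
set_option Elab.async false
namespace H80.KFCo2
open H71 H81 H88 H80.KF H43.KF
theorem clT_0 : allZ (clsB 5120 LS [1,11,9,2,0] mT MT) (mapApp [] (prods [AT1, AT2, AT3, AT4]) []) [[3],
  [],
  [0,23,21,22,9,23,21,20,22,16,19,22,22,13,13,17],
  [],
  [1,23,23,22,18,22,20,17,18,21,21,15,12,17,19,15,19],
  [1,22,22,23,21,19,22,9,23,23,17,17,16,21,14,14,15,13],
  [1,22,21,23,20,18,9,19,16,20,16,14,17],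
  [1,9,23,21,23,19,15,18,19,17,14,18,14,12],
  [],
  [],
  [],
  [],
  [],
  [1,22,23,19,19,9,19,21,17,17,15,15,13,19,19,16],
  [],
  [1,9,22,23,19,20,21,23,17,22,22,12,12,14,19],
  [1,22,21,19,19,9,19,19,17,17,19,22,20,12,19,18,17,13],
  [],
  [1,21,23,23,22,19,23,23,15,19,15,22,17,14,18,19,16,18],
  [],
  [],
  [1,22,23,23,21,18,19,20,19,16,19,20,20,12,15,17,17,13],
  [],
  [1,22,23,9,21,23,20,19,9,21,15,21,19,12,12,17,14,12],
  [],
  [],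
  [],
  [],
  [],
  [],
  [],
  [],
  [],
  [],
  [],
  [],
  [],
  [],
  [],
  [],
  [1,23,23,18,9,17,20,19,21,14,15,19,12,16],
  [],
  [1,23,23,23,19,21,19,21,17,15,19,20,14,18,19,12,12],
  [],
  [],
  [1,23,21,23,22,9,18,20,20,17,19,20,12,18,19,15,17],
  [],
  [1,21,23,23,19,19,22,21,16,17,20,17,12,19,18,15,18],
  [1,23,9,21,22,20,9,19,16,22,15,20,14,14,16,12],
  [],
  [1,22,9,21,20,23,19,21,18,16,16,22,17,21,12,18,12,16],
  [],
  [],
  [],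
  [],
  [],
  [1,22,22,22,9,21,18,19,18,21,16,21,17,22,12,14],
  [1,9,23,22,20,9,23,23,16,19,17,17,13,18,19,17,19],
  [1,22,21,20,9,18,20,9,17,20,17,12,18,19,12,18],
  [1,21,22,22,22,19,23,19,20,22,15,17,20,19,14,19,17,15],
  [],
  [1,9,22,9,22,23,19,22,19,22,17,15,14,14,16,19],
  [],
  [1,9,23,18,22,18,22,21,17,17,20,16,17,12,15,14,17],
  [0,9,22,22,23,22,9,16,18,19,21,12,14,17,15,12],
  [],
  [1,23,23,9,20,22,19,9,17,15,21,19,14,14,13,15,18],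
  [],
  [],
  [2,21,22,21,23,23,20,22,9,15,19,17,14,17,12,12,13],
  [],
  [2,9,22,21,23,21,23,20,21,20,17,21,16,16,14],
  [],
  [],
  [],
  [],
  [],
  [],
  [],
  [],
  [],
  [],
  [],
  [],
  [],
  [],
  [],
  [],
  [],
  [],
  [],
  [],
  [],
  [],
  [],
  [],
  [],
  [],
  [],
  [],
  [],
  [],
  [],
  [],
  [],
  [],
  [],
  [],
  [],
  [],
  [],
  [],
  [],
  [],
  [],
  [],
  [],
  [],
  [],
  [],
  [1,9,22,9,19,22,21,22,15,19,18,22,13,16,19,14],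
  [],
  [0,9,22,22,22,9,21,19,22,18,23,17,18,17,21,21,14,17],
  [],
  [],
  [2,23,23,9,22,23,23,18,9,18,17,19,17,22,16,14,17,18,13],
  [],
  [2,9,22,21,23,20,9,23,21,18,17,20,20,15,12,17],
  [],
  [],
  [],
  [],
  [],
  [1,22,22,9,23,23,19,19,19,23,19,16,17,20,13,14,13,12],
  [],
  [1,23,22,21,23,19,9,18,21,16,22,18,14,18,13,16],
  [1,9,23,9,22,22,18,9,20,16,16,20,15,13,15,19,13],
  [],
  [1,9,23,22,23,9,20,23,17,20,20,20,12,19,16,19,13],
  [],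
  [1,23,23,23,9,21,18,9,20,22,17,21,21,17,13,13],
  [1,22,23,23,9,20,9,23,20,17,22,21,16,14,16,15,19],
  [1,23,21,23,21,23,23,20,23,9,16,18,16,12,13,15,17,14],
  [1,19,22,20,19,23,16,18,17,19,12,14,12,19,15],
  [1,23,23,9,21,19,22,21,22,16,15,22,19,14,18,15,18],
  [1,22,21,23,19,23,21,17,20,17,16,19,12,19,13,17],
  [1,9,23,21,23,23,22,9,18,21,22,16,13,14,18,18],
  [1,21,23,19,19,22,23,23,16,17,17,21,14,16,17,12],
  [1,22,21,23,21,22,20,22,23,21,15,19,12,15,16,14],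
  [1,21,22,22,21,20,9,19,23,16,16,21,17,12,17,16,14],
  [1,21,23,23,23,19,23,18,9,15,20,19,15,12,12,12,15,17],
  [1,21,22,20,9,18,20,9,15,16,17,15,12,13,17,14],
  [1,9,23,23,21,18,23,20,20,9,17,20,22,12,17,15,14,13],
  [],
  [1,9,22,23,22,19,18,18,23,20,15,12,17,14,14,15],
  [],
  [],
  [1,21,22,21,23,23,18,21,20,17,18,17,14,17,17,14],
  [],
  [1,22,21,22,20,21,22,23,16,19,16,18,12,12,18,13,12],
  [1,9,23,23,22,22,19,18,22,9,18,15,22,15,14,12,12],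
  [],
  [1,21,22,22,20,20,21,17,17,20,20,18,14,19,13,15],
  [],
  [],
  [1,23,9,22,23,9,21,19,9,23,23,9,15,20,14,18],
  [],
  [1,22,21,23,21,19,22,21,17,21,15,19,12,15,16,18,13],
  [1,9,22,19,18,22,17,20,22,17,18,14,16,16,16,15],
  [1,22,21,23,23,23,9,18,23,9,23,16,19,19,15,12,17,17],
  [1,21,22,19,20,18,22,17,15,15,22,18,13,14,13,16,19],
  [1,23,22,9,22,18,23,20,9,18,15,17,20,12,15,15,15,16],
  [1,23,22,9,21,22,22,15,15,20,13,19,13,13,12],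
  [1,21,22,19,18,9,23,9,15,16,17,13,16,18,19],
  [1,23,9,23,9,19,19,9,19,17,19,17,21,12,12,18,15],
  [1,9,21,23,23,9,20,20,23,15,19,20,20,12,18,19,13,13],
  [1,23,23,21,22,22,18,19,22,19,16,19,18,22,14,18,19,17],
  [1,22,23,23,18,19,19,22,17,18,16,20,18,14,14,19,17,15],
  [1,22,23,9,23,19,9,22,18,23,16,22,18,22,14,14,13],
  [1,9,21,23,19,22,18,16,21,15,17,12,12,18,15,16],
  [],
  [1,23,22,23,21,19,22,20,17,21,21,19,12,15,19,19,18],
  [],
  [1,9,23,21,23,22,21,19,20,18,9,21,15,15,18,15,20],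
  [1,23,23,23,21,22,21,18,21,19,15,16,22,20,13,14,13,12],
  [],
  [1,9,23,9,22,19,18,20,21,22,17,15,15,17,13,12,14],
  [],
  [],
  [],
  [],
  [],
  [1,22,23,23,9,20,22,19,21,18,17,17,18,16,13,17,18,12],
  [],
  [1,23,23,9,22,22,23,18,19,19,16,16,16,15,14,12,14,17,14],
  [],
  [],
  [],
  [],
  [],
  [],
  [],
  [],
  [],
  [1,22,9,22,23,23,20,9,22,16,15,20,18,14,18,17,16],
  [],
  [1,9,21,19,21,22,19,17,15,22,19,12,18,17,14,18],
  [],
  [],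
  [1,23,9,23,19,22,19,18,17,22,18,14,14,16,15,16],
  [],
  [1,22,22,19,19,22,19,20,16,20,18,17,14,16,18,17],
  [1,23,23,21,22,23,18,21,17,17,20,19,14,17,16,15,13],
  [],
  [1,9,23,22,9,20,17,16,15,16,19,14,18,13,14],
  [],
  [],
  [],
  [],
  [],
  [],
  [],
  [],
  [],
  [1,9,21,23,22,21,18,9,22,9,17,18,19,22,14,13,18,19],
  [1,9,21,22,23,20,21,20,23,19,15,22,20,12,12,16,15,19],
  [1,22,23,21,23,23,20,21,20,16,15,17,16,12,14,18,17],
  [1,22,9,23,21,22,19,18,22,20,16,16,16,18,14,15,18,15,16],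
  [1,9,23,23,18,23,20,22,16,15,20,19,12,12,15,16],
  [1,9,23,9,21,19,22,9,16,16,22,21,12,19,15,19,17],
  [1,23,23,21,22,19,20,19,21,22,15,19,17,14,12,17,13,18],
  [1,22,9,23,9,22,9,18,21,20,19,17,22,12,14,19,14,17],
  [1,22,9,21,23,23,18,23,20,21,15,20,18,16,13,15,16,18],
  [],
  [1,23,22,23,19,9,21,19,17,17,18,18,14,15,18,14],
  [],
  [],
  [1,22,23,23,22,19,19,20,18,20,15,16,19,12,16,18,14,13],
  [],
  [1,23,22,9,23,9,21,19,18,17,18,15,16,19,12,13,13],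
  [1,9,23,9,21,22,19,21,23,17,17,22,20,14,18,12,18,18],
  [],
  [1,23,23,22,9,23,23,9,18,17,18,15,20,12,13,16,18,19],
  [],
  [1,21,23,20,23,20,9,20,17,16,16,19,16,14,12,12,14],
  [1,21,23,9,21,20,19,18,21,15,16,20,12,14,17,17,18],
  [1,21,23,23,22,9,20,20,18,9,17,17,21,15,14,19,14],
  [1,9,21,23,22,20,20,18,17,18,18,19,12,14,18,12,17],
  [1,21,23,19,19,23,9,20,15,15,20,20,12,15,16,14,17],
  [1,22,9,21,19,23,18,21,17,22,16,21,22,13,15,18,14],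
  [1,21,22,21,19,19,22,9,16,21,12,19,14,18,16],
  [1,22,23,21,22,19,18,18,23,16,16,19,15,12,16,18,16],
  [1,9,22,22,9,23,21,20,20,20,16,17,16,14,15,15,18,14],
  [],
  [1,22,22,23,20,23,18,20,18,15,16,21,18,18,12,13,17,15,12],
  [],
  [1,22,9,22,23,18,23,18,22,21,17,18,17,20,12,17,13,14],
  [1,9,23,9,21,22,22,23,19,21,22,22,16,15,17,21,12,13,18,15],
  [1,9,22,9,23,21,20,9,19,20,9,12,12,18,15,13],
  [1,22,23,22,23,19,19,19,23,19,16,15,15,21,12,12,16],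
  [1,21,22,22,21,19,20,9,22,19,17,18,20,12,16,12,17,18],
  [],
  [1,23,22,22,18,19,9,17,15,17,14,12,19,15,19],
  [],
  [1,23,23,23,21,22,23,19,21,22,9,15,19,16,12,15,14,18,19],
  [],
  [1,21,23,22,23,21,18,21,19,9,17,16,22,15,13,15,18,19],
  [],
  [],
  [],
  [],
  [],
  [],
  [],
  [],
  [],
  [1,23,21,22,21,19,20,18,18,20,15,20,19,14,13,15],
  [1,9,22,23,9,21,22,18,18,9,20,17,22,12,13,13,12,19],
  [1,23,18,20,18,22,17,12,17,12,17,19],
  [1,23,23,22,21,19,20,23,18,22,15,19,20,20,14,13,17],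
  [],
  [1,23,9,23,23,22,18,18,23,16,16,18,14,12,17,19],
  [],
  [1,21,23,21,20,22,20,23,17,18,15,17,15,14,17,15,17],
  [1,23,22,22,9,23,18,18,18,23,17,17,18,12,14,18,16,19],
  [],
  [1,23,22,23,22,20,23,23,20,16,16,15,17,13,17,12,18],
  [],
  [1,9,21,23,9,22,20,22,22,15,17,21,15,12,15,17,16,14],
  [],
  [1,9,23,23,9,23,19,20,20,18,17,22,16,22,12,18,12,19],
  [],
  [],
  [1,23,9,23,23,20,19,19,15,16,21,18,12,18,18,15,16,15],
  [],
  [1,23,23,21,23,23,21,22,20,17,17,22,20,14,19,13,17,19],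
  [],
  [],
  [],
  [],
  [1,9,22,23,20,9,23,21,18,15,18,16,16,12,18,14,14,12],
  [1,22,23,9,22,18,22,19,9,17,19,21,12,13,14,19,12],
  [1,9,22,9,21,23,21,20,9,15,20,17,17,13,14,16,14],
  [1,9,22,23,23,22,23,22,19,21,18,17,17,15,22,14,17,18,19],
  [1,23,23,23,9,20,18,9,21,15,18,20,22,13,18,13,17,15],
  [1,23,9,22,23,23,9,19,18,20,15,16,20,18,13,13,12],
  [1,23,23,21,19,23,9,21,16,17,19,16,12,17,13,18],
  [1,23,23,9,21,22,21,19,22,20,19,21,17,19,17,14,14,13],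
  [1,9,23,22,21,23,19,19,18,20,22,17,17,22,20,13,13,12,15],
  [],
  [1,23,22,23,21,23,18,23,17,17,16,21,19,13,17,13,16],
  [],
  [1,21,23,21,23,20,18,19,21,20,17,19,21,16,14,18,14,12,15],
  [],
  [1,9,23,9,23,23,9,19,19,20,17,19,18,12,16,14,12,19],
  [],
  [],
  [],
  [],
  [],
  [2,9,21,22,9,19,19,19,23,19,17,20,18,20,14,12,13,17],
  [],
  [2,9,22,23,22,21,22,21,18,18,16,19,17,12,15,13],
  [],
  [],
  [],
  [],
  [],
  [],
  [],
  [],
  [],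
  [],
  [],
  [],
  [],
  [],
  [2,18,18,23,18,17,17,17,22,15,14,12,19,18,18],
  [],
  [2,22,23,23,9,19,22,9,18,21,15,17,20,20,13,17,17,19],
  [],
  [],
  [],
  [],
  [],
  [],
  [],
  [],
  [],
  [],
  [],
  [],
  [],
  [2,22,9,23,19,18,18,23,17,16,18,16,16,12,19,18,15,17],
  [],
  [2,21,22,21,23,22,19,23,15,16,22,20,14,15,12],
  [],
  [],
  [],
  [],
  [],
  [],
  [],
  [],
  [],
  [],
  [],
  [],
  [],
  [],
  [],
  [],
  [],
  [],
  [],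
  [],
  [2,21,22,21,20,21,18,18,19,17,20,22,14,16,15,14,19],
  [],
  [2,21,23,21,22,19,20,20,22,18,17,19,21,14,16,16,16,15],
  [],
  [],
  [],
  [],
  [],
  [2,9,22,23,19,19,19,18,9,15,17,16,13,19,17,16],
  [],
  [2,9,23,22,9,21,23,18,19,19,19,15,19,18,14,15,16,12],
  [],
  [],
  [],
  [],
  [],
  [],
  [],
  [],
  [],
  [],
  [],
  [],
  [],
  [],
  [],
  [],
  [],
  [],
  [],
  [],
  [],
  [],
  [],
  [],
  [],
  [2,23,21,23,23,21,19,19,9,19,18,16,15,16,20],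
  [],
  [2,23,23,23,20,20,18,21,17,22,21,22,14,16,14,18],
  [],
  [],
  [],
  [],
  [],
  [],
  [],
  [],
  [],
  [],
  [],
  [],
  [],
  [2,22,23,9,19,9,19,18,15,22,15,21,12,15,19,18,12,16],
  [],
  [2,23,22,22,18,19,19,20,17,15,19,18,12,13,14,14,18],
  [],
  [],
  [],
  [],
  [],
  [],
  [],
  [],
  [],
  [2,23,22,23,23,21,18,19,23,17,20,20,12,15,18,19,16],
  [],
  [2,22,23,21,23,22,19,19,22,19,17,16,19,16,20,12,15,14],
  [],
  [],
  [],
  [],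
  [],
  [],
  [2,22,23,21,22,21,18,22,22,16,19,19,20,12,16,16,13],
  [],
  [2,9,22,22,23,23,21,22,20,9,15,16,22,19,14,17,17,16],
  [0,9,22,9,22,22,23,19,20,17,17,22,22,16,14,13,17,17],
  [],
  [1,22,21,22,19,9,23,23,16,16,20,18,12,13,16,17,19],
  [],
  [],
  [],
  [],
  [],
  [],
  [],
  [],
  [],
  [],
  [],
  [],
  [],
  [],
  [],
  [],
  [],
  [],
  [],
  [],
  [],
  [],
  [],
  [],
  [],
  [],
  [],
  [],
  [],
  [],
  [],
  [],
  [],
  [],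
  [],
  [],
  [],
  [],
  [],
  [],
  [],
  [],
  [],
  [],
  [],
  [],
  [],
  [],
  [],
  [],
  [2,23,9,22,20,9,20,9,17,19,20,21,17,14,12,14,16],
  [],
  [2,9,23,22,21,23,21,20,22,17,20,15,16,12,12,13,13,15],
  [1,21,23,9,21,19,9,20,9,21,16,21,16,15,21,12,19,14],
  [],
  [0,22,22,21,19,23,9,15,15,19,20,12,14,15,19],
  [],
  [],
  [],
  [],
  [],
  [1,9,22,9,22,23,19,23,19,15,15,18,17,12,19,18,14,12],
  [],
  [1,23,22,22,19,22,21,18,23,15,16,19,16,14,14,18],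
  [],
  [1,23,9,23,23,20,19,23,9,16,15,16,19,12,18,15,12],
  [],
  [1,23,9,20,19,18,23,23,17,19,17,22,17,13,19,14,12],
  [],
  [],
  [],
  [],
  [],
  [],
  [],
  [],
  [],
  [],
  [],
  [],
  [],
  [1,9,23,22,21,23,23,20,18,23,18,15,22,21,22,14,15],
  [],
  [1,23,23,21,19,19,19,21,16,21,22,18,14,19,16,19,15],
  [],
  [],
  [1,23,9,21,22,19,19,20,22,17,21,15,12,18,19,12],
  [],
  [1,23,23,9,19,23,23,18,17,22,17,18,12,14,12,19,14],
  [],
  [1,22,23,23,22,19,18,20,15,16,19,16,12,19,16,18,17],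
  [],
  [1,22,9,22,23,20,22,20,17,21,22,17,20,14,12,12,12,17],
  [1,9,23,9,23,9,19,20,20,9,15,16,16,19,12,18,18,14],
  [],
  [1,21,22,23,20,20,19,21,17,15,18,16,12,15,13,16,13],
  [],
  [1,22,23,18,9,18,21,17,19,20,17,17,12,16,13,13],
  [1,9,23,23,9,21,19,22,19,21,17,22,21,20,19,13,19,14],
  [1,23,23,9,22,23,9,20,9,17,18,17,21,20,14,17,13],
  [1,21,23,21,19,9,22,9,15,15,18,12,12,19,19,15],
  [1,21,23,20,19,18,23,17,17,20,20,18,14,18,13,12,16],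
  [1,22,21,22,23,21,18,22,19,21,15,17,19,14,12,19,12],
  [1,22,21,23,21,19,18,20,16,18,17,14,13,15,18,16],
  [1,21,23,9,21,19,9,21,20,16,15,20,14,19,18,18],
  [1,9,22,22,23,21,18,21,19,18,16,15,17,14,13,19,12,18],
  [1,9,22,21,22,19,20,20,19,19,17,21,22,22,13,14,15,14],
  [1,23,23,22,9,23,18,18,16,17,19,16,12,12,19,12,18],
  [1,21,23,9,19,20,22,21,20,22,16,17,15,17,12,17,19,17],
  [1,22,9,23,9,18,23,21,22,17,17,19,15,13,18,16,19],
  [],
  [1,22,23,22,23,19,18,18,19,15,21,18,13,15,13],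
  [],
  [1,22,23,9,22,22,18,19,18,20,15,17,20,12,14,15,14,12],
  [],
  [1,23,23,21,23,19,21,19,19,15,20,22,12,15,19,12,13],
  [],
  [1,9,22,9,23,21,19,19,18,21,16,18,15,15,22,13],
  [1,9,20,22,22,9,17,22,19,21,12,13,18,14,14],
  [1,23,22,21,19,9,23,18,19,17,16,16,22,17,14,15,18,16],
  [1,23,9,23,21,18,23,21,16,18,15,17,20,12,14,13,15,14],
  [],
  [1,9,22,22,9,23,20,19,22,19,17,16,18,20,13,12,16,12],
  [],
  [1,23,23,19,19,21,20,20,16,15,19,21,13,16,19,19,16],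
  [],
  [],
  [],
  [],
  [],
  [],
  [],
  [],
  [1,9,22,22,19,23,23,18,16,21,19,19,14,12,12,19,16],
  [],
  [1,9,22,22,20,23,19,18,20,15,21,21,12,16,19,19,15],
  [],
  [],
  [1,22,9,21,20,23,23,17,17,16,22,12,14,17,12,17],
  [],
  [1,9,21,22,21,20,21,22,17,21,17,18,13,12,12,12,17],
  [],
  [1,23,22,23,19,23,19,21,16,18,14,13,13,17,19],
  [],
  [1,9,22,21,20,22,22,9,17,21,15,17,14,16,18,18],
  [1,23,9,22,23,22,23,20,9,17,22,18,17,19,14,17,14,15],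
  [1,23,23,22,19,20,18,19,15,20,21,20,17,13,13,14,13],
  [1,22,21,22,23,22,21,18,23,9,17,16,19,18,16,12],
  [1,21,22,22,23,19,18,20,9,20,17,18,16,22,12,12,19,16,18],
  [1,9,23,23,23,20,18,19,21,23,17,18,21,21,13,18,13,13],
  [1,23,21,19,23,20,20,23,15,19,18,19,21,13,17,13,14],
  [1,22,21,22,20,23,20,18,16,16,15,17,13,16,13,15],
  [1,22,21,23,21,18,21,18,18,19,17,18,17,18,17,13,13,12,13],
  [],
  [],
  [],
  [],
  [],
  [],
  [],
  [],
  [],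
  [1,23,23,22,22,22,18,20,21,23,17,17,21,19,12,15,16,16],
  [],
  [1,23,9,21,22,20,19,18,9,18,16,21,18,20,14,17,13],
  [],
  [1,21,22,21,23,21,19,22,18,9,15,17,20,12,19,18,14,13],
  [],
  [1,9,23,9,19,22,22,20,19,17,18,20,22,15,14,19,14,13],
  [1,9,21,20,18,18,15,20,16,21,13,19,16,14,15],
  [],
  [1,9,22,23,21,19,20,18,20,17,21,15,13,12],
  [],
  [1,9,21,22,22,23,19,22,20,16,18,18,16,16,14,18,14],
  [1,23,21,23,22,19,19,18,21,18,17,22,15,16,12,12,17,12,16],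
  [1,22,23,23,9,20,18,9,21,15,16,22,17,12,18,12,14,13],
  [1,21,22,22,19,20,20,9,21,15,18,22,12,18,15,15,16],
  [1,23,23,22,22,22,9,19,20,23,21,15,17,22,20,13,18,19],
  [1,9,22,23,19,19,21,18,23,15,20,20,22,13,19,16,12],
  [1,23,23,23,20,18,21,22,22,16,15,18,16,13,12,14,16,12],
  [1,23,22,23,21,23,18,20,22,19,16,18,18,13,13,13],
  [],
  [1,23,9,22,22,18,19,23,23,22,15,15,15,17,13,17,15,16],
  [],
  [1,9,23,22,18,19,20,22,16,20,20,12,14,14,16,14],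
  [1,9,23,19,19,20,18,16,22,19,12,17,13,14,17],
  [1,22,9,23,21,22,18,9,20,23,17,16,19,22,15,12,17,19],
  [1,9,23,21,18,22,22,17,21,19,20,16,14,19,19,19],
  [1,23,22,22,22,20,18,22,20,17,21,19,22,13,17,13,14],
  [],
  [1,9,21,23,21,18,20,18,18,17,20,17,21,14,19,18,16],
  [],
  [1,23,22,22,9,20,18,19,19,21,17,21,21,21,14,18,13,12],
  [1,22,23,9,21,23,20,19,9,20,15,18,18,17,14,18,18],
  [],
  [1,9,21,22,21,18,23,19,23,17,16,16,22,22,14,18,14,18,14],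
  [],
  [1,9,22,9,23,9,20,21,19,19,16,17,17,19,14,14,15,15],
  [1,21,23,9,20,19,19,9,15,16,20,18,12,12,18,14,16],
  [1,9,23,23,22,22,20,18,20,17,21,19,18,12,17,19,16,19],
  [1,23,22,9,23,9,23,20,21,22,22,17,21,21,15,14,12,12,17],
  [1,21,23,23,19,23,20,19,18,17,17,16,21,16,14,19,17,16,17],
  [1,21,22,22,23,19,22,22,17,17,20,12,12,17,16,18],
  [1,9,22,21,22,19,21,19,20,15,19,18,19,12,16,14,19,19],
  [1,9,23,21,19,9,18,18,16,20,20,15,12,18,18,14,18],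
  [],
  [],
  [],
  [],
  [],
  [1,9,23,23,18,21,20,19,17,16,21,21,22,14,12,19],
  [],
  [1,9,22,9,22,21,19,19,17,18,19,19,12,12,18,17,17],
  [1,23,23,23,22,19,19,23,19,20,16,17,22,12,13,12,18,13],
  [],
  [1,23,23,9,22,23,23,20,9,18,17,15,20,19,14,16,16,19],
  [],
  [],
  [1,22,9,23,21,22,20,18,23,9,17,17,21,12,17,12,15,19],
  [],
  [1,22,9,21,19,9,20,16,17,18,16,20,14,19,14,15,12],
  [1,9,23,9,23,20,9,15,18,17,19,14,13,18,19,18],
  [],
  [1,21,23,22,19,18,18,20,19,16,20,18,16,12,19,15,19,12],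
  [],
  [],
  [],
  [],
  [],
  [1,9,21,20,23,9,22,17,17,20,15,18,14,19,17,12],
  [1,21,22,23,22,9,19,19,21,17,22,19,21,13,14,14,14],
  [1,22,21,22,19,19,19,9,22,16,22,19,14,16,15,16],
  [1,9,23,23,20,19,21,23,16,21,19,22,12,15,13,14,13],
  [1,9,21,23,20,18,9,20,23,15,19,15,20,12,19,16,15],
  [1,9,20,9,20,16,15,15,20,21,12,19,12,15,15],
  [1,9,23,9,21,23,23,19,22,22,15,16,17,13,12,15,18],
  [1,22,23,21,23,18,19,18,9,17,18,15,20,15,12,18,14,13],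
  [],
  [1,23,20,20,18,16,21,17,20,14,17,16,12],
  [],
  [1,23,22,21,20,22,23,22,15,18,22,18,12,16,18,15,14],
  [1,9,23,23,22,20,23,19,16,16,20,21,14,12,14,13],
  [],
  [1,9,23,21,19,9,22,21,22,15,22,19,16,13,14,17],
  [],
  [1,22,22,22,19,22,20,22,20,16,22,22,12,12,18,17,14],
  [1,23,22,19,23,23,18,23,16,17,18,16,12,17,12,16,16],
  [1,9,21,23,22,19,21,22,23,9,16,21,19,15,14,19],
  [1,23,9,21,23,23,20,20,23,22,9,15,13,17,18,12],
  [2,23,9,18,18,18,15,17,20,19,12,19,19,12,12],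
  [],
  [2,22,9,22,23,21,20,22,22,22,17,18,19,19,13,13,15,13],
  [],
  [],
  [2,9,22,23,21,23,19,19,20,15,18,17,17,13,16,12,18],
  [],
  [2,21,22,19,22,23,19,18,16,15,18,17,12,14,15,18],
  [],
  [],
  [],
  [],
  [],
  [],
  [],
  [],
  [],
  [2,21,23,23,21,22,18,23,16,18,20,21,12,13,17,14,15],
  [],
  [2,22,9,21,23,22,18,18,9,17,15,19,19,14,15,16,14],
  [],
  [],
  [],
  [],
  [],
  [],
  [],
  [],
  [2,9,21,22,23,9,23,23,19,20,16,18,22,12,17,17,13,19],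
  [],
  [2,23,22,9,21,19,20,21,22,17,17,17,16,17,12,12,18],
  [],
  [],
  [2,23,22,9,23,23,19,22,23,9,16,21,18,20,12,17,17,18],
  [],
  [2,21,22,23,19,22,17,15,22,20,14,12,16,17,15],
  [],
  [],
  [],
  [],
  [],
  [],
  [],
  [],
  [2,23,9,21,23,23,20,22,19,16,16,21,18,12,18,12,15],
  [],
  [2,23,22,23,23,20,21,18,9,17,18,22,16,14,12,15,16,12],
  [],
  [],
  [],
  [],
  [],
  [],
  [],
  [],
  [],
  [2,9,21,23,21,19,17,16,19,15,18,12,18,13,18,14],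
  [],
  [2,19,23,23,19,19,15,17,16,18,14,19,15,18],
  [],
  [],
  [2,9,21,22,23,23,21,19,21,22,18,23,15,18,15,14,18],
  [],
  [2,9,23,22,21,22,21,23,20,19,18,9,17,15,13,18,19,12],
  [],
  [],
  [],
  [],
  [2,9,23,19,20,20,18,17,18,21,17,20,12,12,13,18,18,18],
  [],
  [2,23,21,23,9,21,19,9,22,9,22,15,18,21,22,13,19,17,16],
  [],
  [],
  [],
  [],
  [],
  [],
  [],
  [],
  [],
  [],
  [],
  [],
  [],
  [],
  [],
  [],
  [],
  [],
  [],
  [],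
  [],
  [],
  [2,23,23,23,19,22,18,21,22,16,18,20,12,19,16,19],
  [],
  [2,23,23,23,22,22,20,22,20,17,20,15,16,14,17,14,16],
  [],
  [],
  [],
  [],
  [],
  [],
  [],
  [],
  [],
  [],
  [],
  [],
  [],
  [2,9,22,23,9,20,19,18,17,16,17,21,18,14,18,19,16,18],
  [],
  [2,23,22,23,9,19,23,21,22,15,12,17,19,14,13],
  [],
  [],
  [],
  [],
  [],
  [],
  [],
  [],
  [],
  [],
  [],
  [],
  [2,9,22,22,19,19,20,20,20,16,15,17,21,13,12,15,14,16],
  [],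
  [2,21,22,9,21,19,20,19,22,18,15,21,18,12,16,13],
  [],
  [],
  [],
  [],
  [],
  [2,21,23,22,21,23,19,17,20,15,20,12,15,12,16],
  [],
  [2,23,23,21,23,22,9,23,20,19,22,16,18,16,17,13,18,17],
  [],
  [],
  [],
  [],
  [],
  [],
  [],
  [],
  [],
  [2,22,22,9,20,19,21,23,15,22,17,12,12,17,16,17,13],
  [],
  [2,22,22,23,22,9,18,23,19,18,16,16,15,13,15,12,13],
  [],
  [],
  [],
  [],
  [],
  [],
  [],
  [],
  [],
  [],
  [],
  [],
  [],
  [2,23,22,9,22,19,20,22,9,15,21,16,14,19,19,19,16],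
  [],
  [2,21,23,19,20,20,22,9,17,18,21,20,12,13,17,15,14],
  [],
  [],
  [],
  [],
  [],
  [],
  [],
  [],
  [],
  [],
  [],
  [],
  [],
  [],
  [],
  [],
  [],
  [],
  [],
  [],
  [],
  [],
  [],
  [],
  [],
  [2,9,21,23,23,22,19,9,23,23,17,18,15,12,19,19,19,17],
  [],
  [2,22,22,21,20,22,20,16,16,19,22,13,13,18,19],
  [],
  [],
  [1,23,21,23,19,9,21,19,17,19,20,19,17,14,13,14],
  [],
  [1,23,22,21,18,21,22,16,16,17,18,19,14,12],
  [1,23,20,23,19,22,20,17,17,16,20,15,12,16,15,16,14],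
  [1,9,23,21,22,22,23,20,19,18,16,16,20,14,19,13,16],
  [1,22,23,22,23,18,9,20,9,17,18,20,21,14,14,14,16],
  [1,9,21,23,22,20,22,23,19,17,16,20,17,14,15,14,18],
  [],
  [],
  [],
  [],
  [],
  [1,22,23,19,19,23,22,20,15,17,16,15,13,14,19,17],
  [],
  [1,23,23,9,21,20,23,18,22,16,18,20,22,12,12,16,18,13],
  [1,22,23,20,9,22,18,16,19,18,19,12,12,16],
  [],
  [1,22,21,23,23,20,20,21,17,16,18,20,12,14,16,12,14],
  [],
  [1,23,9,22,22,23,19,21,20,16,19,22,13,12,17,17,13],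
  [],
  [1,9,19,18,20,22,21,17,21,21,16,22,12,15,12,19],
  [],
  [1,23,9,22,22,9,19,21,22,23,21,14,15,19,19,13],
  [1,9,23,9,19,23,21,20,21,15,22,22,15,13,14,18,13],
  [1,9,22,23,21,23,23,23,19,20,21,17,17,20,19,13,13,18,18],
  [1,22,21,22,18,19,23,17,18,18,19,12,17,14,14],
  [1,22,22,21,18,19,23,23,22,15,19,21,20,12,17,19,14],
  [1,9,22,22,21,19,23,19,18,17,15,15,17,12,15,17,14],
  [1,23,23,19,20,19,18,17,17,21,16,17,13,13,15,16],
  [1,23,23,23,18,23,18,22,19,17,22,17,13,16,13,16,14],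
  [1,9,23,21,19,9,19,20,9,15,22,17,19,13,13,18,14,12],
  [1,22,22,21,23,20,18,21,19,15,18,22,12,15,17,12,13],
  [1,9,22,23,9,22,18,21,16,19,21,16,12,17,17,16,16],
  [1,9,23,21,22,21,23,20,18,23,9,15,19,16,14,12,12,14],
  [1,23,22,23,9,23,21,20,22,23,15,22,21,17,14,16,15,12],
  [1,20,22,20,21,17,18,16,21,18,12,13,12,13,17],
  [1,23,22,19,18,18,22,20,16,19,22,16,12,19,14,15,12],
  [1,23,23,23,21,22,22,23,19,9,15,17,19,20,14,14],
  [],
  [1,21,23,21,23,21,22,19,18,16,18,18,17,14,14,18],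
  [],
  [1,22,9,19,19,18,22,19,17,15,17,20,20,12,14,13,17,17],
  [],
  [1,21,22,22,22,19,19,21,20,22,17,19,15,16,12,18,15,15],
  [],
  [1,22,21,22,21,19,20,22,23,16,17,17,19,20,14,17,19,19],
  [1,23,23,23,22,19,9,20,23,22,16,16,22,16,16,13,18],
  [],
  [1,21,23,9,22,19,18,20,20,16,16,15,22,22,12],
  [],
  [],
  [],
  [],
  [],
  [1,22,23,9,23,23,21,18,9,18,15,19,12,12,19,19,15],
  [1,23,9,23,9,22,9,20,18,19,19,21,15,22,15,14,18,17,19],
  [1,22,23,23,22,19,9,23,22,16,15,21,14,12,13,16,18],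
  [1,9,23,23,9,22,22,19,23,19,15,15,16,22,13,12,18,17],
  [1,22,9,22,23,19,19,22,18,22,16,17,22,12,19,14,13,17],
  [],
  [1,9,21,19,23,20,20,21,17,16,15,20,17,12,16,12,12,14],
  [],
  [],
  [2,9,23,21,23,23,22,19,22,16,17,22,18,13,18,12,13],
  [],
  [2,22,23,19,18,21,22,22,15,17,21,16,14,15,18,18,14],
  [2,21,22,23,19,21,19,21,20,17,17,21,18,18,12,12,19,15],
  [],
  [2,9,23,22,23,22,9,18,18,23,9,17,22,21,13,13,18,12],
  [],
  [],
  [],
  [],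
  [],
  [],
  [],
  [],
  [],
  [2,22,21,22,23,21,20,23,20,22,22,15,15,21,15,12,17,12],
  [],
  [2,21,22,23,9,20,23,19,18,15,18,16,14,16,14,16],
  [],
  [],
  [],
  [],
  [],
  [],
  [],
  [],
  [],
  [],
  [2,23,21,22,21,23,19,9,23,22,21,16,22,19,15,12,16,18,17],
  [],
  [2,21,23,23,22,19,22,17,17,18,16,19,14,13,19,17],
  [2,9,22,23,21,23,18,21,17,15,16,17,14,13,17,12],
  [],
  [2,9,22,21,19,19,23,21,23,16,15,15,16,15,14,18,15,13],
  [],
  [],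
  [],
  [],
  [],
  [],
  [],
  [],
  [],
  [],
  [2,23,9,22,23,20,20,16,15,18,18,20,14,12,16,15],
  [],
  [2,21,23,9,19,20,19,18,23,15,19,16,20,12,13,18,15,14],
  [],
  [],
  [],
  [],
  [],
  [],
  [],
  [],
  [],
  [2,22,22,21,18,23,9,23,17,20,17,15,19,12,17,12,12],
  [],
  [2,22,22,21,19,21,18,21,19,15,18,17,20,12,16,13],
  [2,22,9,21,23,23,18,23,9,21,17,22,12,14,17,18,12],
  [],
  [2,23,9,22,20,18,9,19,22,15,17,22,20,12,17,17,15,14],
  [],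
  [],
  [],
  [],
  [],
  [],
  [],
  [],
  [],
  [],
  [],
  [],
  [],
  [],
  [],
  [],
  [],
  [],
  [],
  [],
  [],
  [],
  [],
  [],
  [],
  [],
  [],
  [],
  [],
  [1,21,22,22,22,19,22,23,16,18,17,18,12,18,14,12,18],
  [],
  [2,21,23,23,23,19,19,21,20,23,17,21,21,20,14,17,14,17],
  [],
  [],
  [],
  [],
  [],
  [],
  [],
  [],
  [],
  [],
  [],
  [],
  [],
  [2,9,23,22,9,18,23,20,17,21,20,20,20,12,12,13,17],
  [],
  [1,21,22,21,23,20,20,21,19,17,20,18,18,18,14,17,16,16],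
  [],
  [],
  [],
  [],
  [],
  [],
  [],
  [],
  [],
  [],
  [],
  [],
  [],
  [],
  [],
  [],
  [],
  [],
  [],
  [],
  [],
  [],
  [],
  [],
  [],
  [],
  [],
  [],
  [],
  [],
  [],
  [],
  [],
  [],
  [],
  [],
  [],
  [],
  [],
  [],
  [],
  [],
  [],
  [],
  [],
  [0,9,22,23,20,9,19,17,21,22,20,15,14,17,17,16,14],
  [],
  [2,9,23,21,19,22,18,21,22,17,16,17,14,12,12,17,14],
  [],
  [],
  [],
  [],
  [],
  [],
  [],
  [],
  [],
  [],
  [],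
  [],
  [],
  [2,9,21,22,18,9,22,23,16,18,17,20,12,14,17,15,17],
  [],
  [0,22,23,21,20,17,17,18,19,16,12,14,17,17],
  [],
  [],
  [],
  [],
  [],
  [],
  [],
  [],
  [],
  [],
  [],
  [],
  [],
  [],
  [],
  [],
  [],
  [],
  [2,9,23,22,19,21,22,18,23,17,20,18,15,13,15,12,12],
  [],
  [1,22,21,22,19,9,21,22,23,15,18,18,18,12,14,12,12],
  [],
  [],
  [],
  [],
  [],
  [],
  [],
  [],
  [],
  [],
  [],
  [],
  [],
  [],
  [],
  [],
  [],
  [],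
  [],
  [],
  [],
  [],
  [],
  [],
  [],
  [],
  [],
  [],
  [],
  [],
  [],
  [],
  [],
  [],
  [],
  [],
  [],
  [],
  [],
  [],
  [],
  [],
  [],
  [],
  [],
  [],
  [],
  [],
  [],
  [],
  [],
  [],
  [],
  [1,22,21,18,22,18,16,17,17,17,20,12,19,18,16,19],
  [],
  [2,9,23,23,23,21,22,19,16,22,21,20,12,17,17,12,17],
  [],
  [],
  [],
  [],
  [],
  [],
  [],
  [],
  [],
  [],
  [],
  [],
  [],
  [],
  [],
  [],
  [],
  [],
  [],
  [],
  [],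
  [],
  [],
  [],
  [],
  [],
  [],
  [],
  [],
  [],
  [],
  [],
  [2,9,22,22,9,21,20,22,21,15,16,20,18,12,14,12,18],
  [],
  [1,22,9,23,21,20,22,9,19,16,19,22,16,14,17,16,16,15],
  [],
  [],
  [],
  [],
  [],
  [],
  [],
  [],
  [],
  [],
  [],
  [],
  [],
  [1,23,22,23,21,22,22,19,23,20,18,16,21,19,13,13,17,16],
  [],
  [2,21,23,19,18,20,19,22,15,16,21,17,19,14,18,12,12],
  [],
  [],
  [],
  [],
  [],
  [],
  [],
  [],
  [],
  [],
  [],
  [],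
  [],
  [],
  [],
  [],
  [],
  [],
  [],
  [],
  [],
  [],
  [],
  [],
  [],
  [],
  [],
  [],
  [],
  [],
  [],
  [],
  [],
  [],
  [],
  [],
  [],
  [],
  [],
  [],
  [],
  [],
  [],
  [],
  [],
  [2,21,22,9,21,19,22,22,19,9,16,21,12,16,16,19,17],
  [],
  [1,9,23,9,22,22,19,20,19,23,18,16,22,17,16,14],
  [],
  [],
  [],
  [],
  [],
  [],
  [],
  [],
  [],
  [],
  [],
  [],
  [],
  [2,23,22,21,18,22,22,22,17,15,22,15,12,18,19,16,18],
  [],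
  [1,9,22,22,9,23,22,9,20,9,17,17,18,20,18,12,13,18,14],
  [],
  [],
  [],
  [],
  [],
  [],
  [],
  [],
  [],
  [],
  [],
  [],
  [],
  [],
  [],
  [],
  [],
  [],
  [],
  [],
  [],
  [],
  [],
  [],
  [],
  [],
  [],
  [],
  [],
  [],
  [],
  [],
  [],
  [],
  [],
  [],
  [],
  [],
  [],
  [],
  [],
  [],
  [],
  [],
  [],
  [0,9,23,23,22,19,21,20,15,21,21,19,13,19,13,13,17],
  [],
  [2,23,21,22,9,22,20,18,16,15,20,14,17,13,19,12],
  [],
  [],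
  [],
  [],
  [],
  [],
  [],
  [],
  [],
  [],
  [],
  [],
  [],
  [2,9,23,18,20,22,23,17,22,19,17,17,12,15,15,19,14],
  [],
  [0,23,22,23,21,23,23,20,23,19,17,18,20,16,20,13,17,12],
  [],
  [],
  [],
  [],
  [],
  [],
  [],
  [],
  [],
  [],
  [],
  [],
  [],
  [],
  [],
  [],
  [],
  [],
  [],
  [],
  [],
  [],
  [],
  [],
  [],
  [],
  [],
  [],
  [],
  [],
  [],
  [],
  [],
  [],
  [],
  [],
  [],
  [],
  [],
  [],
  [],
  [],
  [],
  [],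
  [],
  [2,23,22,9,23,21,22,18,23,19,23,17,18,18,17,20,14,13],
  [],
  [0,23,22,19,9,18,19,19,17,15,16,19,17,12,15,17,17,14],
  [],
  [],
  [],
  [],
  [],
  [],
  [],
  [],
  [],
  [],
  [],
  [],
  [],
  [2,23,23,19,22,20,19,18,16,20,16,13,12,18,19,13],
  [],
  [0,9,23,23,21,23,22,20,19,19,20,16,22,21,17,12,14,18],
  [],
  [],
  [],
  [],
  [],
  [],
  [],
  [],
  [],
  [],
  [],
  [],
  [],
  [],
  [],
  [],
  [],
  [],
  [],
  [],
  [],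
  [],
  [],
  [],
  [],
  [],
  [],
  [],
  [],
  [],
  [],
  [],
  [],
  [2,9,21,22,9,23,20,21,18,17,18,17,21,12,16,13,19],
  [],
  [0,22,23,21,22,23,20,21,19,9,16,19,17,18,17,14,16,17,12],
  [],
  [],
  [],
  [],
  [],
  [],
  [],
  [],
  [],
  [],
  [],
  [],
  [],
  [2,23,23,23,21,19,22,18,19,15,22,22,12,19,17,18,14],
  [],
  [0,21,23,22,9,22,9,20,22,17,20,18,19,17,14,19,19,17],
  [],
  [],
  [],
  [],
  [],
  [],
  [],
  [],
  [],
  [],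
  [],
  [],
  [],
  [],
  [],
  [],
  [],
  [],
  [],
  [],
  [],
  [],
  [],
  [],
  [],
  [],
  [],
  [],
  [],
  [],
  [2,22,9,22,23,21,19,18,22,9,16,21,12,16,12,17,15],
  [],
  [1,9,23,9,19,19,9,22,9,17,20,20,21,14,12,14,13],
  [],
  [],
  [],
  [],
  [],
  [],
  [],
  [],
  [],
  [],
  [],
  [],
  [],
  [],
  [],
  [],
  [],
  [],
  [],
  [],
  [],
  [],
  [],
  [],
  [],
  [],
  [],
  [],
  [],
  [],
  [],
  [],
  [],
  [],
  [],
  [],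
  [],
  [],
  [],
  [],
  [],
  [],
  [],
  [],
  [],
  [],
  [],
  [],
  [],
  [],
  [],
  [],
  [],
  [1,22,9,21,19,22,23,23,17,19,22,18,14,12,14,15],
  [],
  [2,23,23,22,21,22,21,20,16,22,15,21,14,18,15,13,12],
  [],
  [],
  [],
  [],
  [],
  [2,22,21,20,18,19,9,17,17,20,19,15,12,13,19,13,14],
  [],
  [1,23,23,23,22,21,19,20,22,9,17,19,20,18,13,17,12,18],
  [],
  [],
  [],
  [],
  [],
  [],
  [],
  [],
  [],
  [],
  [],
  [],
  [],
  [],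
  [],
  [],
  [],
  [],
  [],
  [],
  [],
  [],
  [],
  [],
  [],
  [],
  [],
  [],
  [],
  [],
  [],
  [],
  [],
  [],
  [],
  [],
  [],
  [],
  [],
  [],
  [],
  [],
  [],
  [],
  [],
  [],
  [],
  [],
  [],
  [],
  [],
  [],
  [],
  [2,23,9,21,22,22,20,23,21,15,18,22,22,13,12,19,16],
  [],
  [1,9,22,9,22,22,22,19,20,17,15,17,15,12,13,16,12,12],
  [],
  [],
  [],
  [],
  [],
  [],
  [],
  [],
  [],
  [],
  [],
  [],
  [],
  [],
  [],
  [],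
  [],
  [],
  [],
  [],
  [],
  [],
  [],
  [],
  [],
  [],
  [],
  [],
  [],
  [],
  [],
  [],
  [1,23,9,21,22,22,21,20,18,19,23,16,16,17,12,19,15,18],
  [],
  [2,9,23,23,9,19,19,19,23,17,22,18,17,20,14,17,17],
  [],
  [],
  [],
  [],
  [],
  [],
  [],
  [],
  [],
  [],
  [],
  [],
  [],
  [1,22,9,23,9,23,20,23,20,22,16,18,19,12,17,14],
  [],
  [2,22,9,21,18,19,22,22,16,15,17,21,20,14,15,16],
  [],
  [],
  [],
  [],
  [],
  [],
  [],
  [],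
  [],
  [],
  [],
  [],
  [],
  [],
  [],
  [],
  [],
  [],
  [],
  [],
  [],
  [],
  [],
  [],
  [],
  [],
  [],
  [],
  [],
  [],
  [],
  [],
  [],
  [],
  [],
  [],
  [],
  [],
  [],
  [],
  [],
  [],
  [],
  [],
  [],
  [0,23,22,19,20,18,19,20,21,16,15,16,18,13,14,12,12,16],
  [],
  [2,9,22,21,23,19,21,20,19,21,16,19,18,12,12,16,13,14],
  [],
  [],
  [],
  [],
  [],
  [],
  [],
  [],
  [],
  [],
  [],
  [],
  [],
  [0,9,23,22,9,22,23,9,19,22,19,22,17,18,22,16,22,12],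
  [],
  [2,23,9,22,23,21,19,19,20,15,19,16,12,18,17,16,16],
  [],
  [],
  [],
  [],
  [],
  [],
  [],
  [],
  [],
  [],
  [],
  [],
  [],
  [],
  [],
  [],
  [],
  [],
  [],
  [],
  [],
  [],
  [],
  [],
  [],
  [],
  [],
  [],
  [],
  [],
  [],
  [],
  [],
  [2,9,22,21,23,9,21,22,19,18,20,22,20,15,12,18,18,13,19],
  [],
  [0,23,9,18,9,21,20,16,19,17,15,12,17,13,14,12],
  [],
  [],
  [],
  [],
  [],
  [],
  [],
  [],
  [],
  [],
  [],
  [],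
  [],
  [2,23,9,22,22,23,20,22,17,17,16,20,17,14,17,12,13],
  [],
  [0,21,22,9,21,19,21,22,21,23,15,15,18,18,14,19,19,19],
  [],
  [],
  [],
  [],
  [],
  [],
  [],
  [],
  [],
  [],
  [],
  [],
  [],
  [],
  [],
  [],
  [],
  [],
  [],
  [],
  [],
  [],
  [],
  [],
  [],
  [],
  [],
  [],
  [],
  [],
  [],
  [],
  [],
  [],
  [],
  [],
  [],
  [],
  [],
  [],
  [],
  [],
  [],
  [],
  [],
  [2,9,22,23,9,23,23,19,16,16,20,20,16,14,17,15,17],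
  [],
  [0,9,21,23,22,19,20,18,9,17,20,17,16,14,14,16,16],
  [],
  [],
  [],
  [],
  [],
  [],
  [],
  [],
  [],
  [],
  [],
  [],
  [],
  [0,22,22,20,19,9,23,16,21,15,16,16,12,18,17,16,15],
  [],
  [2,22,23,18,19,23,17,15,16,19,19,13,18,19,12,13],
  [],
  [],
  [],
  [],
  [],
  [],
  [],
  [],
  [],
  [],
  [],
  [],
  [],
  [],
  [],
  [],
  [],
  [],
  [],
  [],
  [],
  [],
  [],
  [],
  [],
  [],
  [],
  [],
  [],
  [],
  [2,23,23,9,22,22,19,23,19,18,16,22,16,22,12,15,16,16],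
  [],
  [1,22,23,9,20,18,23,19,18,17,22,18,15,12,15,12],
  [],
  [],
  [],
  [],
  [],
  [],
  [],
  [],
  [],
  [],
  [],
  [],
  [],
  [],
  [],
  [],
  [],
  [],
  [],
  [],
  [],
  [],
  [],
  [],
  [],
  [],
  [],
  [],
  [],
  [],
  [],
  [],
  [],
  [],
  [],
  [],
  [],
  [],
  [],
  [],
  [],
  [],
  [],
  [],
  [],
  [],
  [],
  [],
  [],
  [],
  [],
  [],
  [],
  [2,9,22,22,21,23,21,18,20,15,19,21,18,14,15],
  [],
  [1,9,21,23,23,22,21,18,20,18,17,20,15,19,12,13,16,19],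
  [],
  [],
  [],
  [],
  [],
  [],
  [],
  [],
  [],
  [],
  [],
  [],
  [],
  [],
  [],
  [],
  [],
  [],
  [],
  [],
  [0,23,19,22,21,20,19,17,16,21,18,17,12,13,15,12,19],
  [],
  [2,9,21,23,20,23,21,22,15,21,19,14,19,18,15,15],
  [],
  [],
  [],
  [],
  [],
  [],
  [],
  [],
  [],
  [],
  [],
  [],
  [],
  [2,9,23,21,23,9,18,18,9,19,16,22,15,14,19,17,12],
  [],
  [0,23,22,9,23,21,20,22,20,9,21,17,20,18,12,13,12,13],
  [],
  [],
  [],
  [],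
  [],
  [],
  [],
  [],
  [],
  [],
  [],
  [],
  [],
  [],
  [],
  [],
  [],
  [],
  [],
  [],
  [],
  [],
  [],
  [],
  [],
  [],
  [],
  [],
  [],
  [1,21,23,22,9,20,22,20,15,18,18,22,14,12,13,19,18],
  [],
  [2,22,23,23,9,23,9,19,18,18,16,19,19,17,12,14,19],
  [],
  [],
  [1,21,23,22,9,19,20,19,19,15,21,18,12,12,17,19,14],
  [],
  [2,9,23,21,23,19,18,18,22,21,17,20,18,12,16,12,17],
  [],
  [],
  [],
  [],
  [],
  [],
  [],
  [],
  [],
  [],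
  [],
  [],
  [],
  [],
  [],
  [],
  [],
  [],
  [],
  [],
  [],
  [],
  [],
  [],
  [],
  [],
  [],
  [],
  [],
  [],
  [],
  [],
  [],
  [],
  [],
  [],
  [],
  [],
  [],
  [],
  [],
  [],
  [],
  [],
  [],
  [],
  [],
  [],
  [1,22,21,22,19,18,22,17,18,18,19,21,12,19,12,13],
  [],
  [2,22,21,20,19,19,17,22,19,16,19,12,15,14,18,18],
  [],
  [],
  [2,22,21,18,23,20,9,16,20,18,21,12,12,12,12,18,16],
  [],
  [1,23,23,9,19,19,23,20,21,22,16,18,22,22,13,13,13,19],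
  [1,9,23,21,22,20,9,23,23,17,16,16,22,21,14,17,12,18],
  [],
  [2,9,23,22,22,20,18,22,17,22,16,17,20,13,13,14,15],
  [],
  [],
  [2,9,21,23,21,22,18,23,20,23,17,19,22,12,17,14,14,15],
  [],
  [1,22,21,22,20,19,22,17,16,16,22,12,13,16,18],
  [],
  [],
  [],
  [],
  [],
  [],
  [],
  [],
  [],
  [],
  [],
  [],
  [],
  [],
  [],
  [],
  [],
  [],
  [],
  [],
  [],
  [],
  [],
  [],
  [],
  [],
  [],
  [],
  [],
  [],
  [],
  [],
  [],
  [],
  [],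
  [],
  [],
  [],
  [],
  [],
  [],
  [],
  [],
  [],
  [],
  [],
  [],
  [],
  [1,21,22,9,22,19,9,22,22,15,19,18,18,17,14,19,17,16,12],
  [],
  [2,23,9,19,23,19,21,18,17,19,22,18,17,12,19,18,12,12],
  [],
  [],
  [1,21,22,18,17,22,16,18,17,12,19,18,14,17],
  [],
  [2,22,21,23,22,9,20,21,20,17,21,20,21,15,12,12,17,18],
  [],
  [],
  [],
  [],
  [],
  [],
  [],
  [],
  [],
  [],
  [],
  [],
  [],
  [],
  [],
  [],
  [2,9,19,22,18,19,17,21,22,20,15,12,18,19,18,15],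
  [],
  [1,23,9,22,23,22,20,23,21,16,18,20,17,12,12,15,18,12],
  [],
  [],
  [],
  [],
  [],
  [],
  [],
  [],
  [],
  [],
  [1,23,21,22,9,23,18,20,18,21,16,17,17,12,13,19,15],
  [],
  [2,23,21,23,23,19,18,18,20,17,18,16,16,13,17,15,18],
  [1,23,9,22,23,9,19,21,22,20,17,20,20,17,16,12,17,17,15],
  [],
  [2,22,9,22,22,20,19,9,19,17,21,21,15,15,13,19,17,19],
  [],
  [],
  [],
  [],
  [],
  [],
  [],
  [],
  [],
  [],
  [1,9,23,22,9,23,19,21,23,23,16,21,15,14,12,18],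
  [],
  [2,9,23,22,21,19,9,22,9,15,17,21,18,14,13,15,19,15],
  [],
  [],
  [],
  [],
  [],
  [],
  [],
  [],
  [],
  [],
  [],
  [],
  [],
  [],
  [],
  [],
  [],
  [],
  [],
  [],
  [],
  [],
  [],
  [],
  [],
  [],
  [],
  [],
  [],
  [],
  [],
  [],
  [],
  [],
  [],
  [],
  [],
  [],
  [],
  [],
  [],
  [],
  [],
  [],
  [],
  [],
  [],
  [],
  [],
  [],
  [],
  [],
  [],
  [],
  [],
  [],
  [],
  [],
  [],
  [],
  [],
  [],
  [],
  [],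
  [],
  [],
  [],
  [],
  [],
  [],
  [],
  [],
  [],
  [],
  [],
  [],
  [],
  [],
  [],
  [],
  [],
  [],
  [],
  [],
  [],
  [],
  [],
  [],
  [],
  [],
  [],
  [],
  [],
  [],
  [],
  [],
  [],
  [],
  [],
  [],
  [],
  [],
  [],
  [],
  [],
  [],
  [],
  [],
  [],
  [],
  [],
  [],
  [],
  [],
  [],
  [],
  [],
  [],
  [],
  [],
  [],
  [],
  [],
  [],
  [],
  [],
  [],
  [],
  [],
  [],
  [],
  [],
  [],
  [],
  [],
  [],
  [],
  [],
  [],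
  [],
  [],
  [],
  [],
  [],
  [],
  [],
  [],
  [],
  [],
  [],
  [],
  [],
  [],
  [],
  [],
  [],
  [],
  [],
  [],
  [],
  [],
  [],
  [],
  [],
  [],
  [],
  [],
  [],
  [],
  [],
  [],
  [],
  [],
  [],
  [],
  [],
  [],
  [],
  [],
  [],
  [],
  [],
  [],
  [],
  [],
  [],
  [],
  [],
  [],
  [],
  [],
  [],
  [],
  [],
  [],
  [],
  [],
  [],
  [],
  [],
  [],
  [],
  [],
  [],
  [],
  [],
  [],
  [],
  [],
  [],
  [],
  [],
  [],
  [],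
  [],
  [],
  [],
  [],
  [],
  [],
  [],
  [],
  [],
  [],
  [],
  [],
  [],
  [],
  [],
  [],
  [],
  [],
  [],
  [],
  [],
  [],
  [],
  [],
  [],
  [],
  [],
  [],
  [],
  [],
  [],
  [],
  [],
  [],
  [],
  [],
  [],
  [],
  [],
  [],
  [],
  [],
  [],
  [],
  [],
  [],
  [],
  [],
  [],
  [],
  [],
  [],
  [],
  [],
  [],
  [],
  [],
  [],
  [],
  [2,22,9,22,21,19,19,22,19,16,15,12,19,14,12,19],
  [],
  [1,23,21,23,22,9,20,16,19,15,18,13,18,16,19],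
  [2,22,9,18,18,23,22,17,17,20,20,15,12,16,13,18,19],
  [],
  [1,23,23,21,18,19,9,15,22,17,13,14,17,17],
  [],
  [],
  [],
  [],
  [],
  [],
  [],
  [],
  [],
  [],
  [],
  [],
  [],
  [],
  [],
  [],
  [],
  [],
  [],
  [],
  [],
  [],
  [],
  [],
  [],
  [],
  [],
  [],
  [],
  [],
  [],
  [],
  [],
  [],
  [],
  [],
  [],
  [],
  [],
  [],
  [],
  [],
  [],
  [],
  [],
  [],
  [],
  [],
  [],
  [],
  [2,9,23,21,20,20,19,18,17,21,19,15,12,13,16,18,17],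
  [],
  [1,9,23,9,19,22,20,23,17,19,20,14,19,18,13,19],
  [1,23,9,21,19,19,22,21,17,16,22,18,19,12,18,19,18,19],
  [],
  [2,21,22,23,9,18,19,9,17,16,22,21,18,12,14,16,14,14],
  [],
  [],
  [],
  [],
  [],
  [],
  [],
  [],
  [],
  [],
  [],
  [],
  [],
  [],
  [],
  [],
  [],
  [],
  [],
  [],
  [],
  [],
  [],
  [],
  [],
  [],
  [],
  [],
  [],
  [],
  [],
  [],
  [],
  [],
  [],
  [],
  [],
  [],
  [],
  [],
  [],
  [],
  [],
  [],
  [],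
  [],
  [],
  [],
  [],
  [],
  [],
  [],
  [],
  [],
  [],
  [],
  [],
  [],
  [],
  [],
  [],
  [],
  [],
  [],
  [],
  [],
  [],
  [],
  [],
  [],
  [],
  [],
  [],
  [],
  [],
  [],
  [],
  [],
  [],
  [],
  [],
  [],
  [],
  [],
  [],
  [],
  [],
  [],
  [],
  [],
  [],
  [],
  [],
  [],
  [],
  [],
  [],
  [],
  [],
  [],
  [],
  [],
  [],
  [],
  [],
  [],
  [],
  [],
  [],
  [],
  [],
  [],
  [],
  [],
  [],
  [],
  [],
  [],
  [],
  [],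
  [],
  [],
  [],
  [],
  [],
  [],
  [],
  [],
  [],
  [],
  [],
  [],
  [],
  [],
  [],
  [],
  [],
  [],
  [],
  [],
  [],
  [],
  [],
  [],
  [],
  [],
  [2,9,22,22,19,9,18,22,15,22,20,15,12,17,15,16,15],
  [],
  [1,9,22,9,22,22,18,19,20,21,20,12,12,19,16,18],
  [],
  [],
  [],
  [],
  [],
  [],
  [],
  [],
  [2,9,23,9,21,23,19,23,21,18,17,17,17,18,19,13,17,18,16],
  [],
  [1,21,19,18,20,21,22,17,18,16,18,13,16,18,18],
  [],
  [],
  [2,9,22,22,9,23,22,20,16,15,20,18,13,19,16,19,12],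
  [],
  [1,23,21,22,23,22,9,19,9,17,17,16,15,20,14,19,14],
  [],
  [],
  [],
  [],
  [],
  [],
  [],
  [],
  [1,23,9,21,22,21,23,19,19,19,20,23,16,17,12,16,13,16],
  [],
  [2,19,22,23,18,18,16,21,22,18,12,18,12,17,16],
  [],
  [],
  [],
  [],
  [],
  [],
  [],
  [],
  [],
  [],
  [],
  [],
  [],
  [],
  [],
  [],
  [],
  [],
  [],
  [],
  [],
  [],
  [],
  [],
  [],
  [],
  [],
  [],
  [],
  [],
  [],
  [],
  [],
  [],
  [1,23,23,23,21,22,23,20,19,18,23,23,16,17,20,15,20,12],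
  [],
  [2,23,23,23,22,19,19,19,23,23,16,21,15,16,13,12,15,13],
  [],
  [],
  [],
  [],
  [],
  [],
  [],
  [],
  [1,23,21,22,23,21,19,23,23,17,17,21,19,20,12,15,13,17],
  [],
  [2,22,9,19,19,18,20,22,16,20,17,12,17,13,17,14],
  [],
  [],
  [1,9,22,9,23,21,19,17,18,18,17,18,12,17,13,12,12],
  [],
  [2,23,9,21,23,23,19,9,20,21,17,17,17,21,22,13,16,16,14],
  [],
  [],
  [],
  [],
  [],
  [],
  [],
  [],
  [2,22,22,23,21,22,19,9,20,15,16,20,12,15,13,18],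
  [],
  [1,23,20,20,21,19,19,16,15,16,19,18,13,17,18,14],
  [],
  [],
  [],
  [],
  [],
  [],
  [],
  [],
  [],
  [],
  [],
  [],
  [],
  [],
  [],
  [],
  [],
  [],
  [],
  [],
  [],
  [],
  [],
  [],
  [],
  [],
  [],
  [],
  [],
  [],
  [],
  [],
  [],
  [],
  [],
  [],
  [],
  [],
  [],
  [],
  [],
  [],
  [],
  [],
  [],
  [],
  [],
  [],
  [],
  [],
  [],
  [],
  [],
  [],
  [],
  [],
  [],
  [],
  [],
  [],
  [],
  [],
  [],
  [],
  [],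
  [],
  [],
  [],
  [],
  [],
  [],
  [],
  [],
  [],
  [],
  [],
  [],
  [],
  [],
  [],
  [],
  [],
  [],
  [],
  [],
  [],
  [],
  [],
  [],
  [],
  [],
  [],
  [],
  [],
  [],
  [],
  [],
  [],
  [],
  [],
  [],
  [],
  [],
  [],
  [],
  [],
  [],
  [],
  [],
  [],
  [],
  [],
  [],
  [],
  [],
  [],
  [],
  [],
  [],
  [],
  [],
  [],
  [],
  [],
  [],
  [],
  [],
  [],
  [],
  [],
  [],
  [],
  [],
  [],
  [],
  [],
  [],
  [],
  [],
  [],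
  [],
  [],
  [],
  [],
  [],
  [],
  [1,9,21,22,21,23,21,19,15,17,20,18,18,12,14,15,12],
  [],
  [2,21,23,23,23,18,20,22,19,17,15,16,12,12,13,12,13],
  [2,21,23,23,21,23,15,16,22,22,14,19,16,12,19],
  [],
  [1,9,23,23,9,19,21,18,21,19,17,21,18,16,13,16,13,18,19],
  [],
  [],
  [],
  [],
  [],
  [],
  [],
  [],
  [],
  [],
  [],
  [],
  [],
  [],
  [],
  [],
  [],
  [],
  [],
  [],
  [],
  [],
  [],
  [],
  [],
  [],
  [],
  [],
  [],
  [],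
  [],
  [],
  [],
  [],
  [],
  [],
  [],
  [],
  [],
  [],
  [],
  [],
  [],
  [],
  [],
  [],
  [],
  [],
  [],
  [],
  [2,9,23,21,22,18,23,20,21,17,16,17,15,17,14,13,15,13],
  [],
  [1,22,20,21,18,9,17,15,21,22,16,12,13,19,13],
  [2,23,23,23,21,23,23,20,18,19,15,15,22,12,19,13,16,13],
  [],
  [1,9,22,21,19,22,22,16,15,21,20,12,14,18,12,19],
  [],
  [],
  [],
  [],
  [],
  [],
  [],
  [],
  [],
  [],
  [],
  [],
  [],
  [],
  [],
  [],
  [],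
  [1,9,21,23,23,9,21,18,18,23,18,17,17,17,15,15],
  [],
  [2,21,22,9,20,9,18,20,22,16,17,15,21,18,12,18,18,18,16],
  [],
  [],
  [],
  [],
  [],
  [],
  [],
  [],
  [],
  [],
  [2,9,21,23,23,21,19,18,21,22,21,17,16,21,21,13,17,12,19],
  [],
  [1,9,22,23,19,20,19,16,18,20,21,14,17,18,13],
  [1,21,22,9,23,19,21,19,20,23,15,22,19,22,13,16,15,16],
  [],
  [2,23,21,22,9,18,19,9,19,15,17,19,20,18,14,13,19,15],
  [],
  [],
  [],
  [],
  [],
  [],
  [],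
  [],
  [],
  [],
  [1,21,22,22,18,21,18,18,19,17,22,17,13,12,12,14],
  [],
  [2,9,23,23,22,21,23,17,18,22,19,13,17,17,17,18],
  [],
  [],
  [],
  [],
  [],
  [],
  [],
  [],
  [],
  [],
  [],
  [],
  [],
  [],
  [],
  [],
  [1,23,22,9,20,20,20,23,17,21,20,20,19,12,19,18,18],
  [],
  [2,21,22,23,23,18,23,17,22,17,17,12,14,18,16],
  [],
  [],
  [],
  [],
  [],
  [],
  [],
  [],
  [],
  [],
  [],
  [],
  [],
  [],
  [],
  [],
  [],
  [],
  [],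
  [],
  [],
  [],
  [],
  [],
  [],
  [],
  [],
  [],
  [],
  [],
  [],
  [],
  [],
  [],
  [],
  [],
  [],
  [],
  [],
  [],
  [],
  [],
  [],
  [],
  [],
  [],
  [],
  [],
  [],
  [],
  [],
  [],
  [],
  [1,23,23,21,22,23,18,21,19,15,22,15,15,14,13,17],
  [],
  [2,23,21,22,23,21,19,19,18,15,18,16,18,12,12,19,18,13],
  [],
  [],
  [],
  [],
  [],
  [1,22,21,23,19,20,19,9,21,17,20,16,22,18,12,14,13,12],
  [],
  [2,23,21,19,20,18,21,22,16,16,20,19,14,16,12,12,15],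
  [],
  [],
  [],
  [],
  [],
  [],
  [],
  [],
  [],
  [],
  [],
  [],
  [],
  [],
  [],
  [],
  [],
  [],
  [],
  [],
  [],
  [],
  [],
  [],
  [],
  [],
  [],
  [],
  [],
  [],
  [],
  [],
  [],
  [],
  [],
  [],
  [],
  [],
  [],
  [],
  [],
  [],
  [],
  [],
  [],
  [],
  [],
  [],
  [],
  [],
  [],
  [],
  [],
  [1,9,23,23,19,22,23,21,16,17,19,12,14,12,14,16,14],
  [],
  [2,9,23,23,23,21,19,17,17,18,15,15,12,13,16,13,13],
  [],
  [],
  [],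
  [],
  [],
  [],
  [],
  [],
  [],
  [],
  [],
  [],
  [],
  [],
  [],
  [],
  [],
  [],
  [],
  [],
  [],
  [],
  [],
  [],
  [],
  [],
  [],
  [],
  [],
  [],
  [],
  [],
  [],
  [],
  [1,23,23,9,19,9,19,23,18,17,20,15,21,13,13,18,12],
  [],
  [2,23,23,20,18,21,15,15,15,17,12,13,13,14,17],
  [],
  [],
  [],
  [],
  [],
  [],
  [],
  [],
  [],
  [],
  [],
  [],
  [],
  [1,9,21,22,21,18,9,20,20,15,15,19,17,21,13,12,16],
  [],
  [2,9,22,23,21,23,19,23,19,17,20,15,22,13,12,12,17],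
  [],
  [],
  [],
  [],
  [],
  [],
  [],
  [],
  [],
  [],
  [],
  [],
  [],
  [],
  [],
  [],
  [2,23,9,21,23,19,22,18,18,17,21,21,15,15,14,15,12],
  [],
  [1,23,23,21,22,9,18,18,17,15,19,20,13,16,13,18],
  [],
  [],
  [],
  [],
  [],
  [],
  [],
  [],
  [],
  [],
  [],
  [],
  [],
  [],
  [],
  [],
  [],
  [],
  [],
  [],
  [],
  [],
  [],
  [],
  [],
  [],
  [],
  [],
  [],
  [],
  [],
  [],
  [],
  [],
  [],
  [],
  [],
  [],
  [],
  [],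
  [],
  [],
  [],
  [],
  [],
  [],
  [],
  [],
  [],
  [],
  [],
  [],
  [],
  [2,22,22,22,23,23,19,22,22,9,17,18,15,13,17,16],
  [],
  [1,23,23,22,19,18,21,22,9,16,18,20,15,14,18,16,12,15],
  [],
  [],
  [],
  [],
  [],
  [2,22,23,9,20,21,19,9,17,18,20,19,12,13,15,18,18],
  [],
  [1,23,22,23,23,22,21,20,20,20,22,15,12,14,19,12,15],
  [],
  [],
  [],
  [],
  [],
  [],
  [],
  [],
  [],
  [],
  [],
  [],
  [],
  [],
  [],
  [],
  [],
  [],
  [],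
  [],
  [],
  [],
  [],
  [],
  [],
  [],
  [],
  [],
  [],
  [],
  [],
  [],
  [],
  [],
  [],
  [],
  [],
  [],
  [],
  [],
  [],
  [],
  [],
  [],
  [],
  [],
  [],
  [],
  [],
  [],
  [],
  [],
  [],
  [1,9,22,21,22,19,20,22,23,18,15,20,21,17,12,18,14],
  [],
  [2,21,23,22,23,22,19,9,20,20,16,21,20,16,12,12,17,12],
  [],
  [],
  [],
  [],
  [],
  [1,21,23,23,23,21,22,19,9,18,17,22,19,12,18,12,16],
  [],
  [2,9,23,22,22,22,23,23,19,23,16,15,16,18,14,18,17,15],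
  [],
  [],
  [],
  [],
  [],
  [],
  [],
  [],
  [],
  [],
  [],
  [],
  [],
  [],
  [],
  [],
  [],
  [],
  [],
  [],
  [],
  [],
  [],
  [],
  [],
  [],
  [],
  [],
  [],
  [],
  [],
  [],
  [],
  [],
  [],
  [],
  [],
  [],
  [],
  [],
  [],
  [],
  [],
  [],
  [],
  [],
  [],
  [],
  [],
  [],
  [],
  [],
  [],
  [1,23,9,18,21,17,20,16,22,22,12,19,16,16,17],
  [],
  [2,23,23,9,22,22,19,19,21,20,23,16,18,22,13,15,13],
  [],
  [],
  [],
  [],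
  [],
  [1,21,22,23,9,23,18,21,20,16,22,18,12,13,14,14,17],
  [],
  [2,23,23,18,20,21,17,15,19,20,21,12,18,16,15,15],
  [],
  [],
  [],
  [],
  [],
  [],
  [],
  [],
  [],
  [],
  [],
  [],
  [],
  [],
  [],
  [],
  [],
  [],
  [],
  [],
  [],
  [],
  [],
  [],
  [],
  [],
  [],
  [],
  [],
  [],
  [],
  [],
  [],
  [],
  [],
  [],
  [],
  [],
  [],
  [],
  [],
  [],
  [],
  [],
  [],
  [],
  [],
  [],
  [],
  [],
  [],
  [],
  [],
  [2,23,9,22,23,19,20,23,17,19,20,18,14,19,12,18],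
  [],
  [1,9,21,23,21,19,18,9,23,9,16,16,14,14,13,18,17],
  [],
  [],
  [],
  [],
  [],
  [],
  [],
  [],
  [],
  [2,22,23,9,19,19,21,22,19,15,17,20,21,13,12,19,17],
  [],
  [1,9,22,22,21,20,20,20,22,16,20,19,16,16,13,15,13],
  [],
  [],
  [],
  [],
  [],
  [],
  [],
  [],
  [],
  [],
  [],
  [],
  [],
  [],
  [],
  [],
  [],
  [],
  [],
  [],
  [],
  [],
  [],
  [],
  [],
  [],
  [],
  [],
  [],
  [],
  [],
  [],
  [],
  [],
  [],
  [],
  [],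
  [],
  [],
  [],
  [],
  [],
  [],
  [],
  [],
  [],
  [],
  [],
  [],
  [],
  [],
  [],
  [],
  [1,23,21,22,21,20,9,20,16,20,18,13,16,19,17],
  [],
  [2,22,22,23,23,18,22,20,9,16,22,22,20,12,14,13,18],
  [],
  [],
  [],
  [],
  [],
  [],
  [],
  [],
  [],
  [],
  [],
  [],
  [],
  [],
  [],
  [],
  [],
  [],
  [],
  [],
  [],
  [],
  [],
  [],
  [],
  [],
  [],
  [],
  [],
  [],
  [1,22,23,18,23,15,19,20,15,12,17,19,15],
  [],
  [2,9,23,23,22,21,19,21,18,20,17,18,14,15,14,19],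
  [],
  [],
  [],
  [],
  [],
  [],
  [],
  [],
  [],
  [],
  [],
  [],
  [],
  [1,22,21,22,21,23,18,18,18,23,15,20,16,12,13,15,12],
  [],
  [2,22,9,23,19,19,23,20,17,15,17,17,19,12,14,14,16],
  [],
  [],
  [],
  [],
  [],
  [],
  [],
  [],
  [],
  [],
  [],
  [],
  [],
  [],
  [],
  [],
  [],
  [],
  [],
  [],
  [],
  [],
  [],
  [],
  [],
  [],
  [],
  [],
  [],
  [],
  [],
  [],
  [],
  [],
  [],
  [],
  [],
  [],
  [],
  [],
  [],
  [],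
  [],
  [],
  [],
  [2,9,22,9,23,21,23,21,16,22,15,22,18,14,19,14],
  [],
  [1,9,22,20,23,18,21,17,20,22,18,12,15,18,12,15],
  [],
  [],
  [],
  [],
  [],
  [],
  [],
  [],
  [],
  [],
  [],
  [],
  [],
  [1,22,9,21,23,20,9,19,16,16,21,22,12,18,15,17,12],
  [],
  [2,22,21,22,23,18,22,20,17,22,17,18,12,16,12,16],
  [],
  [],
  [],
  [],
  [],
  [],
  [],
  [],
  [],
  [],
  [],
  [],
  [],
  [],
  [],
  [],
  [1,20,18,22,22,16,22,16,20,12,14,12,16,16],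
  [],
  [2,9,21,23,22,9,21,23,20,22,16,20,18,12,18,17,13,15],
  [],
  [],
  [],
  [],
  [],
  [],
  [],
  [],
  [],
  [],
  [],
  [],
  [],
  [],
  [],
  [],
  [],
  [],
  [],
  [],
  [],
  [],
  [],
  [],
  [],
  [],
  [],
  [],
  [],
  [],
  [],
  [],
  [],
  [],
  [],
  [],
  [],
  [],
  [],
  [],
  [],
  [],
  [],
  [],
  [],
  [],
  [],
  [],
  [],
  [],
  [],
  [],
  [],
  [2,18,18,23,19,17,15,16,17,20,12,14,12,19],
  [],
  [1,23,21,19,20,9,18,23,15,19,17,19,12,13,19,13,19],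
  [],
  [],
  [],
  [],
  [],
  [2,9,23,9,21,22,9,20,9,23,21,16,13,12,15,19],
  [],
  [1,23,23,21,23,23,22,20,19,19,23,15,19,19,19,13,16],
  [],
  [],
  [],
  [],
  [],
  [],
  [],
  [],
  [],
  [],
  [],
  [],
  [],
  [],
  [],
  [],
  [],
  [],
  [],
  [],
  [],
  [],
  [],
  [],
  [],
  [],
  [],
  [],
  [],
  [],
  [],
  [],
  [],
  [],
  [],
  [],
  [],
  [],
  [],
  [],
  [],
  [],
  [],
  [],
  [],
  [],
  [],
  [],
  [],
  [],
  [],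
  [],
  [],
  [1,22,20,23,19,21,17,17,15,18,18,14,16,14,16],
  [],
  [2,21,22,21,23,19,9,23,22,16,22,20,15,22,14,19,17,13],
  [],
  [],
  [],
  [],
  [],
  [],
  [],
  [],
  [],
  [2,22,23,18,23,19,15,16,17,18,12,19,17,19,13],
  [],
  [1,21,22,9,22,20,22,22,17,20,17,15,15,14,18,18,14,12],
  [],
  [],
  [],
  [],
  [],
  [],
  [],
  [],
  [],
  [],
  [],
  [],
  [],
  [],
  [],
  [],
  [],
  [],
  [],
  [],
  [],
  [],
  [],
  [],
  [],
  [],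
  [],
  [],
  [],
  [],
  [],
  [],
  [],
  [],
  [],
  [],
  [],
  [],
  [],
  [],
  [],
  [],
  [],
  [],
  [],
  [],
  [],
  [],
  [],
  [],
  [],
  [],
  [],
  [1,23,22,9,23,19,19,19,20,15,20,17,18,13,14,15,19],
  [],
  [2,22,22,9,21,23,22,9,18,18,20,19,23,17,18,21,20,17],
  [],
  [],
  [],
  [],
  [],
  [2,9,21,23,23,9,21,19,20,19,23,20,16,20,21,19,14,13,18],
  [],
  [1,9,23,23,22,19,20,18,20,17,18,22,16,14,14,14,13],
  [],
  [],
  [],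
  [],
  [],
  [],
  [],
  [],
  [],
  [],
  [],
  [],
  [],
  [],
  [],
  [],
  [],
  [],
  [],
  [],
  [],
  [],
  [],
  [],
  [],
  [],
  [],
  [],
  [],
  [],
  [],
  [],
  [],
  [],
  [],
  [],
  [],
  [],
  [],
  [],
  [],
  [],
  [],
  [],
  [],
  [],
  [],
  [],
  [],
  [],
  [],
  [],
  [],
  [2,23,9,23,9,19,23,20,18,17,15,19,17,18,12,16,13,17],
  [],
  [1,22,21,19,21,22,17,17,21,21,14,13,19,19,15],
  [],
  [],
  [],
  [],
  [],
  [],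
  [],
  [],
  [],
  [],
  [],
  [],
  [],
  [],
  [],
  [],
  [],
  [],
  [],
  [],
  [],
  [],
  [],
  [],
  [],
  [],
  [],
  [],
  [],
  [],
  [2,23,22,9,22,23,21,18,19,15,15,16,19,13,16,13,15],
  [],
  [1,23,9,21,22,21,18,9,19,17,17,22,22,14,16,17],
  [],
  [],
  [],
  [],
  [],
  [],
  [],
  [],
  [],
  [],
  [],
  [],
  [],
  [1,23,19,23,19,18,19,16,16,21,22,17,12,13,13,14],
  [],
  [2,23,9,19,19,19,9,15,16,15,14,15,18,14],
  [],
  [],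
  [],
  [],
  [],
  [],
  [],
  [],
  [],
  [],
  [],
  [],
  [],
  [],
  [],
  [],
  [],
  [],
  [],
  [],
  [1,9,22,9,21,19,9,19,18,19,17,17,21,17,13,15,13],
  [],
  [2,23,21,22,21,19,20,21,17,16,16,21,20,12,17,15,18,19],
  [],
  [],
  [],
  [],
  [],
  [],
  [],
  [],
  [],
  [],
  [],
  [],
  [],
  [],
  [],
  [],
  [],
  [],
  [],
  [],
  [],
  [],
  [],
  [],
  [],
  [],
  [],
  [],
  [],
  [],
  [],
  [],
  [],
  [],
  [],
  [],
  [],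
  [],
  [],
  [],
  [],
  [],
  [],
  [],
  [],
  [],
  [],
  [],
  [],
  [],
  [],
  [],
  [],
  [1,22,22,22,23,21,18,21,16,15,21,15,21,14,13,17,17],
  [],
  [2,22,9,22,9,19,18,18,9,16,17,20,17,12,18,18,13,13],
  [],
  [],
  [],
  [],
  [],
  [],
  [],
  [],
  [],
  [],
  [],
  [],
  [],
  [],
  [],
  [],
  [],
  [],
  [],
  [],
  [],
  [],
  [],
  [],
  [],
  [],
  [],
  [],
  [],
  [],
  [],
  [],
  [],
  [],
  [],
  [],
  [],
  [],
  [],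
  [],
  [],
  [],
  [],
  [],
  [],
  [],
  [],
  [],
  [],
  [],
  [],
  [],
  [],
  [],
  [],
  [],
  [],
  [],
  [],
  [],
  [],
  [],
  [],
  [],
  [],
  [],
  [],
  [],
  [],
  [],
  [],
  [],
  [],
  [],
  [],
  [],
  [],
  [],
  [],
  [],
  [],
  [],
  [],
  [],
  [],
  [],
  [],
  [],
  [],
  [],
  [],
  [],
  [],
  [],
  [],
  [],
  [],
  [],
  [],
  [],
  [],
  [],
  [],
  [],
  [],
  [],
  [],
  [],
  [],
  [],
  [],
  [],
  [],
  [],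
  [],
  [],
  [],
  [],
  [],
  [],
  [],
  [],
  [],
  [],
  [],
  [],
  [],
  [],
  [],
  [],
  [],
  [],
  [],
  [],
  [],
  [],
  [],
  [],
  [],
  [],
  [],
  [],
  [],
  [],
  [],
  [],
  [],
  [],
  [],
  [],
  [],
  [],
  [],
  [],
  [],
  [],
  [],
  [],
  [],
  [],
  [],
  [],
  [],
  [],
  [],
  [],
  [],
  [],
  [],
  [],
  [],
  [],
  [],
  [],
  [],
  [],
  [],
  [],
  [],
  [],
  [],
  [],
  [],
  [],
  [],
  [],
  [],
  [],
  [],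
  [],
  [],
  [],
  [],
  [],
  [],
  [],
  [],
  [],
  [],
  [],
  [],
  [],
  [],
  [],
  [],
  [],
  [],
  [],
  [],
  [],
  [],
  [],
  [],
  [],
  [],
  [],
  [],
  [],
  [],
  [],
  [],
  [],
  [],
  [],
  [],
  [],
  [],
  [],
  [],
  [],
  [],
  [],
  [],
  [],
  [],
  [],
  [],
  [],
  [],
  [],
  [],
  [],
  [],
  [],
  [],
  [],
  [],
  [],
  [],
  [],
  [],
  [],
  [],
  [],
  [],
  [],
  [],
  [],
  [],
  [],
  [],
  [],
  [],
  [],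
  [],
  [],
  [],
  [],
  [],
  [],
  [],
  [],
  [],
  [],
  [],
  [],
  [],
  [],
  [],
  [],
  [],
  [],
  [],
  [],
  [],
  [],
  [],
  [],
  [],
  [],
  [],
  [],
  [],
  [],
  [],
  [],
  [],
  [],
  [],
  [],
  [],
  [],
  [],
  [],
  [],
  [],
  [],
  [],
  [],
  [],
  [],
  [],
  [],
  [],
  [],
  [],
  [],
  [],
  [],
  [],
  [],
  [],
  [],
  [],
  [],
  [],
  [],
  [],
  [],
  [],
  [],
  [],
  [],
  [],
  [],
  [],
  [],
  [],
  [],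
  [],
  [],
  [],
  [],
  [],
  [],
  [],
  [],
  [],
  [],
  [],
  [],
  [],
  [],
  [],
  [],
  [],
  [],
  [],
  [],
  [],
  [],
  [],
  [],
  [],
  [],
  [],
  [],
  [],
  [],
  [],
  [],
  [],
  [],
  [],
  [],
  [],
  [],
  [],
  [],
  [],
  [],
  [],
  [],
  [],
  [],
  [],
  [],
  [],
  [],
  [],
  [],
  [],
  [],
  [],
  [],
  [],
  [],
  [],
  [],
  [],
  [],
  [],
  [],
  [],
  [],
  [],
  [],
  [],
  [],
  [],
  [],
  [],
  [],
  [],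
  [],
  [],
  [],
  [],
  [],
  [],
  [],
  [],
  [],
  [],
  [],
  [],
  [],
  [],
  [],
  [],
  [],
  [],
  [],
  [],
  [],
  [],
  [],
  [],
  [],
  [],
  [],
  [],
  [],
  [],
  [],
  [],
  [],
  [],
  [],
  [],
  [],
  [],
  [],
  [],
  [],
  [],
  [],
  [],
  [],
  [],
  [],
  [],
  [],
  [],
  [],
  [],
  [],
  [],
  [],
  [],
  [],
  [],
  [],
  [],
  [],
  [],
  [],
  [],
  [],
  [],
  [],
  [],
  [],
  [],
  [],
  [],
  [],
  [],
  [],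
  [],
  [],
  [],
  [],
  [],
  [],
  [],
  [],
  [],
  [],
  [],
  [],
  [],
  [],
  [],
  [],
  [],
  [],
  [],
  [],
  [],
  [],
  [],
  [],
  [],
  [],
  [],
  [],
  [],
  [],
  [],
  [],
  [],
  [],
  [],
  [],
  [],
  [],
  [],
  [],
  [],
  [],
  [],
  [],
  [],
  [],
  [],
  [],
  [],
  [],
  [],
  [],
  [],
  [],
  [],
  [],
  [],
  [],
  [],
  [],
  [],
  [],
  [],
  [],
  [],
  [],
  [],
  [],
  [],
  [],
  [],
  [],
  [],
  [],
  [],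
  [],
  [],
  [],
  [],
  [],
  [],
  [],
  [],
  [],
  [],
  [],
  [],
  [],
  [],
  [],
  [],
  [],
  [],
  [],
  [],
  [],
  [],
  [],
  [],
  [],
  [],
  [],
  [],
  [],
  [],
  [],
  [],
  [],
  [],
  [],
  [],
  [],
  [],
  [],
  [],
  [],
  [],
  [],
  [],
  [],
  [],
  [],
  [],
  [],
  [],
  [],
  [],
  [],
  [],
  [],
  [],
  [],
  [],
  [],
  [],
  [],
  [],
  [],
  [],
  [],
  [],
  [],
  [],
  [],
  [],
  [],
  [],
  [],
  [],
  [],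
  [],
  [],
  [],
  [],
  [],
  [],
  [],
  [],
  [],
  [],
  [],
  [],
  [],
  [],
  [],
  [],
  [],
  [],
  [],
  [],
  [],
  [],
  [],
  [],
  [],
  [],
  [],
  [],
  [],
  [],
  [],
  [],
  [],
  [],
  [],
  [],
  [],
  [],
  [],
  [],
  [],
  [],
  [],
  [],
  [],
  [],
  [],
  [],
  [],
  [],
  [],
  [],
  [],
  [],
  [],
  [],
  [],
  [],
  [],
  [],
  [],
  [],
  [],
  [],
  [],
  [],
  [],
  [],
  [],
  [],
  [],
  [],
  [],
  [],
  [],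
  [],
  [],
  [],
  [],
  [],
  [],
  [],
  [],
  [],
  [],
  [],
  [],
  [],
  [],
  [],
  [],
  [],
  [],
  [],
  [],
  [],
  [],
  [],
  [],
  [],
  [],
  [],
  [],
  [],
  [],
  [],
  [],
  [],
  [],
  [],
  [],
  [],
  [],
  [],
  [],
  [],
  [],
  [],
  [],
  [],
  [],
  [],
  [],
  [],
  [],
  [],
  [],
  [],
  [],
  [],
  [],
  [],
  [],
  [],
  [],
  [],
  [],
  [],
  [],
  [],
  [],
  [],
  [],
  [],
  [],
  [],
  [],
  [],
  [],
  [],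
  [],
  [],
  [],
  [],
  [],
  [],
  [],
  [],
  [],
  [],
  [],
  [],
  [],
  [],
  [],
  [],
  [],
  [],
  [],
  [],
  [],
  [],
  [],
  [],
  [],
  [],
  [],
  [],
  [],
  [],
  [],
  [],
  [],
  [],
  [],
  [],
  [],
  [],
  [],
  [],
  [],
  [],
  [],
  [],
  [],
  [],
  [],
  [],
  [],
  [],
  [],
  [],
  [],
  [],
  [],
  [],
  [],
  [],
  [],
  [],
  [],
  [],
  [],
  [],
  [],
  [],
  [],
  [],
  [],
  [],
  [],
  [],
  [],
  [],
  [],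
  [],
  [],
  [],
  [],
  [],
  [],
  [],
  [],
  [],
  [],
  [],
  [],
  [],
  [],
  [],
  [],
  [],
  [],
  [],
  [],
  [],
  [],
  [],
  [],
  [],
  [],
  [],
  [],
  [],
  [],
  [],
  [],
  [],
  [],
  [],
  [],
  [],
  [],
  [],
  [],
  [],
  [],
  [],
  [],
  [],
  [],
  [],
  [],
  [],
  [],
  [],
  [],
  [],
  [],
  [],
  [],
  [],
  [],
  [],
  [],
  [],
  [],
  [],
  [],
  [],
  [],
  [],
  [],
  [],
  [],
  [],
  [],
  [],
  [],
  [],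
  [],
  [],
  [],
  [],
  [],
  [],
  [],
  [],
  [],
  [],
  [],
  [],
  [],
  [],
  [],
  [],
  [],
  [],
  [],
  [],
  [],
  [],
  [],
  [],
  [],
  [],
  [],
  [],
  [],
  [],
  [],
  [],
  [],
  [],
  [],
  [],
  [],
  [],
  [],
  [],
  [],
  [],
  [],
  [],
  [],
  [],
  [],
  [],
  [],
  [],
  [],
  [],
  [],
  [],
  [],
  [],
  [],
  [],
  [],
  [],
  [],
  [],
  [],
  [],
  [],
  [],
  [],
  [],
  [],
  [],
  [],
  [],
  [],
  [],
  [],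
  [],
  [],
  [],
  [],
  [],
  [],
  [],
  [],
  [],
  [],
  [],
  [],
  [],
  [],
  [],
  [],
  [2,23,21,22,23,22,9,18,21,17,16,20,21,13,13,18,14],
  [],
  [2,9,21,20,21,22,17,22,19,17,19,12,19,15,12,19,14],
  [],
  [],
  [],
  [],
  [],
  [],
  [],
  [],
  [],
  [],
  [],
  [],
  [],
  [],
  [],
  [],
  [],
  [],
  [],
  [],
  [2,22,22,21,23,20,20,18,21,17,17,19,18,22,12,16,12,18],
  [],
  [2,21,23,23,21,20,23,19,20,16,19,16,12,19,13,13],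
  [],
  [],
  [],
  [],
  [],
  [],
  [],
  [],
  [],
  [],
  [],
  [],
  [],
  [2,23,22,22,20,20,21,19,15,17,21,20,12,14,16,17,17],
  [],
  [2,22,21,20,20,19,17,21,15,22,20,12,19,12,15,15],
  [],
  [],
  [],
  [],
  [],
  [],
  [],
  [],
  [],
  [],
  [],
  [],
  [],
  [],
  [2,9,21,23,21,23,20,9,20,20,15,18,16,19,12,14,12,14],
  [],
  [2,21,23,23,22,9,18,23,19,18,16,22,13,16,15,19],
  [],
  [],
  [],
  [],
  [],
  [2,9,23,23,22,22,21,22,18,19,23,19,17,12,15,16,12],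
  [],
  [2,9,23,23,20,19,19,23,16,18,16,18,14,14,13],
  [],
  [],
  [],
  [],
  [],
  [],
  [],
  [],
  [],
  [],
  [],
  [],
  [],
  [],
  [],
  [],
  [],
  [],
  [],
  [],
  [2,9,23,22,23,23,21,18,23,9,22,17,20,12,15,13,16,14],
  [],
  [2,22,22,21,23,19,18,22,23,16,17,22,13,14,14,15],
  [],
  [],
  [],
  [],
  [],
  [],
  [],
  [],
  [],
  [],
  [],
  [],
  [],
  [2,9,23,9,22,22,20,23,19,18,17,17,22,15,13,17,12,17],
  [],
  [2,22,9,23,9,19,22,20,20,22,15,16,18,20,14,18,18],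
  [],
  [],
  [],
  [],
  [],
  [],
  [],
  [],
  [],
  [],
  [],
  [],
  [],
  [],
  [2,9,23,23,23,20,23,23,20,17,17,13,14,19,13,17],
  [],
  [2,23,22,20,18,20,18,17,16,21,18,12,17,19,12],
  [],
  [2,9,23,23,19,23,17,19,20,18,12,19,17,17,13,17],
  [],
  [2,9,23,23,9,22,20,18,23,20,16,19,15,22,14,15],
  [],
  [],
  [],
  [],
  [],
  [],
  [],
  [],
  [],
  [],
  [],
  [],
  [2,9,22,9,23,19,21,18,16,19,17,12,19,19,12,15],
  [],
  [2,21,22,23,22,19,21,23,20,15,18,16,12,18,19,13],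
  [],
  [],
  [],
  [],
  [],
  [],
  [],
  [],
  [],
  [],
  [],
  [],
  [],
  [2,23,21,23,21,20,19,22,16,18,17,16,19,14,12,19,15],
  [],
  [2,9,21,22,23,23,19,20,16,22,18,15,12,12,15,12,16],
  [],
  [],
  [],
  [],
  [],
  [],
  [],
  [],
  [],
  [],
  [],
  [],
  [],
  [],
  [],
  [],
  [],
  [],
  [],
  [],
  [],
  [],
  [2,23,23,9,19,21,19,18,22,15,20,20,14,19,18,14,18],
  [],
  [2,22,21,19,9,19,20,9,15,18,15,21,12,14,12,12],
  [],
  [],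
  [],
  [],
  [],
  [],
  [],
  [],
  [],
  [],
  [],
  [],
  [],
  [],
  [],
  [],
  [],
  [],
  [],
  [],
  [],
  [],
  [],
  [],
  [],
  [],
  [],
  [],
  [],
  [],
  [],
  [],
  [],
  [],
  [],
  [],
  [],
  [],
  [],
  [],
  [],
  [],
  [],
  [],
  [],
  [],
  [],
  [],
  [],
  [],
  [],
  [],
  [],
  [],
  [],
  [],
  [],
  [],
  [],
  [],
  [],
  [],
  [],
  [],
  [],
  [],
  [],
  [],
  [2,22,9,21,23,9,21,18,23,16,20,21,15,14,16,14,15,15],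
  [],
  [2,21,22,9,22,19,22,23,23,9,17,16,19,20,12,16,16],
  [],
  [],
  [],
  [],
  [],
  [],
  [],
  [],
  [],
  [],
  [],
  [],
  [],
  [],
  [2,9,21,20,9,23,23,17,15,16,22,18,12,13,17,15,14],
  [],
  [2,21,23,21,19,18,21,23,22,16,22,21,19,12,18,13,15,12],
  [],
  [],
  [],
  [],
  [],
  [],
  [],
  [],
  [],
  [],
  [],
  [],
  [],
  [2,9,21,23,9,22,19,9,22,18,16,20,18,12,17,14,19,15],
  [],
  [2,22,9,21,19,18,22,16,18,21,22,13,17,13,13,18],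
  [],
  [],
  [],
  [],
  [],
  [],
  [],
  [],
  [],
  [],
  [],
  [],
  [],
  [],
  [],
  [],
  [],
  [],
  [],
  [],
  [2,22,23,21,22,19,21,19,18,19,15,16,14,15,16,12,12],
  [],
  [2,21,22,9,23,20,19,22,16,17,19,19,12,14,12,15,13],
  [],
  [],
  [],
  [],
  [],
  [],
  [],
  [],
  [],
  [],
  [],
  [],
  [],
  [],
  [],
  [],
  [],
  [],
  [],
  [],
  [],
  [],
  [],
  [],
  [],
  [],
  [],
  [],
  [],
  [],
  [],
  [],
  [],
  [],
  [],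
  [],
  [],
  [],
  [],
  [],
  [],
  [],
  [],
  [],
  [],
  [],
  [],
  [],
  [],
  [],
  [],
  [],
  [],
  [],
  [],
  [],
  [],
  [],
  [],
  [],
  [],
  [],
  [],
  [],
  [],
  [],
  [],
  [],
  [],
  [2,23,19,19,23,19,20,17,22,17,17,19,12,18,12,15,12],
  [],
  [2,9,21,22,22,21,19,20,20,20,16,15,20,15,13,17,17,17],
  [],
  [],
  [],
  [],
  [],
  [],
  [],
  [],
  [],
  [],
  [],
  [],
  [],
  [],
  [2,9,22,21,22,19,22,19,19,16,18,16,16,17,14,12,13],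
  [],
  [2,9,23,9,22,23,20,9,19,21,17,15,16,21,22,14,18,17],
  [],
  [],
  [],
  [],
  [],
  [],
  [],
  [],
  [],
  [],
  [],
  [],
  [],
  [2,21,23,9,19,9,19,23,16,17,22,15,21,14,18,16,14,12],
  [],
  [2,9,22,23,22,9,21,19,20,22,16,22,20,15,13,17,12,12],
  [],
  [],
  [],
  [],
  [],
  [],
  [],
  [],
  [],
  [],
  [],
  [],
  [],
  [],
  [],
  [],
  [],
  [],
  [],
  [],
  [2,9,20,19,18,22,17,21,18,16,12,18,18,15,14],
  [],
  [2,9,23,23,23,21,23,19,20,18,15,18,21,16,14,19,13,14,13],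
  [],
  [],
  [],
  [],
  [],
  [],
  [2,22,23,9,19,9,23,23,17,16,17,17,20,12,18,17,15,16],
  [],
  [2,22,23,21,22,21,20,20,21,20,16,21,17,12,15,19,13,14],
  [],
  [],
  [],
  [],
  [],
  [],
  [],
  [],
  [],
  [],
  [],
  [],
  [2,21,23,21,19,23,9,22,16,15,17,16,14,18,13,15],
  [],
  [2,21,22,23,19,22,19,22,17,20,20,22,20,14,18,14,15],
  [],
  [],
  [],
  [],
  [],
  [],
  [],
  [],
  [],
  [],
  [],
  [],
  [],
  [2,23,21,23,9,21,20,22,9,18,22,16,17,20,14,16,19],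
  [],
  [2,22,22,21,20,19,22,15,17,19,16,12,14,14,15,18],
  [],
  [],
  [],
  [],
  [],
  [],
  [],
  [],
  [],
  [],
  [],
  [],
  [],
  [],
  [],
  [],
  [],
  [],
  [],
  [],
  [],
  [],
  [2,22,21,23,22,22,20,9,17,20,16,12,14,19,17,19],
  [],
  [2,9,23,9,21,18,20,18,16,20,18,19,12,13,14,19],
  [],
  [],
  [],
  [],
  [],
  [],
  [],
  [],
  [],
  [],
  [],
  [],
  [],
  [],
  [],
  [],
  [],
  [],
  [],
  [],
  [],
  [],
  [],
  [],
  [],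
  [],
  [],
  [],
  [],
  [],
  [],
  [],
  [],
  [],
  [],
  [],
  [],
  [],
  [],
  [],
  [],
  [],
  [],
  [],
  [],
  [],
  [],
  [],
  [],
  [],
  [],
  [],
  [],
  [],
  [],
  [],
  [],
  [],
  [],
  [],
  [],
  [],
  [],
  [],
  [],
  [],
  [],
  [],
  [],
  [],
  [],
  [],
  [2,23,9,22,23,9,19,18,9,16,15,17,19,20,12,14,16,12],
  [],
  [2,23,22,9,23,20,18,20,16,18,22,12,14,12,12],
  [],
  [],
  [],
  [],
  [],
  [],
  [],
  [],
  [],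
  [],
  [],
  [],
  [],
  [],
  [],
  [],
  [],
  [],
  [],
  [],
  [],
  [],
  [2,9,22,23,21,23,23,20,9,22,16,21,15,20,12,18,12,15],
  [],
  [2,9,23,9,20,23,23,20,19,17,19,15,19,18,12,13,12],
  [],
  [],
  [],
  [],
  [],
  [],
  [],
  [],
  [],
  [],
  [],
  [],
  [],
  [2,9,22,9,20,21,20,20,15,15,22,12,19,15,16,13],
  [],
  [2,9,22,22,21,19,21,19,16,17,17,19,12,17,12,14],
  [],
  [],
  [],
  [],
  [],
  [],
  [],
  [],
  [],
  [],
  [],
  [],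
  [2,22,22,9,23,9,19,9,23,16,16,17,19,13,12,17,14],
  [],
  [2,23,21,23,18,20,18,18,16,17,17,17,12,19,15,13],
  [],
  [],
  [],
  [],
  [],
  [],
  [],
  [],
  [],
  [],
  [],
  [],
  [],
  [],
  [],
  [],
  [],
  [],
  [],
  [],
  [],
  [],
  [],
  [],
  [],
  [],
  [],
  [],
  [],
  [],
  [],
  [],
  [],
  [],
  [],
  [],
  [],
  [],
  [],
  [],
  [],
  [],
  [],
  [],
  [],
  [],
  [],
  [],
  [],
  [],
  [],
  [],
  [],
  [],
  [],
  [],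
  [],
  [],
  [],
  [],
  [],
  [],
  [],
  [],
  [],
  [],
  [],
  [],
  [],
  [],
  [],
  [],
  [],
  [],
  [],
  [],
  [],
  [],
  [],
  [],
  [],
  [],
  [],
  [],
  [],
  [],
  [],
  [],
  [],
  [],
  [],
  [],
  [],
  [],
  [],
  [],
  [],
  [],
  [],
  [],
  [],
  [],
  [],
  [],
  [],
  [],
  [],
  [],
  [],
  [],
  [],
  [],
  [],
  [],
  [],
  [],
  [],
  [],
  [],
  [],
  [],
  [],
  [],
  [],
  [],
  [],
  [],
  [],
  [],
  [],
  [],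
  [],
  [],
  [],
  [],
  [],
  [],
  [],
  [],
  [],
  [],
  [],
  [],
  [],
  [],
  [],
  [],
  [],
  [],
  [],
  [],
  [],
  [],
  [],
  [],
  [],
  [],
  [],
  [],
  [],
  [],
  [],
  [],
  [],
  [],
  [],
  [],
  [],
  [],
  [],
  [],
  [],
  [],
  [],
  [],
  [],
  [],
  [],
  [],
  [],
  [],
  [],
  [],
  [],
  [],
  [],
  [],
  [],
  [],
  [],
  [],
  [],
  [],
  [],
  [],
  [],
  [],
  [2,23,22,23,9,23,9,19,18,22,20,18,17,19,12,17,13,14],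
  [],
  [2,9,21,23,22,19,23,21,22,22,16,20,21,12,16,12,15,14],
  [],
  [],
  [],
  [],
  [],
  [],
  [],
  [],
  [],
  [],
  [],
  [],
  [],
  [],
  [],
  [],
  [],
  [],
  [],
  [],
  [],
  [],
  [2,9,23,22,9,20,9,19,17,17,15,17,13,12,19,18,16],
  [],
  [2,9,22,23,20,23,20,9,17,18,22,21,17,13,17,13,17],
  [],
  [],
  [],
  [],
  [],
  [],
  [],
  [],
  [],
  [],
  [],
  [],
  [],
  [2,23,9,22,21,19,9,22,19,20,15,21,19,18,13,17,15],
  [],
  [2,21,22,19,23,20,20,22,16,16,21,16,18,12,14,14,12,16],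
  [],
  [],
  [],
  [],
  [],
  [],
  [],
  [],
  [],
  [],
  [],
  [],
  [2,23,23,9,22,18,20,22,23,17,19,17,22,12,14,16,14,17],
  [],
  [2,23,23,22,21,19,22,9,19,17,22,15,16,18,12,14,13,12],
  [],
  [],
  [],
  [],
  [],
  [],
  [],
  [],
  [],
  [],
  [],
  [],
  [],
  [],
  [],
  [],
  [],
  [],
  [],
  [],
  [],
  [],
  [],
  [],
  [],
  [],
  [],
  [],
  [],
  [],
  [],
  [],
  [],
  [],
  [],
  [],
  [],
  [],
  [],
  [],
  [],
  [],
  [],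
  [],
  [],
  [],
  [],
  [],
  [],
  [],
  [],
  [],
  [],
  [],
  [],
  [],
  [],
  [],
  [],
  [],
  [],
  [],
  [],
  [],
  [],
  [],
  [],
  [],
  [],
  [],
  [],
  [],
  [],
  [],
  [],
  [],
  [],
  [],
  [],
  [],
  [],
  [],
  [],
  [],
  [],
  [],
  [],
  [],
  [],
  [],
  [],
  [],
  [],
  [],
  [],
  [],
  [],
  [],
  [],
  [],
  [],
  [],
  [],
  [],
  [],
  [],
  [],
  [],
  [],
  [],
  [],
  [],
  [],
  [],
  [],
  [],
  [],
  [],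
  [],
  [],
  [],
  [],
  [],
  [],
  [],
  [],
  [],
  [],
  [],
  [],
  [],
  [],
  [],
  [],
  [],
  [],
  [],
  [],
  [],
  [],
  [],
  [],
  [],
  [],
  [],
  [],
  [],
  [],
  [],
  [],
  [],
  [],
  [],
  [],
  [],
  [],
  [],
  [0,9,23,22,19,22,9,23,15,21,22,22,12,14,16],
  [],
  [1,23,23,9,23,19,19,19,19,19,16,16,15,12,14,13,14,12],
  [],
  [],
  [],
  [],
  [],
  [],
  [],
  [],
  [],
  [],
  [],
  [],
  [],
  [0,22,21,23,19,9,18,18,17,16,18,18,12,13,16,15],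
  [],
  [1,9,22,23,9,21,18,19,20,9,15,19,18,21,14,19,13,19],
  [],
  [],
  [],
  [],
  [],
  [],
  [],
  [],
  [],
  [],
  [],
  [],
  [],
  [],
  [],
  [],
  [],
  [],
  [],
  [],
  [],
  [],
  [],
  [],
  [],
  [],
  [],
  [],
  [],
  [],
  [],
  [],
  [],
  [],
  [],
  [],
  [],
  [],
  [],
  [],
  [],
  [],
  [],
  [],
  [],
  [1,22,22,22,20,20,20,22,15,21,17,22,12,18,15,19],
  [],
  [0,22,21,22,23,23,22,19,23,19,21,22,17,12,17,12,17,19],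
  [],
  [],
  [],
  [],
  [],
  [],
  [],
  [],
  [],
  [],
  [],
  [],
  [],
  [1,22,22,22,23,23,20,9,18,15,15,22,20,14,16,16,15],
  [],
  [0,21,23,18,19,22,19,18,15,14,16,17,13,19],
  [],
  [],
  [],
  [],
  [],
  [],
  [],
  [],
  [],
  [],
  [],
  [],
  [],
  [],
  [],
  [],
  [],
  [],
  [2,22,9,22,22,9,19,21,18,21,17,17,17,21,14,12,12,17],
  [],
  [2,20,19,19,21,20,16,16,17,21,14,19,17,17,16],
  [],
  [],
  [],
  [],
  [2,23,22,23,9,21,19,9,21,16,15,21,15,12,18,12,19,15],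
  [],
  [2,9,22,9,23,20,23,20,9,16,15,16,20,12,13,17,16],
  [],
  [],
  [],
  [],
  [],
  [],
  [],
  [],
  [],
  [],
  [],
  [],
  [],
  [2,21,22,23,19,23,20,20,21,15,15,19,20,14,17,12,15],
  [],
  [2,23,21,23,20,9,19,17,22,18,16,13,13,16],
  [],
  [],
  [],
  [],
  [],
  [],
  [],
  [],
  [],
  [],
  [],
  [],
  [],
  [2,22,19,20,20,9,20,15,16,17,16,12,17,14,19,17],
  [],
  [2,20,20,20,20,9,15,18,18,14,16,15,19],
  [],
  [],
  [],
  [],
  [],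
  [2,22,22,23,22,18,22,18,17,20,20,19,14,12,15,15,19],
  [],
  [2,22,21,22,21,23,20,22,19,9,23,15,19,17,12,17,14],
  [],
  [],
  [],
  [],
  [],
  [],
  [2,23,21,22,22,21,18,22,17,17,19,20,12,18,18,16,14],
  [],
  [2,22,23,21,22,23,19,18,16,15,18,17,13,12,17,17,13],
  [],
  [],
  [],
  [],
  [],
  [],
  [],
  [],
  [],
  [],
  [],
  [],
  [],
  [],
  [],
  [],
  [],
  [],
  [],
  [],
  [],
  [],
  [],
  [],
  [],
  [],
  [],
  [],
  [],
  [],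
  [],
  [],
  [0,9,23,23,9,18,20,22,18,17,20,17,15,18,14,14,19,16],
  [],
  [1,23,23,23,9,19,17,21,20,12,17,16,19],
  [],
  [],
  [],
  [],
  [],
  [],
  [],
  [],
  [],
  [],
  [],
  [],
  [],
  [1,23,23,22,18,22,20,18,17,20,18,18,13,13,17,12],
  [],
  [0,23,9,21,22,9,18,19,19,19,17,18,19,16,20,14,17,19,15],
  [],
  [],
  [],
  [],
  [],
  [],
  [],
  [],
  [],
  [],
  [],
  [],
  [],
  [],
  [],
  [],
  [],
  [2,9,21,22,21,23,19,20,19,16,17,16,20,13,15,17,14],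
  [],
  [2,9,21,22,9,18,18,20,16,19,22,12,19,14,19,16],
  [],
  [],
  [],
  [],
  [],
  [],
  [2,9,22,21,22,23,9,21,20,18,17,22,21,20,12,18,15,19,17],
  [],
  [2,22,23,9,22,20,22,9,21,17,16,17,20,14,19],
  [],
  [],
  [],
  [],
  [],
  [],
  [],
  [],
  [],
  [],
  [],
  [],
  [],
  [],
  [],
  [],
  [2,22,22,21,18,18,9,19,16,20,18,17,14,18,14,12,15],
  [],
  [2,21,23,9,20,19,22,9,20,15,20,17,20,14,12,12,17],
  [],
  [],
  [],
  [],
  [],
  [],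
  [],
  [],
  [],
  [],
  [2,9,21,22,22,23,19,18,18,18,15,21,22,15,12,14,15,17],
  [],
  [2,23,23,23,19,20,21,19,16,17,18,22,22,14,18,17],
  [2,19,23,18,22,19,16,18,22,18,19,12,12,18,18,12,16],
  [],
  [2,20,22,19,18,17,17,15,19,18,12,16,14,12,16],
  [],
  [],
  [],
  [],
  [],
  [],
  [],
  [],
  [],
  [2,22,21,22,20,20,20,23,17,20,19,16,21,12,19,14,13,13],
  [],
  [2,23,21,20,22,19,18,15,16,16,22,13,19,12,16,19],
  [],
  [],
  [],
  [],
  [],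
  [],
  [],
  [],
  [],
  [],
  [],
  [],
  [],
  [],
  [],
  [],
  [],
  [2,22,23,9,23,9,21,18,23,18,18,16,18,17,12,14,12],
  [],
  [2,22,21,22,19,18,9,23,18,17,16,18,21,12,13,18,18,16],
  [],
  [],
  [],
  [],
  [],
  [2,23,23,22,21,22,23,20,19,21,19,15,15,22,14,15,19],
  [],
  [2,9,22,22,23,21,19,20,20,23,23,17,15,16,19,12,14,14,16],
  [],
  [],
  [],
  [],
  [],
  [2,23,9,21,19,20,9,19,21,15,21,19,19,13,18,16,17],
  [],
  [2,9,23,21,23,9,18,18,9,19,16,18,15,21,12,17,17,18,14],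
  [],
  [],
  [],
  [],
  [],
  [2,22,23,21,23,23,20,21,18,15,21,18,19,14,12,19,16],
  [],
  [2,23,22,23,9,23,19,19,21,20,23,17,15,16,14,12,16,15],
  [],
  [],
  [],
  [],
  [],
  [2,9,22,9,20,20,19,20,15,18,20,18,14,12,12,12,17],
  [],
  [2,22,23,9,23,18,22,22,16,19,19,20,12,14,14,18,14],
  [],
  [],
  [],
  [],
  [],
  [2,9,21,22,19,19,23,9,20,16,20,15,12,16,19,14,18],
  [],
  [2,23,22,19,18,18,20,22,17,18,17,19,15,14,17,17,18],
  [],
  [],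
  [],
  [],
  [],
  [],
  [],
  [],
  [],
  [2,22,23,21,20,18,18,21,20,16,19,21,12,19,13,13,19],
  [],
  [2,9,22,22,20,19,19,21,19,17,16,22,16,13,14,19],
  [],
  [],
  [],
  [],
  [],
  [],
  [],
  [],
  [],
  [2,22,22,21,23,19,23,20,9,15,17,21,14,19,12,18,12],
  [],
  [2,22,9,23,18,20,23,19,20,16,18,22,22,13,14,18,14,16],
  [],
  [],
  [],
  [],
  [],
  [],
  [],
  [],
  [],
  [],
  [],
  [],
  [],
  [2,23,9,22,23,20,18,9,18,16,19,15,22,14,14,13,17],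
  [],
  [2,9,22,9,22,21,19,20,19,19,22,15,15,19,16,12,12,19,15],
  [],
  [],
  [],
  [],
  [],
  [2,9,23,21,20,18,20,20,16,18,17,17,12,19,15,12,15],
  [],
  [2,9,22,23,9,23,23,21,19,17,19,15,16,16,13,13,12,16],
  [],
  [],
  [],
  [],
  [],
  [2,22,21,22,21,23,18,22,16,19,20,19,13,14,14,19],
  [],
  [2,23,9,23,20,22,19,23,17,15,19,20,12,12,15],
  [],
  [],
  [],
  [],
  [],
  [],
  [],
  [],
  [],
  [2,9,22,22,9,18,23,9,21,17,16,17,20,22,13,12,18],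
  [],
  [2,22,21,22,19,20,17,17,21,15,20,12,18,18],
  [],
  [],
  [],
  [],
  [],
  [],
  [],
  [],
  [],
  [],
  [],
  [],
  [],
  [2,23,23,21,22,21,19,18,18,20,17,15,17,17,14,18,17,17],
  [],
  [2,23,22,22,21,20,21,18,19,16,16,17,15,12,18,15,12,18],
  [],
  [],
  [],
  [],
  [],
  [2,9,22,22,19,19,22,19,23,17,16,18,19,13,12,19,19],
  [],
  [2,9,22,21,23,23,22,19,18,9,22,23,17,15,14,15,18,15],
  [],
  [],
  [],
  [],
  [],
  [2,22,23,22,23,9,20,9,20,15,16,20,16,12,15,12,12,17],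
  [],
  [2,9,21,23,22,23,21,18,19,19,20,17,18,17,12,18,16,13],
  [],
  [],
  [],
  [],
  [],
  [2,22,22,22,20,9,23,17,20,19,21,15,12,19,12,15,16],
  [],
  [2,23,23,19,18,21,23,21,16,16,17,18,12,19,19,12],
  [],
  [],
  [],
  [],
  [],
  [2,23,22,20,19,23,21,17,17,17,22,16,13,15,13],
  [],
  [2,23,9,22,23,22,23,18,18,17,15,16,22,17,14,14,13],
  [],
  [],
  [],
  [],
  [],
  [2,23,22,23,21,22,23,19,22,19,20,9,17,12,18,17,17,15],
  [],
  [2,9,21,22,23,21,19,22,23,20,17,15,12,19,17,13,12],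
  [],
  [],
  [],
  [],
  [],
  [],
  [],
  [],
  [],
  [],
  [],
  [],
  [],
  [],
  [2,21,23,19,23,20,19,18,17,19,15,18,12,15,12,15,18],
  [],
  [2,9,22,22,9,21,23,9,19,21,15,17,22,21,12,14,18,19],
  [],
  [],
  [],
  [],
  [2,22,23,9,22,20,19,22,18,9,17,16,18,12,13,13,13,16],
  [],
  [2,9,23,21,23,21,19,18,20,15,18,16,18,14,14,13,15,15],
  [],
  [],
  [],
  [],
  [],
  [],
  [],
  [],
  [],
  [],
  [],
  [],
  [],
  [2,23,9,19,9,19,20,18,16,19,19,19,13,17,17,16,18],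
  [],
  [2,21,22,22,22,18,9,22,17,20,20,19,12,16,12,19,18],
  [],
  [],
  [],
  [],
  [],
  [],
  [],
  [],
  [],
  [],
  [],
  [],
  [],
  [2,22,21,22,19,22,21,19,16,18,18,12,18,12,18,15],
  [],
  [2,23,21,18,19,22,19,18,15,16,16,18,14,17,16,19,15],
  [],
  [],
  [],
  [],
  [],
  [2,22,18,19,23,15,15,19,17,14,12,15,17],
  [],
  [2,22,23,22,20,20,20,21,15,16,19,21,14,12,16,16,19],
  [],
  [],
  [],
  [],
  [],
  [],
  [2,9,23,21,22,23,21,19,19,21,22,16,15,19,20,14,16,14,17],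
  [],
  [2,9,21,23,23,19,19,18,21,16,18,20,17,22,12,18,18,16],
  [],
  [],
  [],
  [],
  [],
  [2,22,22,22,20,20,18,21,16,19,17,20,19,13,13,15,16],
  [],
  [2,23,21,19,21,19,18,19,17,17,20,15,16,12,17,15,18],
  [],
  [],
  [],
  [],
  [2,9,23,23,9,20,21,17,16,18,20,12,15,13,12,17],
  [],
  [2,9,21,23,23,23,19,22,23,18,15,19,21,20,13,13,17],
  [],
  [],
  [],
  [],
  [],
  [],
  [],
  [],
  [],
  [],
  [],
  [],
  [],
  [],
  [],
  [],
  [],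
  [],
  [2,23,23,9,22,21,18,19,9,20,16,17,18,16,12,19,13,16],
  [],
  [2,9,23,9,22,22,19,22,19,18,18,16,16,19,16,14,19,15],
  [],
  [],
  [],
  [],
  [],
  [],
  [],
  [],
  [2,9,23,21,22,23,21,23,18,19,9,22,15,21,16,14,13,17,14],
  [],
  [2,9,23,22,22,9,19,22,19,23,17,18,18,14,17,17,17],
  [],
  [],
  [2,9,21,23,9,19,22,20,20,22,16,16,18,21,14,18,19,17],
  [],
  [2,9,23,23,22,21,22,20,21,22,15,20,17,18,12,16],
  [],
  [],
  [],
  [],
  [],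
  [],
  [],
  [],
  [],
  [2,9,23,23,21,23,21,20,9,18,16,22,12,16,13,17],
  [],
  [2,23,19,21,18,19,9,16,16,22,20,12,15,15,13,19],
  [],
  [],
  [],
  [],
  [2,23,23,23,9,21,18,18,21,18,17,22,21,22,13,14,13,16],
  [],
  [2,21,23,21,23,21,20,9,22,17,15,15,13,12,16,15],
  [],
  [],
  [],
  [],
  [],
  [],
  [2,22,21,23,21,19,22,9,23,16,22,18,13,14,17,18,12],
  [],
  [2,21,22,22,23,22,19,19,20,20,17,17,22,19,13,14,19],
  [],
  [],
  [],
  [],
  [],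
  [],
  [],
  [],
  [],
  [],
  [],
  [],
  [],
  [],
  [],
  [],
  [2,23,23,21,22,19,21,22,17,18,16,12,16,12,18],
  [],
  [2,23,22,21,23,21,19,23,20,19,16,22,21,15,14,17,16,13,15],
  [],
  [],
  [],
  [],
  [],
  [],
  [],
  [],
  [],
  [],
  [2,9,21,22,19,22,18,19,21,17,20,16,17,19,14,15,12,19,15],
  [],
  [2,9,23,23,22,9,19,21,23,23,15,22,20,22,14,15,17],
  [2,21,23,18,19,18,9,17,15,21,16,12,12,12,18,15],
  [],
  [2,9,23,22,21,23,22,18,22,17,17,16,16,17,14,15,16,13,18],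
  [],
  [],
  [],
  [],
  [],
  [],
  [],
  [],
  [],
  [2,9,23,22,21,22,18,19,17,17,16,15,19,13,13,16,13,15],
  [],
  [2,9,19,23,21,20,17,16,15,21,21,13,18,16,17],
  [],
  [],
  [],
  [],
  [],
  [2,23,23,23,9,20,23,18,16,21,18,12,13,15,16,19],
  [],
  [2,21,22,9,22,20,22,19,16,15,18,12,19,13,19,12],
  [],
  [],
  [],
  [],
  [],
  [],
  [],
  [],
  [],
  [],
  [],
  [],
  [],
  [],
  [],
  [],
  [],
  [2,23,21,22,23,9,19,18,16,22,18,15,14,14,14,16,17],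
  [],
  [2,23,21,18,21,19,17,21,20,20,12,16,15,18],
  [],
  [],
  [],
  [],
  [],
  [2,9,23,9,18,19,23,21,20,15,22,21,16,14,17,14,18,18],
  [],
  [2,23,9,22,21,20,18,23,20,17,21,21,16,14,16,13,15],
  [],
  [],
  [],
  [],
  [],
  [],
  [],
  [],
  [],
  [],
  [],
  [],
  [],
  [2,9,23,22,9,21,23,21,19,18,22,20,9,17,19,18,21],
  [],
  [2,23,20,20,23,22,23,15,19,15,20,14,12,12,16,16],
  [],
  [],
  [],
  [],
  [],
  [2,22,21,23,21,22,23,20,21,20,22,15,16,15,17,12,14,17,19],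
  [],
  [2,22,9,23,21,22,21,18,22,18,17,16,19,12,18,13,18,18],
  [],
  [2,22,23,21,19,18,22,20,21,15,19,15,12,15,15,17,19],
  [],
  [2,22,9,23,9,19,21,23,23,23,15,17,19,12,15,18,19,13],
  [],
  [],
  [],
  [],
  [],
  [],
  [],
  [],
  [],
  [],
  [],
  [],
  [],
  [],
  [],
  [],
  [],
  [],
  [],
  [],
  [],
  [1,23,9,22,21,19,9,18,17,17,17,17,14,19,17,16,15],
  [],
  [0,21,22,23,19,22,22,21,22,17,21,15,19,12,12,19,12,18],
  [],
  [],
  [],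
  [],
  [],
  [],
  [],
  [],
  [],
  [],
  [],
  [],
  [],
  [1,9,21,23,22,22,18,18,15,21,15,18,12,16,14,12,16],
  [],
  [0,22,22,21,19,19,20,18,23,17,19,15,22,14,16,18,16],
  [],
  [],
  [],
  [],
  [],
  [],
  [],
  [],
  [],
  [],
  [],
  [],
  [],
  [],
  [],
  [],
  [],
  [],
  [],
  [],
  [],
  [],
  [],
  [],
  [],
  [],
  [],
  [],
  [],
  [],
  [],
  [],
  [],
  [2,22,21,20,22,23,22,17,18,17,18,13,15,18,19,14],
  [],
  [2,21,22,22,21,23,23,19,9,18,23,13,12,19,13,19],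
  [],
  [2,22,9,22,22,23,19,23,16,16,17,21,14,19,16,19,19],
  [],
  [2,22,21,18,21,18,18,17,20,18,22,18,14,13,19],
  [],
  [],
  [],
  [],
  [],
  [2,22,23,23,9,22,23,18,23,17,17,20,16,17,13,18,14,12],
  [],
  [2,23,9,22,19,9,22,9,15,18,21,12,12,14,17,13],
  [],
  [],
  [],
  [],
  [],
  [],
  [],
  [],
  [],
  [],
  [],
  [],
  [],
  [2,23,22,9,23,9,21,20,22,20,18,17,20,18,16,14,12,13],
  [],
  [2,23,22,9,22,21,22,18,19,20,9,17,21,19,21,12,15,18,16],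
  [],
  [],
  [],
  [],
  [],
  [2,23,22,23,21,22,18,20,17,20,20,17,13,14,19,19],
  [],
  [2,22,23,21,19,23,19,21,16,16,20,21,13,19,16,15],
  [],
  [],
  [],
  [],
  [],
  [],
  [],
  [],
  [],
  [],
  [],
  [],
  [],
  [],
  [],
  [],
  [],
  [2,9,23,23,22,23,21,22,20,9,19,16,17,13,12,18,12],
  [],
  [2,9,23,22,21,23,22,23,9,20,17,15,17,18,12,13,14],
  [],
  [],
  [2,23,21,19,20,19,21,22,15,17,16,12,14,19,16],
  [],
  [2,21,19,18,21,22,20,16,16,18,18,12,19,16,18],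
  [],
  [],
  [],
  [],
  [2,9,21,22,20,18,19,23,17,18,17,22,17,12,19,14,18,12],
  [],
  [2,23,22,9,21,23,19,23,23,17,20,13,16,13,15],
  [],
  [],
  [],
  [],
  [],
  [],
  [],
  [],
  [],
  [],
  [],
  [],
  [],
  [],
  [],
  [],
  [],
  [],
  [2,9,23,23,19,19,21,20,17,19,18,18,17,14,16,14],
  [],
  [2,23,23,21,22,21,19,19,18,9,17,20,19,21,13,13,14,15],
  [],
  [],
  [],
  [],
  [],
  [],
  [],
  [],
  [2,22,21,23,23,19,23,18,9,20,15,19,22,22,12,17,17,15,19],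
  [],
  [2,9,23,23,21,20,9,19,21,17,17,20,18,22,14,14,13,19],
  [],
  [],
  [2,22,23,9,23,9,19,23,20,20,17,19,18,12,12,18,18,17],
  [],
  [2,9,21,22,9,22,20,19,23,9,17,22,19,16,16,14,13,19],
  [],
  [],
  [],
  [],
  [],
  [],
  [],
  [],
  [],
  [2,23,9,22,19,9,21,20,22,16,15,12,17,17,19,13],
  [],
  [2,9,21,19,9,18,21,17,22,21,18,12,12,15,12,15],
  [],
  [],
  [],
  [],
  [],
  [],
  [],
  [],
  [2,21,19,21,19,20,23,16,16,20,17,18,12,16,16,16],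
  [],
  [2,23,9,19,20,23,17,18,18,22,15,14,14,15,18],
  [],
  [],
  [],
  [],
  [],
  [],
  [],
  [],
  [],
  [2,22,23,22,21,19,20,22,15,19,21,12,19,16,16,14],
  [],
  [2,23,9,23,9,19,21,22,19,17,16,21,15,15,12,14,13,16],
  [],
  [],
  [],
  [],
  [],
  [2,9,21,23,21,22,23,23,19,19,16,22,18,14,16,19,15],
  [],
  [2,9,23,22,9,21,19,18,22,21,16,20,16,16,13,16,17],
  [],
  [],
  [],
  [],
  [],
  [2,21,22,19,20,20,23,17,22,22,15,19,12,14,17,14],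
  [],
  [2,9,23,22,21,20,9,20,9,19,15,20,18,12,12,12,14,19],
  [],
  [],
  [],
  [],
  [],
  [],
  [],
  [],
  [],
  [],
  [],
  [],
  [],
  [2,23,9,23,9,19,23,19,15,15,15,19,14,12,14,17,18],
  [],
  [2,9,21,22,18,22,18,23,15,15,17,14,18,13],
  [],
  [],
  [],
  [],
  [],
  [],
  [],
  [],
  [],
  [2,23,23,22,9,21,20,23,23,18,15,21,17,18,14,18,17],
  [],
  [2,23,9,22,21,23,19,15,20,20,22,14,14,19,13],
  [],
  [],
  [],
  [],
  [],
  [],
  [],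
  [],
  [],
  [],
  [],
  [],
  [],
  [],
  [],
  [],
  [],
  [],
  [],
  [],
  [],
  [],
  [],
  [],
  [],
  [],
  [],
  [],
  [],
  [],
  [],
  [],
  [],
  [],
  [],
  [],
  [],
  [],
  [],
  [],
  [],
  [],
  [],
  [],
  [],
  [],
  [],
  [],
  [],
  [],
  [],
  [],
  [],
  [],
  [],
  [],
  [],
  [],
  [],
  [],
  [],
  [],
  [],
  [],
  [],
  [],
  [],
  [],
  [],
  [],
  [],
  [],
  [],
  [],
  [],
  [],
  [],
  [],
  [],
  [],
  [],
  [],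
  [],
  [],
  [],
  [],
  [],
  [],
  [],
  [],
  [],
  [],
  [],
  [],
  [],
  [],
  [],
  [],
  [],
  [],
  [],
  [],
  [],
  [],
  [],
  [],
  [],
  [],
  [],
  [],
  [],
  [],
  [],
  [],
  [],
  [],
  [],
  [],
  [],
  [],
  [],
  [],
  [],
  [],
  [],
  [],
  [],
  [],
  [],
  [],
  [],
  [],
  [],
  [],
  [],
  [],
  [],
  [],
  [],
  [],
  [],
  [],
  [],
  [],
  [],
  [],
  [],
  [],
  [],
  [],
  [],
  [],
  [],
  [],
  [],
  [],
  [],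
  [],
  [],
  [],
  [],
  [],
  [],
  [],
  [],
  [],
  [],
  [],
  [],
  [],
  [],
  [],
  [],
  [],
  [],
  [],
  [],
  [],
  [],
  [],
  [],
  [],
  [],
  [],
  [],
  [],
  [],
  [],
  [],
  [],
  [],
  [],
  [],
  [],
  [],
  [],
  [],
  [],
  [],
  [],
  [],
  [],
  [],
  [],
  [],
  [],
  [],
  [],
  [],
  [],
  [],
  [],
  [],
  [],
  [],
  [],
  [],
  [],
  [],
  [],
  [],
  [],
  [],
  [],
  [],
  [],
  [],
  [],
  [],
  [],
  [],
  [],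
  [],
  [],
  [],
  [],
  [],
  [],
  [],
  [],
  [],
  [],
  [],
  [],
  [],
  [],
  [],
  [],
  [],
  [],
  [],
  [],
  [],
  [],
  [],
  [],
  [],
  [],
  [],
  [],
  [],
  [],
  [],
  [],
  [],
  [],
  [],
  [],
  [],
  [],
  [],
  [],
  [],
  [],
  [],
  [],
  [],
  [],
  [],
  [],
  [],
  [],
  [],
  [],
  [],
  [],
  [],
  [],
  [],
  [],
  [],
  [],
  [],
  [],
  [],
  [],
  [],
  [],
  [],
  [],
  [],
  [],
  [],
  [],
  [],
  [],
  [],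
  [],
  [],
  [],
  [],
  [],
  [],
  [],
  [],
  [],
  [],
  [],
  [],
  [],
  [],
  [],
  [],
  [],
  [],
  [],
  [],
  [],
  [],
  [],
  [],
  [],
  [],
  [],
  [],
  [],
  [],
  [],
  [],
  [],
  [],
  [],
  [],
  [],
  [],
  [],
  [],
  [],
  [],
  [],
  [],
  [],
  [],
  [],
  [],
  [],
  [],
  [],
  [],
  [],
  [],
  [],
  [],
  [],
  [],
  [],
  [],
  [],
  [],
  [],
  [],
  [],
  [],
  [],
  [],
  [],
  [],
  [],
  [],
  [],
  [],
  [],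
  [],
  [],
  [],
  [],
  [],
  [],
  [],
  [],
  [],
  [],
  [],
  [],
  [],
  [],
  [],
  [],
  [],
  [],
  [],
  [],
  [],
  [],
  [],
  [],
  [],
  [],
  [],
  [],
  [],
  [],
  [],
  [],
  [],
  [],
  [],
  [],
  [],
  [],
  [],
  [],
  [],
  [],
  [],
  [],
  [],
  [],
  [],
  [],
  [],
  [],
  [],
  [],
  [],
  [],
  [],
  [],
  [],
  [],
  [],
  [],
  [],
  [],
  [],
  [],
  [],
  [],
  [],
  [],
  [],
  [],
  [],
  [],
  [],
  [],
  [],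
  [],
  [],
  [],
  [],
  [],
  [],
  [],
  [],
  [],
  [],
  [],
  [],
  [],
  [],
  [],
  [],
  [],
  [],
  [],
  [],
  [],
  [],
  [],
  [],
  [],
  [],
  [],
  [],
  [],
  [],
  [],
  [],
  [],
  [],
  [],
  [],
  [],
  [],
  [],
  [],
  [],
  [],
  [],
  [],
  [],
  [],
  [],
  [],
  [],
  [],
  [],
  [],
  [],
  [],
  [],
  [],
  [],
  [],
  [],
  [],
  [],
  [],
  [],
  [],
  [],
  [],
  [],
  [],
  [],
  [],
  [],
  [],
  [],
  [],
  [],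
  [],
  [],
  [],
  [],
  [],
  [],
  [],
  [],
  [],
  [],
  [],
  [],
  [],
  [],
  [],
  [],
  [],
  [],
  [],
  [],
  [],
  [],
  [],
  [],
  [],
  [],
  [],
  [],
  [],
  [],
  [],
  [],
  [],
  [],
  [],
  [],
  [],
  [],
  [],
  [],
  [],
  [],
  [],
  [],
  [],
  [],
  [],
  [],
  [],
  [],
  [],
  [],
  [],
  [],
  [],
  [],
  [],
  [],
  [],
  [],
  [],
  [],
  [],
  [],
  [],
  [],
  [],
  [],
  [],
  [],
  [],
  [],
  [],
  [],
  [],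
  [],
  [],
  [],
  [],
  [],
  [],
  [],
  [],
  [],
  [],
  [],
  [],
  [],
  [],
  [],
  [],
  [],
  [],
  [],
  [],
  [],
  [],
  [],
  [],
  [],
  [],
  [],
  [],
  [],
  [],
  [],
  [],
  [],
  [],
  [],
  [],
  [],
  [],
  [],
  [],
  [],
  [],
  [],
  [],
  [],
  [],
  [],
  [],
  [],
  [],
  [],
  [],
  [],
  [],
  [],
  [],
  [],
  [],
  [],
  [],
  [],
  [],
  [],
  [],
  [],
  [],
  [],
  [],
  [],
  [],
  [],
  [],
  [],
  [],
  [],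
  [],
  [],
  [],
  [],
  [],
  [],
  [],
  [],
  [],
  [],
  [],
  [],
  [],
  [],
  [],
  [],
  [],
  [],
  [],
  [],
  [],
  [],
  [],
  [],
  [],
  [],
  [],
  [],
  [],
  [],
  [],
  [],
  [],
  [],
  [],
  [],
  [],
  [],
  [],
  [],
  [],
  [],
  [],
  [],
  [],
  [],
  [],
  [],
  [],
  [],
  [],
  [],
  [],
  [],
  [],
  [],
  [],
  [],
  [],
  [],
  [],
  [],
  [],
  [],
  [],
  [],
  [],
  [],
  [],
  [],
  [],
  [],
  [],
  [],
  [],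
  [],
  [],
  [],
  [],
  [],
  [],
  [],
  [],
  [],
  [],
  [],
  [],
  [],
  [],
  [],
  [],
  [],
  [],
  [],
  [],
  [],
  [],
  [],
  [],
  [],
  [],
  [],
  [],
  [],
  [],
  [],
  [],
  [],
  [],
  [],
  [],
  [],
  [],
  [],
  [],
  [],
  [],
  [],
  [],
  [],
  [],
  [],
  [],
  [],
  [],
  [],
  [],
  [],
  [],
  [],
  [],
  [],
  [],
  [],
  [],
  [],
  [],
  [],
  [],
  [],
  [],
  [],
  [],
  [],
  [],
  [],
  [],
  [],
  [],
  [],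
  [],
  [],
  [],
  [],
  [],
  [],
  [],
  [],
  [],
  [],
  [],
  [],
  [],
  [],
  [],
  [],
  [],
  [],
  [],
  [],
  [],
  [],
  [],
  [],
  [],
  [],
  [],
  [],
  [],
  [],
  [],
  [],
  [],
  [],
  [],
  [],
  [],
  [],
  [],
  [],
  [],
  [],
  [],
  [],
  [],
  [],
  [],
  [],
  [],
  [],
  [],
  [],
  [],
  [],
  [],
  [],
  [],
  [],
  [],
  [],
  [],
  [],
  [],
  [],
  [],
  [],
  [],
  [],
  [],
  [],
  [],
  [],
  [],
  [],
  [],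
  [],
  [],
  [],
  [],
  [],
  [],
  [],
  [],
  [],
  [],
  [],
  [],
  [],
  [],
  [],
  [],
  [],
  [],
  [],
  [],
  [],
  [],
  [],
  [],
  [],
  [],
  [],
  [],
  [],
  [],
  [],
  [],
  [],
  [],
  [],
  [],
  [],
  [],
  [],
  [],
  [],
  [],
  [],
  [],
  [],
  [],
  [],
  [],
  [],
  [],
  [],
  [],
  [],
  [],
  [],
  [],
  [],
  [],
  [],
  [],
  [],
  [],
  [],
  [],
  [],
  [],
  [],
  [],
  [],
  [],
  [],
  [],
  [],
  [],
  [],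
  [],
  [],
  [],
  [],
  [],
  [],
  [],
  [],
  [],
  [],
  [],
  [],
  [],
  [],
  [],
  [],
  [],
  [],
  [],
  [],
  [],
  [],
  [],
  [],
  [],
  [],
  [],
  [],
  [],
  [],
  [],
  [],
  [],
  [],
  [],
  [],
  [],
  [],
  [],
  [],
  [],
  [],
  [],
  [1,23,23,23,20,9,22,23,19,16,19,21,14,13,18,13,19],
  [],
  [2,22,21,22,23,19,20,18,18,16,19,17,20,12,19,16,18],
  [],
  [],
  [],
  [],
  [],
  [],
  [],
  [],
  [],
  [],
  [],
  [],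
  [],
  [],
  [],
  [],
  [],
  [],
  [],
  [],
  [],
  [],
  [],
  [],
  [],
  [],
  [],
  [],
  [],
  [],
  [],
  [],
  [],
  [],
  [],
  [],
  [],
  [],
  [],
  [],
  [],
  [],
  [],
  [],
  [],
  [],
  [],
  [],
  [],
  [],
  [],
  [],
  [],
  [1,22,22,9,23,19,18,9,18,16,18,18,18,13,15,19,14],
  [],
  [2,23,9,23,23,22,19,20,9,18,9,16,18,20,16,12,16,16],
  [],
  [],
  [],
  [],
  [],
  [1,23,21,22,22,23,20,23,19,17,20,22,16,13,14,18,14],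
  [],
  [2,23,23,22,23,23,19,21,19,18,16,22,18,18,12,19,17,17,18],
  [],
  [],
  [],
  [],
  [],
  [],
  [],
  [],
  [],
  [],
  [],
  [],
  [],
  [],
  [],
  [],
  [],
  [],
  [],
  [],
  [],
  [],
  [],
  [],
  [],
  [],
  [],
  [],
  [],
  [],
  [],
  [],
  [],
  [],
  [],
  [],
  [],
  [],
  [],
  [],
  [],
  [],
  [],
  [],
  [],
  [],
  [],
  [],
  [],
  [],
  [],
  [],
  [],
  [1,9,22,9,22,9,19,20,19,16,16,15,22,12,19,19,16,17],
  [],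
  [2,21,22,9,22,19,19,23,23,15,20,17,12,18,19,19,13],
  [],
  [],
  [],
  [],
  [],
  [],
  [],
  [],
  [],
  [],
  [],
  [],
  [],
  [],
  [],
  [],
  [],
  [],
  [],
  [],
  [],
  [],
  [],
  [],
  [],
  [],
  [],
  [],
  [],
  [],
  [],
  [],
  [],
  [],
  [1,9,22,22,20,21,22,23,17,18,12,12,14,17,18],
  [],
  [2,23,22,9,22,23,22,19,18,9,17,17,22,14,18,15,16,19],
  [],
  [],
  [],
  [],
  [],
  [],
  [],
  [],
  [],
  [],
  [],
  [],
  [],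
  [1,9,22,21,23,19,19,19,19,17,19,17,22,21,12,12,12,14,19],
  [],
  [2,9,22,9,23,9,21,20,16,16,19,15,14,19,14,17],
  [],
  [],
  [],
  [],
  [],
  [],
  [],
  [],
  [],
  [],
  [],
  [],
  [],
  [],
  [],
  [],
  [],
  [],
  [],
  [],
  [],
  [],
  [],
  [],
  [],
  [],
  [],
  [],
  [],
  [],
  [],
  [],
  [],
  [1,9,23,9,23,21,19,20,23,17,16,21,21,21,12,19,17,17],
  [],
  [2,23,22,21,22,19,19,22,22,22,16,15,19,12,16,13,16],
  [],
  [],
  [],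
  [],
  [],
  [],
  [],
  [],
  [],
  [],
  [],
  [],
  [],
  [1,22,21,22,19,19,22,9,20,15,22,19,12,14,18,13,13],
  [],
  [2,9,20,20,21,19,19,16,17,16,17,12,14,16],
  [],
  [],
  [],
  [],
  [],
  [],
  [],
  [],
  [],
  [],
  [],
  [],
  [],
  [],
  [],
  [],
  [],
  [],
  [],
  [],
  [],
  [],
  [],
  [],
  [],
  [],
  [],
  [],
  [],
  [],
  [],
  [],
  [],
  [],
  [],
  [],
  [],
  [],
  [],
  [],
  [],
  [],
  [],
  [],
  [],
  [],
  [],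
  [],
  [],
  [],
  [],
  [],
  [],
  [],
  [],
  [],
  [1,23,21,23,9,20,23,9,16,22,17,16,14,16,17,13],
  [],
  [2,9,23,23,9,22,19,9,18,15,17,15,20,14,18,12,18,19],
  [],
  [],
  [],
  [],
  [],
  [],
  [],
  [],
  [],
  [],
  [],
  [],
  [],
  [2,9,21,22,9,18,18,20,19,15,20,21,18,12,15,12,14],
  [],
  [1,9,23,23,22,21,19,19,23,19,18,16,22,16,15,13,18,14],
  [],
  [],
  [],
  [],
  [],
  [],
  [],
  [],
  [],
  [],
  [],
  [],
  [],
  [],
  [],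
  [],
  [],
  [],
  [],
  [],
  [],
  [],
  [],
  [],
  [],
  [],
  [],
  [],
  [],
  [],
  [],
  [],
  [],
  [],
  [2,23,9,23,19,20,20,19,21,17,22,22,15,19,12,19,18,15],
  [],
  [1,21,19,19,20,20,20,18,17,17,17,20,22,12,17,19,17,12],
  [],
  [],
  [],
  [],
  [],
  [],
  [],
  [],
  [],
  [],
  [],
  [],
  [],
  [2,22,9,22,18,18,9,15,19,20,17,12,12,15,16,17,12],
  [],
  [1,23,21,22,9,21,19,9,18,21,16,21,12,18,15],
  [],
  [],
  [],
  [],
  [],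
  [],
  [],
  [],
  [],
  [],
  [],
  [],
  [],
  [],
  [],
  [],
  [],
  [],
  [],
  [],
  [],
  [],
  [],
  [],
  [],
  [],
  [],
  [],
  [],
  [],
  [],
  [],
  [],
  [],
  [],
  [],
  [],
  [],
  [],
  [],
  [],
  [],
  [],
  [],
  [],
  [],
  [],
  [],
  [],
  [],
  [],
  [],
  [],
  [],
  [],
  [],
  [2,22,9,23,23,20,21,19,21,17,15,22,15,16,13,12],
  [],
  [1,21,23,21,22,9,21,20,18,19,20,18,16,18,18,13,13,13,12],
  [],
  [],
  [],
  [],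
  [],
  [],
  [],
  [],
  [],
  [],
  [],
  [],
  [],
  [1,23,22,23,9,21,20,19,16,17,15,21,14,15,15,13],
  [],
  [2,23,21,19,19,18,9,22,16,18,21,22,12,18,12,18,18],
  [],
  [],
  [],
  [],
  [],
  [],
  [],
  [],
  [],
  [],
  [],
  [],
  [],
  [],
  [],
  [],
  [],
  [],
  [],
  [],
  [],
  [2,9,19,18,20,19,9,16,21,18,15,13,17,19,14,17],
  [],
  [1,9,22,23,21,22,20,22,20,16,17,17,20,12,18,13,18],
  [],
  [],
  [],
  [],
  [],
  [],
  [],
  [],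
  [],
  [],
  [],
  [],
  [],
  [],
  [],
  [],
  [],
  [],
  [],
  [],
  [],
  [],
  [],
  [],
  [],
  [],
  [],
  [],
  [],
  [],
  [],
  [],
  [],
  [],
  [],
  [],
  [],
  [],
  [],
  [],
  [],
  [],
  [],
  [],
  [],
  [],
  [],
  [],
  [],
  [],
  [],
  [],
  [],
  [1,22,23,18,23,19,9,15,22,16,20,12,13,18,14,13],
  [],
  [2,9,21,23,22,22,20,9,22,18,17,17,17,20,12,19,15,17,18],
  [],
  [],
  [],
  [],
  [],
  [1,9,22,21,22,21,18,23,16,15,17,20,14,19,12,17,12],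
  [],
  [2,21,23,22,21,22,23,19,20,20,17,15,18,21,14,15,16,12],
  [],
  [],
  [],
  [],
  [],
  [],
  [],
  [],
  [],
  [],
  [],
  [],
  [],
  [],
  [],
  [],
  [],
  [],
  [],
  [],
  [],
  [],
  [],
  [],
  [],
  [],
  [],
  [],
  [],
  [],
  [],
  [],
  [],
  [],
  [],
  [],
  [],
  [],
  [],
  [],
  [],
  [],
  [],
  [],
  [],
  [],
  [],
  [],
  [],
  [],
  [],
  [],
  [],
  [1,23,22,23,23,21,20,21,20,20,15,18,17,14,17,16,19],
  [],
  [2,9,22,23,22,23,19,20,9,23,21,15,16,16,14,12,15],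
  [],
  [],
  [2,22,23,21,22,9,19,23,20,9,16,12,12,14,14],
  [],
  [1,23,21,19,19,20,21,20,21,15,20,18,19,14,13,13,19],
  [],
  [],
  [],
  [],
  [],
  [],
  [],
  [],
  [],
  [],
  [],
  [],
  [],
  [],
  [],
  [],
  [],
  [],
  [],
  [],
  [],
  [],
  [],
  [],
  [],
  [],
  [],
  [],
  [],
  [],
  [],
  [],
  [],
  [],
  [],
  [],
  [],
  [],
  [],
  [],
  [],
  [],
  [],
  [],
  [],
  [],
  [],
  [],
  [],
  [],
  [],
  [],
  [],
  [1,22,23,21,22,18,19,22,21,17,22,17,14,13,15,18],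
  [],
  [2,9,21,18,18,23,9,17,18,16,18,21,12,15,12,12,15],
  [],
  [],
  [],
  [],
  [],
  [],
  [],
  [],
  [],
  [1,9,21,22,21,23,9,19,23,21,16,22,15,22,17,14,12,15],
  [],
  [2,9,21,23,22,23,9,23,20,18,22,22,17,22,18,14,14,15],
  [],
  [],
  [],
  [],
  [],
  [],
  [],
  [],
  [],
  [],
  [],
  [],
  [],
  [],
  [],
  [],
  [],
  [],
  [],
  [],
  [],
  [],
  [],
  [],
  [],
  [],
  [],
  [],
  [],
  [],
  [],
  [],
  [],
  [],
  [],
  [],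
  [],
  [],
  [],
  [],
  [],
  [],
  [],
  [],
  [],
  [],
  [],
  [],
  [],
  [],
  [],
  [],
  [],
  [2,23,23,21,22,23,19,19,21,17,18,21,21,22,12,17,16,12],
  [],
  [1,22,21,23,19,9,23,17,15,16,19,20,14,12,14,17,14],
  [],
  [],
  [],
  [],
  [],
  [2,23,23,22,19,19,18,20,19,17,20,15,21,14,14,13,17],
  [],
  [1,21,23,21,22,19,20,18,22,18,16,15,22,19,16,12,15],
  [],
  [],
  [],
  [],
  [],
  [],
  [],
  [],
  [],
  [],
  [],
  [],
  [],
  [],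
  [],
  [],
  [],
  [],
  [],
  [],
  [],
  [],
  [],
  [],
  [],
  [],
  [],
  [],
  [],
  [],
  [],
  [],
  [],
  [],
  [],
  [],
  [],
  [],
  [],
  [],
  [],
  [],
  [],
  [],
  [],
  [],
  [],
  [],
  [],
  [],
  [],
  [],
  [],
  [1,9,23,23,22,19,22,23,23,16,19,13,16,15,12],
  [],
  [2,9,22,23,22,19,9,23,22,17,17,15,14,19,19,16],
  [],
  [],
  [],
  [],
  [],
  [],
  [],
  [],
  [],
  [],
  [],
  [],
  [],
  [],
  [],
  [],
  [],
  [],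
  [],
  [],
  [],
  [],
  [],
  [],
  [],
  [],
  [],
  [],
  [],
  [1,9,23,23,9,20,22,9,21,16,18,17,18,12,13,15,12],
  [],
  [2,23,23,21,23,22,20,19,22,9,16,19,12,16,12,15,14],
  [],
  [],
  [],
  [],
  [],
  [],
  [],
  [],
  [],
  [],
  [],
  [],
  [],
  [2,23,22,9,18,22,22,15,21,18,21,12,19,18,16,13],
  [],
  [1,22,9,22,23,19,20,19,22,18,16,19,20,20,13,16,17,15],
  [],
  [],
  [],
  [],
  [],
  [],
  [],
  [],
  [],
  [],
  [],
  [],
  [],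
  [],
  [],
  [],
  [],
  [],
  [],
  [],
  [],
  [],
  [],
  [],
  [],
  [],
  [],
  [],
  [],
  [],
  [],
  [],
  [1,22,23,23,22,23,21,20,18,20,18,16,21,18,17,14,16,19,14],
  [],
  [2,9,23,23,19,19,23,20,15,21,21,16,13,14,19,15],
  [],
  [],
  [],
  [],
  [],
  [],
  [],
  [],
  [],
  [],
  [],
  [],
  [],
  [1,9,21,22,9,21,20,17,20,16,16,15,14,16,12,12],
  [],
  [2,23,22,19,21,18,19,17,17,17,15,21,14,12,12,16],
  [],
  [],
  [],
  [],
  [],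
  [],
  [],
  [],
  [],
  [],
  [],
  [],
  [],
  [],
  [],
  [],
  [],
  [],
  [],
  [],
  [],
  [],
  [],
  [],
  [],
  [],
  [],
  [],
  [],
  [],
  [],
  [],
  [],
  [],
  [],
  [],
  [],
  [],
  [],
  [],
  [],
  [],
  [],
  [],
  [],
  [2,23,21,22,9,21,20,9,19,20,9,17,22,16,22,14,17,12],
  [],
  [1,22,23,23,9,20,20,20,20,20,15,16,17,18,12,18,18],
  [],
  [],
  [],
  [],
  [],
  [],
  [],
  [],
  [],
  [],
  [],
  [],
  [],
  [1,23,9,22,22,9,20,20,18,21,23,15,18,18,13,12,13],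
  [],
  [2,23,23,21,23,23,19,20,20,16,22,12,13,16,13],
  [],
  [],
  [],
  [],
  [],
  [],
  [],
  [],
  [],
  [],
  [],
  [],
  [],
  [],
  [],
  [],
  [],
  [],
  [],
  [],
  [],
  [],
  [],
  [],
  [],
  [],
  [],
  [],
  [],
  [],
  [1,9,22,22,22,20,18,18,23,15,16,15,20,15,14,12,18,17,17],
  [],
  [2,9,23,23,21,23,23,20,22,22,15,21,21,17,12,17,16,12],
  [],
  [],
  [],
  [],
  [],
  [],
  [],
  [],
  [],
  [],
  [],
  [],
  [],
  [],
  [],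
  [],
  [],
  [],
  [],
  [],
  [],
  [],
  [],
  [],
  [],
  [],
  [],
  [],
  [],
  [],
  [],
  [],
  [],
  [],
  [],
  [],
  [],
  [],
  [],
  [],
  [],
  [],
  [],
  [],
  [],
  [],
  [],
  [],
  [],
  [],
  [],
  [],
  [],
  [1,23,9,22,22,20,23,20,23,15,17,15,12,14,15,12],
  [],
  [2,23,22,23,22,21,19,22,19,18,17,21,17,12,13,17,14,19],
  [],
  [],
  [],
  [],
  [1,22,21,22,19,18,21,20,18,16,17,16,21,16,14,19,17,13],
  [],
  [2,23,23,9,21,22,18,18,23,17,22,22,19,14,18,19,13,13],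
  [],
  [],
  [],
  [],
  [],
  [],
  [],
  [],
  [],
  [],
  [],
  [],
  [],
  [],
  [],
  [],
  [],
  [],
  [],
  [],
  [],
  [],
  [],
  [],
  [],
  [],
  [],
  [],
  [],
  [],
  [],
  [],
  [],
  [],
  [],
  [],
  [],
  [],
  [],
  [],
  [],
  [],
  [],
  [],
  [],
  [],
  [],
  [],
  [],
  [],
  [],
  [],
  [],
  [1,21,22,23,19,23,21,19,21,16,15,22,16,12,17,13,16,14],
  [],
  [2,9,22,9,19,23,19,18,16,18,14,15,16,18],
  [],
  [],
  [],
  [],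
  [],
  [1,9,23,22,21,22,23,20,18,17,20,21,17,13,13,15,14],
  [],
  [2,21,22,23,22,20,22,19,18,20,17,16,22,15,17,12,12,15],
  [],
  [],
  [],
  [],
  [],
  [],
  [],
  [],
  [],
  [],
  [],
  [],
  [],
  [],
  [],
  [],
  [],
  [],
  [],
  [],
  [],
  [],
  [],
  [],
  [],
  [],
  [],
  [],
  [],
  [],
  [],
  [],
  [],
  [],
  [],
  [],
  [],
  [],
  [],
  [],
  [],
  [],
  [],
  [],
  [],
  [],
  [],
  [],
  [],
  [],
  [],
  [],
  [],
  [1,23,22,9,23,9,21,15,16,21,20,14,15,15,18,18],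
  [],
  [2,23,23,23,9,21,20,18,21,22,17,21,22,13,13],
  [],
  [],
  [],
  [],
  [],
  [],
  [],
  [],
  [],
  [],
  [],
  [],
  [],
  [],
  [],
  [],
  [],
  [],
  [],
  [],
  [],
  [],
  [],
  [],
  [],
  [],
  [],
  [],
  [],
  [],
  [],
  [],
  [],
  [],
  [1,23,9,23,9,19,19,9,23,9,16,19,12,19,16,13],
  [],
  [2,23,22,23,23,22,23,19,22,9,23,17,17,16,17,13,17,16],
  [],
  [],
  [],
  [],
  [],
  [],
  [],
  [],
  [],
  [],
  [],
  [],
  [],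
  [1,9,21,23,22,22,23,18,19,20,15,21,22,18,12,19,14,13,17],
  [],
  [2,22,23,21,19,18,22,9,18,16,17,20,14,12,13,17],
  [],
  [],
  [],
  [],
  [],
  [],
  [],
  [],
  [],
  [],
  [],
  [],
  [],
  [],
  [],
  [],
  [2,9,21,22,9,19,22,18,19,17,19,17,22,12,17,12,14],
  [],
  [1,9,22,22,23,23,18,19,22,19,16,20,12,12,16,12,17,13],
  [],
  [],
  [],
  [],
  [],
  [],
  [],
  [],
  [],
  [],
  [],
  [],
  [],
  [],
  [],
  [],
  [],
  [],
  [],
  [],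
  [],
  [],
  [],
  [],
  [],
  [],
  [],
  [],
  [],
  [],
  [],
  [],
  [],
  [],
  [],
  [],
  [],
  [],
  [],
  [],
  [],
  [],
  [],
  [],
  [],
  [],
  [],
  [],
  [],
  [],
  [],
  [],
  [],
  [1,21,23,23,9,22,21,20,22,22,17,20,20,18,22,13,13,13,19],
  [],
  [2,23,9,22,23,23,22,18,20,23,18,17,17,21,20,12,17,17,12],
  [],
  [],
  [],
  [],
  [],
  [1,23,19,19,20,17,16,15,16,14,13,12,14],
  [],
  [2,22,9,23,23,20,23,19,9,16,16,17,12,12,17,15,14],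
  [],
  [],
  [],
  [],
  [],
  [],
  [],
  [],
  [],
  [],
  [],
  [],
  [],
  [],
  [],
  [],
  [],
  [],
  [],
  [],
  [],
  [],
  [],
  [],
  [],
  [],
  [],
  [],
  [],
  [],
  [],
  [],
  [],
  [],
  [],
  [],
  [],
  [],
  [],
  [],
  [],
  [],
  [],
  [],
  [],
  [],
  [],
  [],
  [],
  [],
  [],
  [],
  [],
  [2,9,23,19,22,18,21,17,20,17,19,13,13,15,12],
  [],
  [1,23,21,19,22,20,22,23,17,18,20,12,14,14,18],
  [],
  [],
  [],
  [],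
  [],
  [1,22,22,21,23,9,19,21,20,22,17,19,15,12,12,14,14,12],
  [],
  [2,9,23,21,22,22,21,19,19,18,20,22,17,16,15,20,20,14,13,18],
  [],
  [],
  [],
  [],
  [],
  [],
  [],
  [],
  [],
  [],
  [],
  [],
  [],
  [],
  [],
  [],
  [],
  [],
  [],
  [],
  [],
  [],
  [],
  [],
  [],
  [],
  [],
  [],
  [],
  [],
  [],
  [],
  [],
  [],
  [],
  [],
  [],
  [],
  [],
  [],
  [],
  [],
  [],
  [],
  [],
  [],
  [],
  [],
  [],
  [],
  [],
  [],
  [],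
  [2,9,22,22,19,21,22,16,18,16,21,14,14,15,17,13],
  [],
  [1,23,9,22,19,23,19,23,15,22,20,14,17,16,15,16],
  [],
  [],
  [],
  [],
  [],
  [2,23,21,23,19,18,20,22,19,16,16,15,20,16,12,14,14],
  [],
  [1,22,22,9,23,9,21,19,23,19,9,12,17,12,13],
  [],
  [],
  [],
  [],
  [],
  [],
  [],
  [],
  [],
  [],
  [],
  [],
  [],
  [],
  [],
  [],
  [],
  [],
  [],
  [],
  [],
  [],
  [],
  [],
  [],
  [],
  [],
  [],
  [],
  [],
  [],
  [],
  [],
  [],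
  [],
  [],
  [],
  [],
  [],
  [],
  [],
  [],
  [],
  [],
  [],
  [],
  [],
  [],
  [],
  [],
  [],
  [],
  [],
  [1,9,21,22,23,22,9,18,18,18,16,15,13,14,17,15,17],
  [],
  [2,22,9,19,19,9,23,19,17,20,20,16,22,13,12,12,17],
  [],
  [],
  [],
  [],
  [],
  [],
  [],
  [],
  [],
  [2,21,22,9,23,19,22,23,22,16,22,20,12,14,13,18],
  [],
  [1,9,23,22,19,9,18,21,20,17,22,15,14,18,17],
  [],
  [],
  [],
  [],
  [],
  [],
  [],
  [],
  [],
  [],
  [],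
  [],
  [],
  [],
  [],
  [],
  [],
  [],
  [],
  [],
  [],
  [],
  [],
  [],
  [],
  [],
  [],
  [],
  [],
  [],
  [],
  [],
  [],
  [],
  [],
  [],
  [],
  [],
  [],
  [],
  [],
  [],
  [],
  [],
  [],
  [],
  [],
  [],
  [],
  [],
  [],
  [],
  [],
  [1,22,23,23,22,9,23,19,19,22,20,16,15,20,20,13,12],
  [],
  [2,23,21,22,23,22,18,22,20,17,17,19,19,19,12,15,12],
  [],
  [],
  [],
  [],
  [],
  [],
  [],
  [],
  [],
  [],
  [],
  [],
  [],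
  [],
  [],
  [],
  [],
  [],
  [],
  [],
  [],
  [],
  [],
  [],
  [],
  [],
  [],
  [],
  [],
  [],
  [2,22,9,21,23,23,20,22,20,9,17,19,15,13,12,17,17],
  [],
  [1,23,23,19,20,20,20,17,16,16,17,18,12,13,17],
  [],
  [],
  [],
  [],
  [],
  [],
  [],
  [],
  [],
  [],
  [],
  [],
  [],
  [1,22,9,18,19,19,23,9,16,19,19,17,13,19,12],
  [],
  [2,9,22,23,22,19,19,17,21,21,20,17,14,15,12,13],
  [],
  [],
  [],
  [],
  [],
  [],
  [],
  [],
  [],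
  [],
  [],
  [],
  [],
  [],
  [],
  [],
  [],
  [],
  [],
  [],
  [],
  [],
  [],
  [],
  [],
  [],
  [],
  [],
  [],
  [],
  [],
  [],
  [],
  [],
  [],
  [],
  [],
  [],
  [],
  [],
  [],
  [],
  [],
  [],
  [],
  [2,22,21,23,21,20,18,19,23,15,19,15,19,12,12,13,18],
  [],
  [1,23,23,21,22,9,21,20,21,19,21,15,16,17,16,14,14,18],
  [],
  [],
  [],
  [],
  [],
  [],
  [],
  [],
  [],
  [],
  [],
  [],
  [],
  [1,22,21,23,21,19,18,9,23,9,15,16,16,20,14,18,15,17],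
  [],
  [2,22,23,9,22,18,9,19,19,17,19,20,21,17,14,18,14,16],
  [],
  [],
  [],
  [],
  [],
  [],
  [],
  [],
  [],
  [],
  [],
  [],
  [],
  [],
  [],
  [],
  [2,23,22,21,23,21,19,21,22,18,17,22,19,14,12,17,14,19],
  [],
  [1,23,21,23,22,22,20,18,9,15,22,22,18,13,14,12,14],
  [],
  [],
  [],
  [],
  [],
  [],
  [],
  [],
  [],
  [],
  [],
  [],
  [],
  [],
  [],
  [],
  [],
  [],
  [],
  [],
  [],
  [],
  [],
  [],
  [],
  [],
  [],
  [],
  [],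
  [],
  [],
  [],
  [],
  [],
  [],
  [],
  [],
  [],
  [],
  [],
  [],
  [],
  [],
  [],
  [],
  [],
  [],
  [],
  [],
  [],
  [],
  [],
  [],
  [2,23,21,23,20,22,23,23,15,15,16,14,12,13,15,12],
  [],
  [1,9,22,22,23,23,23,20,22,20,16,18,22,15,12,14,19,13,15],
  [],
  [],
  [],
  [],
  [],
  [1,23,9,19,22,18,23,17,15,19,16,17,14,19,19,19],
  [],
  [2,22,9,22,21,23,21,18,20,23,15,21,21,19,12,12,12,15],
  [],
  [],
  [],
  [],
  [],
  [],
  [],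
  [],
  [],
  [],
  [],
  [],
  [],
  [],
  [],
  [],
  [],
  [],
  [],
  [],
  [],
  [],
  [],
  [],
  [],
  [],
  [],
  [],
  [],
  [],
  [],
  [],
  [],
  [],
  [],
  [],
  [],
  [],
  [],
  [],
  [],
  [],
  [],
  [],
  [],
  [],
  [],
  [],
  [],
  [],
  [],
  [],
  [],
  [1,9,23,9,22,20,18,20,18,15,17,19,16,12,12,12],
  [],
  [2,21,23,23,18,18,20,19,15,15,22,14,14,13,12],
  [],
  [],
  [],
  [],
  [],
  [],
  [],
  [],
  [],
  [1,22,21,23,9,20,9,18,20,22,16,17,19,15,13,14,14,19],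
  [],
  [2,23,22,23,9,22,20,21,20,20,17,18,22,18,12,16,16,13,13],
  [],
  [],
  [],
  [],
  [],
  [],
  [],
  [],
  [],
  [],
  [],
  [],
  [],
  [],
  [],
  [],
  [],
  [],
  [],
  [],
  [],
  [],
  [],
  [],
  [],
  [],
  [],
  [],
  [],
  [],
  [],
  [],
  [],
  [],
  [],
  [],
  [],
  [],
  [],
  [],
  [],
  [],
  [],
  [],
  [],
  [],
  [],
  [],
  [],
  [],
  [],
  [],
  [],
  [1,23,21,23,21,23,9,19,20,19,15,21,19,17],
  [],
  [2,23,23,9,22,19,20,18,19,22,16,18,16,22,12,14,18,16],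
  [],
  [],
  [],
  [],
  [],
  [2,23,22,23,18,19,19,22,17,15,21,22,22,12,16,16],
  [],
  [1,22,23,9,23,21,19,19,18,20,17,16,18,19,12,16,19,13],
  [],
  [],
  [],
  [],
  [],
  [],
  [],
  [],
  [],
  [],
  [],
  [],
  [],
  [],
  [],
  [],
  [],
  [],
  [],
  [],
  [],
  [],
  [],
  [],
  [],
  [],
  [],
  [],
  [],
  [],
  [],
  [],
  [],
  [],
  [],
  [],
  [],
  [],
  [],
  [],
  [],
  [],
  [],
  [],
  [],
  [],
  [],
  [],
  [],
  [],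
  [],
  [],
  [],
  [2,23,21,22,22,23,21,20,21,22,16,15,16,12,18,15,14,16],
  [],
  [1,22,22,22,9,21,19,9,20,20,16,21,17,19,14,19,16,17],
  [],
  [],
  [],
  [],
  [],
  [],
  [],
  [],
  [],
  [],
  [],
  [],
  [],
  [],
  [],
  [],
  [],
  [],
  [],
  [],
  [],
  [],
  [],
  [],
  [],
  [],
  [],
  [],
  [],
  [],
  [1,21,23,22,22,23,18,20,23,21,15,20,21,18,13,17,16,14],
  [],
  [2,22,22,23,23,19,18,15,17,16,17,19,12,12,16,12,19],
  [],
  [],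
  [],
  [],
  [],
  [],
  [],
  [],
  [],
  [],
  [],
  [],
  [],
  [1,9,23,23,19,22,22,20,17,16,16,20,22,13,13,18,14],
  [],
  [2,23,23,21,19,22,22,19,9,17,20,20,12,19,15,17,18],
  [],
  [],
  [],
  [],
  [],
  [],
  [],
  [],
  [],
  [],
  [],
  [],
  [],
  [],
  [],
  [],
  [],
  [],
  [],
  [],
  [2,23,23,22,23,22,19,19,18,18,21,17,15,18,15],
  [],
  [1,22,9,21,20,22,23,19,9,17,15,19,22,12,17,16],
  [],
  [],
  [],
  [],
  [],
  [],
  [],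
  [],
  [],
  [],
  [],
  [],
  [],
  [],
  [],
  [],
  [],
  [],
  [],
  [],
  [],
  [],
  [],
  [],
  [],
  [],
  [],
  [],
  [],
  [],
  [],
  [],
  [],
  [],
  [],
  [],
  [],
  [],
  [],
  [],
  [],
  [],
  [],
  [],
  [],
  [],
  [],
  [],
  [],
  [],
  [],
  [],
  [],
  [1,9,22,23,23,21,18,19,23,23,17,17,19,20,12,15,12,17],
  [],
  [2,22,23,21,23,19,9,21,15,21,15,12,14,16,16,18],
  [],
  [],
  [],
  [],
  [],
  [],
  [],
  [],
  [],
  [],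
  [],
  [],
  [],
  [],
  [],
  [],
  [],
  [],
  [],
  [],
  [],
  [],
  [],
  [],
  [],
  [],
  [],
  [],
  [],
  [],
  [],
  [],
  [],
  [],
  [],
  [],
  [],
  [],
  [],
  [],
  [],
  [],
  [],
  [],
  [],
  [],
  [],
  [],
  [],
  [],
  [],
  [],
  [],
  [],
  [],
  [],
  [],
  [],
  [],
  [],
  [],
  [],
  [],
  [],
  [],
  [],
  [],
  [],
  [],
  [],
  [],
  [],
  [],
  [],
  [],
  [],
  [],
  [],
  [],
  [],
  [],
  [],
  [],
  [],
  [],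
  [],
  [],
  [],
  [],
  [],
  [],
  [],
  [],
  [],
  [],
  [],
  [],
  [],
  [],
  [],
  [],
  [],
  [],
  [],
  [],
  [],
  [],
  [],
  [],
  [],
  [],
  [],
  [],
  [],
  [],
  [],
  [],
  [],
  [],
  [],
  [],
  [],
  [],
  [],
  [],
  [],
  [],
  [],
  [],
  [],
  [],
  [],
  [],
  [],
  [],
  [],
  [],
  [],
  [],
  [],
  [],
  [],
  [],
  [],
  [],
  [],
  [],
  [],
  [],
  [],
  [],
  [],
  [],
  [],
  [],
  [],
  [],
  [],
  [],
  [],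
  [],
  [],
  [],
  [],
  [],
  [],
  [],
  [],
  [],
  [],
  [],
  [],
  [],
  [],
  [],
  [],
  [],
  [],
  [],
  [],
  [],
  [],
  [],
  [],
  [],
  [],
  [],
  [],
  [],
  [],
  [],
  [],
  [],
  [],
  [],
  [],
  [],
  [],
  [],
  [],
  [],
  [],
  [],
  [],
  [],
  [],
  [],
  [],
  [],
  [],
  [],
  [],
  [],
  [],
  [],
  [],
  [],
  [],
  [],
  [],
  [],
  [],
  [],
  [],
  [],
  [],
  [],
  [],
  [],
  [],
  [],
  [],
  [],
  [],
  [],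
  [],
  [],
  [],
  [],
  [],
  [],
  [],
  [],
  [],
  [],
  [],
  [],
  [],
  [],
  [],
  [],
  [],
  [],
  [],
  [],
  [],
  [],
  [],
  [],
  [],
  [],
  [],
  [],
  [],
  [],
  [],
  [],
  [],
  [],
  [],
  [],
  [],
  [],
  [],
  [],
  [],
  [],
  [],
  [],
  [],
  [],
  [],
  [],
  [],
  [],
  [],
  [],
  [],
  [],
  [],
  [],
  [],
  [],
  [],
  [],
  [],
  [],
  [],
  [],
  [],
  [],
  [],
  [],
  [],
  [],
  [],
  [],
  [],
  [],
  [],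
  [],
  [],
  [],
  [],
  [],
  [],
  [],
  [],
  [],
  [],
  [],
  [],
  [],
  [],
  [],
  [],
  [],
  [],
  [],
  [],
  [],
  [],
  [],
  [],
  [],
  [],
  [],
  [],
  [],
  [],
  [],
  [],
  [],
  [],
  [],
  [],
  [],
  [],
  [],
  [],
  [],
  [],
  [],
  [],
  [],
  [],
  [],
  [],
  [],
  [],
  [],
  [],
  [],
  [],
  [],
  [],
  [],
  [],
  [],
  [],
  [],
  [],
  [],
  [],
  [],
  [],
  [],
  [],
  [],
  [],
  [],
  [],
  [],
  [],
  [],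
  [],
  [],
  [],
  [],
  [],
  [],
  [],
  [],
  [],
  [],
  [],
  [],
  [],
  [],
  [],
  [],
  [],
  [],
  [],
  [],
  [],
  [],
  [],
  [],
  [],
  [],
  [],
  [],
  [],
  [],
  [],
  [],
  [],
  [],
  [],
  [],
  [],
  [],
  [],
  [],
  [],
  [],
  [],
  [],
  [],
  [],
  [],
  [],
  [],
  [],
  [],
  [],
  [],
  [],
  [],
  [],
  [],
  [],
  [],
  [],
  [],
  [],
  [],
  [],
  [],
  [],
  [],
  [],
  [],
  [],
  [],
  [],
  [],
  [],
  [],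
  [],
  [],
  [],
  [],
  [],
  [],
  [],
  [],
  [],
  [],
  [],
  [],
  [],
  [],
  [],
  [],
  [],
  [],
  [],
  [],
  [],
  [],
  [],
  [],
  [],
  [],
  [],
  [],
  [],
  [],
  [],
  [],
  [],
  [],
  [],
  [],
  [],
  [],
  [],
  [],
  [],
  [],
  [],
  [],
  [],
  [],
  [],
  [],
  [],
  [],
  [],
  [],
  [],
  [],
  [],
  [],
  [],
  [],
  [],
  [],
  [],
  [],
  [],
  [],
  [],
  [],
  [],
  [],
  [],
  [],
  [],
  [],
  [],
  [],
  [],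
  [],
  [],
  [],
  [],
  [],
  [],
  [],
  [],
  [],
  [],
  [],
  [],
  [],
  [],
  [],
  [],
  [],
  [],
  [],
  [],
  [],
  [],
  [],
  [],
  [],
  [],
  [],
  [],
  [],
  [],
  [],
  [],
  [],
  [],
  [],
  [],
  [],
  [],
  [],
  [],
  [],
  [],
  [],
  [],
  [],
  [],
  [],
  [],
  [],
  [],
  [],
  [],
  [],
  [],
  [],
  [],
  [],
  [],
  [],
  [],
  [],
  [],
  [],
  [],
  [],
  [],
  [],
  [],
  [],
  [],
  [],
  [],
  [],
  [],
  [],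
  [],
  [],
  [],
  [],
  [],
  [],
  [],
  [],
  [],
  [],
  [],
  [],
  [],
  [],
  [],
  [],
  [],
  [],
  [],
  [],
  [],
  [],
  [],
  [],
  [],
  [],
  [],
  [],
  [],
  [],
  [],
  [],
  [],
  [],
  [],
  [],
  [],
  [],
  [],
  [],
  [],
  [],
  [],
  [],
  [],
  [],
  [],
  [],
  [],
  [],
  [],
  [],
  [],
  [],
  [],
  [],
  [],
  [],
  [],
  [],
  [],
  [],
  [],
  [],
  [],
  [],
  [],
  [],
  [],
  [],
  [],
  [],
  [],
  [],
  [],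
  [],
  [],
  [],
  [],
  [],
  [],
  [],
  [],
  [],
  [],
  [],
  [],
  [],
  [],
  [],
  [],
  [],
  [],
  [],
  [],
  [],
  [],
  [],
  [],
  [],
  [],
  [],
  [],
  [],
  [],
  [],
  [],
  [],
  [],
  [],
  [],
  [],
  [],
  [],
  [],
  [],
  [],
  [],
  [],
  [],
  [],
  [],
  [],
  [],
  [],
  [],
  [],
  [],
  [],
  [],
  [],
  [],
  [],
  [],
  [],
  [],
  [],
  [],
  [],
  [],
  [],
  [],
  [],
  [],
  [],
  [],
  [],
  [],
  [],
  [],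
  [],
  [],
  [],
  [],
  [],
  [],
  [],
  [],
  [],
  [],
  [],
  [],
  [],
  [],
  [],
  [],
  [],
  [],
  [],
  [],
  [],
  [],
  [],
  [],
  [],
  [],
  [],
  [],
  [],
  [],
  [],
  [],
  [],
  [],
  [],
  [],
  [],
  [],
  [],
  [],
  [],
  [],
  [],
  [],
  [],
  [],
  [],
  [],
  [],
  [],
  [],
  [],
  [],
  [],
  [],
  [],
  [],
  [],
  [],
  [],
  [],
  [],
  [],
  [],
  [],
  [],
  [],
  [],
  [],
  [],
  [],
  [],
  [],
  [],
  [],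
  [],
  [],
  [],
  [],
  [],
  [],
  [],
  [],
  [],
  [],
  [],
  [],
  [],
  [],
  [],
  [],
  [],
  [],
  [],
  [],
  [],
  [],
  [],
  [],
  [],
  [],
  [],
  [],
  [],
  [],
  [],
  [],
  [],
  [],
  [],
  [],
  [],
  [],
  [],
  [],
  [],
  [],
  [],
  [],
  [],
  [],
  [],
  [],
  [],
  [],
  [],
  [],
  [],
  [],
  [],
  [],
  [],
  [],
  [],
  [],
  [],
  [],
  [],
  [],
  [],
  [],
  [],
  [],
  [],
  [],
  [],
  [],
  [],
  [],
  [],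
  [],
  [],
  [],
  [],
  [],
  [],
  [],
  [],
  [],
  [],
  [],
  [],
  [],
  [],
  [],
  [],
  [],
  [],
  [],
  [],
  [],
  [],
  [],
  [],
  [],
  [],
  [],
  [],
  [],
  [],
  [],
  [],
  [],
  [],
  [],
  [],
  [],
  [],
  [],
  [],
  [],
  [],
  [],
  [],
  [],
  [],
  [],
  [],
  [],
  [],
  [],
  [],
  [],
  [],
  [],
  [],
  [],
  [],
  [],
  [],
  [],
  [],
  [],
  [],
  [],
  [],
  [],
  [],
  [],
  [],
  [],
  [],
  [],
  [],
  [],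
  [],
  [],
  [],
  [],
  [],
  [],
  [],
  [],
  [],
  [],
  [],
  [],
  [],
  [],
  [],
  [],
  [],
  [],
  [],
  [],
  [],
  [],
  [],
  [],
  [],
  [],
  [],
  [],
  [],
  [],
  [],
  [],
  [],
  [],
  [],
  [],
  [],
  [],
  [],
  [],
  [],
  [],
  [],
  [],
  [],
  [],
  [],
  [],
  [],
  [],
  [],
  [],
  [],
  [],
  [],
  [],
  [],
  [],
  [],
  [],
  [],
  [],
  [],
  [],
  [],
  [],
  [],
  [],
  [2,22,9,22,20,9,22,20,17,15,20,19,13,16,13,12,14],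
  [],
  [2,9,22,22,18,23,9,19,15,21,18,18,12,18,17],
  [],
  [],
  [],
  [],
  [],
  [],
  [],
  [],
  [],
  [],
  [],
  [],
  [],
  [2,22,9,20,18,23,22,17,15,16,22,13,18],
  [],
  [2,9,22,23,20,19,21,22,17,20,17,13,12,14,15,16],
  [],
  [],
  [],
  [],
  [],
  [],
  [],
  [],
  [],
  [],
  [],
  [],
  [],
  [],
  [],
  [],
  [],
  [],
  [],
  [],
  [],
  [],
  [],
  [],
  [],
  [],
  [],
  [],
  [],
  [],
  [],
  [],
  [],
  [],
  [],
  [],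
  [],
  [],
  [],
  [],
  [],
  [],
  [],
  [],
  [],
  [2,22,9,22,21,22,20,20,23,21,16,19,19,13,16,17,17],
  [],
  [2,23,23,22,21,23,19,22,20,22,17,20,18,15,17,12,18,18,12],
  [],
  [],
  [],
  [],
  [],
  [],
  [],
  [],
  [],
  [],
  [],
  [],
  [],
  [2,23,9,18,23,18,22,19,17,17,17,21,20,12,19,17,19],
  [],
  [2,21,22,9,18,9,22,17,16,21,18,16,13,19,18,16,18],
  [],
  [],
  [],
  [],
  [],
  [],
  [],
  [],
  [],
  [],
  [],
  [],
  [],
  [],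
  [],
  [],
  [],
  [],
  [2,23,23,22,20,18,23,21,22,15,20,22,13,12,14,15],
  [],
  [2,18,22,18,23,15,19,19,13,19,17,17],
  [],
  [],
  [],
  [],
  [],
  [],
  [],
  [],
  [],
  [],
  [],
  [],
  [],
  [],
  [],
  [],
  [],
  [],
  [],
  [],
  [],
  [],
  [],
  [],
  [],
  [],
  [],
  [],
  [],
  [],
  [],
  [],
  [],
  [],
  [],
  [],
  [],
  [],
  [],
  [],
  [],
  [],
  [],
  [],
  [],
  [],
  [],
  [],
  [],
  [],
  [],
  [],
  [],
  [2,23,23,23,22,23,19,21,22,18,23,14,17,14,15,18],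
  [],
  [2,22,21,23,23,22,19,9,22,15,16,22,15,12,13,19,13],
  [],
  [],
  [],
  [],
  [],
  [],
  [],
  [],
  [],
  [],
  [],
  [],
  [],
  [],
  [],
  [],
  [],
  [],
  [],
  [],
  [],
  [2,22,22,9,19,19,20,18,15,17,22,17,12,14,18,15],
  [],
  [2,21,19,19,22,20,9,15,20,16,21,13,15,15],
  [],
  [],
  [],
  [],
  [],
  [],
  [],
  [],
  [],
  [],
  [],
  [],
  [],
  [2,23,22,9,21,22,20,18,22,17,21,17,15,12,12,19,12,14],
  [],
  [2,23,23,9,19,22,19,20,9,15,20,22,13,18,13,18,18],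
  [],
  [],
  [],
  [],
  [],
  [],
  [],
  [],
  [],
  [],
  [],
  [],
  [],
  [],
  [],
  [],
  [],
  [],
  [],
  [],
  [],
  [],
  [],
  [],
  [],
  [],
  [],
  [],
  [],
  [],
  [],
  [],
  [],
  [2,22,23,22,21,19,9,22,9,17,20,19,16,16,12,12,17,15,13],
  [],
  [2,9,21,22,21,19,22,21,18,23,15,22,16,21,14,19,19,16],
  [],
  [],
  [],
  [],
  [],
  [],
  [],
  [],
  [],
  [],
  [],
  [],
  [],
  [],
  [],
  [],
  [],
  [],
  [],
  [],
  [],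
  [],
  [],
  [],
  [],
  [],
  [],
  [],
  [],
  [],
  [],
  [],
  [],
  [],
  [],
  [],
  [],
  [],
  [],
  [],
  [],
  [],
  [],
  [],
  [],
  [],
  [],
  [],
  [],
  [],
  [],
  [],
  [],
  [2,23,22,9,23,19,19,9,21,17,18,19,15,21,12,13,17,19],
  [],
  [2,22,9,21,19,20,20,22,9,17,18,22,22,20,13,14,13,12],
  [],
  [],
  [],
  [],
  [],
  [],
  [],
  [],
  [],
  [],
  [],
  [],
  [],
  [],
  [],
  [],
  [],
  [2,23,21,22,22,21,19,22,22,18,16,19,15,17,12,16,16],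
  [],
  [2,22,23,21,23,20,23,23,18,17,18,22,22,20,13,13,13,15],
  [],
  [],
  [],
  [],
  [],
  [],
  [],
  [],
  [],
  [],
  [],
  [],
  [],
  [2,23,21,22,23,19,22,18,23,20,17,19,21,19,13,12,15,18],
  [],
  [2,9,21,22,21,18,22,19,16,17,18,22,12,15,18,17],
  [],
  [],
  [],
  [],
  [],
  [],
  [],
  [],
  [],
  [],
  [],
  [],
  [],
  [],
  [],
  [],
  [],
  [],
  [],
  [],
  [],
  [],
  [],
  [],
  [],
  [],
  [],
  [],
  [],
  [],
  [],
  [],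
  [],
  [2,22,23,21,23,23,23,18,9,20,9,17,19,18,12,12,16,17,17],
  [],
  [2,23,21,23,19,21,22,18,16,16,20,20,14,12,16,17],
  [],
  [],
  [],
  [],
  [],
  [],
  [],
  [],
  [],
  [],
  [],
  [],
  [],
  [],
  [],
  [],
  [],
  [],
  [],
  [],
  [],
  [],
  [],
  [],
  [],
  [],
  [],
  [],
  [],
  [],
  [],
  [],
  [],
  [],
  [],
  [],
  [],
  [],
  [],
  [],
  [],
  [],
  [],
  [],
  [],
  [],
  [],
  [],
  [],
  [],
  [],
  [],
  [],
  [2,22,9,19,21,23,23,23,17,16,17,16,14,17,19,19,16],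
  [],
  [2,9,23,22,21,23,18,21,17,18,16,16,12,12,15,19,12],
  [],
  [],
  [],
  [],
  [],
  [],
  [],
  [],
  [],
  [],
  [],
  [],
  [],
  [],
  [],
  [],
  [2,23,23,21,20,9,20,15,18,21,12,18,17,15],
  [],
  [2,22,22,23,21,19,18,18,20,19,15,15,18,20,12,13,18,14],
  [],
  [],
  [],
  [],
  [],
  [],
  [],
  [],
  [],
  [],
  [],
  [],
  [],
  [2,23,22,23,9,18,22,18,21,15,19,20,20,13,17,13,19,16],
  [],
  [2,23,22,22,23,18,20,22,23,20,15,18,18,12,16,14,13,16],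
  [],
  [],
  [],
  [],
  [],
  [],
  [],
  [],
  [],
  [],
  [],
  [],
  [],
  [],
  [],
  [],
  [],
  [],
  [],
  [],
  [],
  [],
  [],
  [],
  [],
  [],
  [],
  [],
  [],
  [],
  [],
  [],
  [],
  [2,23,23,21,19,19,9,21,19,15,18,17,14,12,15,13,18],
  [],
  [2,23,21,23,21,22,19,22,18,22,23,16,17,19,14,17,12,13],
  [],
  [],
  [],
  [],
  [],
  [],
  [],
  [],
  [],
  [],
  [],
  [],
  [],
  [],
  [],
  [],
  [],
  [],
  [],
  [],
  [],
  [],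
  [],
  [],
  [],
  [],
  [],
  [],
  [],
  [],
  [],
  [],
  [],
  [],
  [],
  [],
  [],
  [],
  [],
  [],
  [],
  [],
  [],
  [],
  [],
  [],
  [],
  [],
  [],
  [],
  [],
  [],
  [],
  [2,22,23,23,22,22,20,9,22,22,17,16,18,15,21,12,15,17,12],
  [],
  [2,9,23,22,9,21,22,20,18,16,21,22,15,12,13,18,13,19],
  [],
  [],
  [],
  [],
  [],
  [],
  [],
  [],
  [],
  [],
  [],
  [],
  [],
  [],
  [],
  [],
  [],
  [2,23,9,22,23,21,19,19,21,19,15,22,22,20,12,15,19,14],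
  [],
  [2,9,22,21,18,18,18,9,20,17,15,19,21,12,15,17,14,19],
  [],
  [],
  [],
  [],
  [],
  [],
  [],
  [],
  [],
  [],
  [],
  [],
  [],
  [2,22,23,20,21,20,23,19,16,16,20,21,22,14,13,13,13,19],
  [],
  [2,23,20,20,19,19,17,21,22,22,14,18,15,14,13],
  [],
  [],
  [],
  [],
  [],
  [],
  [],
  [],
  [],
  [],
  [],
  [],
  [],
  [],
  [],
  [],
  [],
  [],
  [],
  [],
  [],
  [],
  [],
  [],
  [],
  [],
  [],
  [],
  [],
  [2,21,23,21,23,23,21,19,19,15,16,21,17,19,14,16,18,19],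
  [],
  [2,23,22,9,20,23,9,16,16,19,17,17,12,14,14,14],
  [],
  [],
  [],
  [],
  [],
  [],
  [],
  [],
  [],
  [],
  [],
  [],
  [],
  [],
  [],
  [],
  [],
  [],
  [],
  [],
  [],
  [],
  [],
  [],
  [],
  [],
  [],
  [],
  [],
  [],
  [],
  [],
  [],
  [],
  [],
  [],
  [],
  [],
  [],
  [],
  [],
  [],
  [],
  [],
  [],
  [],
  [],
  [],
  [],
  [],
  [],
  [],
  [],
  [2,23,23,9,22,19,20,22,21,16,18,15,17,13,17,13,14,19],
  [],
  [2,23,22,21,20,22,21,22,17,20,19,16,15,12,12,19,12,17],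
  [],
  [],
  [],
  [],
  [],
  [2,22,23,9,21,19,20,20,23,15,17,16,21,12,17,17,18],
  [],
  [2,9,21,22,22,22,20,18,22,16,18,22,22,14,12,13,13],
  [],
  [],
  [],
  [],
  [],
  [],
  [],
  [],
  [],
  [],
  [],
  [],
  [],
  [],
  [],
  [],
  [],
  [],
  [],
  [],
  [],
  [],
  [],
  [],
  [],
  [],
  [],
  [],
  [],
  [],
  [],
  [],
  [],
  [],
  [],
  [],
  [],
  [],
  [],
  [],
  [],
  [],
  [],
  [],
  [],
  [],
  [],
  [],
  [],
  [],
  [],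
  [],
  [],
  [2,23,21,23,18,19,20,23,17,15,18,15,12,12,16,18,19],
  [],
  [2,22,23,22,9,22,23,19,22,23,20,9,17,16,12,16,12,17],
  [],
  [],
  [],
  [],
  [],
  [],
  [],
  [],
  [],
  [],
  [],
  [],
  [],
  [],
  [],
  [],
  [],
  [],
  [],
  [],
  [],
  [],
  [],
  [],
  [],
  [],
  [],
  [],
  [],
  [],
  [],
  [],
  [],
  [],
  [2,9,23,23,18,18,21,23,17,17,19,21,18,12,12,16],
  [],
  [2,9,22,23,9,23,20,23,18,16,17,16,19,14,13,13,18],
  [],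
  [],
  [],
  [],
  [],
  [],
  [],
  [],
  [],
  [],
  [],
  [],
  [],
  [2,23,9,19,18,20,22,16,19,19,17,14,19,17,14,19],
  [],
  [2,22,21,23,21,23,19,9,21,18,17,18,17,17,15,12,19,17,14],
  [],
  [],
  [],
  [],
  [],
  [],
  [],
  [],
  [],
  [],
  [],
  [],
  [],
  [],
  [],
  [],
  [],
  [2,23,9,22,22,9,20,23,20,22,15,21,15,16,12,15,18,15],
  [],
  [2,21,22,23,22,21,20,9,17,17,20,21,18,12,18,15,15],
  [],
  [],
  [],
  [],
  [],
  [],
  [],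
  [],
  [],
  [],
  [],
  [],
  [],
  [],
  [],
  [],
  [],
  [],
  [],
  [],
  [],
  [],
  [],
  [],
  [],
  [],
  [],
  [],
  [],
  [],
  [],
  [],
  [],
  [],
  [],
  [],
  [],
  [],
  [],
  [],
  [],
  [],
  [],
  [],
  [],
  [],
  [],
  [],
  [],
  [],
  [],
  [],
  [],
  [2,23,22,22,18,9,22,23,17,21,16,19,22,14,19,14,15],
  [],
  [2,9,22,23,19,9,21,20,22,17,17,17,20,14,18,16,17,17],
  [],
  [],
  [],
  [],
  [],
  [],
  [],
  [],
  [],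
  [],
  [],
  [],
  [],
  [],
  [],
  [],
  [],
  [],
  [],
  [],
  [],
  [],
  [],
  [],
  [],
  [],
  [],
  [],
  [],
  [],
  [],
  [],
  [],
  [2,9,21,23,23,23,9,19,20,20,20,9,15,16,21,15,12,14],
  [],
  [2,21,22,22,23,22,9,18,22,16,22,13,15,13],
  [],
  [],
  [],
  [],
  [],
  [],
  [],
  [],
  [],
  [],
  [],
  [],
  [],
  [2,22,23,22,23,20,22,19,9,17,18,17,14,12,12,16,16],
  [],
  [2,9,23,9,23,18,23,9,23,16,17,16,17,12,12,14,14,17],
  [],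
  [],
  [],
  [],
  [],
  [],
  [],
  [],
  [],
  [],
  [],
  [],
  [],
  [],
  [],
  [],
  [],
  [],
  [],
  [],
  [2,23,23,21,19,19,18,22,23,15,20,13,13,13,15],
  [],
  [2,22,22,19,9,21,18,17,21,20,20,20,12,15,12,12,13],
  [],
  [],
  [],
  [],
  [],
  [],
  [],
  [],
  [],
  [],
  [],
  [],
  [],
  [],
  [],
  [],
  [],
  [],
  [],
  [],
  [],
  [],
  [],
  [],
  [],
  [],
  [],
  [],
  [],
  [],
  [],
  [],
  [],
  [],
  [],
  [],
  [],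
  [],
  [],
  [],
  [],
  [],
  [],
  [],
  [],
  [],
  [],
  [],
  [],
  [],
  [],
  [],
  [],
  [2,22,9,22,22,23,18,21,20,18,17,21,15,14,17,13,17],
  [],
  [2,23,9,23,23,22,19,22,9,23,15,17,18,18,17,14,14,15],
  [],
  [],
  [],
  [],
  [],
  [],
  [2,21,23,22,22,23,20,23,20,18,15,16,16,18,14,15,17,15,18],
  [],
  [2,23,23,9,22,20,22,22,17,17,16,16,14,14,18,18,14],
  [2,9,21,23,21,22,23,23,20,19,16,17,19,22,12,13,14],
  [],
  [2,9,21,23,23,9,22,19,19,19,9,20,17,21,13,15,13,13],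
  [],
  [],
  [2,9,23,22,21,23,18,18,21,20,15,22,21,20,12,16],
  [],
  [2,23,23,21,22,22,18,21,17,15,16,18,21,12,16,13,18],
  [],
  [],
  [],
  [],
  [],
  [],
  [],
  [],
  [],
  [],
  [],
  [],
  [2,23,9,23,23,20,18,19,18,16,19,15,16,21,13,15,12],
  [],
  [2,9,23,23,9,22,19,18,22,21,16,17,18,20,12,15,15],
  [],
  [],
  [],
  [],
  [],
  [],
  [],
  [],
  [],
  [],
  [],
  [],
  [],
  [2,9,23,21,22,22,18,9,19,17,16,21,21,21,14,18,12],
  [],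
  [2,23,23,23,21,23,22,22,16,15,18,19,16,14,15],
  [],
  [],
  [],
  [],
  [],
  [],
  [],
  [],
  [],
  [],
  [],
  [],
  [],
  [],
  [2,22,23,9,21,23,9,20,20,19,18,17,17,20,20,14,14,12,16],
  [],
  [2,22,23,22,20,19,19,19,19,17,16,16,17,17,13,13,19,12],
  [],
  [],
  [],
  [],
  [],
  [2,22,9,19,19,23,20,20,15,19,18,19,14,19,16,17,16],
  [],
  [2,9,22,9,18,21,19,18,22,15,15,22,18,14,14,18,18],
  [],
  [],
  [],
  [],
  [],
  [],
  [],
  [],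
  [],
  [],
  [],
  [],
  [],
  [],
  [],
  [],
  [],
  [],
  [],
  [],
  [2,23,22,9,23,9,19,19,20,20,22,17,22,15,14,18,14,14],
  [],
  [2,9,23,21,22,22,21,20,9,16,21,19,15,20,14,15,18,15],
  [],
  [],
  [],
  [],
  [],
  [],
  [],
  [],
  [],
  [],
  [],
  [],
  [],
  [2,21,23,22,21,22,19,18,9,22,17,15,20,16,14,12,13,19],
  [],
  [2,9,22,23,22,20,9,20,20,17,20,17,19,12,17,19,14,12],
  [],
  [2,21,22,20,23,19,18,17,16,20,22,20,14,14,13,18,15],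
  [],
  [2,9,23,22,21,19,23,19,21,16,15,12,15,13,12,18],
  [],
  [],
  [2,23,23,22,9,23,21,18,19,18,20,17,17,21,21,12,14,12,15],
  [],
  [2,9,21,23,21,22,21,19,9,22,16,18,18,17,14,16,19,13],
  [],
  [],
  [],
  [],
  [],
  [2,23,23,23,9,23,21,22,18,18,9,15,18,13,17,14,15],
  [],
  [2,22,9,19,20,17,18,18,22,19,12,14,13,19,12],
  [],
  [2,22,23,19,19,9,22,22,17,21,17,15,13,15,19,19,18],
  [],
  [2,9,22,9,23,23,19,20,22,9,16,19,16,16,14,12,19,17,19],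
  [],
  [],
  [],
  [],
  [],
  [],
  [],
  [],
  [],
  [],
  [],
  [],
  [2,22,22,22,23,23,9,19,18,9,18,15,21,18,21,12,16,15],
  [],
  [2,22,23,21,23,20,9,22,17,21,21,12,14,12,13,14],
  [],
  [2,22,22,23,18,21,18,21,16,16,15,21,14,12,18,17,17],
  [],
  [2,21,23,21,22,18,18,20,19,16,19,16,20,14,15,14,13,19],
  [],
  [],
  [2,9,21,22,9,19,22,9,16,18,17,18,14,18,19,19,15],
  [],
  [2,22,23,21,22,19,18,22,21,19,16,22,18,12,13,19,12,17],
  [],
  [],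
  [],
  [],
  [2,9,23,21,23,19,18,20,19,23,17,21,21,16,12,12,12,16],
  [],
  [2,23,9,23,21,20,20,23,18,16,16,22,17,21,14,17,14],
  [],
  [],
  [],
  [],
  [],
  [],
  [],
  [],
  [],
  [],
  [],
  [],
  [],
  [],
  [],
  [],
  [],
  [],
  [],
  [],
  [],
  [],
  [2,22,23,23,9,19,19,20,22,21,16,19,12,16,13,16,13],
  [],
  [2,21,23,22,23,9,23,21,17,21,17,17,21,14,14,12],
  [],
  [],
  [],
  [],
  [],
  [],
  [],
  [],
  [],
  [],
  [],
  [],
  [2,23,23,22,21,23,18,20,16,22,20,18,12,15,12,12],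
  [],
  [2,9,21,22,22,19,21,22,21,17,17,15,19,20,12,15,17],
  [],
  [],
  [],
  [],
  [],
  [],
  [],
  [],
  [],
  [],
  [],
  [],
  [],
  [],
  [],
  [],
  [],
  [0,9,22,23,20,20,18,17,16,16,21,20,13,15,14,16],
  [],
  [1,22,23,22,19,19,20,18,9,15,15,19,16,14,15,14,15],
  [],
  [],
  [],
  [],
  [],
  [],
  [2,21,23,22,21,18,22,17,17,16,16,18,12,12,19,18],
  [],
  [2,22,9,22,21,22,21,19,18,20,16,17,16,17,12,15,12],
  [],
  [],
  [],
  [],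
  [2,9,23,9,22,21,19,22,23,22,17,16,19,21,12,17,15,18],
  [],
  [2,9,22,9,22,21,18,23,9,21,15,18,18,21,13,16,19,15],
  [],
  [],
  [],
  [],
  [],
  [],
  [],
  [],
  [],
  [],
  [],
  [],
  [],
  [],
  [],
  [],
  [],
  [],
  [],
  [],
  [],
  [],
  [2,22,9,22,21,22,21,19,21,18,20,15,20,18,13,17,14,14],
  [],
  [2,9,23,9,22,22,21,23,20,15,19,18,22,13,16,19,18],
  [2,22,9,20,22,19,18,9,17,16,19,15,18,13,12,12,12],
  [],
  [2,23,23,23,21,23,9,20,21,22,21,16,18,12,12,14,15,12],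
  [],
  [],
  [2,22,9,21,23,19,22,19,23,18,16,16,17,20,12,12,13,19,12],
  [],
  [2,21,23,23,9,22,19,21,19,17,18,22,19,12,15,13,17],
  [],
  [],
  [],
  [],
  [],
  [],
  [],
  [],
  [],
  [],
  [],
  [],
  [2,22,23,22,21,23,22,19,22,9,22,19,17,20,22,17,17],
  [],
  [2,23,9,21,23,21,19,9,22,18,21,16,19,15,22,21,13,12],
  [],
  [],
  [],
  [],
  [],
  [],
  [],
  [],
  [],
  [],
  [],
  [],
  [],
  [2,22,23,19,23,20,22,17,20,21,18,14,14,15,18,16],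
  [],
  [2,23,9,22,23,9,20,21,19,19,17,17,19,20,12,13,14,18],
  [],
  [],
  [],
  [],
  [],
  [],
  [],
  [],
  [],
  [],
  [],
  [],
  [],
  [],
  [2,22,22,19,18,9,20,17,19,21,16,14,15,18,19],
  [],
  [2,9,22,23,22,23,21,18,23,9,17,16,20,13,12,18,16],
  [],
  [],
  [],
  [],
  [],
  [],
  [],
  [],
  [],
  [],
  [],
  [],
  [],
  [],
  [],
  [],
  [],
  [],
  [],
  [],
  [],
  [2,23,9,22,23,19,22,19,22,21,17,17,22,16,12,13,19,13],
  [],
  [2,23,23,9,20,22,19,20,17,18,16,21,13,13,15,18],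
  [],
  [],
  [],
  [],
  [2,23,22,9,21,18,22,22,22,15,15,16,21,21,14,18,19,18],
  [],
  [2,22,23,21,23,23,23,19,9,23,15,19,22,13,14,15,14,13],
  [],
  [],
  [],
  [],
  [],
  [],
  [],
  [],
  [],
  [],
  [],
  [],
  [],
  [1,9,21,23,21,23,23,22,18,23,19,17,22,19,17,12,14,15],
  [],
  [0,23,23,9,20,20,18,23,15,21,17,18,19,12,16,19,17],
  [],
  [2,22,23,23,9,23,20,22,22,19,16,20,19,16,13,17,13,18],
  [],
  [2,9,23,23,18,22,20,20,16,19,20,14,19,18,15,15],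
  [],
  [],
  [],
  [],
  [],
  [],
  [],
  [],
  [],
  [],
  [],
  [],
  [],
  [],
  [],
  [],
  [],
  [],
  [2,9,21,22,22,21,18,19,20,17,19,22,15,12,12,18,14],
  [],
  [2,23,22,9,23,19,20,9,18,17,18,15,16,21,13,19,19,19],
  [],
  [],
  [],
  [],
  [],
  [],
  [],
  [],
  [],
  [],
  [],
  [],
  [],
  [2,23,9,22,9,19,9,21,20,16,16,21,17,12,18,15,13],
  [],
  [2,9,22,22,23,19,9,22,23,15,15,18,21,14,19,17,12,14],
  [2,9,22,19,18,22,9,21,15,16,22,20,12,18,15,16,14],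
  [],
  [2,22,22,22,23,20,20,21,22,17,20,20,15,18,12,15,13,18],
  [],
  [2,23,21,22,9,19,18,9,20,23,16,17,15,17,12,16,12],
  [],
  [2,23,9,23,21,19,19,22,20,17,22,16,19,12,15,18,13,18],
  [],
  [],
  [],
  [],
  [],
  [],
  [],
  [],
  [],
  [],
  [],
  [],
  [],
  [2,23,18,9,21,18,17,16,17,15,21,14,13,19,14,13],
  [],
  [2,22,9,19,18,20,20,20,16,18,19,21,12,19,16,14,12],
  [],
  [],
  [],
  [],
  [],
  [],
  [],
  [],
  [],
  [],
  [],
  [],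
  [],
  [],
  [2,23,21,22,19,22,19,19,17,19,17,12,16,13,16,17],
  [],
  [2,23,23,21,23,9,21,20,17,15,20,16,15,14,17,15,17],
  [],
  [2,22,23,23,19,23,16,16,21,18,22,14,13,19,12],
  [],
  [2,9,23,23,22,22,19,19,23,17,15,16,19,22,14,17,13],
  [],
  [],
  [],
  [],
  [],
  [2,9,22,21,22,19,20,9,18,19,15,22,16,16,14,12,14,18],
  [],
  [2,9,21,23,23,18,19,9,22,16,19,21,20,12,18,12],
  [2,22,23,21,23,20,9,21,16,15,19,18,12,15,12,17,17],
  [],
  [2,9,21,22,9,22,9,20,20,17,15,21,12,12,17],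
  [],
  [2,9,23,9,22,9,19,19,19,22,23,15,19,22,22,14,17,13,15],
  [],
  [2,23,19,20,20,22,18,17,19,20,17,13,14,17,13],
  [],
  [],
  [],
  [],
  [],
  [],
  [],
  [],
  [],
  [],
  [],
  [],
  [],
  [2,23,9,23,18,19,18,22,15,15,16,22,13,19,13,16,18],
  [],
  [2,23,22,21,22,18,23,9,19,15,18,12,13,15,17,12],
  [],
  [],
  [],
  [],
  [],
  [],
  [],
  [],
  [],
  [],
  [],
  [],
  [],
  [],
  [],
  [],
  [],
  [],
  [],
  [],
  [],
  [],
  [2,22,9,21,23,20,21,18,9,16,21,12,19,15,14,14],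
  [],
  [2,23,21,22,21,20,18,19,9,21,17,17,21,20,13,19,14],
  [],
  [],
  [],
  [],
  [],
  [2,22,9,22,19,20,9,15,16,21,20,14,16,17,18,15],
  [],
  [2,23,22,19,19,23,21,18,17,19,17,18,13,12,18,17,19],
  [],
  [],
  [],
  [],
  [],
  [],
  [],
  [],
  [],
  [],
  [],
  [],
  [],
  [],
  [],
  [],
  [],
  [],
  [],
  [],
  [],
  [2,22,9,23,20,18,22,20,15,19,21,18,12,18,12,17,19],
  [],
  [2,9,21,23,22,9,21,19,18,20,16,19,21,12,12,14,17,16],
  [],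
  [],
  [],
  [],
  [],
  [],
  [],
  [],
  [],
  [],
  [],
  [],
  [],
  [],
  [],
  [],
  [],
  [],
  [],
  [],
  [],
  [],
  [],
  [],
  [2,9,21,23,21,22,23,21,18,17,18,22,17,12,18,14,14,19],
  [],
  [2,22,23,9,23,21,19,22,22,20,22,16,18,16,19,14,17,16,15],
  [],
  [],
  [1,23,21,22,23,23,21,19,20,21,17,20,22,13,15,16,12],
  [],
  [0,9,23,9,23,21,18,22,18,9,17,18,18,18,13,12,16,18,19],
  [],
  [],
  [],
  [],
  [],
  [2,23,23,21,22,9,20,19,22,9,17,15,19,21,13,14,16,17],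
  [],
  [2,23,22,9,19,22,9,20,16,15,19,17,18,13,13,12,16],
  [],
  [],
  [],
  [],
  [],
  [],
  [],
  [],
  [],
  [],
  [],
  [],
  [2,23,22,22,21,19,20,21,23,17,21,20,16,16,12,19,19],
  [],
  [2,21,23,21,23,23,21,20,9,22,21,23,15,16,15,13,16,12,17],
  [],
  [2,22,22,23,21,19,20,20,22,16,19,19,17,12,16,14,19,19],
  [],
  [2,9,23,22,9,22,22,19,21,19,15,22,17,18,14,15,15,12],
  [],
  [],
  [2,9,21,23,23,19,22,22,21,22,16,16,19,14,12,15,13,16],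
  [],
  [2,21,22,22,19,20,19,22,17,16,16,22,21,12,16,16],
  [],
  [],
  [],
  [],
  [2,23,9,23,18,21,19,16,17,22,12,18,15,19],
  [],
  [2,23,9,23,20,22,22,22,17,16,17,17,14,15,16,16,15],
  [],
  [],
  [],
  [],
  [],
  [],
  [],
  [],
  [],
  [],
  [],
  [],
  [],
  [],
  [],
  [],
  [],
  [],
  [],
  [],
  [],
  [],
  [2,22,23,22,19,20,23,18,22,17,18,15,17,13,14,19,16],
  [],
  [2,23,9,23,23,22,21,19,20,17,17,22,16,20,12,13,12],
  [],
  [],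
  [],
  [],
  [],
  [],
  [],
  [],
  [],
  [],
  [],
  [],
  [2,22,23,9,23,20,20,20,20,15,18,18,15,14,19,17],
  [],
  [2,22,23,9,22,21,18,23,20,16,21,12,15,17,17,12],
  [],
  [],
  [],
  [],
  [],
  [],
  [],
  [],
  [],
  [],
  [],
  [],
  [],
  [],
  [],
  [],
  [],
  [1,23,23,22,21,22,18,18,23,18,17,22,22,14,16,12,15,17],
  [],
  [0,23,22,23,23,22,9,19,19,21,18,15,19,15,17,12,15,12],
  [],
  [],
  [],
  [],
  [],
  [],
  [2,23,22,23,18,18,18,9,17,20,18,19,19,12,18,19,19,13],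
  [],
  [2,23,22,21,22,23,22,18,21,20,16,17,18,19,14,12,18,13],
  [],
  [],
  [],
  [],
  [2,9,19,18,20,23,16,18,17,22,16,14,19,17,19,14],
  [],
  [2,9,21,23,22,23,21,22,20,9,21,17,18,13,16,12,15],
  [],
  [],
  [],
  [],
  [],
  [],
  [],
  [],
  [],
  [],
  [],
  [],
  [],
  [],
  [],
  [],
  [],
  [],
  [],
  [],
  [],
  [],
  [],
  [],
  [],
  [],
  [],
  [],
  [],
  [],
  [],
  [],
  [],
  [],
  [],
  [],
  [],
  [],
  [],
  [],
  [],
  [2,23,22,23,22,21,23,19,9,21,16,15,19,12,15,13,13,13],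
  [],
  [2,22,22,22,18,20,22,19,16,18,17,15,13,18,13,17,18],
  [],
  [0,23,22,18,19,20,19,16,16,19,15,18,12,13,16,16,15],
  [],
  [1,21,23,22,22,23,18,22,19,16,20,17,12,16,14,15,13],
  [],
  [],
  [],
  [],
  [],
  [],
  [],
  [],
  [],
  [],
  [],
  [],
  [],
  [2,23,9,18,22,22,16,22,16,15,19,12,13,19,15,12],
  [],
  [2,21,23,21,22,9,19,22,21,15,19,15,16,19,14,15,18,16],
  [],
  [],
  [],
  [],
  [],
  [],
  [2,22,22,9,21,18,18,21,18,23,16,20,19,16,21,13,16],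
  [],
  [2,21,22,22,20,18,20,23,16,16,19,22,14,13,19,15],
  [],
  [],
  [],
  [],
  [],
  [],
  [],
  [],
  [],
  [],
  [],
  [],
  [],
  [],
  [],
  [],
  [],
  [],
  [],
  [],
  [2,9,23,22,9,21,19,22,9,23,9,15,18,12,15,12],
  [],
  [2,23,9,21,22,22,23,19,18,9,22,16,22,18,22,14,17],
  [],
  [1,9,18,23,20,23,17,20,21,16,17,13,13,18,19],
  [],
  [0,23,23,23,22,9,21,18,21,20,19,16,15,19,17,13,12,15,13],
  [],
  [],
  [],
  [],
  [],
  [],
  [],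
  [],
  [],
  [],
  [],
  [],
  [],
  [2,23,22,23,23,19,19,19,9,17,20,20,17,14,19,12,18,12],
  [],
  [2,23,22,9,22,22,18,20,15,21,22,15,17,13,12,16,15,13],
  [],
  [],
  [],
  [],
  [],
  [],
  [2,23,9,22,23,21,19,19,9,17,16,21,16,13,14,15],
  [],
  [2,9,23,9,22,18,22,18,21,15,20,17,17,12,13,16,17],
  [],
  [],
  [],
  [],
  [],
  [],
  [],
  [],
  [],
  [],
  [],
  [],
  [],
  [],
  [],
  [],
  [],
  [],
  [],
  [],
  [],
  [2,21,19,18,22,21,23,16,18,15,15,22,12,12,15,17,14],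
  [],
  [2,9,21,23,23,20,19,17,18,20,22,22,12,19,12,18],
  [],
  [],
  [],
  [],
  [],
  [],
  [],
  [],
  [],
  [],
  [],
  [],
  [2,23,23,9,23,18,19,23,19,17,15,21,15,16,12,14,12,16,13],
  [],
  [2,23,9,23,23,19,20,19,16,18,16,15,12,16,16,13,13],
  [],
  [],
  [],
  [],
  [],
  [],
  [],
  [],
  [],
  [],
  [],
  [],
  [],
  [2,22,9,22,22,22,20,22,17,19,18,22,14,17,15,14],
  [],
  [2,23,22,21,23,23,21,20,22,20,9,17,22,19,12,14,16,17],
  [],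
  [2,22,22,23,23,23,19,9,23,15,19,20,13,12,12,13],
  [],
  [2,22,22,22,23,23,19,21,19,20,23,16,22,13,15,13,14],
  [],
  [],
  [2,23,9,22,21,18,9,20,22,15,12,18,19,15,14],
  [],
  [2,9,19,19,22,23,9,16,17,12,19,16,13],
  [],
  [],
  [],
  [],
  [],
  [],
  [],
  [],
  [],
  [],
  [],
  [],
  [],
  [2,22,9,23,20,9,22,19,16,19,20,12,16,14,15,17],
  [],
  [2,22,23,9,23,19,21,17,22,18,17,22,14,17,13,16],
  [],
  [],
  [],
  [],
  [],
  [2,23,23,21,20,23,9,20,17,21,15,18,14,15,17,12,18],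
  [],
  [2,23,23,9,18,9,19,17,15,16,19,17,14,12,19,15,19],
  [],
  [],
  [],
  [],
  [],
  [],
  [],
  [],
  [],
  [],
  [],
  [],
  [],
  [],
  [],
  [],
  [],
  [],
  [],
  [],
  [],
  [2,23,22,21,19,9,18,9,17,17,19,20,12,14,13,15,12],
  [],
  [2,21,23,21,22,19,9,16,20,19,17,14,18,17,19,18],
  [],
  [],
  [],
  [],
  [],
  [],
  [],
  [],
  [],
  [],
  [],
  [],
  [],
  [],
  [],
  [],
  [],
  [],
  [],
  [],
  [],
  [],
  [],
  [],
  [2,22,9,21,19,9,19,23,15,21,21,18,14,15,16,13,18],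
  [],
  [2,21,22,23,9,20,22,19,23,16,16,12,19,13,12,13],
  [],
  [],
  [1,9,22,23,21,22,22,22,19,18,21,23,15,17,13,12,15,14,12],
  [],
  [0,21,23,9,22,22,18,21,20,12,19,19,17,12,13],
  [],
  [],
  [],
  [],
  [],
  [],
  [],
  [],
  [],
  [],
  [],
  [],
  [],
  [2,21,22,21,18,22,18,18,17,16,18,15,22,14,12,16,15,12],
  [],
  [2,21,22,23,20,22,21,22,17,20,15,21,14,12,19,16,12],
  [],
  [],
  [],
  [],
  [2,23,21,22,22,22,23,19,9,18,9,20,17,17,20,20,22],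
  [],
  [2,23,22,23,9,20,18,23,22,17,15,17,20,13,17,14,12],
  [],
  [],
  [],
  [],
  [],
  [],
  [],
  [],
  [],
  [],
  [],
  [],
  [],
  [0,22,9,23,21,19,9,22,9,16,18,16,18,14,13,13,16],
  [],
  [1,23,21,23,19,20,9,22,19,15,16,17,19,13,14,18,16,14],
  [],
  [2,21,23,9,20,18,22,22,22,17,18,17,22,12,18,12],
  [],
  [2,19,19,20,20,23,17,16,18,19,17,12,15,18,15,14],
  [],
  [],
  [],
  [],
  [],
  [],
  [],
  [],
  [],
  [],
  [],
  [],
  [],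
  [],
  [],
  [],
  [],
  [],
  [],
  [],
  [],
  [],
  [],
  [],
  [],
  [],
  [],
  [],
  [],
  [],
  [],
  [],
  [],
  [],
  [],
  [],
  [],
  [],
  [],
  [],
  [],
  [],
  [],
  [],
  [],
  [],
  [],
  [],
  [],
  [],
  [],
  [],
  [],
  [],
  [],
  [],
  [],
  [],
  [],
  [],
  [],
  [],
  [],
  [],
  [],
  [],
  [],
  [],
  [],
  [],
  [],
  [],
  [],
  [],
  [],
  [],
  [],
  [],
  [],
  [],
  [],
  [],
  [],
  [],
  [],
  [],
  [],
  [],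
  [],
  [],
  [],
  [],
  [],
  [],
  [],
  [],
  [],
  [],
  [],
  [],
  [],
  [],
  [],
  [],
  [],
  [],
  [],
  [],
  [],
  [],
  [],
  [],
  [],
  [],
  [],
  [],
  [],
  [],
  [],
  [],
  [],
  [],
  [],
  [],
  [],
  [],
  [],
  [],
  [],
  [],
  [],
  [],
  [],
  [],
  [],
  [],
  [],
  [],
  [],
  [],
  [],
  [],
  [],
  [],
  [],
  [],
  [],
  [],
  [],
  [],
  [],
  [],
  [],
  [],
  [],
  [],
  [],
  [],
  [],
  [],
  [],
  [],
  [],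
  [],
  [],
  [],
  [],
  [],
  [],
  [],
  [],
  [],
  [],
  [],
  [],
  [],
  [],
  [],
  [],
  [],
  [],
  [],
  [],
  [],
  [],
  [],
  [],
  [],
  [],
  [],
  [],
  [],
  [],
  [],
  [],
  [],
  [],
  [],
  [],
  [],
  [],
  [],
  [],
  [],
  [],
  [],
  [],
  [],
  [],
  [],
  [],
  [],
  [],
  [],
  [],
  [],
  [],
  [],
  [],
  [],
  [],
  [],
  [],
  [],
  [],
  [],
  [],
  [],
  [],
  [],
  [],
  [],
  [],
  [],
  [],
  [],
  [],
  [],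
  [],
  [],
  [],
  [],
  [],
  [],
  [],
  [],
  [],
  [],
  [],
  [],
  [],
  [],
  [],
  [],
  [],
  [],
  [],
  [],
  [],
  [],
  [],
  [],
  [],
  [],
  [],
  [],
  [],
  [],
  [],
  [],
  [],
  [],
  [],
  [],
  [],
  [],
  [],
  [],
  [],
  [],
  [],
  [],
  [],
  [],
  [],
  [],
  [],
  [],
  [],
  [],
  [],
  [],
  [],
  [],
  [],
  [],
  [],
  [],
  [],
  [],
  [],
  [],
  [],
  [],
  [],
  [],
  [],
  [],
  [],
  [],
  [],
  [],
  [],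
  [],
  [],
  [],
  [],
  [],
  [],
  [],
  [],
  [],
  [],
  [],
  [],
  [],
  [],
  [],
  [],
  [],
  [],
  [],
  [],
  [],
  [],
  [],
  [],
  [],
  [],
  [],
  [],
  [],
  [],
  [],
  [],
  [],
  [],
  [],
  [],
  [],
  [],
  [],
  [],
  [],
  [],
  [],
  [],
  [],
  [],
  [],
  [],
  [],
  [],
  [],
  [],
  [],
  [],
  [],
  [],
  [],
  [],
  [],
  [],
  [],
  [],
  [],
  [],
  [],
  [],
  [],
  [],
  [],
  [],
  [],
  [],
  [],
  [],
  [],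
  [],
  [],
  [],
  [],
  [],
  [],
  [],
  [],
  [],
  [],
  [],
  [],
  [],
  [],
  [],
  [],
  [],
  [],
  [],
  [],
  [],
  [],
  [],
  [],
  [],
  [],
  [],
  [],
  [],
  [],
  [],
  [],
  [],
  [],
  [],
  [],
  [],
  [],
  [],
  [],
  [],
  [],
  [],
  [],
  [],
  [],
  [],
  [],
  [],
  [],
  [],
  [],
  [],
  [],
  [],
  [],
  [],
  [],
  [],
  [],
  [],
  [],
  [],
  [],
  [],
  [],
  [],
  [],
  [],
  [],
  [],
  [],
  [],
  [],
  [],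
  [],
  [],
  [],
  [],
  [],
  [],
  [],
  [],
  [],
  [],
  [],
  [],
  [],
  [],
  [],
  [],
  [],
  [],
  [],
  [],
  [],
  [],
  [],
  [],
  [],
  [],
  [],
  [],
  [],
  [],
  [],
  [],
  [],
  [],
  [],
  [],
  [],
  [],
  [],
  [],
  [],
  [],
  [],
  [],
  [],
  [],
  [],
  [],
  [],
  [],
  [],
  [],
  [],
  [],
  [],
  [],
  [],
  [],
  [],
  [],
  [],
  [],
  [],
  [],
  [],
  [],
  [],
  [],
  [],
  [],
  [],
  [],
  [],
  [],
  [],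
  [],
  [],
  [],
  [],
  [],
  [],
  [],
  [],
  [],
  [],
  [],
  [],
  [],
  [],
  [],
  [],
  [],
  [],
  [],
  [],
  [],
  [],
  [],
  [],
  [],
  [],
  [],
  [],
  [],
  [],
  [],
  [],
  [],
  [],
  [],
  [],
  [],
  [],
  [],
  [],
  [],
  [],
  [],
  [],
  [],
  [],
  [],
  [],
  [],
  [],
  [],
  [],
  [],
  [],
  [],
  [],
  [],
  [],
  [],
  [],
  [],
  [],
  [],
  [],
  [],
  [],
  [],
  [],
  [],
  [],
  [],
  [],
  [],
  [],
  [],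
  [],
  [],
  [],
  [],
  [],
  [],
  [],
  [],
  [],
  [],
  [],
  [],
  [],
  [],
  [],
  [],
  [],
  [],
  [],
  [],
  [],
  [],
  [],
  [],
  [],
  [],
  [],
  [],
  [],
  [],
  [],
  [],
  [],
  [],
  [],
  [],
  [],
  [],
  [],
  [],
  [],
  [],
  [],
  [],
  [],
  [],
  [],
  [],
  [],
  [],
  [],
  [],
  [],
  [],
  [],
  [],
  [],
  [],
  [],
  [],
  [],
  [],
  [],
  [],
  [],
  [],
  [],
  [],
  [],
  [],
  [],
  [],
  [],
  [],
  [],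
  [],
  [],
  [],
  [],
  [],
  [],
  [],
  [],
  [],
  [],
  [],
  [],
  [],
  [],
  [],
  [],
  [],
  [],
  [],
  [],
  [],
  [],
  [],
  [],
  [],
  [],
  [],
  [],
  [],
  [],
  [],
  [],
  [],
  [],
  [],
  [],
  [],
  [],
  [],
  [],
  [],
  [],
  [],
  [],
  [],
  [],
  [],
  [],
  [],
  [],
  [],
  [],
  [],
  [],
  [],
  [],
  [],
  [],
  [],
  [],
  [],
  [],
  [],
  [],
  [],
  [],
  [],
  [],
  [],
  [],
  [],
  [],
  [],
  [],
  [],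
  [],
  [],
  [],
  [],
  [],
  [],
  [],
  [],
  [],
  [],
  [],
  [],
  [],
  [],
  [],
  [],
  [],
  [],
  [],
  [],
  [],
  [],
  [],
  [],
  [],
  [],
  [],
  [],
  [],
  [],
  [],
  [],
  [],
  [],
  [],
  [],
  [],
  [],
  [],
  [],
  [],
  [],
  [],
  [],
  [],
  [],
  [],
  [],
  [],
  [],
  [],
  [],
  [],
  [],
  [],
  [],
  [],
  [],
  [],
  [],
  [],
  [],
  [],
  [],
  [],
  [],
  [],
  [],
  [],
  [],
  [],
  [],
  [],
  [],
  [],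
  [],
  [],
  [],
  [],
  [],
  [],
  [],
  [],
  [],
  [],
  [],
  [],
  [],
  [],
  [],
  [],
  [],
  [],
  [],
  [],
  [],
  [],
  [],
  [],
  [],
  [],
  [],
  [],
  [],
  [],
  [],
  [],
  [],
  [],
  [],
  [],
  [],
  [],
  [],
  [],
  [],
  [],
  [],
  [],
  [],
  [],
  [],
  [],
  [],
  [],
  [],
  [],
  [],
  [],
  [],
  [],
  [],
  [],
  [],
  [],
  [],
  [],
  [],
  [],
  [],
  [],
  [],
  [],
  [],
  [],
  [],
  [],
  [],
  [],
  [],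
  [],
  [],
  [],
  [],
  [],
  [],
  [],
  [],
  [],
  [],
  [],
  [],
  [],
  [],
  [],
  [],
  [],
  [],
  [],
  [],
  [],
  [],
  [],
  [],
  [],
  [],
  [],
  [],
  [],
  [],
  [],
  [],
  [],
  [],
  [],
  [],
  [],
  [],
  [],
  [],
  [],
  [],
  [],
  [],
  [],
  [],
  [],
  [],
  [],
  [],
  [],
  [],
  [],
  [],
  [],
  [],
  [],
  [],
  [],
  [],
  [],
  [],
  [],
  [],
  [],
  [],
  [],
  [],
  [],
  [],
  [],
  [],
  [],
  [],
  [],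
  [],
  [],
  [],
  [],
  [],
  [],
  [],
  [],
  [],
  [],
  [],
  [],
  [],
  [],
  [],
  [],
  [],
  [],
  [],
  [],
  [],
  [],
  [],
  [],
  [],
  [],
  [],
  [],
  [],
  [],
  [],
  [],
  [],
  [],
  [],
  [],
  [],
  [],
  [],
  [],
  [],
  [],
  [],
  [],
  [],
  [],
  [],
  [],
  [],
  [],
  [],
  [],
  [],
  [],
  [],
  [],
  [],
  [],
  [],
  [],
  [],
  [1,22,22,23,23,20,21,18,9,17,15,15,21,14,16,17,19],
  [],
  [2,22,21,23,22,19,20,20,22,15,22,21,17,14,19,18,19],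
  [],
  [],
  [],
  [],
  [],
  [],
  [],
  [],
  [],
  [],
  [],
  [],
  [],
  [],
  [],
  [],
  [],
  [],
  [],
  [],
  [],
  [],
  [],
  [],
  [],
  [],
  [],
  [],
  [],
  [],
  [],
  [],
  [],
  [],
  [],
  [],
  [],
  [],
  [],
  [],
  [],
  [],
  [],
  [],
  [],
  [],
  [],
  [],
  [],
  [],
  [],
  [],
  [],
  [1,23,9,21,22,19,23,20,9,16,16,20,14,15,16,13],
  [],
  [2,9,23,22,20,18,23,18,15,22,22,18,14,12,13],
  [],
  [],
  [],
  [],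
  [],
  [1,9,22,19,22,19,19,22,17,20,22,16,21,12,14,13,17,18],
  [],
  [2,23,23,23,22,9,18,18,20,16,17,15,21,18,12,13,14,17],
  [],
  [],
  [],
  [],
  [],
  [],
  [],
  [],
  [],
  [],
  [],
  [],
  [],
  [],
  [],
  [],
  [],
  [],
  [],
  [],
  [],
  [],
  [],
  [],
  [],
  [],
  [],
  [],
  [],
  [],
  [],
  [],
  [],
  [],
  [],
  [],
  [],
  [],
  [],
  [],
  [],
  [],
  [],
  [],
  [],
  [],
  [],
  [],
  [],
  [],
  [],
  [],
  [],
  [1,9,21,22,23,22,21,22,19,16,15,19,12,12,17,16],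
  [],
  [2,21,23,21,19,19,20,22,18,16,19,21,19,13,18,12,12],
  [],
  [],
  [],
  [],
  [],
  [],
  [],
  [],
  [],
  [],
  [],
  [],
  [],
  [],
  [],
  [],
  [],
  [],
  [],
  [],
  [],
  [],
  [],
  [],
  [],
  [],
  [],
  [],
  [],
  [],
  [],
  [],
  [],
  [],
  [1,9,22,21,23,23,9,19,17,17,20,13,13,15,13],
  [],
  [2,9,21,23,18,22,22,9,19,16,15,22,16,12,12,17,15],
  [],
  [],
  [],
  [],
  [],
  [],
  [],
  [],
  [],
  [],
  [],
  [],
  [],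
  [1,21,22,23,9,23,19,19,18,15,19,15,19,12,16,14,15,15],
  [],
  [2,23,22,21,22,23,23,22,18,23,15,21,22,20,13,18,14,19],
  [],
  [],
  [],
  [],
  [],
  [],
  [],
  [],
  [],
  [],
  [],
  [],
  [],
  [],
  [],
  [],
  [1,9,23,20,9,22,9,15,16,17,18,12,12,13,19,19,14],
  [],
  [2,23,9,21,18,20,18,22,19,15,22,22,19,14,12,15,17],
  [],
  [],
  [],
  [],
  [],
  [],
  [],
  [],
  [],
  [],
  [],
  [],
  [],
  [],
  [],
  [],
  [],
  [],
  [],
  [],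
  [],
  [],
  [],
  [],
  [],
  [],
  [],
  [],
  [],
  [],
  [],
  [],
  [],
  [],
  [],
  [],
  [],
  [],
  [],
  [],
  [],
  [],
  [],
  [],
  [],
  [],
  [],
  [],
  [],
  [],
  [],
  [],
  [],
  [2,23,9,21,23,22,22,19,17,15,15,16,16,13,14,13,16],
  [],
  [1,21,23,23,21,19,19,21,15,18,16,21,16,12,13,15,15,19],
  [],
  [],
  [],
  [],
  [],
  [1,23,21,23,23,21,23,19,19,23,9,16,19,17,16,13,19,16],
  [],
  [2,23,20,18,19,18,15,19,15,15,14,18,16,17,19],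
  [],
  [],
  [],
  [],
  [],
  [],
  [],
  [],
  [],
  [],
  [],
  [],
  [],
  [],
  [],
  [],
  [],
  [],
  [],
  [],
  [],
  [],
  [],
  [],
  [],
  [],
  [],
  [],
  [],
  [],
  [],
  [],
  [],
  [],
  [],
  [],
  [],
  [],
  [],
  [],
  [],
  [],
  [],
  [],
  [],
  [],
  [],
  [],
  [],
  [],
  [],
  [],
  [],
  [1,21,22,19,9,20,9,17,17,17,19,22,17,14,12,13,15],
  [],
  [2,23,23,9,21,20,18,19,19,17,21,18,13,18,12,12],
  [],
  [],
  [],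
  [],
  [],
  [2,23,9,23,9,20,20,19,18,17,21,15,19,21,13,13,13,12],
  [],
  [1,21,23,9,22,22,9,19,22,22,9,21,17,17,12,13,16,16],
  [],
  [],
  [],
  [],
  [],
  [],
  [],
  [],
  [],
  [],
  [],
  [],
  [],
  [],
  [],
  [],
  [],
  [],
  [],
  [],
  [],
  [],
  [],
  [],
  [],
  [],
  [],
  [],
  [],
  [],
  [],
  [],
  [],
  [],
  [],
  [],
  [],
  [],
  [],
  [],
  [],
  [],
  [],
  [],
  [],
  [],
  [],
  [],
  [],
  [],
  [],
  [],
  [],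
  [1,23,9,22,9,19,19,21,20,9,15,22,17,14,19,17],
  [],
  [2,23,22,23,23,9,19,9,23,19,16,22,22,20,14,19,16,19],
  [],
  [],
  [],
  [],
  [],
  [2,22,9,19,22,22,18,17,17,16,22,19,12,12,16,19,12],
  [],
  [1,23,22,22,23,21,19,17,18,21,22,20,12,17,14,18,12],
  [],
  [],
  [],
  [],
  [],
  [],
  [],
  [],
  [],
  [],
  [],
  [],
  [],
  [],
  [],
  [],
  [],
  [],
  [],
  [],
  [],
  [],
  [],
  [],
  [],
  [],
  [],
  [],
  [],
  [],
  [],
  [],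
  [],
  [],
  [],
  [],
  [],
  [],
  [],
  [],
  [],
  [],
  [],
  [],
  [],
  [],
  [],
  [],
  [],
  [],
  [],
  [],
  [],
  [2,23,21,22,21,23,18,9,22,17,19,21,13,17,12,16,19],
  [],
  [1,9,23,23,22,23,19,22,22,9,18,16,19,14,18,12],
  [],
  [],
  [],
  [],
  [],
  [],
  [],
  [],
  [],
  [2,9,21,22,23,22,20,23,23,17,20,16,14,19,16,18],
  [],
  [1,21,23,22,9,19,18,22,9,18,17,19,20,17,12,16,18,17],
  [],
  [],
  [],
  [],
  [],
  [],
  [],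
  [],
  [],
  [],
  [],
  [],
  [],
  [],
  [],
  [],
  [],
  [],
  [],
  [],
  [],
  [],
  [],
  [],
  [],
  [],
  [],
  [],
  [],
  [],
  [],
  [],
  [],
  [],
  [],
  [],
  [],
  [],
  [],
  [],
  [],
  [],
  [],
  [],
  [],
  [],
  [],
  [],
  [],
  [],
  [],
  [],
  [],
  [1,23,20,21,19,9,17,16,17,19,21,12,12,14,12,14,19],
  [],
  [2,22,23,9,21,22,20,23,20,18,17,17,22,22,14,15,12],
  [],
  [],
  [],
  [],
  [],
  [],
  [],
  [],
  [],
  [],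
  [],
  [],
  [],
  [],
  [],
  [],
  [],
  [],
  [],
  [],
  [],
  [],
  [],
  [],
  [],
  [],
  [],
  [],
  [],
  [],
  [2,22,9,20,18,23,18,20,17,17,19,17,12,18,16,15,15],
  [],
  [1,21,23,22,23,22,19,9,18,17,16,18,12,14,12,16,13],
  [],
  [],
  [],
  [],
  [],
  [],
  [],
  [],
  [],
  [],
  [],
  [],
  [],
  [1,9,22,9,19,23,20,18,18,15,15,21,16,12,19,12,18,15],
  [],
  [2,22,23,9,22,19,22,9,22,17,20,19,12,18,19,12,16],
  [],
  [],
  [],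
  [],
  [],
  [],
  [],
  [],
  [],
  [],
  [],
  [],
  [],
  [],
  [],
  [],
  [],
  [],
  [],
  [],
  [],
  [],
  [],
  [],
  [],
  [],
  [],
  [],
  [],
  [],
  [],
  [],
  [],
  [],
  [],
  [],
  [],
  [],
  [],
  [],
  [],
  [],
  [],
  [],
  [],
  [2,23,23,23,21,23,21,19,20,18,19,20,15,16,16,13,14,16],
  [],
  [1,22,21,20,20,20,9,17,22,21,15,18,12,14,16,17],
  [],
  [],
  [],
  [],
  [],
  [],
  [],
  [],
  [],
  [],
  [],
  [],
  [],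
  [2,9,23,22,9,19,19,9,19,23,17,20,19,16,14,12,12,16],
  [],
  [1,21,22,23,18,22,20,21,17,16,20,19,15,12,19,12,19],
  [],
  [],
  [],
  [],
  [],
  [],
  [],
  [],
  [],
  [],
  [],
  [],
  [],
  [],
  [],
  [],
  [1,22,9,22,21,20,19,21,22,19,16,15,19,12,15,15,15],
  [],
  [2,9,21,22,23,23,20,18,22,16,21,19,19,12,16,19,19],
  [],
  [],
  [],
  [],
  [],
  [],
  [],
  [],
  [],
  [],
  [],
  [],
  [],
  [],
  [],
  [],
  [],
  [],
  [],
  [],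
  [],
  [],
  [],
  [],
  [],
  [],
  [],
  [],
  [],
  [],
  [],
  [],
  [],
  [],
  [],
  [],
  [],
  [],
  [],
  [],
  [],
  [],
  [],
  [],
  [],
  [],
  [],
  [],
  [],
  [],
  [],
  [],
  [],
  [2,21,23,21,22,19,9,18,15,19,20,12,19,14,19,16],
  [],
  [1,23,23,22,23,9,19,20,22,23,23,17,17,17,20,20,12],
  [],
  [],
  [],
  [],
  [],
  [2,9,21,20,21,18,16,18,19,22,12,17,17,13,13],
  [],
  [1,23,21,22,19,20,18,20,15,16,15,12,12,17,14,13],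
  [],
  [],
  [],
  [],
  [],
  [],
  [],
  [],
  [],
  [],
  [],
  [],
  [],
  [],
  [],
  [],
  [],
  [],
  [],
  [],
  [],
  [],
  [],
  [],
  [],
  [],
  [],
  [],
  [],
  [],
  [],
  [],
  [],
  [],
  [],
  [],
  [],
  [],
  [],
  [],
  [],
  [],
  [],
  [],
  [],
  [],
  [],
  [],
  [],
  [],
  [],
  [],
  [],
  [1,9,22,22,23,22,19,22,18,19,18,12,18,12,17,17,13],
  [],
  [2,9,23,21,23,23,22,9,19,23,20,9,12,13,17,15,19],
  [],
  [],
  [],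
  [],
  [],
  [],
  [],
  [],
  [],
  [1,22,23,20,9,18,20,19,17,17,22,19,17,14,17,16,12],
  [],
  [2,9,20,9,20,9,19,17,17,16,22,20,12,18,19,17,13],
  [],
  [],
  [],
  [],
  [],
  [],
  [],
  [],
  [],
  [],
  [],
  [],
  [],
  [],
  [],
  [],
  [],
  [],
  [],
  [],
  [],
  [],
  [],
  [],
  [],
  [],
  [],
  [],
  [],
  [],
  [],
  [],
  [],
  [],
  [],
  [],
  [],
  [],
  [],
  [],
  [],
  [],
  [],
  [],
  [],
  [],
  [],
  [],
  [],
  [],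
  [],
  [],
  [],
  [1,22,23,9,22,21,19,18,20,15,20,16,16,12,12,18,15,13],
  [],
  [2,9,23,21,23,21,20,20,20,19,15,19,17,14,14,15,18,13],
  [],
  [],
  [],
  [],
  [],
  [2,9,23,22,22,21,19,22,18,22,22,17,18,15,16,14,13,15],
  [],
  [1,9,18,18,20,19,17,17,15,20,17,12,19,19,12,14],
  [],
  [],
  [],
  [],
  [],
  [],
  [],
  [],
  [],
  [],
  [],
  [],
  [],
  [],
  [],
  [],
  [],
  [],
  [],
  [],
  [],
  [],
  [],
  [],
  [],
  [],
  [],
  [],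
  [],
  [],
  [],
  [],
  [],
  [],
  [],
  [],
  [],
  [],
  [],
  [],
  [],
  [],
  [],
  [],
  [],
  [],
  [],
  [],
  [],
  [],
  [],
  [],
  [],
  [1,22,21,19,21,19,22,9,16,22,16,20,14,17,15,16],
  [],
  [2,23,23,23,22,9,20,23,23,17,20,22,16,12,18,13,17,18],
  [],
  [],
  [],
  [],
  [],
  [],
  [],
  [],
  [],
  [],
  [],
  [],
  [],
  [],
  [],
  [],
  [],
  [],
  [],
  [],
  [],
  [],
  [],
  [],
  [],
  [],
  [],
  [],
  [],
  [],
  [1,21,23,9,21,22,22,18,21,20,20,16,16,17,21,12,15,13],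
  [],
  [2,23,21,22,23,21,23,20,20,23,17,15,20,19,15,14,13,15],
  [],
  [],
  [],
  [],
  [],
  [],
  [],
  [],
  [],
  [],
  [],
  [],
  [],
  [2,23,22,9,18,23,20,21,15,18,19,15,12,19,13,17,19],
  [],
  [1,23,21,23,21,19,23,18,9,16,22,15,12,17,19,19,19],
  [],
  [],
  [],
  [],
  [],
  [],
  [],
  [],
  [],
  [],
  [],
  [],
  [],
  [],
  [],
  [],
  [],
  [],
  [],
  [],
  [2,9,22,21,19,9,21,22,21,17,15,17,15,21,12,18,14,18],
  [],
  [1,9,23,23,22,9,22,9,23,15,18,17,16,12,13,13,14],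
  [],
  [],
  [],
  [],
  [],
  [],
  [],
  [],
  [],
  [],
  [],
  [],
  [],
  [],
  [],
  [],
  [],
  [],
  [],
  [],
  [],
  [],
  [],
  [],
  [],
  [],
  [],
  [],
  [],
  [],
  [],
  [],
  [],
  [],
  [],
  [],
  [],
  [],
  [],
  [],
  [],
  [],
  [],
  [],
  [],
  [],
  [],
  [],
  [],
  [],
  [],
  [],
  [],
  [2,21,23,23,22,9,22,19,9,20,23,22,17,16,16,14,12,15],
  [],
  [1,21,23,19,20,23,23,19,16,17,16,20,14,17],
  [],
  [],
  [2,21,23,22,9,22,20,23,16,15,18,19,18,12,18,15,18],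
  [],
  [2,9,22,23,23,22,20,20,17,18,17,22,20,12,13,17,17,17],
  [2,23,23,9,23,9,23,19,22,19,18,15,17,21,13,18,12,14],
  [],
  [2,23,22,22,23,18,19,23,19,16,20,17,18,12,18,16],
  [],
  [],
  [],
  [],
  [],
  [],
  [],
  [],
  [],
  [],
  [],
  [],
  [],
  [],
  [],
  [],
  [],
  [],
  [],
  [],
  [],
  [2,21,23,23,9,19,22,23,23,17,19,20,17,17,13,19,16,19],
  [],
  [2,9,22,23,21,19,20,20,17,20,19,17,20,14,19,13,18,15],
  [],
  [],
  [],
  [],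
  [],
  [],
  [],
  [],
  [],
  [],
  [],
  [],
  [],
  [2,22,9,22,21,22,19,20,20,15,17,16,14,13,12,15,17],
  [],
  [2,23,9,22,9,23,19,20,9,19,17,17,17,21,14,16,18,16,18],
  [],
  [],
  [],
  [],
  [],
  [],
  [],
  [],
  [],
  [],
  [],
  [],
  [],
  [],
  [],
  [],
  [],
  [],
  [],
  [],
  [],
  [],
  [],
  [],
  [],
  [],
  [],
  [],
  [],
  [],
  [],
  [],
  [],
  [],
  [],
  [],
  [],
  [],
  [],
  [],
  [],
  [],
  [],
  [],
  [],
  [2,9,23,21,18,22,19,9,17,16,15,12,15,12,15,16],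
  [],
  [2,22,9,23,9,21,18,19,22,19,17,20,19,22,17,14,13,13],
  [],
  [2,23,23,23,21,22,22,20,20,16,20,18,21,14,17,13,12,12],
  [],
  [2,9,22,23,9,19,23,20,19,16,21,16,21,14,13,15,18],
  [],
  [],
  [],
  [],
  [],
  [],
  [],
  [],
  [],
  [2,22,23,21,23,21,19,18,20,17,15,15,15,13,17,18],
  [2,9,22,23,9,20,23,23,15,17,16,17,12,14,13,13],
  [2,9,22,23,22,23,9,23,19,23,9,18,21,16,22,18,15,12],
  [2,22,9,22,21,22,19,19,18,22,15,17,21,12,12,13,13,19],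
  [],
  [],
  [],
  [],
  [],
  [],
  [],
  [],
  [],
  [],
  [],
  [],
  [],
  [],
  [],
  [],
  [],
  [2,9,23,9,22,20,22,19,23,15,15,18,20,12,15,14,18],
  [],
  [2,22,22,22,9,20,21,19,20,16,19,18,16,12,19,15,12],
  [],
  [],
  [],
  [],
  [],
  [],
  [],
  [],
  [],
  [],
  [],
  [],
  [],
  [2,9,23,22,21,23,19,23,20,19,18,17,22,15,20,17,13,14,14],
  [],
  [2,23,21,23,23,9,19,23,21,22,16,22,15,19,13,13,17,14],
  [],
  [],
  [],
  [],
  [],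
  [],
  [],
  [],
  [2,21,22,19,9,20,22,16,20,17,21,12,18,17,14,12],
  [],
  [2,22,22,9,19,9,20,22,9,17,19,22,15,14,18,19,16],
  [],
  [],
  [],
  [],
  [],
  [],
  [],
  [],
  [],
  [],
  [],
  [],
  [],
  [],
  [],
  [],
  [],
  [],
  [],
  [],
  [],
  [],
  [],
  [],
  [],
  [],
  [2,22,21,23,21,22,22,18,19,18,9,16,22,15,12,14,14,15],
  [],
  [2,23,23,21,23,21,19,21,18,15,18,22,20,21,12,13,14,19,19],
  [],
  [],
  [],
  [],
  [],
  [2,22,22,9,23,21,23,19,23,21,17,19,21,21,14,18,16,17],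
  [],
  [2,22,23,22,9,22,22,20,16,19,17,21,12,15,14,18,19],
  [],
  [],
  [],
  [],
  [],
  [],
  [],
  [],
  [],
  [],
  [],
  [],
  [],
  [2,21,23,23,9,19,20,18,21,19,16,21,20,12,14,18,18],
  [],
  [2,9,22,21,22,20,21,18,19,17,18,22,21,12,18,17,17],
  [],
  [],
  [],
  [],
  [],
  [],
  [],
  [],
  [2,23,22,9,23,9,18,20,21,17,18,20,15,17,14,16,19,15],
  [],
  [2,23,23,21,22,22,20,19,9,16,17,15,16,12,18,14,13],
  [],
  [],
  [2,21,23,22,21,18,9,22,20,17,22,15,19,14,16,15],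
  [],
  [2,19,18,21,22,22,17,16,20,15,12,13,19,18,12],
  [],
  [],
  [],
  [],
  [],
  [],
  [],
  [],
  [1,9,23,22,9,19,20,22,17,21,21,19,14,13,14,15,17],
  [],
  [0,9,22,23,23,22,9,20,19,21,16,22,17,21,12,15,14,17],
  [],
  [],
  [],
  [],
  [],
  [],
  [],
  [],
  [],
  [],
  [],
  [],
  [],
  [2,9,23,9,23,23,23,22,19,19,19,16,22,17,21,17,12,16,12],
  [],
  [2,22,21,19,19,23,19,20,17,19,17,16,13,18,14,13,18],
  [],
  [],
  [2,22,21,22,23,23,19,22,21,22,15,16,21,12,14,15,17,16],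
  [],
  [2,22,22,9,23,23,20,20,21,20,17,15,20,14,18,16,17],
  [],
  [],
  [],
  [],
  [],
  [],
  [],
  [],
  [],
  [],
  [],
  [],
  [],
  [2,22,21,20,18,23,17,19,18,22,15,13,17,13,15,13],
  [],
  [2,9,23,23,21,23,19,22,16,16,13,13,16],
  [],
  [],
  [],
  [],
  [],
  [],
  [],
  [],
  [2,23,9,22,19,18,9,17,18,17,19,17,12,15,18,18,16],
  [],
  [2,23,23,22,18,19,20,18,16,19,20,15,13,12,15,19,16],
  [],
  [],
  [2,9,23,9,21,20,22,23,21,17,15,19,17,22,13,12,14,19],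
  [],
  [2,9,23,21,22,9,19,20,21,23,17,16,20,13,16,14,19],
  [],
  [],
  [],
  [],
  [],
  [],
  [],
  [],
  [1,21,22,21,23,19,22,18,22,22,15,22,18,12,12,18],
  [],
  [0,21,23,22,9,22,20,20,20,21,17,20,17,20,12,17,15,16],
  [],
  [],
  [],
  [],
  [],
  [],
  [],
  [],
  [],
  [],
  [],
  [],
  [],
  [2,9,23,21,22,23,23,20,20,23,21,17,17,18,16,12,18,13],
  [],
  [2,23,9,22,22,23,18,20,17,19,15,16,12,18,13,18,16],
  [],
  [],
  [],
  [],
  [],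
  [],
  [],
  [],
  [],
  [],
  [],
  [],
  [],
  [],
  [],
  [],
  [],
  [2,23,22,23,21,20,19,9,23,17,20,17,15,18,14,15,12],
  [2,23,21,22,23,22,9,19,23,23,20,17,15,17,15,14,16],
  [2,21,23,19,19,19,19,9,16,21,22,15,13,19,13,16,18],
  [2,23,23,9,22,23,20,18,9,17,16,16,17,13,13,19,16],
  [],
  [],
  [],
  [],
  [],
  [],
  [],
  [],
  [0,22,23,23,19,19,23,22,9,16,19,20,16,12,13,15,16,13],
  [],
  [1,21,23,23,22,22,20,18,19,23,17,21,22,14,17,17,15,12],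
  [],
  [],
  [2,9,21,23,9,20,20,23,17,20,21,15,20,12,18,12,19],
  [],
  [2,23,22,22,19,22,23,9,20,15,16,16,12,18,19,19,15],
  [],
  [],
  [],
  [],
  [],
  [],
  [],
  [],
  [2,9,23,22,23,9,23,23,19,21,23,23,17,19,18,20,15],
  [2,23,21,22,23,22,19,19,19,23,15,15,21,18,14,15,12,15],
  [2,23,20,19,18,9,17,19,18,21,17,13,18,16,15],
  [2,22,9,22,21,19,18,18,20,19,15,17,20,20,12,16,14],
  [],
  [],
  [],
  [],
  [],
  [],
  [],
  [],
  [],
  [],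
  [],
  [],
  [],
  [],
  [],
  [],
  [],
  [],
  [],
  [],
  [],
  [],
  [],
  [],
  [],
  [],
  [],
  [],
  [],
  [],
  [],
  [],
  [],
  [2,22,22,23,22,19,18,18,19,17,15,20,18,20,14,16,19,14],
  [],
  [2,23,9,23,23,22,22,19,9,21,19,17,17,20,15,14,12,15],
  [],
  [],
  [],
  [],
  [],
  [],
  [],
  [],
  [2,9,23,9,23,18,19,22,19,18,16,14,14,16],
  [2,23,19,18,9,22,9,17,16,14,12,19,12],
  [2,21,23,22,21,18,21,19,9,20,16,22,20,13,13,12,18],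
  [2,22,23,21,23,19,9,18,16,17,22,15,22,13,17,14,13],
  [2,23,20,22,22,20,17,17,21,16,22,12,17,13,13,17],
  [2,23,23,22,22,22,18,19,23,16,16,22,16,16,13,18,15],
  [2,23,22,22,9,17,16,15,15,18,14,15,12,17,14],
  [2,9,23,9,22,21,20,9,18,16,16,20,18,13,14,14,13],
  [],
  [],
  [],
  [],
  [],
  [],
  [],
  [],
  [0,23,23,22,21,22,21,18,19,20,17,18,15,20,12,14,14,17],
  [],
  [1,21,22,21,23,20,21,19,18,16,16,21,19,14,17,13,12],
  [],
  [],
  [],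
  [],
  [],
  [],
  [],
  [],
  [],
  [],
  [],
  [],
  [],
  [],
  [],
  [],
  [],
  [],
  [],
  [],
  [],
  [],
  [],
  [],
  [],
  [],
  [],
  [],
  [],
  [],
  [],
  [],
  [],
  [2,9,23,9,22,20,23,9,16,15,20,15,13,14,18,15,14],
  [],
  [2,23,23,23,22,23,20,22,16,17,22,15,22,13,19,14,18],
  [],
  [],
  [],
  [],
  [],
  [],
  [],
  [],
  [],
  [],
  [],
  [],
  [],
  [2,23,9,22,23,23,18,9,18,21,20,16,15,20,13,18],
  [2,23,21,22,23,23,20,21,19,20,17,19,14,18,14,15,13],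
  [2,23,23,9,19,23,19,16,18,20,17,12,12,19,13,18],
  [2,9,22,9,23,9,19,22,9,21,17,19,13,19,14,12,16],
  [],
  [],
  [],
  [],
  [],
  [],
  [],
  [],
  [2,22,9,23,9,19,23,19,22,17,16,18,16,13,18,15],
  [],
  [2,21,22,19,19,19,22,12,18,17,18,16],
  [],
  [],
  [],
  [],
  [],
  [],
  [],
  [],
  [],
  [],
  [],
  [],
  [],
  [],
  [],
  [],
  [],
  [],
  [2,21,22,23,20,18,23,20,17,20,21,15,16,14,19,17,12,13],
  [],
  [2,9,22,9,19,9,19,20,16,17,17,21,16,12,19,15],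
  [2,23,22,9,23,23,22,19,20,9,21,15,17,19,20,12,19,12],
  [],
  [2,9,23,22,23,19,19,9,19,21,17,16,16,21,13,14,14,18],
  [],
  [],
  [],
  [],
  [],
  [],
  [],
  [],
  [],
  [],
  [],
  [],
  [],
  [],
  [],
  [],
  [],
  [],
  [],
  [],
  [],
  [2,21,22,19,9,18,23,15,15,18,17,12,14,14,19,13],
  [],
  [2,23,23,9,23,19,22,18,19,22,17,20,18,22,12,19,12],
  [],
  [],
  [2,22,21,23,23,19,19,20,19,18,17,20,16,14,17,15,18],
  [],
  [2,9,23,19,22,23,21,15,17,16,18,13,15,19,19,14],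
  [],
  [],
  [],
  [],
  [],
  [],
  [],
  [],
  [],
  [],
  [],
  [],
  [],
  [],
  [],
  [],
  [],
  [],
  [],
  [],
  [],
  [1,21,22,18,19,9,20,15,21,16,22,12,14,13,17,17],
  [],
  [0,21,23,21,19,22,22,9,21,15,20,22,19,12,17,19,14],
  [2,21,22,23,20,22,23,19,22,17,19,15,22,13],
  [],
  [2,22,23,9,23,23,20,18,23,15,16,22,17,13,16,12],
  [],
  [],
  [2,9,22,22,23,21,18,19,9,22,15,17,18,21,14,15,14,15],
  [],
  [2,22,23,23,9,22,19,9,22,21,17,17,16,20,22,13,19,12,13],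
  [2,22,22,9,23,9,19,9,16,16,17,22,19,14,18,18,19,17],
  [],
  [2,23,23,22,21,20,23,15,20,18,19,12,18,15,16],
  [],
  [],
  [],
  [],
  [],
  [],
  [],
  [],
  [],
  [],
  [],
  [],
  [],
  [],
  [],
  [],
  [],
  [],
  [],
  [],
  [],
  [2,23,23,23,20,17,20,17,17,13,16,16,18,16],
  [],
  [2,23,23,23,22,22,9,18,21,22,21,15,12,12,19,15,12],
  [],
  [],
  [2,9,23,19,22,23,16,18,16,17,12,13,14,17],
  [],
  [2,9,22,22,9,21,23,21,20,20,23,17,19,20,17,20,13,19],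
  [],
  [],
  [],
  [],
  [],
  [],
  [],
  [],
  [],
  [],
  [],
  [],
  [],
  [],
  [],
  [],
  [],
  [],
  [],
  [],
  [],
  [0,23,23,23,22,20,22,19,18,16,14,19,16,19,17],
  [],
  [1,23,23,9,22,23,22,19,20,22,9,16,17,17,13,16,13,14],
  [2,22,20,23,9,15,15,18,21,12,18,18,12,16],
  [],
  [2,22,23,23,22,19,9,20,22,17,21,17,21,12,14,12],
  [],
  [],
  [2,9,23,23,23,22,9,19,9,20,17,18,17,17,12,19],
  [],
  [2,22,23,22,19,23,23,18,19,15,15,17,17,12,16,14,12],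
  [2,23,18,23,20,22,16,18,20,18,12,12,14,15],
  [],
  [2,21,23,21,22,23,23,19,23,21,18,16,18,20,15,12,17,13],
  [],
  [],
  [],
  [],
  [],
  [],
  [],
  [],
  [],
  [],
  [],
  [],
  [],
  [],
  [],
  [],
  [],
  [],
  [],
  [],
  [],
  [2,21,22,23,22,9,20,23,19,20,16,19,16,19,13,17,16],
  [],
  [2,23,22,9,22,20,9,18,20,22,16,16,16,12,18,14,13],
  [],
  [],
  [],
  [],
  [],
  [],
  [],
  [],
  [],
  [],
  [],
  [],
  [],
  [2,9,23,9,21,18,21,20,20,21,17,21,14,18,16],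
  [],
  [2,23,23,21,23,21,20,18,18,17,18,18,18,15,14,17,12],
  [],
  [],
  [],
  [],
  [],
  [],
  [],
  [],
  [],
  [],
  [],
  [],
  [],
  [],
  [],
  [],
  [],
  [],
  [],
  [],
  [],
  [],
  [],
  [],
  [],
  [],
  [],
  [],
  [],
  [],
  [],
  [],
  [],
  [2,23,22,21,23,21,20,21,16,20,12,15,14,19],
  [],
  [2,23,22,9,23,9,22,23,19,19,18,17,16,16,22,20,12,17],
  [],
  [],
  [],
  [],
  [],
  [],
  [],
  [],
  [],
  [2,23,9,22,21,23,19,9,16,21,17,17,14,19,16,19,17],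
  [2,21,22,21,19,9,19,20,21,15,19,22,13,12,18,16,13],
  [2,9,23,23,22,9,23,17,22,21,15,18,12,12,19,15,15],
  [2,23,23,9,22,22,21,20,19,23,21,17,17,22,20,16,14],
  [],
  [],
  [],
  [],
  [],
  [],
  [],
  [],
  [],
  [],
  [],
  [],
  [2,23,23,22,23,9,23,19,9,18,22,17,16,22,13,12,17,14],
  [],
  [2,22,23,23,9,19,18,20,20,17,19,22,21,12,17,15],
  [],
  [],
  [],
  [],
  [],
  [],
  [],
  [],
  [],
  [],
  [],
  [],
  [],
  [],
  [],
  [],
  [],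
  [],
  [],
  [],
  [],
  [],
  [],
  [],
  [],
  [],
  [],
  [],
  [],
  [],
  [],
  [],
  [],
  [1,21,23,22,18,21,19,17,20,20,16,22,12,13,19],
  [],
  [0,22,22,22,21,19,19,22,9,15,20,17,21,13,13,15,17,12],
  [],
  [],
  [],
  [],
  [],
  [],
  [],
  [],
  [],
  [2,22,22,20,20,18,17,16,20,12,13,16,16],
  [2,23,22,22,9,20,22,20,16,15,20,17,14,19,16,14],
  [2,22,9,22,21,19,9,19,23,15,15,21,14,16,14,16,14],
  [2,23,23,9,22,23,9,20,19,23,19,15,22,22,13,16,12],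
  [2,22,9,23,19,22,20,21,16,18,17,22,12,14],
  [2,23,9,21,19,19,19,21,16,16,15,15,12,15,19,19,18],
  [2,22,9,22,23,22,20,18,9,18,20,17,18,15,12,19,17,16],
  [2,22,23,21,22,21,18,22,20,17,16,20,15,14,12,12,14],
  [],
  [],
  [],
  [],
  [],
  [],
  [],
  [],
  [],
  [2,22,22,22,19,22,20,22,23,17,15,21,22,12,19,13],
  [],
  [2,22,19,9,20,21,16,15,16,22,12,14,17,19,18],
  [],
  [],
  [],
  [],
  [],
  [],
  [],
  [],
  [],
  [],
  [],
  [],
  [],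
  [],
  [],
  [],
  [],
  [],
  [],
  [],
  [],
  [],
  [],
  [],
  [],
  [],
  [],
  [],
  [],
  [],
  [],
  [],
  [2,21,23,23,9,22,9,19,20,21,18,17,17,22,20,16,13,18],
  [2,21,20,21,19,21,17,19,17,18,14,16,19,19,19],
  [2,23,23,9,22,23,23,19,9,20,21,16,19,12,18,13,13],
  [2,23,22,22,9,23,19,18,18,17,16,16,22,22,14,19,14],
  [],
  [],
  [],
  [],
  [],
  [],
  [],
  [],
  [],
  [2,22,21,23,23,19,18,22,21,17,19,15,18,12,14,17,15,17],
  [],
  [2,9,23,23,23,9,18,19,20,23,15,16,21,18,12,14,16],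
  [0,9,21,23,22,9,19,19,22,15,21,22,15,17,14,16,15,12],
  [],
  [1,9,23,22,23,19,22,18,18,9,17,16,21,15,12,17,12,16],
  [],
  [],
  [],
  [],
  [],
  [],
  [],
  [],
  [],
  [2,22,22,9,21,18,23,21,23,18,16,21,18,18,14,18],
  [2,9,23,9,19,18,20,20,16,20,18,19,14,18,13,12,18],
  [2,23,22,23,23,19,19,21,19,16,21,15,18,13,15,18,19,14],
  [2,9,23,21,23,23,9,23,19,23,18,21,17,17,17,18,18,13],
  [],
  [],
  [],
  [],
  [],
  [],
  [],
  [],
  [],
  [],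
  [],
  [],
  [],
  [],
  [],
  [],
  [],
  [2,22,9,22,19,20,21,20,9,15,17,22,16,13,15,13],
  [],
  [2,9,22,9,22,23,18,9,20,9,15,15,18,17,13,13,18,19],
  [],
  [],
  [],
  [],
  [],
  [],
  [],
  [],
  [],
  [],
  [],
  [],
  [],
  [2,21,19,18,21,22,9,15,16,21,19,12,12,15,17,12],
  [],
  [2,22,23,20,9,20,21,17,17,20,15,20,12,19,13,17,13],
  [],
  [],
  [],
  [],
  [],
  [],
  [],
  [],
  [2,21,22,23,22,9,20,22,19,17,17,22,16,13,13,14,15],
  [],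
  [2,22,21,23,23,18,23,19,9,15,16,21,18,14,15,12,17],
  [],
  [],
  [],
  [],
  [],
  [],
  [],
  [],
  [],
  [],
  [],
  [],
  [],
  [],
  [],
  [],
  [],
  [],
  [],
  [],
  [],
  [],
  [],
  [],
  [],
  [],
  [2,23,23,23,22,20,9,19,20,9,15,21,22,22,14,19,18,14],
  [],
  [2,9,22,21,23,23,21,18,21,19,17,21,18,22,14,16,17,12],
  [],
  [],
  [],
  [],
  [],
  [],
  [],
  [],
  [],
  [],
  [],
  [],
  [],
  [],
  [],
  [],
  [],
  [],
  [],
  [],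
  [2,9,23,9,23,21,18,9,22,22,16,16,17,12,19,16,14,18],
  [2,23,23,23,18,20,23,20,17,15,19,19,22,12,19,17,19,14],
  [2,23,21,22,21,18,21,22,21,16,22,15,19,12,12,16,16,17],
  [2,23,23,9,23,19,20,22,23,17,16,16,20,14],
  [],
  [],
  [],
  [],
  [],
  [],
  [],
  [],
  [2,21,23,9,19,19,19,21,18,17,19,22,12,14,13,14,13],
  [],
  [2,23,22,20,21,19,18,16,17,19,16,12,18,12,17,17,13],
  [],
  [2,23,21,23,22,23,18,23,18,17,20,17,20,12,17,17,19],
  [],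
  [2,22,23,9,21,22,20,23,17,15,22,15,16,14,17,16,16,17],
  [],
  [],
  [],
  [],
  [],
  [],
  [],
  [],
  [],
  [],
  [],
  [],
  [],
  [],
  [],
  [],
  [],
  [],
  [],
  [],
  [],
  [],
  [],
  [],
  [],
  [],
  [],
  [],
  []] = true := by decide +kernel
theorem clT_1 : allZ (clsB 5120 LS [1,11,9,2,0] mT MT) (mapApp [42] (prods [AT1, AT2, AT3, AT4]) []) [[],
  [],
  [],
  [],
  [],
  [],
  [],
  [],
  [2,9,21,23,21,18,20,18,22,17,16,18,20,16,13,17,14,14],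
  [2,21,23,23,19,18,18,9,15,15,21,17,12,19,19,12,17],
  [2,22,22,20,19,23,18,16,18,22,20,12,18,19,17,14],
  [2,23,9,22,9,22,20,18,20,19,15,18,20,17,14,19,18,15],
  [],
  [2,22,21,22,21,20,20,18,9,20,16,20,18,17,12,16,18],
  [],
  [2,23,23,9,19,23,20,9,17,19,18,16,15,12,15,13,19,17],
  [],
  [],
  [],
  [],
  [],
  [2,22,21,23,21,22,23,20,22,20,9,12,12,16,19,18,17],
  [],
  [2,23,23,22,20,19,18,23,21,17,19,22,21,12,18,17,13,16],
  [2,22,22,23,18,9,18,21,20,16,18,22,14,16,19],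
  [2,9,22,22,20,21,20,15,19,16,20,17,14,18,12,18,18],
  [2,23,9,23,18,23,20,17,22,21,18,17,14,19,15,14],
  [2,9,21,19,23,19,21,22,15,15,18,16,12,14,14],
  [],
  [],
  [],
  [],
  [],
  [],
  [],
  [],
  [2,21,22,23,19,19,22,19,17,18,22,22,14,13,13,13],
  [2,9,23,23,20,23,21,22,16,18,15,19,19,13,13,18],
  [2,23,22,21,22,18,19,9,20,17,18,18,20,17,14,12,15],
  [2,9,23,21,23,19,18,21,17,18,21,22,12,15,15,18,15],
  [2,21,23,21,20,20,20,21,22,17,18,22,17,17,12,15,19,12],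
  [],
  [2,9,23,23,23,9,21,20,19,18,15,18,15,13,14,19,15],
  [],
  [],
  [],
  [],
  [],
  [2,9,23,9,23,23,23,19,22,22,19,15,21,12,15,19,13,17],
  [],
  [2,22,22,23,21,22,19,21,22,23,21,17,18,15,18,13,15,15],
  [],
  [2,22,23,22,9,23,23,18,20,20,15,22,15,20,14,18,12],
  [2,22,19,22,20,20,19,16,18,15,17,17,12,18,14,18],
  [2,9,22,21,19,22,18,23,20,15,15,21,16,12,19,18,16,14],
  [2,21,23,9,22,18,19,17,19,18,16,12,18,14,13,18],
  [],
  [],
  [],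
  [],
  [],
  [],
  [],
  [],
  [],
  [],
  [],
  [],
  [],
  [],
  [],
  [],
  [2,21,23,9,22,22,20,9,17,17,17,17,19,12,17,14,15],
  [],
  [2,23,22,19,18,20,22,21,16,18,16,21,14,18,13,19],
  [],
  [],
  [2,9,23,9,23,23,9,19,21,19,18,19,16,20,19,17,13,13,18],
  [],
  [2,22,21,23,22,19,22,21,18,17,19,18,16,15,12,12,14,12],
  [],
  [],
  [],
  [],
  [],
  [2,23,23,9,21,23,23,9,16,18,19,18,13,14,17,14],
  [],
  [2,9,23,21,22,23,23,20,19,19,9,19,17,18,12,13,17,18,14],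
  [2,22,23,19,23,18,23,21,17,15,16,21,12,12,18,16,14,16],
  [],
  [2,9,23,21,23,23,18,9,21,23,15,20,17,15,12,19,16,16,19],
  [],
  [],
  [],
  [],
  [],
  [],
  [],
  [],
  [],
  [],
  [2,9,22,21,19,9,19,20,17,16,22,21,14,17,13,12],
  [],
  [2,9,23,9,21,22,19,20,19,21,17,17,17,19,12,14,12,16],
  [2,21,22,19,20,20,21,19,23,17,15,22,18,15,12,18,18,14,12],
  [],
  [2,9,23,23,22,18,18,21,17,20,15,17,22,14,19,18,18],
  [],
  [],
  [],
  [],
  [],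
  [2,23,23,9,22,9,19,23,18,9,15,17,18,19,13,15,19,19],
  [],
  [2,23,23,23,9,20,18,23,20,16,17,15,18,12,19,12,13],
  [],
  [],
  [2,22,22,9,19,21,23,23,15,16,17,20,14,12,14,18,17],
  [],
  [2,22,22,9,19,9,22,21,12,18,13,15],
  [],
  [],
  [],
  [],
  [],
  [],
  [],
  [],
  [],
  [],
  [],
  [],
  [],
  [],
  [],
  [],
  [],
  [2,9,23,9,22,19,18,18,18,15,18,17,22,12,19,15,13,17],
  [],
  [2,22,22,9,23,9,18,19,22,21,16,17,14,12,18,18,18],
  [2,9,21,23,9,19,21,17,17,16,16,18,13,14,18,18],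
  [2,9,21,23,9,19,19,19,18,15,19,18,12,15,18,17],
  [2,22,23,21,20,20,21,20,20,17,18,17,19,21,13,12,12,12],
  [2,23,22,22,23,19,22,18,20,17,15,16,18,12,12,15,15],
  [],
  [],
  [],
  [],
  [2,21,22,22,22,20,21,18,20,18,17,16,16,22,14,14,15,13],
  [2,9,21,23,23,23,18,19,23,19,17,21,19,12,18,12,16,13],
  [2,23,9,23,9,20,9,19,15,19,12,15,14,19,12],
  [2,22,21,23,23,9,21,16,22,19,14,16,15,18],
  [],
  [2,22,22,23,21,19,20,20,21,20,16,22,21,17,14,16,17,19],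
  [],
  [2,23,9,22,22,9,23,20,22,21,17,22,16,15,14,14,18,15,16],
  [],
  [],
  [],
  [],
  [],
  [],
  [],
  [],
  [2,23,22,22,23,20,9,20,17,22,15,18,12,12,17,17,19],
  [],
  [2,9,23,9,22,9,19,21,18,21,17,16,18,12,18,12,19,16],
  [],
  [2,23,22,20,21,18,22,17,16,13,16,19,16],
  [2,23,23,9,20,18,23,22,22,17,19,22,21,12,12,15,17,13],
  [2,23,23,9,21,19,20,21,22,17,18,16,16,14,17],
  [2,9,22,23,22,23,18,23,20,17,17,21,17,15,12,18,16,16,14],
  [],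
  [],
  [],
  [],
  [2,9,22,9,22,23,22,18,18,9,17,18,21,12,12,16,16,15],
  [2,22,21,23,22,20,18,20,20,15,19,20,17,13,14,14,12,12],
  [2,9,23,23,23,22,18,18,9,15,15,19,12,18,15,15,12,16],
  [2,9,21,23,19,21,22,22,17,15,20,20,18,12,16,12,17,19],
  [2,9,23,9,22,23,23,18,17,20,22,17,17,12,18,17,12,12],
  [],
  [2,23,23,9,20,18,19,22,9,15,17,22,17,14,17,18,15],
  [],
  [],
  [],
  [],
  [],
  [],
  [],
  [],
  [],
  [],
  [],
  [],
  [],
  [],
  [],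
  [],
  [],
  [],
  [],
  [],
  [],
  [],
  [],
  [],
  [],
  [],
  [],
  [],
  [],
  [],
  [],
  [],
  [],
  [],
  [],
  [],
  [],
  [],
  [],
  [],
  [],
  [],
  [],
  [],
  [],
  [],
  [],
  [],
  [],
  [],
  [],
  [],
  [],
  [],
  [],
  [],
  [],
  [],
  [],
  [],
  [],
  [],
  [],
  [],
  [],
  [],
  [],
  [],
  [],
  [],
  [],
  [],
  [],
  [],
  [],
  [],
  [],
  [],
  [],
  [],
  [],
  [],
  [],
  [],
  [],
  [],
  [],
  [],
  [],
  [],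
  [],
  [],
  [],
  [],
  [],
  [],
  [],
  [],
  [],
  [],
  [],
  [],
  [],
  [],
  [],
  [],
  [],
  [],
  [],
  [],
  [],
  [],
  [],
  [],
  [],
  [],
  [],
  [],
  [],
  [],
  [],
  [],
  [],
  [],
  [],
  [],
  [],
  [],
  [],
  [],
  [],
  [],
  [],
  [],
  [],
  [],
  [],
  [],
  [],
  [],
  [],
  [],
  [],
  [],
  [],
  [],
  [],
  [],
  [],
  [],
  [],
  [],
  [],
  [],
  [],
  [],
  [],
  [],
  [],
  [],
  [],
  [],
  [],
  [],
  [],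
  [],
  [],
  [],
  [],
  [],
  [],
  [],
  [],
  [2,23,23,9,22,18,19,23,21,16,20,17,18,19,14,17,15,16,16],
  [],
  [2,22,23,23,9,22,21,19,22,22,9,15,18,14,13,19],
  [],
  [],
  [2,9,21,22,18,19,20,23,17,16,21,16,15,13,14,17,14],
  [],
  [2,9,21,23,23,21,22,23,18,22,22,22,17,21,19,13,16,19,19],
  [],
  [],
  [],
  [],
  [],
  [2,9,23,9,22,23,22,18,22,19,17,17,22,18,12,19,16,15,14],
  [],
  [2,21,22,23,22,19,20,23,23,16,18,17,19,14,13,15,15],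
  [2,23,22,9,22,23,23,18,21,17,20,16,21,20,13,16,19],
  [],
  [2,9,22,22,22,23,22,19,19,20,19,17,17,22,15,13,14,13],
  [],
  [],
  [],
  [],
  [],
  [],
  [],
  [],
  [],
  [],
  [],
  [],
  [],
  [],
  [],
  [],
  [],
  [],
  [2,23,22,9,20,21,19,19,17,17,18,16,22,14,18,15,14],
  [],
  [2,21,23,22,21,22,23,19,22,23,23,17,22,19,14,17,16,13,17],
  [],
  [],
  [],
  [],
  [],
  [],
  [],
  [],
  [2,23,21,23,21,19,20,18,9,19,16,22,12,14,19,14,17],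
  [],
  [2,21,23,23,21,20,19,19,22,16,18,19,16,13,13,19],
  [],
  [],
  [],
  [],
  [],
  [],
  [],
  [],
  [],
  [],
  [],
  [],
  [],
  [2,22,23,23,21,18,19,20,18,16,15,20,18,22,14,16,17],
  [],
  [2,22,23,21,22,22,23,20,20,20,21,17,18,18,14,13,17,16],
  [],
  [],
  [],
  [],
  [],
  [],
  [],
  [],
  [],
  [],
  [2,22,9,23,20,23,23,19,9,17,19,18,21,12,12,16,12],
  [],
  [2,23,9,22,9,20,9,20,9,16,19,22,20,14,15,15,12],
  [],
  [],
  [],
  [],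
  [],
  [],
  [],
  [],
  [],
  [],
  [],
  [],
  [],
  [],
  [],
  [],
  [],
  [],
  [],
  [],
  [],
  [2,22,22,9,23,21,23,20,22,21,17,22,16,22,12,19,17],
  [],
  [2,9,19,20,9,23,16,18,21,15,12,19,13,16],
  [2,22,9,23,9,19,22,22,20,17,17,16,15,14,13,12,13],
  [],
  [2,21,23,23,9,19,18,22,20,16,15,19,12,12,16,15,19],
  [],
  [],
  [],
  [],
  [],
  [2,9,23,23,9,21,19,18,20,21,22,17,21,12,18,18,12,12],
  [],
  [2,21,22,22,21,19,23,19,21,18,17,22,19,15,12,16,15],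
  [],
  [],
  [2,9,23,19,23,18,18,22,17,22,16,19,15,12,17,12,12,19],
  [],
  [2,9,23,9,19,18,9,20,17,21,17,22,16,13,16,13,12,18],
  [],
  [],
  [],
  [],
  [],
  [],
  [],
  [],
  [2,9,22,22,9,23,9,20,18,19,21,16,22,20,15,14,15,14],
  [],
  [2,23,21,23,22,9,21,19,18,20,22,17,17,20,17,13],
  [],
  [],
  [2,23,22,21,18,19,18,21,15,18,12,12,16,19,17],
  [],
  [2,23,21,22,23,21,20,9,22,21,22,15,17,18,19,13,16,15],
  [],
  [],
  [],
  [],
  [],
  [2,22,23,9,22,19,18,9,19,15,18,15,16,14,12,17,15],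
  [],
  [2,9,22,9,21,23,19,19,21,19,20,15,19,12,12,15,19],
  [2,9,23,23,9,21,22,20,21,17,18,15,13,13,19,19],
  [],
  [2,23,9,21,19,19,19,9,17,22,21,12,15,12,19],
  [],
  [],
  [],
  [],
  [],
  [],
  [],
  [],
  [],
  [],
  [],
  [],
  [],
  [],
  [],
  [],
  [],
  [],
  [],
  [],
  [],
  [],
  [],
  [],
  [],
  [],
  [],
  [],
  [],
  [],
  [],
  [],
  [],
  [],
  [],
  [],
  [],
  [],
  [],
  [],
  [],
  [],
  [],
  [],
  [],
  [],
  [],
  [],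
  [],
  [],
  [],
  [],
  [],
  [],
  [],
  [],
  [],
  [],
  [],
  [],
  [],
  [],
  [],
  [],
  [],
  [],
  [],
  [],
  [],
  [],
  [],
  [],
  [],
  [],
  [],
  [],
  [],
  [],
  [],
  [],
  [],
  [],
  [],
  [],
  [],
  [],
  [],
  [],
  [],
  [],
  [],
  [],
  [],
  [],
  [],
  [],
  [],
  [],
  [],
  [],
  [],
  [],
  [],
  [],
  [],
  [],
  [],
  [],
  [],
  [],
  [],
  [],
  [],
  [],
  [],
  [],
  [],
  [],
  [],
  [],
  [],
  [],
  [],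
  [],
  [],
  [],
  [],
  [],
  [],
  [],
  [],
  [],
  [],
  [],
  [],
  [],
  [],
  [],
  [],
  [],
  [],
  [],
  [],
  [],
  [],
  [1,22,9,21,20,19,22,20,15,16,18,21,12,15,18,12],
  [],
  [0,9,22,9,23,9,22,18,15,16,22,21,12,17,16,13,12],
  [],
  [],
  [],
  [],
  [],
  [],
  [],
  [],
  [],
  [2,21,22,23,21,23,19,22,18,9,17,15,19,22,15,14,13,13],
  [2,9,23,23,9,21,22,19,21,23,22,16,19,17,13,19,18],
  [2,21,22,23,20,9,20,18,18,17,18,20,14,19,18,15,15],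
  [2,23,23,21,23,9,20,18,19,21,23,17,16,12,18,16,15],
  [],
  [2,9,23,22,21,20,21,19,19,17,18,19,15,14,15,15,19,12],
  [],
  [2,9,23,23,9,21,19,23,9,22,18,16,16,18,21,14,18],
  [],
  [],
  [],
  [],
  [],
  [],
  [],
  [],
  [2,22,23,23,22,19,20,21,17,15,18,21,12,15,18,16],
  [],
  [2,22,9,21,23,22,9,19,23,19,18,19,17,18,14,12,15],
  [],
  [2,23,22,23,21,20,22,22,20,17,15,17,16,14,19,17,19],
  [2,22,9,23,23,19,20,19,19,16,22,20,14,18,12,13,13],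
  [2,21,22,23,22,19,20,23,22,15,21,19,21,14,18,19,16],
  [2,23,22,9,22,22,19,22,9,19,17,15,15,22,14,12,12],
  [],
  [],
  [],
  [],
  [],
  [],
  [],
  [],
  [],
  [0,23,23,18,18,20,23,17,22,19,21,12,18,14,17,12],
  [],
  [1,23,23,21,23,23,9,19,20,19,23,19,17,18,20,21],
  [],
  [],
  [],
  [],
  [],
  [],
  [],
  [],
  [],
  [],
  [],
  [],
  [],
  [],
  [],
  [],
  [2,21,23,23,18,23,9,22,17,18,15,21,20,14,19,17,14],
  [],
  [2,9,23,21,19,18,20,15,17,16,22,16,14,12,16,19,12],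
  [],
  [],
  [],
  [],
  [],
  [],
  [],
  [],
  [],
  [],
  [2,9,22,21,19,23,9,15,19,18,22,12,12,12,15,16,12],
  [],
  [2,23,18,23,20,20,15,19,18,12,19,18,14,14],
  [],
  [],
  [],
  [],
  [],
  [],
  [],
  [],
  [],
  [],
  [],
  [],
  [],
  [],
  [],
  [],
  [0,9,22,22,18,22,17,17,17,18,17,15,14,17,13,12,12],
  [],
  [1,9,22,23,23,9,21,18,21,22,9,17,15,14,15,18,19,18],
  [],
  [],
  [],
  [],
  [],
  [],
  [],
  [],
  [],
  [],
  [1,22,23,21,23,22,22,19,19,21,15,19,15,12,18,19,17,12],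
  [],
  [0,23,23,21,23,19,18,20,21,16,17,18,18,12,18,15],
  [],
  [],
  [],
  [],
  [],
  [],
  [],
  [],
  [],
  [],
  [],
  [],
  [],
  [],
  [],
  [],
  [],
  [],
  [],
  [],
  [],
  [],
  [],
  [],
  [],
  [],
  [],
  [],
  [],
  [],
  [],
  [],
  [],
  [],
  [],
  [],
  [],
  [],
  [],
  [],
  [],
  [],
  [],
  [],
  [],
  [2,22,22,22,23,20,19,17,16,20,12,17,15,14,14],
  [],
  [2,21,22,9,18,22,18,19,16,17,17,14,18,16,14],
  [2,22,23,9,21,18,20,21,23,17,17,20,16,22,13,19,19],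
  [],
  [2,23,9,21,23,9,20,19,22,20,17,17,22,16,17,14,12,18,14],
  [],
  [],
  [],
  [],
  [],
  [2,22,21,23,21,19,18,18,20,16,16,18,13,18,16,18],
  [],
  [2,22,23,9,23,18,19,19,17,22,15,18,12,14,12,17,12],
  [],
  [],
  [2,22,22,9,23,20,19,23,20,15,19,15,17,14,19,17],
  [],
  [2,23,21,23,19,22,18,22,22,17,21,22,22,14,15,19,19],
  [],
  [],
  [],
  [],
  [],
  [],
  [],
  [],
  [],
  [],
  [],
  [],
  [],
  [],
  [],
  [],
  [2,21,23,22,23,9,22,18,23,16,19,20,18,12,12,18,15],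
  [],
  [2,23,22,23,21,18,18,9,16,22,16,18,12,19,19,15],
  [],
  [],
  [],
  [],
  [],
  [],
  [],
  [],
  [],
  [],
  [2,9,22,23,23,20,9,22,17,20,19,16,15,14,13,12,14],
  [],
  [2,9,21,23,19,20,22,21,20,15,21,21,20,14,17,17,16],
  [],
  [],
  [],
  [],
  [],
  [],
  [],
  [],
  [],
  [],
  [],
  [],
  [],
  [2,21,23,21,23,19,19,23,20,20,15,20,12,14,17,12],
  [],
  [2,9,21,22,21,19,20,9,18,19,17,17,20,17,19,14,17,18],
  [],
  [],
  [],
  [],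
  [],
  [],
  [],
  [],
  [2,23,22,22,23,22,19,19,20,21,22,17,21,15,20,13,13,18],
  [],
  [2,21,23,23,22,19,20,18,9,17,16,20,15,14,12,12,19],
  [],
  [],
  [],
  [],
  [],
  [],
  [],
  [],
  [],
  [],
  [],
  [],
  [],
  [],
  [],
  [],
  [],
  [],
  [],
  [],
  [],
  [],
  [],
  [],
  [],
  [0,22,23,21,20,20,20,20,16,21,17,17,12,13,12,14,13],
  [],
  [1,23,22,23,22,9,22,19,23,21,18,16,20,21,15,13,12,18],
  [],
  [],
  [],
  [],
  [],
  [],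
  [2,23,22,23,22,20,18,20,17,17,17,17,12,18,19,13,15],
  [],
  [2,9,22,22,9,23,23,9,19,18,20,22,15,16,15,22,12],
  [2,21,23,22,9,20,9,20,18,18,17,16,19,12,19,15,12],
  [2,22,23,18,18,21,18,17,15,15,21,17,12,12,14,13],
  [2,9,23,23,23,20,21,20,23,17,19,21,21,14,16,15,18],
  [2,22,22,20,22,19,21,22,15,20,18,20,12,12,16,12,12],
  [],
  [],
  [],
  [],
  [],
  [],
  [],
  [],
  [2,23,23,21,20,19,18,19,15,17,16,22,16,14,18,15,12],
  [2,22,9,21,23,21,20,19,19,20,17,15,15,12,18,17],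
  [2,23,21,18,23,18,22,17,16,19,19,16,12,12,17,13,17],
  [2,9,21,23,23,21,19,21,22,15,18,20,17,14,14,17,17],
  [2,20,19,21,23,23,17,16,16,22,15,14,12,17,13,15],
  [],
  [2,9,21,22,9,19,18,22,23,19,17,18,19,16,12,18,18,13,13],
  [],
  [],
  [],
  [],
  [],
  [],
  [0,20,22,23,17,18,20,16,15,12,16,12,17,19],
  [],
  [1,9,22,22,21,23,19,20,23,23,15,18,16,17,14,14,18],
  [],
  [],
  [],
  [],
  [],
  [],
  [],
  [],
  [],
  [],
  [],
  [],
  [],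
  [],
  [],
  [],
  [],
  [],
  [],
  [],
  [],
  [2,9,21,23,22,23,9,19,19,21,18,17,21,16,21,12,19,15,19],
  [],
  [2,21,23,19,19,21,20,20,15,17,19,22,16,14,13,13,18,19],
  [],
  [],
  [],
  [],
  [],
  [],
  [],
  [],
  [2,21,23,23,9,22,22,19,19,21,16,16,17,20,14,13,19,18],
  [],
  [2,23,21,23,9,22,20,19,18,21,16,21,22,12,19,16,14],
  [],
  [],
  [],
  [],
  [],
  [],
  [],
  [],
  [],
  [],
  [],
  [],
  [],
  [],
  [],
  [],
  [],
  [],
  [1,23,21,23,22,19,20,22,22,20,15,16,21,14,19,17,15,14],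
  [],
  [0,21,19,20,18,22,21,15,19,17,20,13,19,19,13],
  [],
  [],
  [],
  [],
  [],
  [],
  [],
  [],
  [1,9,23,22,21,23,19,18,15,20,21,17,12,12,18,18,14],
  [],
  [0,9,22,23,22,20,18,23,9,18,15,15,12,19,16,15],
  [],
  [],
  [],
  [],
  [],
  [],
  [],
  [],
  [],
  [],
  [],
  [],
  [],
  [],
  [],
  [],
  [],
  [],
  [],
  [],
  [],
  [],
  [],
  [],
  [],
  [],
  [],
  [],
  [],
  [],
  [],
  [],
  [],
  [2,23,23,9,20,18,18,21,20,16,20,19,19,12,15],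
  [],
  [2,21,23,21,23,22,21,18,18,21,15,16,16,12,18,14,19,16],
  [],
  [],
  [],
  [],
  [],
  [],
  [],
  [],
  [],
  [],
  [],
  [],
  [],
  [],
  [],
  [],
  [],
  [],
  [],
  [],
  [],
  [2,22,22,21,20,9,23,21,18,15,19,15,20,12,13,19,15,17],
  [],
  [2,21,23,23,21,20,19,22,9,17,21,16,15,12,12,19],
  [],
  [],
  [],
  [],
  [],
  [],
  [],
  [],
  [],
  [],
  [],
  [],
  [],
  [],
  [],
  [],
  [],
  [],
  [],
  [],
  [],
  [],
  [],
  [],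
  [],
  [],
  [],
  [],
  [],
  [],
  [],
  [],
  [],
  [],
  [],
  [],
  [],
  [2,23,21,22,23,18,23,20,9,18,17,22,17,15,12,17,12,13,13],
  [],
  [2,22,23,21,22,22,20,19,19,19,9,16,18,19,21,14,14,13,17],
  [],
  [],
  [],
  [],
  [],
  [],
  [],
  [],
  [],
  [],
  [],
  [],
  [],
  [],
  [],
  [],
  [],
  [],
  [],
  [],
  [],
  [2,21,23,23,23,20,9,22,18,16,19,20,16,12,15,13,14],
  [],
  [2,9,23,23,9,22,21,20,18,23,17,22,21,17,12,14,17],
  [],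
  [],
  [],
  [],
  [],
  [],
  [],
  [],
  [],
  [],
  [],
  [],
  [],
  [],
  [],
  [],
  [],
  [],
  [],
  [],
  [],
  [],
  [2,9,22,9,23,21,22,21,20,20,15,15,18,22,13,18,16,19],
  [],
  [2,9,23,23,23,21,23,23,19,21,17,16,21,17,14,18,14,17],
  [],
  [],
  [],
  [],
  [],
  [],
  [],
  [],
  [],
  [],
  [],
  [],
  [],
  [],
  [],
  [],
  [],
  [],
  [],
  [],
  [],
  [],
  [],
  [],
  [],
  [],
  [],
  [],
  [],
  [2,23,22,23,9,22,19,18,20,23,16,21,17,16,12,18,18,15],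
  [],
  [2,23,9,23,23,22,20,22,20,16,15,18,17,12,12,18,15,16],
  [],
  [],
  [],
  [],
  [],
  [],
  [],
  [],
  [],
  [],
  [],
  [],
  [],
  [],
  [],
  [],
  [],
  [],
  [],
  [],
  [],
  [],
  [],
  [],
  [],
  [],
  [],
  [],
  [],
  [],
  [],
  [],
  [],
  [2,21,23,23,20,22,23,23,17,21,16,21,12,12,14,13,16],
  [],
  [2,22,23,19,23,18,22,17,18,18,16,21,14,12,15,15,15],
  [],
  [],
  [],
  [],
  [],
  [],
  [],
  [],
  [],
  [],
  [],
  [],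
  [],
  [],
  [],
  [],
  [],
  [],
  [],
  [],
  [],
  [2,23,22,22,22,21,18,22,20,22,15,16,18,15,13,12,15,14],
  [],
  [2,23,22,23,22,19,21,19,17,17,15,20,15,12,17,13,13],
  [],
  [],
  [],
  [],
  [],
  [],
  [],
  [],
  [],
  [],
  [],
  [],
  [],
  [],
  [],
  [],
  [],
  [],
  [],
  [],
  [],
  [],
  [],
  [],
  [],
  [],
  [],
  [],
  [],
  [],
  [],
  [],
  [],
  [],
  [],
  [],
  [],
  [2,23,21,19,22,22,19,20,17,19,15,18,16,13,19],
  [],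
  [2,9,21,19,9,20,23,21,15,19,15,22,17,12,15,12,15,19],
  [],
  [],
  [],
  [],
  [],
  [],
  [],
  [],
  [],
  [],
  [],
  [],
  [],
  [],
  [],
  [],
  [],
  [],
  [],
  [],
  [],
  [2,23,9,22,23,18,19,20,15,21,18,20,14,13],
  [],
  [2,22,23,23,9,19,20,9,23,9,15,19,22,22,12,12,16,16],
  [],
  [],
  [],
  [],
  [],
  [],
  [],
  [],
  [],
  [],
  [],
  [],
  [],
  [],
  [],
  [],
  [],
  [],
  [],
  [],
  [],
  [],
  [],
  [],
  [],
  [],
  [],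
  [],
  [],
  [],
  [],
  [],
  [],
  [],
  [],
  [],
  [],
  [2,23,22,18,18,9,17,17,22,15,22,12,14,13,15,12],
  [],
  [2,22,9,23,9,23,19,19,21,20,22,17,22,12,18,17,17],
  [],
  [],
  [],
  [],
  [],
  [],
  [],
  [],
  [],
  [],
  [],
  [],
  [],
  [],
  [],
  [],
  [],
  [],
  [],
  [],
  [],
  [2,9,21,23,23,19,9,18,18,22,16,22,19,12,12,12,16,13],
  [],
  [2,22,9,23,19,23,21,18,9,17,22,18,16,13,14,18,12],
  [],
  [],
  [],
  [],
  [],
  [],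
  [],
  [],
  [],
  [],
  [],
  [],
  [],
  [],
  [],
  [],
  [],
  [],
  [],
  [],
  [],
  [],
  [],
  [],
  [],
  [],
  [],
  [],
  [],
  [],
  [],
  [],
  [],
  [],
  [],
  [],
  [],
  [2,23,21,19,18,18,23,21,16,15,19,18,13,15,18,14],
  [],
  [2,9,21,22,9,20,23,9,20,16,20,20,15,12,15,13,17,19],
  [],
  [],
  [],
  [],
  [],
  [],
  [],
  [],
  [],
  [],
  [],
  [],
  [],
  [],
  [],
  [],
  [],
  [],
  [],
  [],
  [],
  [2,23,22,20,20,20,21,16,22,16,14,17,14,13],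
  [],
  [2,21,23,22,22,19,22,20,20,16,15,15,21,14,18,12,18,13],
  [],
  [],
  [],
  [],
  [],
  [],
  [],
  [],
  [],
  [],
  [],
  [],
  [],
  [],
  [],
  [],
  [],
  [],
  [],
  [],
  [],
  [],
  [],
  [],
  [],
  [],
  [],
  [],
  [],
  [],
  [],
  [],
  [],
  [],
  [],
  [],
  [2,22,9,23,21,20,20,20,22,21,17,17,22,15,13,14,18,17],
  [],
  [2,22,21,23,21,19,20,20,19,17,16,12,15,15,12,13],
  [],
  [],
  [],
  [],
  [],
  [],
  [],
  [],
  [],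
  [],
  [],
  [],
  [],
  [],
  [],
  [],
  [],
  [],
  [],
  [],
  [],
  [2,23,22,21,22,23,9,19,9,22,16,19,21,14,19,18,18],
  [],
  [2,22,9,21,19,9,23,23,22,17,17,16,17,12,12,15,15,16],
  [],
  [],
  [],
  [],
  [],
  [],
  [],
  [],
  [],
  [],
  [],
  [],
  [],
  [],
  [],
  [],
  [],
  [],
  [],
  [],
  [],
  [],
  [],
  [],
  [],
  [],
  [],
  [],
  [],
  [],
  [],
  [],
  [],
  [],
  [],
  [],
  [],
  [],
  [],
  [],
  [],
  [],
  [],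
  [],
  [],
  [2,9,23,21,22,18,19,18,17,15,19,16,14,13,19,14,12],
  [],
  [2,9,23,23,23,18,22,18,23,15,19,16,14,16,16,16,15],
  [],
  [],
  [],
  [],
  [],
  [],
  [],
  [],
  [],
  [],
  [],
  [],
  [],
  [],
  [],
  [],
  [],
  [],
  [],
  [],
  [],
  [],
  [],
  [],
  [],
  [],
  [],
  [],
  [],
  [2,23,21,23,23,18,19,20,17,16,17,12,18,13,16,15],
  [],
  [2,23,23,21,23,22,19,9,21,18,19,15,18,12,13,18,15],
  [],
  [],
  [],
  [],
  [],
  [],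
  [],
  [],
  [],
  [],
  [],
  [],
  [],
  [],
  [],
  [],
  [],
  [],
  [],
  [],
  [],
  [],
  [],
  [],
  [],
  [],
  [],
  [],
  [],
  [2,23,23,21,23,21,19,9,18,23,15,18,13,17,13,16],
  [],
  [2,9,23,22,23,19,23,23,23,17,15,16,19,19,14,12,15],
  [],
  [],
  [],
  [],
  [],
  [],
  [],
  [],
  [],
  [],
  [],
  [],
  [],
  [],
  [],
  [],
  [],
  [],
  [],
  [],
  [],
  [],
  [],
  [],
  [],
  [],
  [],
  [],
  [],
  [2,22,23,21,23,21,17,15,21,19,15,12,18,13,18,19],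
  [],
  [2,22,22,9,18,23,9,20,15,17,22,14,19,18,17,17],
  [],
  [],
  [],
  [],
  [],
  [],
  [],
  [],
  [],
  [],
  [],
  [],
  [],
  [],
  [],
  [],
  [],
  [],
  [],
  [],
  [],
  [],
  [],
  [],
  [],
  [],
  [],
  [],
  [],
  [],
  [],
  [],
  [],
  [2,22,21,23,9,20,22,19,19,17,16,22,17,19,12,19,18,12],
  [],
  [2,23,23,22,9,19,22,17,21,17,17,22,14,18,15,16,19],
  [],
  [],
  [],
  [],
  [],
  [],
  [],
  [],
  [],
  [],
  [],
  [],
  [],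
  [],
  [],
  [],
  [],
  [],
  [],
  [],
  [],
  [2,9,22,19,19,22,9,18,17,16,15,22,22,14,13,17,15],
  [],
  [2,9,23,23,22,22,19,9,19,18,16,17,18,15,12,19,19,12],
  [],
  [],
  [],
  [],
  [],
  [],
  [],
  [],
  [],
  [],
  [],
  [],
  [],
  [],
  [],
  [],
  [],
  [],
  [],
  [],
  [],
  [],
  [],
  [],
  [],
  [],
  [],
  [],
  [],
  [],
  [],
  [],
  [],
  [],
  [],
  [],
  [],
  [2,21,23,21,18,22,20,23,17,19,18,22,15,12,19,18],
  [],
  [2,23,9,19,18,9,19,16,21,17,22,14,19,17,12],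
  [],
  [],
  [],
  [],
  [],
  [],
  [],
  [],
  [],
  [],
  [],
  [],
  [],
  [],
  [],
  [],
  [],
  [],
  [],
  [],
  [],
  [2,23,21,23,21,23,9,20,9,23,16,22,15,14,19,12,15,14],
  [],
  [2,23,23,23,9,19,22,19,22,23,15,21,18,14,19,19,12,14],
  [],
  [],
  [],
  [],
  [],
  [],
  [],
  [],
  [],
  [],
  [],
  [],
  [],
  [],
  [],
  [],
  [],
  [],
  [],
  [],
  [],
  [],
  [],
  [],
  [],
  [],
  [],
  [],
  [],
  [],
  [],
  [],
  [],
  [],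
  [],
  [],
  [],
  [],
  [2,9,22,9,22,22,9,19,9,22,23,17,22,17,17,12,12,17,17],
  [],
  [2,22,23,22,21,22,20,9,22,22,16,15,17,19,14,17,12,13,17],
  [],
  [],
  [],
  [],
  [],
  [],
  [],
  [],
  [],
  [],
  [],
  [],
  [],
  [],
  [],
  [],
  [],
  [],
  [],
  [],
  [],
  [2,22,23,21,23,21,19,18,20,17,18,22,21,12,15,14,18,18],
  [],
  [2,22,22,19,20,18,22,15,21,22,16,12,14,17,18,12],
  [],
  [],
  [],
  [],
  [],
  [],
  [],
  [],
  [],
  [],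
  [],
  [],
  [],
  [],
  [],
  [],
  [],
  [],
  [],
  [],
  [],
  [],
  [],
  [],
  [],
  [],
  [],
  [],
  [],
  [],
  [],
  [],
  [],
  [],
  [],
  [],
  [],
  [2,23,22,21,22,23,21,16,22,17,21,17,14,19,13,14],
  [],
  [2,23,21,23,9,22,19,23,23,15,18,22,20,14,13,12,12],
  [],
  [],
  [],
  [],
  [],
  [],
  [],
  [],
  [],
  [],
  [],
  [],
  [],
  [],
  [],
  [],
  [],
  [],
  [],
  [],
  [],
  [2,23,22,23,23,20,9,18,20,19,17,19,21,12,12,19,17,15],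
  [],
  [2,23,9,18,19,20,15,16,21,17,14,14,19,16,19],
  [],
  [],
  [],
  [],
  [],
  [],
  [],
  [],
  [],
  [],
  [],
  [],
  [],
  [],
  [],
  [],
  [],
  [],
  [],
  [],
  [],
  [2,22,22,21,23,9,19,20,19,22,15,22,22,13,18,13,18,18],
  [],
  [2,23,22,23,22,9,18,18,20,18,16,15,19,16,12,13,12],
  [],
  [],
  [],
  [],
  [],
  [],
  [],
  [],
  [],
  [],
  [],
  [],
  [],
  [],
  [],
  [],
  [],
  [],
  [],
  [],
  [],
  [],
  [],
  [],
  [],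
  [],
  [],
  [],
  [],
  [2,22,9,23,21,22,21,20,21,22,23,17,18,20,13,14,17,16,18],
  [],
  [2,23,23,9,21,19,9,18,21,20,17,21,22,18,12,14,13,14],
  [],
  [],
  [],
  [],
  [],
  [],
  [],
  [],
  [],
  [],
  [],
  [],
  [],
  [],
  [],
  [],
  [],
  [],
  [],
  [],
  [],
  [],
  [],
  [],
  [],
  [],
  [],
  [],
  [],
  [],
  [],
  [],
  [2,9,23,9,21,18,22,18,18,17,16,16,19,13,13,12,19],
  [],
  [2,23,22,18,22,19,21,15,21,17,18,13,12,18],
  [],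
  [],
  [],
  [],
  [],
  [],
  [],
  [],
  [],
  [],
  [],
  [],
  [],
  [],
  [],
  [],
  [],
  [],
  [],
  [],
  [],
  [2,9,23,9,19,19,15,17,21,22,14,12,16,17,14],
  [],
  [2,9,22,23,21,22,18,19,22,19,17,18,19,15,12,19,13],
  [],
  [],
  [],
  [],
  [],
  [],
  [],
  [],
  [],
  [],
  [],
  [],
  [],
  [],
  [],
  [],
  [],
  [],
  [],
  [],
  [],
  [],
  [],
  [],
  [],
  [2,22,22,23,21,22,23,19,19,23,15,12,12,14,12,18,16],
  [],
  [2,22,23,21,18,21,19,21,15,12,16,14,12,19],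
  [],
  [],
  [],
  [],
  [],
  [],
  [],
  [],
  [],
  [],
  [1,23,9,22,20,21,20,23,17,21,21,16,22,12,14,18,17,13],
  [],
  [0,9,22,21,18,22,18,17,17,22,16,15,13,14,14,12],
  [],
  [],
  [],
  [],
  [],
  [],
  [],
  [],
  [2,9,22,9,22,22,18,20,18,16,16,20,13,17,13,19,16],
  [],
  [2,9,22,21,19,19,19,22,20,15,18,17,18,13,15,19,19],
  [],
  [],
  [],
  [],
  [],
  [],
  [],
  [],
  [],
  [],
  [2,23,21,23,9,20,21,17,17,22,16,15,13,12,13,19],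
  [],
  [2,9,21,23,21,19,9,22,21,22,17,15,21,21,19,12,19,14],
  [],
  [],
  [],
  [],
  [],
  [],
  [],
  [],
  [2,23,21,23,18,19,18,22,16,20,18,16,12,19,14,15,12],
  [],
  [2,23,23,9,21,23,18,23,16,17,17,18,14,18,13,14,12],
  [],
  [],
  [],
  [],
  [],
  [],
  [],
  [],
  [],
  [],
  [2,22,23,22,9,22,21,20,9,23,20,16,15,18,18,16,13],
  [],
  [2,23,9,22,23,23,9,19,19,22,19,21,16,19,17,13,13,13,19],
  [],
  [],
  [],
  [],
  [],
  [],
  [],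
  [],
  [],
  [],
  [],
  [],
  [],
  [0,23,23,22,21,22,23,9,18,23,20,16,15,16,14,15,17,13],
  [],
  [1,22,21,23,23,22,18,18,18,9,16,18,20,19,13,17,17,16],
  [],
  [2,23,22,20,18,19,19,18,17,15,15,16,13,18,17],
  [],
  [2,23,23,22,23,23,20,20,17,17,19,22,12,17,13,17,13],
  [],
  [],
  [],
  [],
  [2,23,23,21,23,22,20,20,20,19,17,16,20,20,13,14,19,19],
  [],
  [2,23,22,23,9,18,9,19,15,17,16,17,14,12,12,12],
  [],
  [],
  [],
  [],
  [],
  [],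
  [],
  [],
  [],
  [],
  [2,23,9,22,21,20,19,9,21,17,17,17,17,20,13,19,14,15],
  [],
  [2,23,9,22,9,19,18,22,21,22,17,15,20,18,12,19,19,13,18],
  [],
  [],
  [],
  [],
  [2,22,20,22,19,21,22,16,18,15,21,12,17,12,17,12],
  [],
  [2,20,19,18,20,18,15,18,18,18,12,19,12,12,12],
  [],
  [2,9,22,23,22,21,20,21,22,18,17,17,18,16,12,12],
  [],
  [2,21,22,21,20,21,20,9,17,15,21,17,14,16,18,15],
  [],
  [],
  [],
  [],
  [],
  [],
  [],
  [],
  [],
  [],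
  [],
  [],
  [],
  [],
  [],
  [],
  [],
  [],
  [],
  [],
  [],
  [],
  [2,21,23,21,22,21,18,20,22,23,9,17,18,17,19,18,13,13,19],
  [],
  [2,23,22,23,23,9,18,22,16,22,19,22,12,12,19,14,16],
  [],
  [],
  [],
  [],
  [2,9,23,23,9,21,23,21,17,21,20,22,16,13,15,14,14,12],
  [],
  [2,21,23,9,19,20,20,18,19,16,19,18,22,13,19,18],
  [],
  [1,9,22,23,9,20,18,23,18,20,16,17,16,14,14,16,13,15],
  [],
  [0,9,23,22,23,9,23,20,18,18,17,15,18,13,12,19,18],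
  [],
  [],
  [],
  [],
  [],
  [],
  [],
  [],
  [],
  [],
  [],
  [],
  [],
  [],
  [],
  [],
  [],
  [],
  [2,23,22,22,9,21,19,23,23,17,19,17,15,12,18,19,18,13],
  [],
  [2,23,22,9,22,23,19,18,22,15,15,22,22,12,19,18,12,14],
  [],
  [2,23,23,22,9,23,19,18,22,9,17,15,17,16,14,12,17],
  [],
  [2,9,23,23,9,18,19,16,17,19,17,12,17,15,12,12],
  [],
  [],
  [],
  [],
  [2,9,23,22,23,23,18,23,19,20,21,16,19,15,19,13,15],
  [],
  [2,22,23,23,9,21,18,19,22,19,15,15,17,21,12,18,13,17],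
  [],
  [],
  [],
  [],
  [],
  [],
  [],
  [],
  [],
  [],
  [],
  [],
  [],
  [],
  [],
  [],
  [],
  [2,21,22,21,20,18,19,20,16,17,22,15,18,13,12,16,12],
  [],
  [2,21,19,18,20,23,16,16,19,20,12,12,19,19,18],
  [],
  [],
  [],
  [],
  [],
  [],
  [2,21,23,23,18,20,18,18,16,22,21,15,14,15,19,19,15],
  [],
  [2,9,22,22,9,23,19,18,18,19,15,17,16,18,14,14,15,13],
  [],
  [],
  [],
  [],
  [],
  [],
  [],
  [],
  [2,9,22,18,23,18,17,18,21,21,15,14,12,19,16,18],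
  [],
  [2,9,21,23,23,19,21,17,20,18,19,17,13,16,18,14],
  [],
  [],
  [],
  [],
  [],
  [],
  [],
  [],
  [],
  [2,21,22,18,19,22,9,15,20,19,19,13,19,17],
  [],
  [2,9,21,22,19,19,19,19,19,17,21,16,22,14,19,14,16],
  [],
  [],
  [],
  [],
  [],
  [],
  [],
  [],
  [],
  [],
  [],
  [],
  [],
  [],
  [],
  [],
  [],
  [],
  [],
  [],
  [],
  [],
  [],
  [],
  [],
  [],
  [],
  [],
  [],
  [],
  [],
  [],
  [],
  [],
  [2,21,22,22,20,18,18,9,15,15,19,16,12,18,19,18,15],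
  [],
  [2,22,23,19,22,22,19,22,17,22,21,17,12,15,18,18,12],
  [],
  [],
  [],
  [],
  [],
  [],
  [],
  [],
  [],
  [],
  [],
  [],
  [],
  [],
  [],
  [],
  [],
  [],
  [],
  [],
  [],
  [2,23,9,22,22,9,21,19,19,20,9,15,15,18,18,12,12,13,14],
  [],
  [2,21,22,9,18,22,22,20,16,19,22,16,13,16,18,16],
  [],
  [],
  [],
  [],
  [],
  [],
  [],
  [],
  [],
  [],
  [],
  [],
  [],
  [],
  [],
  [],
  [2,21,23,21,22,9,20,18,19,17,17,22,16,15,13,15,14,16],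
  [],
  [2,21,23,18,19,23,16,17,17,19,16,12,18,13,15],
  [],
  [],
  [2,21,22,22,20,21,18,20,18,15,20,19,15,14,16,12,16],
  [],
  [2,21,23,22,23,20,22,19,9,23,15,16,18,13,18,14,14],
  [],
  [],
  [],
  [],
  [],
  [],
  [],
  [],
  [2,23,22,22,9,23,23,19,23,18,18,17,18,20,12,12,14,17,12],
  [],
  [2,23,22,23,9,21,18,20,21,18,17,15,19,16,14,19,14,17],
  [],
  [],
  [],
  [],
  [],
  [],
  [],
  [],
  [],
  [],
  [],
  [],
  [],
  [],
  [],
  [],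
  [],
  [],
  [],
  [],
  [],
  [],
  [],
  [],
  [],
  [],
  [],
  [],
  [],
  [2,22,9,22,21,19,22,20,21,19,17,21,20,19,14,18,13,14],
  [],
  [2,9,23,23,21,23,21,20,20,23,16,17,19,21,13,14,18],
  [],
  [],
  [],
  [],
  [],
  [],
  [],
  [],
  [],
  [],
  [],
  [],
  [],
  [2,22,9,22,23,19,22,9,20,21,15,15,18,22,12,19,18,16,19],
  [],
  [2,9,22,23,22,23,21,19,23,9,20,22,16,20,16,14,13,18],
  [],
  [],
  [2,21,23,23,22,22,18,19,22,9,15,22,22,20,14,18,14,13],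
  [],
  [2,21,23,21,23,20,23,9,22,16,21,14,19,18,17,17],
  [],
  [],
  [],
  [],
  [],
  [],
  [],
  [],
  [],
  [],
  [],
  [],
  [],
  [2,23,21,22,19,18,22,21,16,20,16,17,18,12,12,12,12,12],
  [],
  [2,23,9,21,22,18,9,17,17,16,20,15,13,16,17,14],
  [],
  [],
  [],
  [],
  [],
  [],
  [],
  [],
  [],
  [],
  [],
  [],
  [],
  [],
  [],
  [],
  [],
  [2,9,23,23,23,22,22,22,18,21,22,17,18,16,13,13,18,19],
  [],
  [2,22,23,23,22,18,19,23,23,22,17,15,22,19,12,14,16],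
  [],
  [2,21,23,21,23,22,19,9,15,19,16,15,12,14,18,12,17],
  [],
  [2,21,23,21,23,23,22,20,21,20,15,18,21,18,14,19,19],
  [],
  [],
  [],
  [],
  [2,23,22,21,18,20,21,23,23,16,17,20,19,12,18,13,18],
  [],
  [2,23,22,21,22,23,21,19,9,16,22,19,15,14,19,17,16,17],
  [],
  [],
  [],
  [],
  [],
  [],
  [],
  [],
  [],
  [],
  [],
  [],
  [],
  [],
  [],
  [],
  [],
  [],
  [],
  [],
  [],
  [],
  [],
  [],
  [],
  [],
  [],
  [],
  [],
  [2,23,23,23,22,18,9,22,17,21,17,15,13,19,18,12],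
  [],
  [2,21,23,20,23,18,22,23,16,17,20,18,12,15,19,18,12],
  [],
  [2,9,19,19,20,19,23,17,17,20,18,19,14,14,17,15],
  [],
  [2,23,9,21,22,19,22,18,18,9,15,19,18,18,12,19,15,17],
  [],
  [],
  [],
  [],
  [],
  [],
  [2,23,23,23,22,19,22,18,22,22,16,18,15,19,14,13,19,15],
  [],
  [2,22,23,19,9,18,23,17,20,19,20,17,13,13,15],
  [],
  [],
  [],
  [],
  [],
  [],
  [],
  [],
  [2,22,19,9,21,20,9,16,20,17,21,12,19,15,12,19],
  [],
  [2,21,23,21,22,9,20,17,15,16,19,20,13,14],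
  [],
  [],
  [],
  [],
  [],
  [],
  [2,21,22,23,23,19,22,21,16,15,21,16,16,13,12,14,14,18],
  [],
  [2,9,21,22,22,18,19,19,17,22,21,18,22,13,19,16,19],
  [],
  [1,21,23,22,20,9,23,16,20,18,20,13,17,17,18,12],
  [],
  [0,21,22,23,21,23,22,19,9,20,16,22,22,20,12,17,14,13],
  [],
  [],
  [],
  [],
  [],
  [],
  [],
  [],
  [],
  [],
  [],
  [],
  [],
  [],
  [],
  [],
  [],
  [],
  [],
  [],
  [],
  [],
  [],
  [],
  [],
  [],
  [],
  [],
  [],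
  [],
  [],
  [],
  [],
  [],
  [],
  [],
  [],
  [2,22,23,23,22,9,19,22,18,9,21,17,16,19,14,18,19,12],
  [],
  [2,9,23,9,22,23,9,22,20,9,18,16,22,17,12,16,15],
  [],
  [],
  [],
  [],
  [],
  [],
  [],
  [],
  [],
  [],
  [],
  [],
  [],
  [],
  [],
  [],
  [],
  [],
  [],
  [],
  [],
  [2,9,23,23,21,22,23,19,19,20,9,22,13,17,17],
  [],
  [2,23,22,9,22,9,20,22,9,23,9,17,18,20,18,13],
  [],
  [],
  [],
  [],
  [],
  [2,21,23,23,19,20,18,21,17,20,22,18,21,13,12,19,15],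
  [],
  [2,9,23,23,21,22,23,9,20,21,22,23,16,20,19,13,16,17,12],
  [2,9,19,19,9,22,21,17,16,18,14,18,19,17,13],
  [],
  [2,9,23,23,22,22,9,23,19,16,19,21,18,13,12,13,18,19],
  [],
  [],
  [],
  [],
  [],
  [],
  [],
  [],
  [],
  [],
  [],
  [],
  [],
  [],
  [],
  [],
  [],
  [2,9,23,23,23,21,18,17,20,15,19,12,19,12,16,12],
  [],
  [2,9,23,23,23,21,18,18,9,20,15,18,22,20,13,19,12],
  [],
  [2,23,22,21,19,19,20,15,19,21,18,12,12,19,15,18],
  [],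
  [2,9,21,23,21,20,22,23,17,18,16,21,18,12,19,14,14],
  [],
  [],
  [],
  [],
  [],
  [],
  [2,23,23,22,9,19,20,18,20,16,19,20,19,14,17,13,19],
  [],
  [2,9,21,19,21,20,16,21,16,18,14,13,17,18],
  [],
  [],
  [],
  [],
  [],
  [],
  [],
  [],
  [],
  [],
  [],
  [],
  [],
  [],
  [],
  [],
  [],
  [],
  [],
  [],
  [2,9,21,23,23,19,21,20,17,18,22,17,12,18,14,17,13],
  [],
  [2,22,22,9,18,9,18,23,23,17,16,22,21,16,13,14,13],
  [],
  [],
  [],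
  [],
  [],
  [],
  [],
  [],
  [],
  [],
  [],
  [],
  [],
  [],
  [],
  [],
  [],
  [1,9,22,22,9,23,19,18,21,19,19,15,21,12,12,12,18,13],
  [],
  [0,9,21,23,21,23,22,19,22,16,20,21,17,14,19,16,17],
  [],
  [],
  [],
  [],
  [],
  [],
  [],
  [],
  [],
  [],
  [2,9,21,23,21,22,18,22,19,15,21,19,17,12,14,17,13,19],
  [],
  [2,23,22,23,9,23,20,19,19,15,16,16,17,14,19,13,14,13],
  [],
  [],
  [],
  [],
  [2,22,23,9,21,23,19,9,18,23,15,21,16,12,13,12,12,12],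
  [],
  [2,23,23,23,21,22,22,19,18,20,22,15,16,16,13,17,17],
  [],
  [],
  [2,22,22,9,19,21,19,21,20,17,21,17,18,20,14,18,15,16],
  [],
  [2,22,23,9,21,20,19,22,21,17,17,18,16,16,12,18,13,17,16],
  [],
  [],
  [],
  [],
  [2,21,22,9,23,18,19,19,19,15,22,19,12,15,17,14,19],
  [],
  [2,23,21,22,23,9,21,19,20,19,18,9,13,15,13,15,13],
  [],
  [],
  [],
  [],
  [],
  [],
  [],
  [],
  [],
  [],
  [2,22,9,22,9,20,17,22,19,16,12,17,15,12,12],
  [],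
  [2,23,21,23,23,9,19,20,20,18,22,16,20,17,14,13,19,19],
  [],
  [],
  [],
  [],
  [],
  [],
  [],
  [],
  [2,23,22,9,20,18,20,23,16,21,20,12,18,17,15,15],
  [],
  [2,22,23,9,21,20,20,20,15,18,22,18,14,16,18,15,19],
  [],
  [],
  [],
  [],
  [],
  [2,9,21,18,19,23,23,15,19,22,19,14,17,14,16,12],
  [],
  [2,9,23,22,23,9,20,23,20,16,16,17,18,14,13,18,14],
  [],
  [],
  [],
  [],
  [],
  [],
  [],
  [],
  [],
  [],
  [2,9,23,21,23,22,9,19,9,23,23,17,17,21,20,12,12],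
  [],
  [2,9,21,23,22,19,9,23,22,20,15,18,22,13,19,19,16],
  [],
  [],
  [],
  [],
  [],
  [],
  [],
  [],
  [],
  [],
  [],
  [],
  [],
  [],
  [],
  [],
  [0,21,22,9,19,20,20,18,19,17,16,19,16,18,12,13,12],
  [],
  [1,9,21,22,9,19,20,22,9,16,16,17,18,14,19,17,17,16],
  [],
  [],
  [],
  [],
  [],
  [],
  [],
  [],
  [],
  [],
  [2,23,22,23,20,18,22,9,17,20,15,19,19,12,12,13,13,15],
  [],
  [2,23,9,22,23,18,22,20,22,17,22,16,19,12,13,17,18,14],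
  [],
  [],
  [],
  [],
  [],
  [2,9,22,9,21,19,23,9,23,23,17,18,20,21,14,19,14,14],
  [],
  [2,21,23,9,20,19,19,23,17,15,16,22,12,19,12,18,16],
  [],
  [2,9,21,23,21,20,22,21,17,17,21,17,20,12,16,16,17],
  [],
  [2,9,21,22,23,18,22,19,16,17,18,16,14,18,12],
  [2,23,23,22,23,22,21,19,20,9,15,18,15,12,16,12,13,12],
  [],
  [2,19,18,18,23,21,16,22,15,15,12,17,14,19],
  [],
  [],
  [],
  [],
  [],
  [],
  [],
  [],
  [],
  [],
  [],
  [],
  [],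
  [2,22,9,23,9,21,19,9,16,16,19,16,14,13,19,18,18],
  [],
  [2,9,22,21,22,20,20,21,17,17,15,17,18,13,14,14,19],
  [],
  [],
  [],
  [],
  [],
  [],
  [],
  [],
  [],
  [],
  [],
  [],
  [],
  [],
  [],
  [],
  [],
  [],
  [],
  [],
  [],
  [],
  [],
  [],
  [],
  [],
  [],
  [],
  [],
  [2,9,23,23,20,21,22,9,17,15,18,14,16,15,12],
  [],
  [2,21,23,22,23,9,23,19,19,22,22,23,15,19,16,12,12,13,16],
  [],
  [],
  [],
  [],
  [],
  [],
  [],
  [],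
  [],
  [],
  [],
  [],
  [],
  [],
  [],
  [],
  [],
  [],
  [],
  [],
  [],
  [],
  [],
  [],
  [],
  [2,23,22,22,20,19,15,21,17,15,12,16,15,19],
  [],
  [2,23,22,23,21,22,19,23,21,22,21,17,16,20,14,12,19,18,18],
  [],
  [],
  [],
  [],
  [],
  [],
  [2,23,21,22,19,18,18,22,19,17,16,15,12,12,19,12,13],
  [],
  [2,23,23,9,22,23,19,18,22,20,15,16,21,12,16,12,19,18],
  [],
  [2,22,9,21,19,20,22,19,16,17,17,16,12,13,18,13],
  [],
  [2,23,21,22,9,19,18,22,21,19,15,15,15,14,17,19,15,14],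
  [],
  [],
  [],
  [],
  [],
  [],
  [],
  [],
  [],
  [],
  [],
  [],
  [],
  [],
  [],
  [],
  [],
  [2,9,23,18,22,18,18,18,17,20,16,21,13,16,16,18,16],
  [],
  [2,23,21,22,23,23,22,18,23,17,17,21,15,12,16,14,12,18],
  [],
  [],
  [],
  [],
  [],
  [],
  [],
  [],
  [],
  [],
  [],
  [],
  [],
  [],
  [],
  [],
  [2,9,23,23,22,23,19,19,9,23,18,15,18,17,16,13,16],
  [],
  [2,9,23,21,22,23,21,19,21,20,19,17,21,17,16,14],
  [],
  [],
  [],
  [],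
  [],
  [2,23,23,23,9,19,21,19,18,22,16,19,15,13,17,19,12],
  [],
  [2,23,21,22,20,18,23,19,18,16,18,21,14,19,17,14],
  [],
  [],
  [],
  [],
  [],
  [],
  [],
  [],
  [],
  [],
  [1,23,9,21,23,9,20,22,9,23,16,20,20,18,14,17,16,13],
  [],
  [0,21,22,22,23,22,19,21,22,23,17,18,15,18,12,15,12,14],
  [],
  [],
  [],
  [],
  [],
  [],
  [],
  [],
  [2,23,23,23,9,18,20,18,22,17,20,20,20,18,14,12,18,18],
  [],
  [2,23,23,23,22,9,21,23,18,19,17,21,15,20,14,19,13,19],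
  [],
  [],
  [],
  [],
  [],
  [],
  [],
  [],
  [],
  [],
  [2,21,22,22,20,22,22,15,21,16,21,22,12,12,14,18,14],
  [],
  [2,21,23,23,23,20,21,19,23,19,15,17,16,14,19],
  [],
  [],
  [],
  [],
  [],
  [2,21,22,22,21,19,19,22,9,20,15,12,17,19,14],
  [],
  [2,22,23,23,21,18,23,20,23,17,22,18,20,13,19,14,14],
  [],
  [],
  [],
  [],
  [],
  [2,22,9,22,9,19,20,18,18,20,17,19,21,16,12,15,18,13],
  [],
  [2,21,23,23,19,9,20,22,9,17,17,20,14,13,18],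
  [],
  [],
  [],
  [],
  [],
  [2,23,22,9,18,21,22,18,17,15,16,18,21,12,18,12,14,16,12],
  [],
  [2,21,23,23,23,9,18,19,22,9,16,17,18,22,12,16],
  [],
  [],
  [],
  [],
  [],
  [],
  [],
  [],
  [1,21,22,19,22,21,23,17,15,19,21,19,12,17,17,19,14],
  [],
  [0,23,9,19,21,18,21,19,17,16,20,20,12,14,17,15,17],
  [],
  [],
  [],
  [],
  [],
  [],
  [],
  [],
  [],
  [],
  [],
  [],
  [],
  [],
  [],
  [],
  [],
  [],
  [2,9,23,19,23,19,21,17,18,20,22,15,14,14,13,18,18],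
  [],
  [2,9,23,22,22,22,9,19,22,22,20,21,15,19,19,18,14,13,12],
  [],
  [],
  [],
  [],
  [],
  [],
  [],
  [],
  [2,9,23,23,9,21,23,23,9,20,22,23,19,12,19,16],
  [],
  [2,22,22,23,20,9,23,20,15,16,21,17,19,14,19,13,17,19],
  [],
  [],
  [],
  [],
  [],
  [2,21,22,22,22,20,18,18,17,20,16,16,21,13,16,13,15],
  [],
  [2,21,22,23,23,19,16,17,17,19,16,12,18,18,13,19],
  [],
  [],
  [],
  [],
  [],
  [],
  [],
  [],
  [],
  [],
  [],
  [],
  [],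
  [],
  [],
  [],
  [],
  [],
  [],
  [],
  [],
  [],
  [],
  [],
  [],
  [],
  [],
  [],
  [],
  [],
  [],
  [],
  [],
  [],
  [],
  [],
  [],
  [],
  [],
  [],
  [],
  [],
  [],
  [],
  [],
  [],
  [],
  [],
  [],
  [],
  [],
  [],
  [],
  [],
  [],
  [],
  [],
  [],
  [],
  [],
  [],
  [],
  [],
  [],
  [],
  [],
  [],
  [],
  [],
  [],
  [],
  [],
  [],
  [],
  [],
  [],
  [],
  [],
  [],
  [],
  [],
  [],
  [],
  [],
  [],
  [],
  [],
  [],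
  [],
  [],
  [],
  [],
  [],
  [],
  [],
  [],
  [],
  [],
  [],
  [],
  [],
  [],
  [],
  [],
  [],
  [],
  [],
  [],
  [],
  [],
  [],
  [],
  [],
  [],
  [],
  [],
  [],
  [],
  [],
  [],
  [],
  [],
  [],
  [],
  [],
  [],
  [],
  [],
  [],
  [],
  [],
  [],
  [],
  [],
  [],
  [],
  [],
  [],
  [],
  [],
  [],
  [],
  [],
  [],
  [],
  [],
  [],
  [],
  [],
  [],
  [],
  [],
  [],
  [],
  [],
  [],
  [],
  [],
  [],
  [],
  [],
  [],
  [],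
  [],
  [],
  [],
  [],
  [],
  [],
  [],
  [],
  [],
  [],
  [],
  [],
  [],
  [],
  [],
  [],
  [],
  [],
  [],
  [],
  [],
  [],
  [],
  [],
  [],
  [],
  [],
  [],
  [],
  [],
  [],
  [],
  [],
  [],
  [],
  [],
  [],
  [],
  [],
  [],
  [],
  [],
  [],
  [],
  [],
  [],
  [],
  [],
  [],
  [],
  [],
  [],
  [],
  [],
  [],
  [],
  [],
  [],
  [],
  [],
  [],
  [],
  [],
  [],
  [],
  [],
  [],
  [],
  [],
  [],
  [],
  [],
  [],
  [],
  [],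
  [],
  [],
  [],
  [],
  [],
  [],
  [],
  [],
  [],
  [],
  [],
  [],
  [],
  [],
  [],
  [],
  [],
  [],
  [],
  [],
  [],
  [],
  [],
  [],
  [],
  [],
  [],
  [],
  [],
  [],
  [],
  [],
  [],
  [],
  [],
  [],
  [],
  [],
  [],
  [],
  [],
  [],
  [],
  [],
  [],
  [],
  [],
  [],
  [],
  [],
  [],
  [],
  [],
  [],
  [],
  [],
  [],
  [],
  [],
  [],
  [],
  [],
  [],
  [],
  [],
  [],
  [],
  [],
  [],
  [],
  [],
  [],
  [],
  [],
  [],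
  [],
  [],
  [],
  [],
  [],
  [],
  [],
  [],
  [],
  [],
  [],
  [],
  [],
  [],
  [],
  [],
  [],
  [],
  [],
  [],
  [],
  [],
  [],
  [],
  [],
  [],
  [],
  [],
  [],
  [],
  [],
  [],
  [],
  [],
  [],
  [],
  [],
  [],
  [],
  [],
  [],
  [],
  [],
  [],
  [],
  [],
  [],
  [],
  [],
  [],
  [],
  [],
  [],
  [],
  [],
  [],
  [],
  [],
  [],
  [],
  [],
  [],
  [],
  [],
  [],
  [],
  [],
  [],
  [],
  [],
  [],
  [],
  [],
  [],
  [],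
  [],
  [],
  [],
  [],
  [],
  [],
  [],
  [],
  [],
  [],
  [],
  [],
  [],
  [],
  [],
  [],
  [],
  [],
  [],
  [],
  [],
  [],
  [],
  [],
  [],
  [],
  [],
  [],
  [],
  [],
  [],
  [],
  [],
  [],
  [],
  [],
  [],
  [],
  [],
  [],
  [],
  [],
  [],
  [],
  [],
  [],
  [],
  [],
  [],
  [],
  [],
  [],
  [],
  [],
  [],
  [],
  [],
  [],
  [],
  [],
  [],
  [],
  [],
  [],
  [],
  [],
  [],
  [],
  [],
  [],
  [],
  [],
  [],
  [],
  [],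
  [],
  [],
  [],
  [],
  [],
  [],
  [],
  [],
  [],
  [],
  [],
  [],
  [],
  [],
  [],
  [],
  [],
  [],
  [],
  [],
  [],
  [],
  [],
  [],
  [],
  [],
  [],
  [],
  [],
  [],
  [],
  [],
  [],
  [],
  [],
  [],
  [],
  [],
  [],
  [],
  [],
  [],
  [],
  [],
  [],
  [],
  [],
  [],
  [],
  [],
  [],
  [],
  [],
  [],
  [],
  [],
  [],
  [],
  [],
  [],
  [],
  [],
  [],
  [],
  [],
  [],
  [],
  [],
  [],
  [],
  [],
  [],
  [],
  [],
  [],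
  [],
  [],
  [],
  [],
  [],
  [],
  [],
  [],
  [],
  [],
  [],
  [],
  [],
  [],
  [],
  [],
  [],
  [],
  [],
  [],
  [],
  [],
  [],
  [],
  [],
  [],
  [],
  [],
  [],
  [],
  [],
  [],
  [],
  [],
  [],
  [],
  [],
  [],
  [],
  [],
  [],
  [],
  [],
  [],
  [],
  [],
  [],
  [],
  [],
  [],
  [],
  [],
  [],
  [],
  [],
  [],
  [],
  [],
  [],
  [],
  [],
  [],
  [],
  [],
  [],
  [],
  [],
  [],
  [],
  [],
  [],
  [],
  [],
  [],
  [],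
  [],
  [],
  [],
  [],
  [],
  [],
  [],
  [],
  [],
  [],
  [],
  [],
  [],
  [],
  [],
  [],
  [],
  [],
  [],
  [],
  [],
  [],
  [],
  [],
  [],
  [],
  [],
  [],
  [],
  [],
  [],
  [],
  [],
  [],
  [],
  [],
  [],
  [],
  [],
  [],
  [],
  [],
  [],
  [],
  [],
  [],
  [],
  [],
  [],
  [],
  [],
  [],
  [],
  [],
  [],
  [],
  [],
  [],
  [],
  [],
  [],
  [],
  [],
  [],
  [],
  [],
  [],
  [],
  [],
  [],
  [],
  [],
  [],
  [],
  [],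
  [],
  [],
  [],
  [],
  [],
  [],
  [],
  [],
  [],
  [],
  [],
  [],
  [],
  [],
  [],
  [],
  [],
  [],
  [],
  [],
  [],
  [],
  [],
  [],
  [],
  [],
  [],
  [],
  [],
  [],
  [],
  [],
  [],
  [],
  [],
  [],
  [],
  [],
  [],
  [],
  [],
  [],
  [],
  [],
  [],
  [],
  [],
  [],
  [],
  [],
  [],
  [],
  [],
  [],
  [],
  [],
  [],
  [],
  [],
  [],
  [],
  [],
  [],
  [],
  [],
  [],
  [],
  [],
  [],
  [],
  [],
  [],
  [],
  [],
  [],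
  [],
  [],
  [],
  [],
  [],
  [],
  [],
  [],
  [],
  [],
  [],
  [],
  [],
  [],
  [],
  [],
  [],
  [],
  [],
  [],
  [],
  [],
  [],
  [],
  [],
  [],
  [],
  [],
  [],
  [],
  [],
  [],
  [],
  [],
  [],
  [],
  [],
  [],
  [],
  [],
  [],
  [],
  [],
  [],
  [],
  [],
  [],
  [],
  [],
  [],
  [],
  [],
  [],
  [],
  [],
  [],
  [],
  [],
  [],
  [],
  [],
  [],
  [],
  [],
  [],
  [],
  [],
  [],
  [],
  [],
  [],
  [],
  [],
  [],
  [],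
  [],
  [],
  [],
  [],
  [],
  [],
  [],
  [],
  [],
  [],
  [],
  [],
  [],
  [],
  [],
  [],
  [],
  [],
  [],
  [],
  [],
  [],
  [],
  [],
  [],
  [],
  [],
  [],
  [],
  [],
  [],
  [],
  [],
  [],
  [],
  [],
  [],
  [],
  [],
  [],
  [],
  [],
  [],
  [],
  [],
  [],
  [],
  [],
  [],
  [],
  [],
  [],
  [],
  [],
  [],
  [],
  [],
  [],
  [],
  [],
  [],
  [],
  [],
  [],
  [],
  [],
  [],
  [],
  [],
  [],
  [],
  [],
  [],
  [],
  [],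
  [],
  [],
  [],
  [],
  [],
  [],
  [],
  [],
  [],
  [],
  [],
  [],
  [],
  [],
  [],
  [],
  [],
  [],
  [],
  [],
  [],
  [],
  [],
  [],
  [],
  [],
  [],
  [],
  [],
  [],
  [],
  [],
  [],
  [],
  [],
  [],
  [],
  [],
  [],
  [],
  [],
  [],
  [],
  [],
  [],
  [],
  [],
  [],
  [],
  [],
  [],
  [],
  [],
  [],
  [],
  [],
  [],
  [],
  [],
  [],
  [],
  [],
  [],
  [],
  [],
  [],
  [],
  [],
  [],
  [],
  [],
  [],
  [],
  [],
  [],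
  [],
  [],
  [],
  [],
  [],
  [],
  [],
  [],
  [],
  [],
  [],
  [],
  [],
  [],
  [],
  [],
  [],
  [],
  [],
  [],
  [],
  [],
  [],
  [],
  [],
  [],
  [],
  [],
  [],
  [],
  [],
  [],
  [],
  [],
  [],
  [],
  [],
  [],
  [],
  [],
  [],
  [],
  [],
  [],
  [],
  [2,9,21,22,22,21,18,9,19,17,19,17,12,13,16,13,17],
  [],
  [2,23,23,23,9,23,9,17,20,18,22,18,14,18,12,16,16],
  [],
  [],
  [2,23,23,21,19,19,19,21,15,18,15,22,12,19,12,17],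
  [],
  [2,23,9,23,23,21,20,21,20,23,16,18,15,21,14,14,17,12],
  [],
  [],
  [],
  [],
  [],
  [],
  [],
  [],
  [],
  [],
  [],
  [],
  [],
  [],
  [],
  [],
  [],
  [],
  [],
  [],
  [],
  [2,23,21,23,23,20,18,20,15,20,17,15,14,12,18,17,19],
  [],
  [2,22,9,19,19,17,17,16,22,14,12,16,16,19],
  [2,22,22,21,23,9,18,20,18,21,16,22,21,15,12,16,15,16],
  [],
  [2,22,9,23,9,21,19,23,19,21,22,16,20,16,13,17,14,17],
  [],
  [],
  [],
  [],
  [],
  [],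
  [],
  [],
  [],
  [],
  [],
  [],
  [],
  [],
  [],
  [],
  [],
  [],
  [],
  [],
  [],
  [],
  [],
  [],
  [],
  [],
  [],
  [],
  [],
  [2,23,21,22,23,9,19,20,23,21,16,18,20,21,13,16,15,19],
  [],
  [2,23,22,22,22,20,23,20,18,16,16,16,18,13,12,17,12],
  [],
  [],
  [2,9,22,22,9,19,22,19,22,17,15,20,16,18,14,15,17,13],
  [],
  [2,9,21,22,22,22,18,22,20,15,19,16,12,14,12,17],
  [],
  [],
  [],
  [],
  [],
  [],
  [],
  [],
  [],
  [],
  [],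
  [],
  [],
  [],
  [],
  [],
  [],
  [],
  [],
  [],
  [],
  [2,21,22,22,19,20,19,16,19,16,18,17,12,13,15,15],
  [],
  [2,21,23,22,23,18,9,22,16,20,21,12,14,12,14],
  [2,21,23,23,21,22,19,23,18,16,20,17,18,14,15,12,17,18],
  [],
  [2,21,23,21,23,19,19,17,19,18,19,12,12,17,17],
  [],
  [],
  [],
  [],
  [],
  [],
  [],
  [],
  [],
  [],
  [],
  [],
  [],
  [],
  [],
  [],
  [],
  [],
  [],
  [],
  [],
  [],
  [],
  [],
  [],
  [],
  [],
  [],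
  [],
  [],
  [],
  [],
  [],
  [],
  [],
  [],
  [],
  [],
  [],
  [],
  [],
  [2,9,19,19,18,18,20,19,15,22,21,16,13,13,12,16],
  [],
  [2,23,23,23,21,20,18,19,21,17,16,15,20,16,14,19,14,16],
  [],
  [],
  [2,23,23,19,18,22,21,15,19,17,15,14,13,13,12,18],
  [],
  [2,9,23,9,21,23,19,18,21,17,22,18,20,12,12,12,12],
  [],
  [],
  [],
  [],
  [],
  [],
  [],
  [],
  [],
  [],
  [],
  [],
  [],
  [],
  [],
  [],
  [],
  [],
  [],
  [],
  [],
  [2,22,9,22,23,19,18,20,18,17,15,16,16,14,18,17,13],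
  [],
  [2,22,23,22,9,19,20,20,18,17,19,22,19,14,19,17,17],
  [2,21,23,9,21,18,22,22,22,15,16,15,17,13,18,16,15],
  [],
  [2,9,22,18,9,20,9,17,16,19,16,20,12,14,12,13,19],
  [],
  [],
  [],
  [],
  [],
  [],
  [],
  [],
  [],
  [],
  [],
  [],
  [],
  [],
  [],
  [],
  [],
  [],
  [],
  [],
  [],
  [],
  [],
  [],
  [],
  [],
  [],
  [],
  [],
  [],
  [],
  [],
  [],
  [],
  [],
  [],
  [],
  [],
  [],
  [],
  [],
  [],
  [],
  [],
  [],
  [],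
  [],
  [],
  [],
  [],
  [],
  [],
  [],
  [],
  [],
  [],
  [],
  [],
  [],
  [],
  [],
  [],
  [],
  [],
  [],
  [],
  [],
  [],
  [],
  [],
  [],
  [],
  [],
  [],
  [],
  [],
  [],
  [],
  [],
  [],
  [],
  [2,21,22,22,23,22,19,19,23,23,9,17,18,21,20,15],
  [],
  [2,23,22,19,21,19,22,20,15,16,21,18,13,16],
  [],
  [],
  [2,9,23,21,19,18,18,20,20,17,15,16,19,22,13,12,19,16],
  [],
  [2,23,21,23,19,19,19,19,23,17,18,14,18,19,12,19],
  [],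
  [],
  [],
  [],
  [],
  [],
  [],
  [],
  [],
  [],
  [],
  [],
  [],
  [],
  [],
  [],
  [],
  [],
  [],
  [],
  [],
  [2,9,21,23,9,22,20,21,16,16,18,19,17,13,15],
  [],
  [2,23,9,21,20,18,23,21,15,15,16,19,14,15,12,17,14],
  [2,22,21,22,23,22,19,21,22,17,21,15,21,13,19,13,15,19],
  [],
  [2,21,23,23,19,22,18,20,16,20,19,15,12,18,19,13],
  [],
  [],
  [],
  [],
  [],
  [],
  [],
  [],
  [],
  [],
  [],
  [],
  [],
  [],
  [],
  [],
  [],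
  [],
  [],
  [],
  [],
  [],
  [],
  [],
  [],
  [],
  [],
  [],
  [],
  [],
  [],
  [],
  [],
  [],
  [],
  [],
  [],
  [],
  [],
  [],
  [],
  [],
  [],
  [],
  [],
  [],
  [],
  [],
  [],
  [],
  [],
  [],
  [],
  [],
  [],
  [],
  [],
  [],
  [],
  [],
  [],
  [],
  [],
  [],
  [],
  [],
  [],
  [],
  [],
  [],
  [],
  [],
  [],
  [],
  [],
  [],
  [],
  [],
  [],
  [],
  [],
  [],
  [],
  [],
  [],
  [],
  [],
  [],
  [],
  [],
  [],
  [],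
  [],
  [2,9,22,23,23,19,9,23,22,15,15,22,12,12,14,12,14],
  [],
  [2,9,23,22,9,23,19,23,16,20,17,14,14,12],
  [],
  [],
  [2,23,23,22,22,19,19,20,19,17,22,15,18,15,13,14,12,14],
  [],
  [2,23,9,22,21,22,23,18,9,19,19,15,20,20,14,13,18,12],
  [],
  [],
  [],
  [],
  [],
  [],
  [],
  [],
  [],
  [],
  [],
  [],
  [],
  [],
  [],
  [],
  [],
  [],
  [],
  [],
  [],
  [2,9,21,22,20,23,9,16,18,15,19,13,19,13,15,12],
  [],
  [2,23,22,23,9,21,20,19,21,17,15,22,20,13,13,15,18],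
  [2,9,22,9,19,23,9,23,23,17,21,18,18,12,12,12,13,15],
  [],
  [2,23,23,22,23,20,21,19,15,16,21,19,18,14,12,19,17,16],
  [],
  [],
  [],
  [],
  [],
  [],
  [],
  [],
  [],
  [],
  [],
  [],
  [],
  [],
  [],
  [],
  [],
  [],
  [],
  [],
  [],
  [],
  [],
  [],
  [],
  [],
  [],
  [],
  [],
  [],
  [],
  [],
  [],
  [],
  [],
  [],
  [],
  [],
  [],
  [],
  [],
  [2,21,22,21,20,20,18,17,22,19,17,18,13,16,12,17],
  [],
  [2,23,23,23,19,18,9,17,22,22,22,20,12,17,14,17,12],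
  [],
  [],
  [2,22,20,18,9,18,18,15,15,22,20,18,12,18,14,16,12],
  [],
  [2,9,23,23,23,21,19,19,22,22,15,22,16,12,16,15,13,19],
  [],
  [],
  [],
  [],
  [],
  [],
  [],
  [],
  [],
  [],
  [],
  [],
  [],
  [],
  [],
  [],
  [],
  [],
  [],
  [],
  [],
  [2,23,23,23,21,23,22,18,9,18,17,18,22,17,18,13,14,12,14],
  [],
  [2,22,9,20,19,21,22,17,18,21,20,15,12,15,14],
  [2,21,23,23,21,22,9,18,20,17,18,19,22,12,15,13,18],
  [],
  [2,21,22,21,23,18,23,19,18,17,18,21,17,13,18,13,19],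
  [],
  [],
  [],
  [],
  [],
  [],
  [],
  [],
  [],
  [],
  [],
  [],
  [],
  [],
  [],
  [],
  [],
  [],
  [],
  [],
  [],
  [],
  [],
  [],
  [],
  [],
  [],
  [],
  [],
  [],
  [],
  [],
  [],
  [],
  [],
  [],
  [],
  [],
  [],
  [],
  [],
  [],
  [],
  [],
  [],
  [],
  [],
  [],
  [],
  [],
  [],
  [],
  [],
  [],
  [],
  [],
  [],
  [],
  [],
  [],
  [],
  [],
  [],
  [],
  [],
  [],
  [],
  [],
  [],
  [],
  [],
  [],
  [],
  [],
  [],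
  [],
  [],
  [],
  [],
  [],
  [],
  [],
  [],
  [],
  [],
  [],
  [],
  [],
  [],
  [],
  [],
  [],
  [],
  [2,22,22,22,9,20,23,23,20,17,15,19,19,20,13,14,18,17],
  [],
  [2,22,23,19,20,18,21,15,17,16,18,12,12,15,14,19],
  [],
  [],
  [2,22,9,19,20,19,9,16,17,15,21,15,13,17,12,14],
  [],
  [2,9,22,21,23,23,9,18,20,20,22,15,18,17,20,12,17,19],
  [],
  [],
  [],
  [],
  [],
  [],
  [],
  [],
  [],
  [],
  [],
  [],
  [],
  [],
  [],
  [],
  [],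
  [],
  [],
  [],
  [],
  [2,23,9,23,18,19,20,20,15,19,18,18,12,17,15,16],
  [],
  [2,9,22,23,18,22,20,21,23,17,19,15,18,16,14,12,12],
  [2,9,22,9,23,9,20,17,18,17,18,18,12,19,14,14,13],
  [],
  [2,23,22,19,18,9,23,18,17,16,22,15,17,12,14,13,14,13],
  [],
  [],
  [],
  [],
  [],
  [],
  [],
  [],
  [],
  [],
  [],
  [],
  [],
  [],
  [],
  [],
  [],
  [],
  [],
  [],
  [],
  [],
  [],
  [],
  [],
  [],
  [],
  [],
  [],
  [],
  [],
  [],
  [],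
  [],
  [],
  [],
  [],
  [],
  [],
  [],
  [],
  [],
  [],
  [],
  [],
  [],
  [],
  [],
  [],
  [],
  [],
  [],
  [],
  [],
  [],
  [],
  [],
  [],
  [],
  [],
  [],
  [],
  [],
  [],
  [],
  [],
  [],
  [],
  [],
  [],
  [],
  [],
  [],
  [],
  [],
  [],
  [],
  [],
  [],
  [],
  [],
  [],
  [],
  [],
  [],
  [],
  [],
  [],
  [],
  [],
  [],
  [],
  [],
  [],
  [],
  [],
  [],
  [],
  [],
  [],
  [],
  [],
  [],
  [],
  [],
  [],
  [],
  [],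
  [],
  [],
  [],
  [],
  [],
  [],
  [],
  [],
  [],
  [],
  [],
  [],
  [],
  [],
  [],
  [],
  [],
  [],
  [],
  [],
  [],
  [],
  [],
  [],
  [],
  [],
  [],
  [],
  [],
  [],
  [],
  [],
  [],
  [],
  [],
  [],
  [],
  [],
  [],
  [],
  [],
  [],
  [],
  [],
  [],
  [],
  [],
  [],
  [],
  [],
  [],
  [],
  [],
  [],
  [],
  [],
  [],
  [],
  [],
  [],
  [],
  [],
  [],
  [],
  [],
  [],
  [],
  [],
  [],
  [],
  [],
  [],
  [],
  [],
  [],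
  [],
  [],
  [],
  [],
  [],
  [],
  [],
  [],
  [],
  [],
  [],
  [],
  [],
  [],
  [],
  [],
  [],
  [],
  [],
  [],
  [],
  [],
  [],
  [],
  [],
  [],
  [],
  [],
  [],
  [],
  [],
  [],
  [],
  [],
  [],
  [],
  [],
  [],
  [2,22,19,19,9,19,9,16,16,17,20,21,14,16,19,13],
  [],
  [2,9,22,19,18,22,23,9,17,18,12,15,14,14,16],
  [],
  [],
  [2,23,22,9,21,22,22,18,9,17,16,16,12,12,17,14,15],
  [],
  [2,23,22,23,9,23,20,19,23,19,17,19,12,13,12,14],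
  [],
  [],
  [],
  [],
  [],
  [],
  [],
  [],
  [],
  [],
  [],
  [],
  [],
  [],
  [],
  [],
  [],
  [],
  [],
  [],
  [],
  [2,9,22,22,23,22,15,19,16,21,12,13,18,18],
  [],
  [2,9,23,22,20,22,19,16,20,17,20,14,18,18,18,16],
  [2,9,22,22,9,21,23,19,16,21,16,15,19,13,15,16,19],
  [],
  [2,22,21,22,21,19,19,9,23,17,16,17,16,12,14,12,15],
  [],
  [],
  [],
  [],
  [],
  [],
  [],
  [],
  [],
  [],
  [],
  [],
  [],
  [],
  [],
  [],
  [],
  [],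
  [],
  [],
  [],
  [],
  [],
  [],
  [],
  [],
  [],
  [],
  [],
  [],
  [],
  [],
  [],
  [],
  [],
  [],
  [],
  [],
  [],
  [],
  [],
  [],
  [],
  [],
  [],
  [],
  [],
  [],
  [],
  [],
  [],
  [],
  [],
  [],
  [],
  [],
  [],
  [],
  [],
  [],
  [],
  [],
  [],
  [],
  [],
  [],
  [],
  [],
  [],
  [],
  [],
  [],
  [],
  [],
  [],
  [],
  [],
  [],
  [],
  [],
  [],
  [],
  [],
  [],
  [],
  [],
  [],
  [],
  [],
  [],
  [],
  [],
  [],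
  [],
  [],
  [],
  [],
  [],
  [],
  [],
  [],
  [],
  [],
  [],
  [],
  [],
  [],
  [],
  [],
  [],
  [],
  [],
  [],
  [],
  [],
  [],
  [],
  [],
  [],
  [],
  [],
  [],
  [],
  [],
  [],
  [],
  [],
  [],
  [],
  [],
  [],
  [],
  [],
  [],
  [],
  [],
  [],
  [],
  [],
  [],
  [],
  [],
  [],
  [],
  [],
  [],
  [],
  [],
  [],
  [],
  [],
  [],
  [],
  [],
  [],
  [],
  [],
  [],
  [],
  [],
  [],
  [],
  [],
  [],
  [],
  [],
  [],
  [],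
  [],
  [],
  [],
  [],
  [],
  [],
  [],
  [],
  [],
  [],
  [],
  [],
  [],
  [],
  [],
  [],
  [],
  [],
  [],
  [],
  [],
  [],
  [],
  [],
  [],
  [],
  [],
  [],
  [],
  [],
  [],
  [],
  [],
  [],
  [],
  [],
  [],
  [],
  [],
  [],
  [],
  [],
  [],
  [],
  [],
  [],
  [],
  [],
  [],
  [],
  [],
  [],
  [],
  [],
  [],
  [],
  [],
  [],
  [],
  [],
  [],
  [],
  [],
  [],
  [],
  [],
  [],
  [],
  [],
  [],
  [],
  [],
  [],
  [],
  [],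
  [],
  [],
  [],
  [],
  [],
  [],
  [],
  [],
  [],
  [],
  [],
  [],
  [],
  [],
  [],
  [],
  [],
  [],
  [],
  [],
  [],
  [],
  [],
  [],
  [],
  [],
  [],
  [],
  [],
  [],
  [],
  [],
  [],
  [],
  [],
  [],
  [],
  [],
  [],
  [],
  [],
  [],
  [],
  [],
  [],
  [],
  [],
  [],
  [],
  [],
  [],
  [],
  [],
  [],
  [],
  [],
  [],
  [],
  [],
  [],
  [],
  [],
  [],
  [],
  [],
  [],
  [],
  [],
  [],
  [],
  [],
  [],
  [],
  [],
  [],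
  [],
  [],
  [],
  [],
  [],
  [],
  [],
  [],
  [],
  [],
  [],
  [],
  [],
  [],
  [],
  [],
  [],
  [],
  [],
  [],
  [],
  [],
  [],
  [],
  [],
  [],
  [],
  [],
  [],
  [],
  [],
  [],
  [2,9,23,9,21,20,20,18,23,16,22,20,18,12,18,13,16],
  [],
  [2,22,22,9,20,9,23,23,22,17,17,17,17,21,14,17,17,17],
  [2,9,22,22,22,23,20,19,22,20,17,17,14,14,16,16,12],
  [],
  [2,22,9,22,9,19,20,19,21,20,15,22,21,18,13,14,16,17],
  [],
  [],
  [],
  [],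
  [],
  [],
  [],
  [],
  [],
  [],
  [],
  [],
  [],
  [],
  [],
  [],
  [],
  [],
  [],
  [],
  [],
  [2,22,23,18,9,20,9,17,20,21,18,22,14,19,13],
  [],
  [2,9,23,22,22,21,19,21,18,23,17,16,20,21,18,12,14,12],
  [],
  [],
  [2,22,9,21,23,18,19,23,21,20,15,16,20,18,14,19,17,12],
  [],
  [2,9,21,23,20,21,19,18,17,17,21,18,12,18,19,13],
  [],
  [],
  [],
  [],
  [],
  [],
  [],
  [],
  [],
  [],
  [],
  [],
  [],
  [],
  [],
  [],
  [],
  [],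
  [],
  [],
  [],
  [],
  [],
  [],
  [],
  [],
  [],
  [],
  [],
  [],
  [],
  [],
  [],
  [],
  [],
  [],
  [],
  [],
  [],
  [],
  [],
  [],
  [],
  [],
  [],
  [],
  [],
  [],
  [],
  [],
  [],
  [],
  [],
  [],
  [],
  [],
  [],
  [],
  [],
  [],
  [],
  [],
  [],
  [],
  [],
  [],
  [],
  [],
  [],
  [],
  [],
  [],
  [],
  [],
  [],
  [],
  [],
  [],
  [],
  [],
  [],
  [],
  [],
  [],
  [],
  [],
  [],
  [],
  [],
  [],
  [],
  [],
  [],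
  [2,22,23,9,21,22,23,19,22,20,23,17,17,21,21,12,12,12],
  [],
  [2,22,23,18,19,22,9,16,16,21,18,20,14,13,15,18],
  [2,23,22,22,22,19,20,9,18,16,20,19,18,14,19,15,16,12],
  [],
  [2,23,22,23,20,22,20,23,17,15,17,15,22,12,14,14,17],
  [],
  [],
  [],
  [],
  [],
  [],
  [],
  [],
  [],
  [],
  [],
  [],
  [],
  [],
  [],
  [],
  [],
  [],
  [],
  [],
  [],
  [2,9,22,20,22,20,15,15,22,16,12,18,18,13,19],
  [],
  [2,9,22,9,22,22,22,19,21,22,22,15,21,17,12,13,19,14],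
  [],
  [],
  [2,21,22,21,18,18,9,16,17,15,18,14,19,14,16,18],
  [],
  [2,22,21,23,18,19,9,22,15,18,18,13,13,18,15],
  [],
  [],
  [],
  [],
  [],
  [],
  [],
  [],
  [],
  [],
  [],
  [],
  [],
  [],
  [],
  [],
  [],
  [],
  [],
  [],
  [],
  [],
  [],
  [],
  [],
  [],
  [],
  [],
  [],
  [],
  [],
  [],
  [],
  [],
  [],
  [],
  [],
  [],
  [],
  [],
  [],
  [],
  [],
  [],
  [],
  [],
  [],
  [],
  [],
  [],
  [],
  [],
  [],
  [],
  [],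
  [],
  [],
  [],
  [],
  [],
  [],
  [],
  [],
  [],
  [],
  [],
  [],
  [],
  [],
  [],
  [],
  [],
  [],
  [],
  [],
  [],
  [],
  [],
  [],
  [],
  [],
  [],
  [],
  [],
  [],
  [],
  [],
  [],
  [],
  [],
  [],
  [],
  [],
  [],
  [],
  [],
  [],
  [],
  [],
  [],
  [],
  [],
  [],
  [],
  [],
  [],
  [],
  [],
  [],
  [],
  [],
  [],
  [],
  [],
  [],
  [],
  [],
  [],
  [],
  [],
  [],
  [],
  [],
  [],
  [],
  [],
  [],
  [],
  [],
  [],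
  [],
  [],
  [],
  [],
  [],
  [],
  [],
  [],
  [],
  [],
  [],
  [],
  [],
  [],
  [],
  [2,23,19,20,9,21,16,17,19,19,13,14,12,14],
  [],
  [2,23,9,19,19,9,23,17,16,16,17,21,13,16,17,17],
  [2,9,22,22,21,18,20,20,20,15,17,20,19,13,19,18,19],
  [],
  [2,22,9,22,19,21,23,17,16,19,21,19,14,17,15,19,16],
  [],
  [],
  [],
  [],
  [],
  [],
  [],
  [],
  [],
  [],
  [],
  [],
  [],
  [],
  [],
  [],
  [],
  [],
  [],
  [],
  [],
  [2,22,21,23,22,19,18,21,19,19,15,21,16,16,13,19],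
  [],
  [2,23,9,22,22,9,23,19,18,22,23,9,17,22,18,17,14,18,19],
  [],
  [],
  [2,23,23,21,22,19,20,21,19,15,16,21,19,13,15,15,17,12],
  [],
  [2,9,22,23,22,20,22,23,16,18,13,19,19,19],
  [],
  [],
  [],
  [],
  [],
  [],
  [],
  [],
  [],
  [],
  [],
  [],
  [],
  [],
  [],
  [],
  [],
  [],
  [],
  [],
  [],
  [],
  [],
  [],
  [],
  [],
  [],
  [],
  [],
  [],
  [],
  [],
  [],
  [],
  [],
  [],
  [],
  [],
  [],
  [],
  [],
  [],
  [],
  [],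
  [],
  [],
  [],
  [],
  [],
  [],
  [],
  [],
  [],
  [],
  [],
  [],
  [],
  [],
  [],
  [],
  [],
  [],
  [],
  [],
  [],
  [],
  [],
  [],
  [],
  [],
  [],
  [],
  [],
  [],
  [],
  [],
  [],
  [],
  [],
  [],
  [],
  [],
  [],
  [],
  [],
  [],
  [],
  [],
  [],
  [],
  [],
  [],
  [],
  [],
  [],
  [],
  [],
  [],
  [],
  [],
  [],
  [],
  [],
  [],
  [],
  [2,23,22,23,22,21,20,19,19,9,16,17,19,20,14,15,19,19],
  [],
  [2,22,21,23,23,22,18,20,21,17,22,19,12,14,12,15,13],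
  [2,9,23,21,22,19,20,9,23,19,17,21,17,19,12,14,15,17],
  [],
  [2,9,23,21,22,9,19,9,22,22,15,19,18,13,12,19,19],
  [],
  [],
  [],
  [],
  [],
  [],
  [],
  [],
  [],
  [],
  [],
  [],
  [],
  [],
  [],
  [],
  [],
  [],
  [],
  [],
  [],
  [2,21,22,23,23,21,22,20,17,17,22,22,20,12,19,14,14,14],
  [],
  [2,23,22,22,9,20,22,9,16,18,21,22,12,17,17,16,19],
  [],
  [],
  [2,9,22,23,9,23,18,18,20,18,17,19,20,18,14,19,13,12],
  [],
  [2,22,21,19,21,18,23,16,20,14,16,13,15],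
  [],
  [],
  [],
  [],
  [],
  [],
  [],
  [],
  [],
  [],
  [],
  [],
  [],
  [],
  [],
  [],
  [],
  [],
  [],
  [],
  [],
  [],
  [],
  [],
  [],
  [],
  [],
  [],
  [],
  [2,23,22,21,23,23,19,23,21,15,16,21,19,14,17,19,16],
  [],
  [2,23,23,9,22,21,19,19,21,20,16,17,18,17,13,13,16,17],
  [2,22,19,23,21,22,22,16,21,18,17,12,19,16,14,13],
  [],
  [2,23,23,9,21,22,22,21,19,20,16,19,16,12,12,15,12,16],
  [],
  [],
  [],
  [],
  [],
  [],
  [],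
  [],
  [],
  [],
  [],
  [],
  [],
  [],
  [],
  [],
  [],
  [],
  [],
  [],
  [],
  [2,23,22,22,22,23,19,9,18,16,18,20,19,13,16,12],
  [],
  [2,23,23,23,18,19,18,9,17,21,22,17,22,14,15,17,18],
  [],
  [],
  [2,9,22,9,21,23,18,18,17,20,22,18,13,12,14,18],
  [],
  [2,22,22,23,22,18,21,18,18,17,17,21,20,19,12,18,14,15],
  [],
  [],
  [],
  [],
  [],
  [],
  [],
  [],
  [],
  [],
  [],
  [],
  [],
  [],
  [],
  [],
  [],
  [2,23,22,19,18,20,19,9,16,16,19,22,19,13,14,18,15,14],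
  [],
  [2,22,23,9,21,22,19,23,21,18,18,15,18,20,18,12,13],
  [2,22,22,21,19,22,19,23,16,21,17,16,14,16,17,17],
  [],
  [2,23,23,23,19,22,19,23,18,17,19,17,22,19,14,13,18],
  [],
  [],
  [],
  [],
  [],
  [],
  [],
  [],
  [],
  [],
  [],
  [],
  [],
  [],
  [],
  [],
  [],
  [],
  [],
  [],
  [],
  [2,9,22,22,9,18,23,9,16,15,16,18,20,12,19,16],
  [],
  [2,22,21,23,22,22,20,20,23,17,17,20,17,14,12,13,19,17],
  [],
  [],
  [2,22,22,23,23,21,22,20,21,16,15,21,16,16,12,16,12,15,14],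
  [],
  [2,9,21,23,23,9,22,20,23,9,16,19,20,14,15,12,14],
  [],
  [],
  [],
  [],
  [],
  [],
  [],
  [],
  [],
  [],
  [],
  [],
  [],
  [],
  [],
  [],
  [],
  [],
  [],
  [],
  [],
  [],
  [],
  [],
  [],
  [],
  [],
  [],
  [],
  [],
  [],
  [],
  [],
  [],
  [],
  [],
  [],
  [],
  [],
  [],
  [],
  [],
  [],
  [],
  [],
  [],
  [],
  [],
  [],
  [],
  [],
  [],
  [],
  [],
  [],
  [],
  [],
  [],
  [],
  [],
  [],
  [],
  [],
  [],
  [],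
  [],
  [],
  [],
  [],
  [],
  [],
  [],
  [],
  [],
  [],
  [],
  [],
  [],
  [],
  [],
  [],
  [],
  [],
  [],
  [],
  [],
  [],
  [],
  [],
  [],
  [],
  [],
  [],
  [2,23,22,22,9,23,18,19,18,17,22,21,18,12,13,13],
  [],
  [2,23,23,21,22,22,21,19,22,22,9,16,20,17,20,14,17],
  [2,21,22,9,21,20,22,20,21,16,15,15,21,12,13,18,18],
  [],
  [2,22,22,22,19,23,23,19,22,15,17,21,18,14,16,15,12],
  [],
  [],
  [],
  [],
  [],
  [],
  [],
  [],
  [],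
  [],
  [],
  [],
  [],
  [],
  [],
  [],
  [],
  [],
  [],
  [],
  [],
  [2,21,22,9,19,18,21,23,16,15,16,18,13,12,19,19,18],
  [],
  [2,23,22,9,22,23,19,21,20,17,17,21,22,12,15,12,16],
  [],
  [],
  [2,9,23,22,23,19,9,18,22,16,19,20,19,14,18,13,12,16],
  [],
  [2,9,22,9,22,18,23,19,18,17,21,19,17,12,15,17,18],
  [],
  [],
  [],
  [],
  [],
  [],
  [],
  [],
  [],
  [],
  [],
  [],
  [],
  [],
  [],
  [],
  [],
  [],
  [],
  [],
  [],
  [],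
  [],
  [],
  [],
  [],
  [],
  [],
  [],
  [2,22,21,22,21,23,22,20,18,18,21,17,19,20,19,14,18],
  [],
  [2,23,9,22,22,20,19,18,23,23,17,21,19,12,12,12,18],
  [2,9,23,9,23,23,19,20,20,20,17,19,22,15,14,18,17,15],
  [],
  [2,23,23,22,21,20,18,20,18,16,17,16,21,16,12,19,16,13,17],
  [],
  [],
  [],
  [],
  [],
  [],
  [],
  [],
  [],
  [],
  [],
  [],
  [],
  [],
  [],
  [],
  [],
  [],
  [],
  [],
  [],
  [2,22,23,9,21,22,19,21,17,16,15,21,19,14,14,15,19,19],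
  [],
  [2,22,23,9,20,19,23,15,18,16,18,12,12,12,12,14],
  [],
  [],
  [2,9,21,22,23,22,18,22,20,21,15,22,19,22,12,12,14,13,12],
  [],
  [2,21,23,22,9,18,20,17,20,20,18,15,12,17,17,15,19],
  [],
  [],
  [],
  [],
  [],
  [],
  [],
  [],
  [],
  [],
  [],
  [],
  [],
  [],
  [],
  [],
  [],
  [],
  [],
  [],
  [],
  [],
  [],
  [],
  [],
  [],
  [],
  [],
  [],
  [],
  [],
  [],
  [],
  [],
  [],
  [],
  [],
  [],
  [],
  [],
  [],
  [],
  [],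
  [],
  [],
  [],
  [],
  [],
  [],
  [],
  [],
  [],
  [],
  [],
  [],
  [],
  [],
  [],
  [],
  [],
  [],
  [],
  [],
  [],
  [],
  [],
  [],
  [],
  [],
  [],
  [],
  [],
  [],
  [],
  [],
  [],
  [],
  [],
  [],
  [],
  [],
  [],
  [],
  [],
  [],
  [],
  [],
  [],
  [],
  [],
  [],
  [],
  [],
  [],
  [],
  [],
  [],
  [],
  [],
  [],
  [],
  [],
  [],
  [],
  [],
  [],
  [],
  [],
  [],
  [],
  [],
  [],
  [],
  [],
  [],
  [],
  [],
  [],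
  [],
  [],
  [],
  [],
  [],
  [],
  [],
  [],
  [],
  [],
  [],
  [],
  [],
  [],
  [],
  [],
  [],
  [],
  [],
  [],
  [],
  [],
  [],
  [],
  [],
  [],
  [],
  [],
  [],
  [],
  [],
  [],
  [],
  [],
  [],
  [],
  [],
  [],
  [],
  [],
  [],
  [],
  [],
  [],
  [],
  [],
  [],
  [],
  [],
  [],
  [],
  [],
  [],
  [],
  [],
  [],
  [],
  [],
  [],
  [],
  [],
  [],
  [],
  [],
  [],
  [],
  [],
  [],
  [],
  [],
  [],
  [],
  [],
  [],
  [],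
  [],
  [],
  [],
  [],
  [],
  [],
  [],
  [],
  [],
  [],
  [],
  [],
  [],
  [],
  [],
  [],
  [],
  [],
  [],
  [],
  [],
  [],
  [],
  [],
  [],
  [],
  [],
  [],
  [],
  [],
  [],
  [],
  [],
  [],
  [],
  [],
  [],
  [],
  [],
  [],
  [],
  [],
  [],
  [],
  [],
  [],
  [],
  [],
  [],
  [],
  [],
  [],
  [],
  [],
  [],
  [],
  [],
  [],
  [],
  [],
  [],
  [],
  [],
  [],
  [],
  [],
  [],
  [],
  [],
  [],
  [],
  [],
  [],
  [],
  [],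
  [],
  [],
  [],
  [],
  [],
  [],
  [],
  [],
  [],
  [],
  [],
  [],
  [],
  [],
  [],
  [],
  [],
  [],
  [],
  [],
  [],
  [],
  [],
  [],
  [],
  [],
  [],
  [],
  [],
  [],
  [],
  [],
  [],
  [],
  [],
  [],
  [],
  [],
  [],
  [],
  [],
  [],
  [],
  [],
  [],
  [],
  [],
  [],
  [],
  [],
  [],
  [],
  [],
  [],
  [],
  [],
  [],
  [],
  [],
  [],
  [],
  [],
  [],
  [],
  [],
  [],
  [],
  [],
  [],
  [],
  [],
  [],
  [],
  [],
  [],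
  [],
  [],
  [],
  [],
  [],
  [],
  [],
  [],
  [],
  [],
  [],
  [],
  [],
  [],
  [],
  [],
  [],
  [],
  [],
  [],
  [],
  [],
  [],
  [],
  [],
  [],
  [],
  [],
  [],
  [],
  [],
  [],
  [],
  [],
  [],
  [],
  [],
  [],
  [],
  [],
  [],
  [],
  [],
  [],
  [],
  [],
  [],
  [],
  [],
  [],
  [],
  [],
  [],
  [],
  [],
  [],
  [],
  [],
  [],
  [],
  [],
  [],
  [],
  [],
  [],
  [],
  [],
  [],
  [],
  [],
  [],
  [],
  [],
  [],
  [],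
  [],
  [],
  [],
  [],
  [],
  [],
  [],
  [],
  [],
  [],
  [],
  [],
  [],
  [],
  [],
  [],
  [],
  [],
  [],
  [],
  [],
  [],
  [],
  [],
  [],
  [],
  [],
  [],
  [],
  [],
  [],
  [],
  [],
  [],
  [],
  [],
  [],
  [],
  [],
  [],
  [],
  [],
  [],
  [],
  [],
  [],
  [],
  [],
  [],
  [],
  [],
  [],
  [],
  [],
  [],
  [],
  [],
  [],
  [],
  [],
  [],
  [],
  [],
  [],
  [],
  [],
  [],
  [],
  [],
  [],
  [],
  [],
  [],
  [],
  [],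
  [],
  [],
  [],
  [],
  [],
  [],
  [],
  [],
  [],
  [],
  [],
  [],
  [],
  [],
  [],
  [],
  [],
  [],
  [],
  [],
  [],
  [],
  [],
  [],
  [],
  [],
  [],
  [],
  [],
  [],
  [],
  [],
  [],
  [],
  [],
  [],
  [],
  [],
  [],
  [],
  [],
  [],
  [],
  [],
  [],
  [],
  [],
  [],
  [],
  [],
  [],
  [],
  [],
  [],
  [],
  [],
  [],
  [],
  [],
  [],
  [],
  [],
  [],
  [],
  [],
  [],
  [],
  [],
  [],
  [],
  [],
  [],
  [],
  [],
  [],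
  [],
  [],
  [],
  [],
  [],
  [],
  [],
  [],
  [],
  [],
  [],
  [],
  [],
  [],
  [],
  [],
  [],
  [],
  [],
  [],
  [],
  [],
  [],
  [],
  [],
  [],
  [],
  [],
  [],
  [],
  [],
  [],
  [],
  [],
  [],
  [],
  [],
  [],
  [],
  [],
  [],
  [],
  [],
  [],
  [],
  [],
  [],
  [],
  [],
  [],
  [],
  [],
  [],
  [],
  [],
  [],
  [],
  [],
  [],
  [],
  [],
  [],
  [],
  [],
  [],
  [],
  [],
  [],
  [],
  [],
  [],
  [],
  [],
  [],
  [],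
  [],
  [],
  [],
  [],
  [],
  [],
  [],
  [],
  [],
  [],
  [],
  [],
  [],
  [],
  [],
  [],
  [],
  [],
  [],
  [],
  [],
  [],
  [],
  [],
  [],
  [],
  [],
  [],
  [],
  [],
  [],
  [],
  [],
  [],
  [],
  [],
  [],
  [],
  [],
  [],
  [],
  [],
  [],
  [],
  [],
  [],
  [],
  [],
  [],
  [],
  [],
  [],
  [],
  [],
  [],
  [],
  [],
  [],
  [],
  [],
  [],
  [],
  [],
  [],
  [],
  [],
  [],
  [],
  [],
  [],
  [],
  [],
  [],
  [],
  [],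
  [],
  [],
  [],
  [],
  [],
  [],
  [],
  [],
  [],
  [],
  [],
  [],
  [],
  [],
  [],
  [],
  [],
  [],
  [],
  [],
  [],
  [],
  [],
  [],
  [],
  [],
  [],
  [],
  [],
  [],
  [],
  [],
  [],
  [],
  [],
  [],
  [],
  [],
  [],
  [],
  [],
  [],
  [],
  [],
  [],
  [],
  [],
  [],
  [],
  [],
  [],
  [],
  [],
  [],
  [],
  [],
  [],
  [],
  [],
  [],
  [],
  [],
  [],
  [],
  [],
  [],
  [],
  [],
  [],
  [],
  [],
  [],
  [],
  [],
  [],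
  [],
  [],
  [],
  [],
  [],
  [],
  [],
  [],
  [],
  [],
  [],
  [],
  [],
  [],
  [],
  [],
  [],
  [],
  [],
  [],
  [],
  [],
  [],
  [],
  [],
  [],
  [],
  [],
  [],
  [],
  [],
  [],
  [],
  [],
  [],
  [],
  [],
  [],
  [],
  [],
  [],
  [],
  [],
  [],
  [],
  [],
  [],
  [],
  [],
  [],
  [],
  [],
  [],
  [],
  [],
  [],
  [],
  [],
  [],
  [],
  [],
  [],
  [],
  [],
  [],
  [],
  [],
  [],
  [],
  [],
  [],
  [],
  [],
  [],
  [],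
  [],
  [],
  [],
  [],
  [],
  [],
  [],
  [],
  [],
  [],
  [],
  [],
  [],
  [],
  [],
  [],
  [],
  [],
  [],
  [],
  [],
  [],
  [],
  [],
  [],
  [],
  [],
  [],
  [],
  [],
  [],
  [],
  [],
  [],
  [],
  [],
  [],
  [],
  [],
  [],
  [],
  [],
  [],
  [],
  [],
  [],
  [],
  [],
  [],
  [],
  [],
  [],
  [],
  [],
  [],
  [],
  [],
  [],
  [],
  [],
  [],
  [],
  [],
  [],
  [],
  [],
  [],
  [],
  [],
  [],
  [],
  [],
  [],
  [],
  [],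
  [],
  [],
  [],
  [],
  [],
  [],
  [],
  [],
  [],
  [],
  [],
  [],
  [],
  [],
  [],
  [],
  [],
  [],
  [],
  [],
  [],
  [],
  [],
  [],
  [],
  [],
  [],
  [],
  [],
  [],
  [],
  [],
  [],
  [],
  [],
  [],
  [],
  [],
  [],
  [],
  [],
  [],
  [],
  [],
  [],
  [],
  [],
  [],
  [],
  [],
  [],
  [],
  [],
  [],
  [],
  [],
  [],
  [],
  [],
  [],
  [],
  [],
  [],
  [],
  [],
  [],
  [],
  [],
  [],
  [],
  [],
  [],
  [],
  [],
  [],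
  [],
  [],
  [],
  [],
  [],
  [],
  [],
  [],
  [],
  [],
  [],
  [],
  [],
  [],
  [],
  [],
  [],
  [],
  [],
  [],
  [],
  [],
  [],
  [],
  [],
  [],
  [],
  [],
  [],
  [],
  [],
  [],
  [],
  [],
  [2,22,9,23,21,19,20,22,17,18,22,15,17,13,15,13,13],
  [],
  [2,22,22,9,20,18,20,16,20,17,18,15,13,13,12,12],
  [],
  [],
  [],
  [],
  [],
  [],
  [],
  [],
  [],
  [],
  [],
  [],
  [],
  [2,23,23,21,22,19,21,19,19,15,22,16,16,13,12,15,17],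
  [],
  [2,21,22,9,18,20,21,17,15,19,18,21,12,18,12,15,12],
  [],
  [],
  [],
  [],
  [],
  [],
  [2,9,22,23,22,21,23,18,9,20,17,15,12,12,14,12,13],
  [],
  [2,22,9,23,20,18,17,16,19,20,12,18,18,15,14,16],
  [],
  [],
  [],
  [],
  [2,23,23,23,21,23,23,22,17,15,16,21,21,12,12,18,18,12],
  [],
  [2,21,23,21,22,23,21,18,18,21,23,16,15,14,12,16,16,19],
  [],
  [],
  [],
  [],
  [],
  [2,9,23,21,23,22,21,18,20,22,22,15,19,16,12,19,15,16],
  [],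
  [2,23,21,23,9,20,22,22,16,19,22,15,16,12,17,19,13],
  [],
  [],
  [],
  [],
  [],
  [],
  [],
  [],
  [],
  [],
  [2,9,23,23,9,22,9,19,21,23,19,22,17,13,12,18],
  [],
  [2,22,21,23,23,23,21,22,20,19,15,16,15,15,13,14,19],
  [2,21,22,23,21,23,20,23,19,22,15,17,20,20,12,19,16],
  [],
  [2,22,23,22,23,20,18,20,9,15,15,22,20,17,14,12,16,17],
  [],
  [],
  [],
  [],
  [],
  [2,9,22,21,23,21,18,9,18,23,16,17,17,17,14,14,13,17],
  [],
  [2,22,22,22,9,21,18,19,19,22,16,16,22,14,13,15],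
  [],
  [],
  [],
  [],
  [],
  [],
  [],
  [],
  [],
  [],
  [],
  [],
  [],
  [2,22,22,21,23,19,22,9,15,18,17,18,13,12,19,14],
  [],
  [2,21,22,19,20,9,18,22,17,15,21,16,12,15,12,17,12],
  [],
  [2,23,21,23,19,18,18,22,21,17,20,17,17,12,17,15,19,12],
  [],
  [2,23,23,9,21,23,20,19,19,16,19,18,12,18,18,16,17],
  [],
  [],
  [],
  [],
  [],
  [],
  [],
  [],
  [],
  [2,23,22,21,23,21,19,20,19,23,16,22,17,16,13,16,16,19],
  [],
  [2,9,21,19,23,20,19,16,16,22,21,12,16,12,18],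
  [],
  [],
  [],
  [],
  [],
  [2,22,23,9,23,18,22,18,23,16,16,20,12,13,13,18],
  [],
  [2,9,23,21,18,19,23,19,15,15,18,20,12,12,13,19,13],
  [],
  [],
  [],
  [],
  [],
  [],
  [],
  [],
  [],
  [],
  [],
  [],
  [],
  [],
  [],
  [],
  [],
  [2,21,22,22,21,20,20,23,22,15,15,17,12,13,16,15,15],
  [],
  [2,9,21,23,21,23,23,18,19,17,16,21,14,12,16,19,13],
  [],
  [],
  [2,9,23,9,23,19,19,20,17,21,15,18,17,12,16,16,19],
  [],
  [2,23,9,23,19,20,19,18,23,17,22,19,12,14,15,17,16],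
  [],
  [],
  [],
  [],
  [2,22,20,18,23,9,18,16,15,15,13,19,13,14],
  [],
  [2,22,23,9,22,22,19,19,15,19,16,14,17,14,16,15],
  [],
  [],
  [],
  [],
  [],
  [],
  [2,9,23,23,21,22,21,20,18,23,9,15,22,20,14,14,16],
  [],
  [2,9,22,22,22,9,19,20,18,21,22,16,21,22,14,12,15,18],
  [],
  [],
  [],
  [],
  [],
  [],
  [],
  [],
  [],
  [],
  [],
  [],
  [],
  [2,22,9,23,18,23,9,23,17,22,17,13,16,18,18,12],
  [],
  [2,22,22,9,23,21,20,23,19,9,17,15,21,17,12,13,19,18],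
  [],
  [],
  [],
  [],
  [],
  [2,22,9,22,20,19,18,21,19,15,15,17,12,16,15,14,13],
  [],
  [2,9,22,21,22,23,19,19,23,21,16,21,20,14,18,15,16,12],
  [],
  [],
  [],
  [],
  [],
  [],
  [],
  [],
  [],
  [],
  [],
  [],
  [],
  [],
  [],
  [],
  [],
  [],
  [],
  [],
  [],
  [],
  [],
  [],
  [],
  [2,21,23,9,22,19,18,21,19,18,17,19,12,18,15,19,18],
  [],
  [2,9,23,19,9,19,18,9,15,22,15,21,13,12,17,15,16],
  [],
  [],
  [],
  [],
  [],
  [2,22,22,23,22,19,21,19,20,22,17,21,16,22,12,19,17],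
  [],
  [2,22,23,9,23,19,9,22,21,22,16,15,22,19,16,12,13],
  [],
  [],
  [],
  [],
  [],
  [],
  [],
  [],
  [],
  [],
  [],
  [],
  [],
  [2,9,22,23,23,19,9,19,18,19,17,18,19,15,17],
  [],
  [2,23,23,22,19,19,17,17,21,20,13,12,14,15,13],
  [],
  [],
  [],
  [],
  [2,22,9,22,21,22,21,19,22,22,16,16,17,20,18,13,17,19],
  [],
  [2,9,22,22,23,18,19,23,17,22,21,16,19,14,17,19,15,15],
  [],
  [],
  [],
  [],
  [],
  [],
  [2,21,23,9,22,21,22,18,18,21,16,22,17,22,14,15,15,16,19],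
  [],
  [2,9,21,23,19,23,20,22,17,15,22,12,19,12,13,18],
  [2,23,21,23,9,19,22,22,20,22,15,15,16,22,13,15,15,17],
  [],
  [2,23,23,23,21,18,18,17,17,17,19,14,15,19,16],
  [],
  [],
  [],
  [],
  [],
  [],
  [],
  [],
  [],
  [],
  [2,9,21,20,19,21,20,15,15,15,16,12,13,13,18],
  [],
  [2,23,22,23,22,9,21,20,22,19,16,17,22,17,12,18,18],
  [],
  [],
  [],
  [],
  [],
  [],
  [],
  [],
  [],
  [],
  [],
  [],
  [],
  [],
  [],
  [],
  [1,9,23,9,21,20,21,19,9,15,21,17,12,12,13,17,12],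
  [],
  [0,9,23,23,21,22,18,9,18,16,17,18,18,13,15,12,14],
  [],
  [],
  [],
  [],
  [],
  [],
  [2,23,9,23,9,22,22,19,23,17,21,21,12,19,12,17,13],
  [],
  [2,21,23,23,21,23,22,17,21,22,18,18,12,19,14,18],
  [],
  [],
  [],
  [],
  [],
  [],
  [],
  [],
  [],
  [],
  [],
  [],
  [2,22,21,22,21,20,20,20,9,17,22,22,19,18,12,14,17,12,13],
  [],
  [2,23,23,23,19,19,20,18,9,16,19,20,14,12,13,19],
  [],
  [],
  [],
  [],
  [],
  [],
  [],
  [],
  [],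
  [],
  [],
  [],
  [],
  [],
  [],
  [],
  [],
  [],
  [],
  [],
  [],
  [],
  [],
  [],
  [],
  [],
  [2,22,9,23,9,21,18,9,21,16,17,20,17,17,13,17,14,19],
  [],
  [2,9,21,23,23,23,9,20,21,15,22,20,21,14,12,19,17,16],
  [],
  [],
  [],
  [],
  [],
  [2,22,23,23,9,19,20,21,19,15,18,18,14,18,17,12],
  [],
  [2,9,21,23,21,19,18,22,21,15,22,20,18,14,19,16,18],
  [],
  [],
  [],
  [],
  [],
  [],
  [],
  [],
  [],
  [2,22,22,23,19,9,18,21,16,19,21,20,14,15,16,19,13],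
  [],
  [2,23,21,22,9,18,22,19,19,15,17,21,12,17,16,14],
  [],
  [2,22,23,23,9,22,19,22,21,20,17,18,19,20,13,14,14,12],
  [],
  [2,9,23,23,9,21,19,22,19,15,22,19,12,16,14,15,13],
  [],
  [],
  [],
  [],
  [],
  [],
  [],
  [],
  [],
  [],
  [],
  [],
  [],
  [2,23,23,9,23,20,19,22,20,17,21,20,13,18,15],
  [],
  [2,19,23,20,20,22,15,22,16,20,12,12,19,16,16],
  [],
  [],
  [],
  [],
  [],
  [2,23,22,9,22,23,9,21,19,18,9,19,19,16,21,17,22],
  [],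
  [2,22,9,22,9,20,23,23,19,20,15,17,22,12,15,16,15],
  [2,23,23,19,23,19,9,17,16,18,19,12,18,19,13],
  [],
  [2,23,9,21,19,19,18,18,23,16,19,15,16,12,14,19,17],
  [],
  [],
  [],
  [],
  [],
  [],
  [],
  [],
  [],
  [],
  [],
  [],
  [],
  [],
  [],
  [],
  [],
  [],
  [],
  [],
  [],
  [2,21,23,9,18,21,22,18,17,17,20,16,17,12,18,14,14,19],
  [],
  [2,21,22,21,23,19,23,23,18,16,21,22,18,12,14,16,12,19],
  [],
  [],
  [],
  [],
  [],
  [],
  [],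
  [],
  [],
  [],
  [],
  [],
  [],
  [],
  [],
  [],
  [],
  [2,23,22,22,20,22,19,21,18,16,17,15,20,19,14,19,19,17,16],
  [],
  [2,21,23,9,20,18,23,18,15,15,19,16,14,16,12,15],
  [],
  [1,22,9,22,23,22,19,18,21,15,22,19,18,12,19,17,15],
  [],
  [0,21,23,21,22,9,18,22,17,16,21,20,20,13,18,16],
  [],
  [],
  [],
  [],
  [],
  [],
  [],
  [],
  [],
  [],
  [],
  [],
  [],
  [],
  [],
  [],
  [],
  [],
  [],
  [],
  [],
  [],
  [],
  [],
  [],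
  [2,23,23,22,21,23,20,19,18,21,17,17,12,19,17],
  [],
  [2,21,23,19,19,19,9,19,17,17,18,22,13,17,12,12],
  [],
  [],
  [],
  [],
  [],
  [2,23,9,19,20,22,23,16,21,16,15,21,12,14,14,14,14],
  [],
  [2,22,23,9,19,20,23,19,23,16,17,19,20,12,19,16,12],
  [],
  [],
  [],
  [],
  [],
  [],
  [],
  [],
  [],
  [2,23,22,23,19,22,9,20,21,17,15,17,16,12,16,13,16],
  [],
  [2,23,21,23,9,22,19,19,9,21,17,16,21,13,17,17,18,18],
  [],
  [2,22,23,23,18,20,21,18,20,17,19,21,19,14,12,13,16,18],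
  [],
  [2,9,23,9,22,9,22,22,19,19,22,20,9,17,13,12,16],
  [],
  [],
  [],
  [],
  [],
  [],
  [],
  [],
  [],
  [],
  [],
  [],
  [],
  [2,22,21,23,23,21,20,18,9,17,15,16,21,19,14,15,15,13,17],
  [],
  [2,22,21,23,19,20,23,19,9,17,16,17,18,16,14,17,17,19],
  [],
  [],
  [],
  [],
  [],
  [2,23,9,21,22,20,9,19,22,22,16,21,18,15,13,15,15,19],
  [],
  [2,23,23,21,19,19,22,20,9,17,21,20,22,12,12,17,19],
  [],
  [],
  [2,23,18,9,20,23,17,20,16,22,22,14,14,12,16],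
  [],
  [2,23,23,9,21,23,19,18,21,22,22,17,18,19,16,21,12,19,18],
  [],
  [],
  [],
  [],
  [],
  [],
  [],
  [],
  [2,23,9,23,9,21,20,20,20,23,17,18,18,12,18,18,19,16],
  [],
  [2,23,23,9,23,19,9,23,15,16,21,18,14,18,12,12,18],
  [],
  [],
  [],
  [],
  [],
  [2,22,9,22,22,9,20,18,15,20,18,12,12,19,18,15],
  [],
  [2,22,23,22,9,21,18,9,18,21,16,16,16,12,19,19,16,17],
  [],
  [],
  [],
  [],
  [],
  [],
  [2,22,9,22,19,19,21,22,19,17,22,16,14,19,15,13,15],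
  [],
  [2,9,21,22,23,23,18,22,16,17,20,18,12,12,12,19,19],
  [],
  [],
  [],
  [],
  [2,21,22,21,18,22,20,17,20,15,21,22,14,14,16,15,18],
  [],
  [2,21,23,9,21,22,19,19,19,23,15,21,16,14,19,16,12],
  [],
  [],
  [],
  [],
  [],
  [],
  [],
  [],
  [],
  [],
  [],
  [],
  [],
  [2,23,23,23,21,20,19,9,17,16,17,20,22,12,17,19,19,19],
  [],
  [2,9,22,9,22,21,22,19,20,20,21,18,16,14,16,13,12],
  [],
  [],
  [],
  [],
  [],
  [],
  [],
  [],
  [],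
  [],
  [],
  [],
  [],
  [2,9,22,23,22,21,19,20,18,22,17,18,22,12,14,16,18,19],
  [],
  [2,22,23,20,21,20,20,17,16,19,15,21,12,18,18,16,14],
  [],
  [],
  [0,22,22,9,23,19,22,23,18,18,15,15,15,22,14,18,12,18],
  [],
  [1,22,23,23,22,23,19,22,9,23,23,17,19,20,21,12,18,15],
  [],
  [],
  [],
  [],
  [],
  [],
  [],
  [],
  [],
  [],
  [],
  [],
  [],
  [],
  [],
  [],
  [],
  [],
  [],
  [],
  [2,23,9,23,23,18,9,17,16,18,15,14,12,18],
  [],
  [2,9,22,22,21,20,21,22,17,19,20,19,17,14,12,17,17,14],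
  [],
  [],
  [],
  [],
  [],
  [],
  [2,23,23,23,22,21,18,20,21,23,23,15,21,15,12,16,14],
  [],
  [2,23,22,23,23,19,21,23,18,16,16,20,22,12],
  [],
  [],
  [],
  [],
  [],
  [],
  [],
  [],
  [],
  [],
  [],
  [],
  [],
  [],
  [],
  [],
  [],
  [],
  [],
  [],
  [],
  [],
  [],
  [],
  [],
  [],
  [],
  [],
  [],
  [],
  [],
  [],
  [],
  [],
  [],
  [],
  [],
  [],
  [],
  [],
  [],
  [2,21,22,21,18,23,9,20,17,16,15,15,12,12,13,18,14],
  [],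
  [2,9,23,22,22,20,20,20,17,22,19,19,17,12,14,14,15],
  [],
  [],
  [],
  [],
  [2,23,21,22,20,18,19,22,16,15,19,19,12,14,16,14],
  [],
  [2,23,21,23,21,22,9,19,19,20,9,16,19,12,18,14],
  [],
  [],
  [],
  [],
  [],
  [],
  [],
  [],
  [],
  [],
  [],
  [],
  [],
  [],
  [],
  [],
  [],
  [],
  [],
  [],
  [],
  [],
  [0,19,18,20,18,18,15,17,21,20,12,17,14,19,14],
  [],
  [1,23,23,23,21,19,19,19,21,16,19,21,19,13,14,12,12,13],
  [2,22,23,23,19,18,21,20,16,16,19,15,18,12,17,17,16,14],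
  [],
  [2,9,22,23,22,20,20,18,22,20,17,18,22,21,13,13,15,17],
  [],
  [],
  [],
  [],
  [],
  [],
  [],
  [],
  [],
  [],
  [2,9,22,21,22,23,20,19,18,9,15,17,22,18,12,18,14,16],
  [],
  [2,9,19,21,22,19,16,17,20,12,12,13,18,13,16],
  [],
  [],
  [],
  [],
  [],
  [],
  [],
  [],
  [],
  [],
  [],
  [],
  [],
  [2,9,22,9,22,9,19,19,22,18,19,16,22,18,12,18,14,13],
  [],
  [2,23,21,22,9,21,19,20,23,21,17,16,16,12,13,16,19],
  [],
  [],
  [],
  [],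
  [],
  [],
  [],
  [],
  [],
  [2,23,22,22,20,18,23,17,16,15,18,12,18,15,17],
  [],
  [2,21,22,22,21,23,19,18,18,15,21,15,20,12,18,13,16,14],
  [],
  [],
  [],
  [],
  [],
  [],
  [],
  [],
  [],
  [],
  [],
  [],
  [],
  [],
  [],
  [],
  [],
  [1,23,21,22,20,21,20,22,17,21,15,22,14,18,16,19],
  [],
  [0,9,23,21,22,20,19,19,21,16,16,20,17,18,12,12,19,16],
  [],
  [],
  [],
  [],
  [],
  [],
  [],
  [],
  [],
  [2,23,9,22,9,23,18,9,20,22,16,17,16,21,12,15,16],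
  [],
  [2,22,23,9,21,22,20,19,19,22,16,20,19,16,21,12,18,12],
  [],
  [],
  [],
  [],
  [],
  [2,9,23,9,21,23,20,22,19,21,22,17,19,14,13,17,16],
  [],
  [2,23,23,23,21,23,22,20,22,22,9,15,18,19,16,14,13,17,19],
  [],
  [],
  [],
  [],
  [],
  [],
  [],
  [],
  [],
  [],
  [],
  [],
  [],
  [2,23,9,21,20,19,22,20,16,21,20,14,18,17,12],
  [],
  [2,23,9,21,23,9,18,18,21,20,16,16,21,22,12,14,17,12,17],
  [],
  [2,9,23,22,22,23,21,22,20,23,17,15,20,17,14,13,18,13],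
  [],
  [2,23,23,22,9,21,23,20,20,19,21,15,21,22,12,17,19,16],
  [],
  [],
  [],
  [],
  [],
  [],
  [],
  [],
  [],
  [2,9,23,21,19,18,18,23,18,17,17,16,21,17,14,17],
  [],
  [2,22,22,21,18,18,18,9,20,17,17,18,20,20,12,18,17,17,16],
  [],
  [],
  [],
  [],
  [],
  [2,23,21,20,21,20,22,16,15,15,20,16,12,13,17,15,19],
  [],
  [2,23,23,22,9,21,18,23,17,17,12,16,18,15],
  [],
  [],
  [],
  [],
  [],
  [],
  [],
  [],
  [],
  [],
  [],
  [],
  [],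
  [],
  [],
  [],
  [],
  [],
  [],
  [],
  [],
  [],
  [],
  [],
  [0,21,23,21,23,23,21,19,18,16,22,22,20,12,18,15,15],
  [],
  [1,22,23,9,22,22,19,22,23,20,9,16,22,21,14,15,19],
  [],
  [2,9,22,21,23,21,23,21,19,19,9,18,9,15,17,22,16],
  [],
  [2,21,22,23,22,21,22,19,21,23,20,17,19,15,19,14,18,13],
  [],
  [],
  [],
  [],
  [],
  [],
  [],
  [],
  [],
  [],
  [],
  [],
  [],
  [],
  [],
  [],
  [],
  [2,23,9,19,21,22,18,23,16,18,18,20,12,18,15,16,15],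
  [],
  [2,22,23,23,9,23,21,20,19,19,20,15,19,13,16,13,18,19],
  [],
  [],
  [],
  [],
  [],
  [],
  [],
  [],
  [],
  [],
  [],
  [],
  [],
  [],
  [],
  [],
  [],
  [],
  [],
  [],
  [],
  [2,22,21,23,21,22,18,20,22,21,15,17,15,21,14,15,17],
  [],
  [2,23,22,9,22,18,18,23,9,16,17,16,13,14,16,14,12],
  [],
  [],
  [],
  [],
  [],
  [],
  [],
  [],
  [],
  [],
  [],
  [],
  [],
  [2,9,22,9,23,18,20,20,20,15,19,19,19,12,18,18,16,19],
  [],
  [2,23,19,21,18,15,22,17,16,19,12,19,16,13,19,19],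
  [],
  [],
  [],
  [],
  [],
  [],
  [],
  [],
  [],
  [],
  [],
  [],
  [],
  [],
  [2,21,23,23,22,21,18,19,19,23,15,16,18,14,14,17,12],
  [],
  [2,21,19,20,9,15,21,22,22,12,12,17,18,15,15],
  [],
  [],
  [],
  [],
  [1,9,23,23,21,19,22,20,19,18,16,17,17,22,12,16,16],
  [],
  [0,23,9,22,18,19,19,22,16,19,19,12,16,12,13,13],
  [],
  [],
  [],
  [],
  [],
  [],
  [],
  [],
  [],
  [],
  [],
  [],
  [],
  [],
  [],
  [],
  [],
  [],
  [2,23,23,21,22,19,19,18,21,17,17,21,16,22,14,12,13,14],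
  [],
  [2,9,23,9,23,9,20,19,21,23,23,15,19,21,14,13,14,16],
  [],
  [],
  [],
  [],
  [],
  [],
  [],
  [],
  [],
  [],
  [],
  [],
  [],
  [1,21,23,22,22,19,22,23,9,17,21,22,17,12,12,19,13,18],
  [],
  [0,21,22,23,9,19,22,9,21,17,20,20,22,17,12,17,12,12,19,17],
  [],
  [],
  [],
  [],
  [],
  [],
  [],
  [],
  [],
  [],
  [],
  [],
  [],
  [],
  [],
  [],
  [],
  [2,23,9,23,18,23,20,23,17,15,19,17,18,12,19,13,19,15],
  [],
  [2,22,21,23,22,19,20,22,21,20,15,20,13,17,17],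
  [],
  [],
  [],
  [],
  [],
  [],
  [],
  [],
  [],
  [2,21,22,9,23,18,23,21,17,21,20,22,12,18,13,12,19],
  [],
  [2,22,23,9,18,22,22,17,17,21,22,17,12,12,12,19,18],
  [],
  [],
  [],
  [],
  [],
  [],
  [],
  [],
  [],
  [],
  [],
  [],
  [],
  [2,22,22,22,20,18,21,16,15,21,20,14,18,14,12,12],
  [],
  [2,23,22,9,23,9,20,23,9,22,16,18,19,16,13,12,15],
  [],
  [],
  [],
  [],
  [],
  [],
  [],
  [],
  [],
  [],
  [],
  [],
  [],
  [],
  [],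
  [],
  [],
  [],
  [],
  [],
  [],
  [],
  [],
  [],
  [],
  [],
  [],
  [],
  [],
  [],
  [],
  [],
  [],
  [],
  [],
  [],
  [],
  [],
  [],
  [],
  [],
  [],
  [],
  [],
  [],
  [],
  [],
  [],
  [],
  [],
  [],
  [],
  [],
  [],
  [],
  [],
  [],
  [],
  [],
  [],
  [],
  [],
  [],
  [],
  [],
  [],
  [],
  [],
  [],
  [],
  [],
  [],
  [],
  [],
  [],
  [],
  [],
  [],
  [],
  [],
  [],
  [],
  [],
  [],
  [],
  [],
  [],
  [],
  [],
  [],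
  [],
  [],
  [],
  [],
  [],
  [],
  [],
  [],
  [],
  [],
  [],
  [],
  [],
  [],
  [],
  [],
  [],
  [],
  [],
  [],
  [],
  [],
  [],
  [],
  [],
  [],
  [],
  [],
  [],
  [],
  [],
  [],
  [],
  [],
  [],
  [],
  [],
  [],
  [],
  [],
  [],
  [],
  [],
  [],
  [],
  [],
  [],
  [],
  [],
  [],
  [],
  [],
  [],
  [],
  [],
  [],
  [],
  [],
  [],
  [],
  [],
  [],
  [],
  [],
  [],
  [],
  [],
  [],
  [],
  [],
  [],
  [],
  [],
  [],
  [],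
  [],
  [],
  [],
  [],
  [],
  [],
  [],
  [],
  [],
  [],
  [],
  [],
  [],
  [],
  [],
  [],
  [],
  [],
  [],
  [],
  [],
  [],
  [],
  [],
  [],
  [],
  [],
  [],
  [],
  [],
  [],
  [],
  [],
  [],
  [],
  [],
  [],
  [],
  [],
  [],
  [],
  [],
  [],
  [],
  [],
  [],
  [],
  [],
  [],
  [],
  [],
  [],
  [],
  [],
  [],
  [],
  [],
  [],
  [],
  [],
  [],
  [],
  [],
  [],
  [],
  [],
  [],
  [],
  [],
  [],
  [],
  [],
  [],
  [],
  [],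
  [],
  [],
  [],
  [],
  [],
  [],
  [],
  [],
  [],
  [],
  [],
  [],
  [],
  [],
  [],
  [],
  [],
  [],
  [],
  [],
  [],
  [],
  [],
  [],
  [],
  [],
  [],
  [],
  [],
  [],
  [],
  [],
  [],
  [],
  [],
  [],
  [],
  [],
  [],
  [],
  [],
  [],
  [],
  [],
  [],
  [],
  [],
  [],
  [],
  [],
  [],
  [],
  [],
  [],
  [],
  [],
  [],
  [],
  [],
  [],
  [],
  [],
  [],
  [],
  [],
  [],
  [],
  [],
  [],
  [],
  [],
  [],
  [],
  [],
  [],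
  [],
  [],
  [],
  [],
  [],
  [],
  [],
  [],
  [],
  [],
  [],
  [],
  [],
  [],
  [],
  [],
  [],
  [],
  [],
  [],
  [],
  [],
  [],
  [],
  [],
  [],
  [],
  [],
  [],
  [],
  [],
  [],
  [],
  [],
  [],
  [],
  [],
  [],
  [],
  [],
  [],
  [],
  [],
  [],
  [],
  [],
  [],
  [],
  [],
  [],
  [],
  [],
  [],
  [],
  [],
  [],
  [],
  [],
  [],
  [],
  [],
  [],
  [],
  [],
  [],
  [],
  [],
  [],
  [],
  [],
  [],
  [],
  [],
  [],
  [],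
  [],
  [],
  [],
  [],
  [],
  [],
  [],
  [],
  [],
  [],
  [],
  [],
  [],
  [],
  [],
  [],
  [],
  [],
  [],
  [],
  [],
  [],
  [],
  [],
  [],
  [],
  [],
  [],
  [],
  [],
  [],
  [],
  [],
  [],
  [],
  [],
  [],
  [],
  [],
  [],
  [],
  [],
  [],
  [],
  [],
  [],
  [],
  [],
  [],
  [],
  [],
  [],
  [],
  [],
  [],
  [],
  [],
  [],
  [],
  [],
  [],
  [],
  [],
  [],
  [],
  [],
  [],
  [],
  [],
  [],
  [],
  [],
  [],
  [],
  [],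
  [],
  [],
  [],
  [],
  [],
  [],
  [],
  [],
  [],
  [],
  [],
  [],
  [],
  [],
  [],
  [],
  [],
  [],
  [],
  [],
  [],
  [],
  [],
  [],
  [],
  [],
  [],
  [],
  [],
  [],
  [],
  [],
  [],
  [],
  [],
  [],
  [],
  [],
  [],
  [],
  [],
  [],
  [],
  [],
  [],
  [],
  [],
  [],
  [],
  [],
  [],
  [],
  [],
  [],
  [],
  [],
  [],
  [],
  [],
  [],
  [],
  [],
  [],
  [],
  [],
  [],
  [],
  [],
  [],
  [],
  [],
  [],
  [],
  [],
  [],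
  [],
  [],
  [],
  [],
  [],
  [],
  [],
  [],
  [],
  [],
  [],
  [],
  [],
  [],
  [],
  [],
  [],
  [],
  [],
  [],
  [],
  [],
  [],
  [],
  [],
  [],
  [],
  [],
  [],
  [],
  [],
  [],
  [],
  [],
  [],
  [],
  [],
  [],
  [],
  [],
  [],
  [],
  [],
  [],
  [],
  [],
  [],
  [],
  [],
  [],
  [],
  [],
  [],
  [],
  [],
  [],
  [],
  [],
  [],
  [],
  [],
  [],
  [],
  [],
  [],
  [],
  [],
  [],
  [],
  [],
  [],
  [],
  [],
  [],
  [],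
  [],
  [],
  [],
  [],
  [],
  [],
  [],
  [],
  [],
  [],
  [],
  [],
  [],
  [],
  [],
  [],
  [],
  [],
  [],
  [],
  [],
  [],
  [],
  [],
  [],
  [],
  [],
  [],
  [],
  [],
  [],
  [],
  [],
  [],
  [],
  [],
  [],
  [],
  [],
  [],
  [],
  [],
  [],
  [],
  [],
  [],
  [],
  [],
  [],
  [],
  [],
  [],
  [],
  [],
  [],
  [],
  [],
  [],
  [],
  [],
  [],
  [],
  [],
  [],
  [],
  [],
  [],
  [],
  [],
  [],
  [],
  [],
  [],
  [],
  [],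
  [],
  [],
  [],
  [],
  [],
  [],
  [],
  [],
  [],
  [],
  [],
  [],
  [],
  [],
  [],
  [],
  [],
  [],
  [],
  [],
  [],
  [],
  [],
  [],
  [],
  [],
  [],
  [],
  [],
  [],
  [],
  [],
  [],
  [],
  [],
  [],
  [],
  [],
  [],
  [],
  [],
  [],
  [],
  [],
  [],
  [],
  [],
  [],
  [],
  [],
  [],
  [],
  [],
  [],
  [],
  [],
  [],
  [],
  [],
  [],
  [],
  [],
  [],
  [],
  [],
  [],
  [],
  [],
  [],
  [],
  [],
  [],
  [],
  [],
  [],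
  [],
  [],
  [],
  [],
  [],
  [],
  [],
  [],
  [],
  [],
  [],
  [],
  [],
  [],
  [],
  [],
  [],
  [],
  [],
  [],
  [],
  [],
  [],
  [],
  [],
  [],
  [],
  [],
  [],
  [],
  [],
  [],
  [],
  [],
  [],
  [],
  [],
  [],
  [],
  [],
  [],
  [],
  [],
  [],
  [],
  [],
  [],
  [],
  [],
  [],
  [],
  [],
  [],
  [],
  [],
  [],
  [],
  [],
  [],
  [],
  [],
  [],
  [],
  [],
  [],
  [],
  [],
  [],
  [],
  [],
  [],
  [],
  [],
  [],
  [],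
  [],
  [],
  [],
  [],
  [],
  [],
  [],
  [],
  [],
  [],
  [],
  [],
  [],
  [],
  [],
  [],
  [],
  [],
  [],
  [],
  [],
  [],
  [],
  [],
  [],
  [],
  [],
  [],
  [],
  [],
  [],
  [],
  [],
  [],
  [],
  [],
  [],
  [],
  [],
  [],
  [],
  [],
  [],
  [],
  [],
  [],
  [],
  [],
  [],
  [],
  [],
  [],
  [],
  [],
  [],
  [],
  [],
  [],
  [],
  [],
  [],
  [],
  [],
  [],
  [],
  [],
  [],
  [],
  [],
  [],
  [],
  [],
  [],
  [],
  [],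
  [],
  [],
  [],
  [],
  [],
  [],
  [],
  [],
  [],
  [],
  [],
  [],
  [],
  [],
  [],
  [],
  [],
  [],
  [],
  [],
  [],
  [],
  [],
  [],
  [],
  [],
  [],
  [],
  [],
  [],
  [],
  [],
  [],
  [],
  [],
  [],
  [],
  [],
  [],
  [],
  [],
  [],
  [],
  [],
  [],
  [],
  [],
  [],
  [],
  [],
  [],
  [],
  [],
  [],
  [],
  [],
  [],
  [],
  [],
  [],
  [],
  [],
  [],
  [],
  [],
  [],
  [],
  [],
  [],
  [],
  [],
  [],
  [],
  [],
  [],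
  [],
  [],
  [],
  [],
  [],
  [],
  [],
  [],
  [],
  [],
  [],
  [],
  [],
  [],
  [],
  [],
  [],
  [],
  [],
  [],
  [],
  [],
  [],
  [],
  [],
  [],
  [],
  [],
  [],
  [],
  [],
  [],
  [],
  [],
  [],
  [],
  [],
  [],
  [],
  [],
  [],
  [],
  [],
  [],
  [],
  [],
  [],
  [],
  [],
  [],
  [],
  [],
  [],
  [],
  [],
  [],
  [],
  [],
  [],
  [],
  [],
  [],
  [],
  [],
  [],
  [],
  [],
  [],
  [],
  [],
  [],
  [],
  [],
  [],
  [],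
  [],
  [],
  [],
  [],
  [],
  [],
  [],
  [],
  [],
  [],
  [],
  [],
  [],
  [],
  [],
  [],
  [],
  [],
  [],
  [],
  [],
  [],
  [],
  [],
  [],
  [],
  [],
  [],
  [],
  [],
  [],
  [],
  [],
  [],
  [],
  [],
  [],
  [],
  [],
  [],
  [],
  [],
  [],
  [],
  [],
  [],
  [],
  [],
  [],
  [],
  [],
  [],
  [],
  [],
  [],
  [],
  [],
  [],
  [],
  [],
  [],
  [],
  [],
  [],
  [],
  [],
  [],
  [],
  [],
  [],
  [],
  [],
  [],
  [],
  [],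
  [],
  [],
  [],
  [],
  [],
  [],
  [],
  [],
  [],
  [],
  [],
  [],
  [],
  [],
  [],
  [],
  [],
  [],
  [],
  [],
  [],
  [],
  [],
  [],
  [],
  [],
  [],
  [],
  [],
  [],
  [],
  [],
  [],
  [],
  [],
  [],
  [],
  [],
  [],
  [],
  [],
  [],
  [],
  [],
  [],
  [],
  [],
  [],
  [],
  [],
  [],
  [],
  [],
  [],
  [],
  [],
  [],
  [],
  [],
  [],
  [],
  [],
  [],
  [],
  [],
  [],
  [],
  [],
  [],
  [],
  [],
  [],
  [],
  [],
  [],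
  [],
  [],
  [],
  [],
  [],
  [],
  [],
  [],
  [],
  [],
  [],
  [],
  [],
  [],
  [],
  [],
  [],
  [],
  [],
  [],
  [],
  [],
  [],
  [],
  [],
  [],
  [],
  [],
  [],
  [],
  [],
  [],
  [],
  [],
  [],
  [],
  [],
  [],
  [],
  [],
  [],
  [],
  [],
  [],
  [],
  [],
  [],
  [],
  [],
  [],
  [],
  [],
  [],
  [],
  [],
  [],
  [],
  [],
  [],
  [],
  [],
  [],
  [],
  [],
  [],
  [],
  [],
  [],
  [],
  [],
  [],
  [],
  [],
  [],
  [],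
  [],
  [],
  [],
  [],
  [],
  [],
  [],
  [],
  [],
  [],
  [],
  [],
  [],
  [],
  [],
  [],
  [],
  [],
  [],
  [],
  [],
  [],
  [],
  [],
  [],
  [],
  [],
  [],
  [],
  [],
  [],
  [],
  [],
  [],
  [],
  [],
  [],
  [],
  [],
  [],
  [],
  [],
  [],
  [],
  [],
  [],
  [],
  [],
  [],
  [],
  [],
  [],
  [],
  [],
  [],
  [],
  [],
  [],
  [],
  [],
  [],
  [],
  [],
  [],
  [],
  [],
  [],
  [],
  [],
  [],
  [],
  [],
  [],
  [],
  [],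
  [],
  [],
  [],
  [],
  [],
  [],
  [],
  [],
  [],
  [],
  [],
  [],
  [],
  [],
  [],
  [],
  [],
  [],
  [],
  [],
  [],
  [],
  [],
  [],
  [],
  [],
  [],
  [],
  [],
  [],
  [],
  [],
  [],
  [],
  [],
  [],
  [],
  [],
  [],
  [],
  [],
  [],
  [],
  [],
  [],
  [],
  [],
  [],
  [],
  [],
  [],
  [],
  [],
  [],
  [],
  [],
  [],
  [],
  [],
  [],
  [],
  [],
  [],
  [],
  [],
  [],
  [],
  [],
  [],
  [],
  [],
  [],
  [],
  [],
  [],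
  [],
  [],
  [],
  [],
  [],
  [],
  [],
  [],
  [],
  [],
  [],
  [],
  [],
  [],
  [],
  [],
  [],
  [],
  [],
  [],
  [],
  [],
  [],
  [],
  [],
  [],
  [],
  [],
  [],
  [],
  [],
  [],
  [],
  [],
  [],
  [],
  [],
  [],
  [],
  [],
  [],
  [],
  [],
  [],
  [],
  [],
  [],
  [],
  [],
  [],
  [],
  [],
  [],
  [],
  [],
  [],
  [],
  [],
  [],
  [],
  [],
  [],
  [],
  [],
  [],
  [],
  [],
  [],
  [],
  [],
  [],
  [],
  [],
  [],
  [],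
  [],
  [],
  [],
  [],
  [],
  [],
  [],
  [],
  [],
  [],
  [],
  [],
  [],
  [],
  [],
  [],
  [],
  [],
  [],
  [],
  [],
  [],
  [],
  [],
  [],
  [],
  [],
  [],
  [],
  [],
  [],
  [],
  [],
  [],
  [],
  [],
  [],
  [],
  [],
  [],
  [],
  [],
  [],
  [],
  [],
  [],
  [],
  [],
  [],
  [],
  [],
  [],
  [],
  [],
  [],
  [],
  [],
  [],
  [],
  [],
  [],
  [],
  [],
  [],
  [],
  [],
  [],
  [],
  [],
  [],
  [],
  [],
  [],
  [],
  [],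
  [],
  [],
  [],
  [],
  [],
  [],
  [],
  [],
  [],
  [],
  [],
  [],
  [],
  [],
  [],
  [],
  [],
  [],
  [],
  [],
  [],
  [],
  [],
  [],
  [],
  [],
  [],
  [],
  [],
  [],
  [],
  [],
  [],
  [],
  [],
  [],
  [],
  [],
  [],
  [],
  [],
  [],
  [],
  [],
  [],
  [],
  [],
  [],
  [],
  [],
  [],
  [],
  [],
  [],
  [],
  [],
  [],
  [],
  [],
  [],
  [],
  [],
  [],
  [],
  [],
  [],
  [],
  [],
  [],
  [],
  [],
  [],
  [],
  [],
  [],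
  [],
  [],
  [],
  [],
  [],
  [],
  [],
  [],
  [],
  [],
  [],
  [],
  [],
  [],
  [],
  [],
  [],
  [],
  [],
  [],
  [],
  [],
  [],
  [],
  [],
  [],
  [],
  [],
  [],
  [],
  [],
  [],
  [],
  [],
  [],
  [],
  [],
  [],
  [],
  [],
  [],
  [],
  [],
  [],
  [],
  [],
  [],
  [],
  [],
  [],
  [],
  [],
  [],
  [],
  [],
  [],
  [],
  [],
  [],
  [],
  [],
  [],
  [],
  [],
  [],
  [],
  [],
  [],
  [],
  [],
  [],
  [],
  [],
  [],
  [],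
  [],
  [],
  [],
  [],
  [],
  [],
  [],
  [],
  [],
  [],
  [],
  [],
  [],
  [],
  [],
  [],
  [],
  [],
  [],
  [],
  [],
  [],
  [],
  [],
  [],
  [],
  [],
  [],
  [],
  [],
  [],
  [],
  [],
  [],
  [],
  [],
  [],
  [],
  [],
  [],
  [],
  [],
  [],
  [],
  [],
  [],
  [],
  [],
  [],
  [],
  [],
  [],
  [],
  [],
  [],
  [],
  [],
  [],
  [],
  [],
  [],
  [],
  [],
  [],
  [],
  [],
  [],
  [],
  [],
  [],
  [],
  [],
  [],
  [],
  [],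
  [],
  [],
  [],
  [],
  [],
  [],
  [],
  [],
  [],
  [],
  [],
  [],
  [],
  [],
  [],
  [],
  [],
  [],
  [],
  [],
  [],
  [],
  [],
  [],
  [],
  [],
  [],
  [],
  [],
  [],
  [],
  [],
  [],
  [],
  [],
  [],
  [],
  [],
  [],
  [],
  [],
  [],
  [],
  [],
  [],
  [],
  [],
  [],
  [],
  [],
  [],
  [],
  [],
  [],
  [],
  [],
  [],
  [],
  [],
  [],
  [],
  [],
  [],
  [],
  [],
  [],
  [],
  [],
  [],
  [],
  [],
  [],
  [],
  [],
  [],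
  [],
  [],
  [],
  [],
  [],
  [],
  [],
  [],
  [],
  [],
  [],
  [],
  [],
  [],
  [],
  [],
  [],
  [],
  [],
  [],
  [],
  [],
  [],
  [],
  [],
  [],
  [],
  [],
  [],
  [],
  [],
  [],
  [],
  [],
  [],
  [],
  [],
  [],
  [],
  [],
  [],
  [],
  [],
  [],
  [],
  [],
  [],
  [],
  [],
  [],
  [],
  [],
  [],
  [],
  [],
  [],
  [],
  [],
  [],
  [],
  [],
  [],
  [],
  [],
  [],
  [],
  [],
  [],
  [],
  [],
  [],
  [],
  [],
  [],
  [],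
  [],
  [],
  [],
  [],
  [],
  [],
  [],
  [],
  [],
  [],
  [],
  [],
  [],
  [],
  [],
  [],
  [],
  [],
  [],
  [],
  [],
  [],
  [],
  [],
  [],
  [],
  [],
  [],
  [],
  [],
  [],
  [],
  [],
  [],
  [],
  [],
  [],
  [],
  [],
  [],
  [],
  [],
  [],
  [],
  [],
  [],
  [],
  [],
  [],
  [],
  [],
  [],
  [],
  [],
  [],
  [],
  [],
  [],
  [],
  [],
  [],
  [],
  [],
  [],
  [],
  [],
  [],
  [],
  [],
  [],
  [],
  [],
  [],
  [],
  [],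
  [],
  [],
  [],
  [],
  [],
  [],
  [],
  [],
  [],
  [],
  [],
  [],
  [],
  [],
  [],
  [],
  [],
  [],
  [],
  [],
  [],
  [],
  [],
  [],
  [],
  [],
  [],
  [],
  [],
  [],
  [],
  [],
  [],
  [],
  [],
  [],
  [],
  [],
  [],
  [],
  [],
  [],
  [],
  [],
  [],
  [],
  [],
  [],
  [],
  [],
  [],
  [],
  [],
  [],
  [],
  [],
  [],
  [],
  [],
  [],
  [],
  [],
  [],
  [],
  [],
  [],
  [],
  [],
  [],
  [],
  [],
  [],
  [],
  [],
  [],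
  [],
  [],
  [],
  [],
  [],
  [],
  [],
  [],
  [],
  [],
  [],
  [],
  [],
  [],
  [],
  [],
  [],
  [],
  [],
  [],
  [],
  [],
  [],
  [],
  [],
  [],
  [],
  [],
  [],
  [],
  [],
  [],
  [],
  [],
  [],
  [],
  [],
  [],
  [],
  [],
  [],
  [],
  [],
  [],
  [],
  [],
  [],
  [],
  [],
  [],
  [],
  [],
  [],
  [],
  [],
  [],
  [],
  [],
  [],
  [],
  [],
  [],
  [],
  [],
  [],
  [],
  [],
  [],
  [],
  [],
  [],
  [],
  [],
  [],
  [],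
  [],
  [],
  [],
  [],
  [],
  [],
  [],
  [],
  [],
  [],
  [],
  [],
  [],
  [],
  [],
  [],
  [],
  [],
  [],
  [],
  [],
  [],
  [],
  [],
  [],
  [],
  [],
  [],
  [],
  [],
  [],
  [],
  [],
  [],
  [],
  [],
  [],
  [],
  [],
  [],
  [],
  [],
  [],
  [],
  [],
  [],
  [],
  [],
  [],
  [],
  [],
  [],
  [],
  [],
  [],
  [],
  [],
  [],
  [],
  [],
  [],
  [],
  [],
  [],
  [],
  [],
  [],
  [],
  [],
  [],
  [],
  [],
  [],
  [],
  [],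
  [],
  [],
  [],
  [],
  [],
  [],
  [],
  [],
  [],
  [],
  [],
  [],
  [],
  [],
  [],
  [],
  [],
  [],
  [],
  [],
  [],
  [],
  [],
  [],
  [],
  [],
  [],
  [],
  [],
  [],
  [],
  [],
  [],
  [],
  [],
  [],
  [],
  [],
  [],
  [],
  [],
  [],
  [],
  [],
  [],
  [],
  [],
  [],
  [],
  [],
  [],
  [],
  [],
  [],
  [],
  [],
  [],
  [],
  [],
  [],
  [],
  [],
  [],
  [],
  [],
  [],
  [],
  [],
  [],
  [],
  [],
  [],
  [],
  [],
  [],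
  [],
  [],
  [],
  [],
  [],
  [],
  [],
  [],
  [],
  [],
  [],
  [],
  [],
  [],
  [],
  [],
  [],
  [],
  [],
  [],
  [],
  [],
  [],
  [],
  [],
  [],
  [],
  [],
  [],
  [],
  [],
  [],
  [],
  [],
  [],
  [],
  [],
  [],
  [],
  [],
  [],
  [],
  [],
  [],
  [],
  [],
  [],
  [],
  [],
  [],
  [],
  [],
  [],
  [],
  [],
  [],
  [],
  [],
  [],
  [],
  [],
  [],
  [],
  [],
  [],
  [],
  [],
  [],
  [],
  [],
  [],
  [],
  [],
  [],
  [],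
  [],
  [],
  [],
  [],
  [],
  [],
  [],
  [],
  [],
  [],
  [],
  [],
  [],
  [],
  [],
  [],
  [],
  [],
  [],
  [],
  [],
  [],
  [],
  [],
  [],
  [],
  [],
  [],
  [],
  [],
  [],
  [],
  [],
  [],
  [],
  [],
  [],
  [],
  [],
  [],
  [],
  [],
  [],
  [],
  [],
  [],
  [],
  [],
  [],
  [],
  [],
  [],
  [],
  [],
  [],
  [],
  [],
  [],
  [],
  [],
  [],
  [],
  [],
  [],
  [],
  [],
  [],
  [],
  [],
  [],
  [],
  [],
  [],
  [],
  [],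
  [],
  [],
  [],
  [],
  [],
  [],
  [],
  [],
  [],
  [],
  [],
  [],
  [],
  [],
  [],
  [],
  [],
  [],
  [],
  [],
  [],
  [],
  [],
  [],
  [],
  [],
  [],
  [],
  [],
  [],
  [],
  [],
  [],
  [],
  [],
  [],
  [],
  [],
  [],
  [],
  [],
  [],
  [],
  [],
  [],
  [],
  [],
  [],
  [],
  [],
  [],
  [],
  [],
  [],
  [],
  [],
  [],
  [],
  [],
  [],
  [],
  [],
  [],
  [],
  [],
  [],
  [],
  [],
  [],
  [],
  [],
  [],
  [],
  [],
  [],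
  [],
  [],
  [],
  [],
  [],
  [],
  [],
  [],
  [],
  [],
  [],
  [],
  [],
  [],
  [],
  [],
  [],
  [],
  [],
  [],
  [],
  [],
  [],
  [],
  [],
  [],
  [],
  [],
  [],
  [],
  [],
  [],
  [],
  [],
  [],
  [],
  [],
  [],
  [],
  [],
  [],
  [],
  [],
  [],
  [],
  [],
  [],
  [],
  [],
  [],
  [],
  [],
  [],
  [],
  [],
  [],
  [],
  [],
  [],
  [],
  [],
  [],
  [],
  [],
  [],
  [],
  [],
  [],
  [],
  [],
  [],
  [],
  [],
  [],
  [],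
  [],
  [],
  [],
  [],
  [],
  [],
  [],
  [],
  [],
  [],
  [],
  [],
  [],
  [],
  [],
  [],
  [],
  [],
  [],
  [],
  [],
  [],
  [],
  [],
  [],
  [],
  [],
  [],
  [],
  [],
  [],
  [],
  [],
  [],
  [],
  [],
  [],
  [],
  [],
  [],
  [],
  [],
  [],
  [],
  [],
  [],
  [],
  [],
  [],
  [],
  [],
  [],
  [],
  [],
  [],
  [],
  [],
  [],
  [],
  [],
  [],
  [],
  [],
  [],
  [],
  [],
  [],
  [],
  [],
  [],
  [],
  [],
  [],
  [],
  [],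
  [],
  [],
  [],
  [],
  [],
  [],
  [],
  [],
  [],
  [],
  [],
  [],
  [],
  [],
  [],
  [],
  [],
  [],
  [],
  [],
  [],
  [],
  [],
  [],
  [],
  [],
  [],
  [],
  [],
  [],
  [],
  [],
  [],
  [],
  [],
  [],
  [],
  [],
  [],
  [],
  [],
  [],
  [],
  [],
  [],
  [],
  [],
  [],
  [],
  [],
  [],
  [],
  [],
  [],
  [],
  [],
  [],
  [],
  [],
  [],
  [],
  [],
  [],
  [],
  [],
  [],
  [],
  [],
  [],
  [],
  [],
  [],
  [],
  [],
  [],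
  [],
  [],
  [],
  [],
  [],
  [],
  [],
  [],
  [],
  [],
  [],
  [],
  [],
  [],
  [],
  [],
  [],
  [],
  [],
  [],
  [],
  [],
  [],
  [],
  [],
  [],
  [],
  [],
  [],
  [],
  [],
  [],
  [],
  [],
  [],
  [],
  [],
  [],
  [],
  [],
  [],
  [],
  [],
  [],
  [],
  [],
  [],
  [],
  [],
  [],
  [],
  [],
  [],
  [],
  [],
  [],
  [],
  [],
  [],
  [],
  [],
  [],
  [],
  [],
  [],
  [],
  [],
  [],
  [],
  [],
  [],
  [],
  [],
  [],
  [],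
  [],
  [],
  [],
  [],
  [],
  [],
  [],
  [],
  [],
  [],
  [],
  [],
  [],
  [],
  [],
  [],
  [],
  [],
  [],
  [],
  [],
  [],
  [],
  [],
  [],
  [],
  [],
  [],
  [],
  [],
  [],
  [],
  [],
  [],
  [],
  [],
  [],
  [],
  [],
  [],
  [],
  [],
  [],
  [],
  [],
  [],
  [],
  [],
  [],
  [],
  [],
  [],
  [],
  [],
  [],
  [],
  [],
  [],
  [],
  [],
  [],
  [],
  [],
  [],
  [],
  [],
  [],
  [],
  [],
  [],
  [],
  [],
  [],
  [],
  [],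
  [],
  [],
  [],
  [],
  [],
  [],
  [],
  [],
  [],
  [],
  [],
  [],
  [],
  [],
  [],
  [],
  [],
  [],
  [],
  [],
  [],
  [],
  [],
  [],
  [],
  [],
  [],
  [],
  [],
  [],
  [],
  [],
  [],
  [],
  [],
  [],
  [],
  [],
  [],
  [],
  [],
  [],
  [],
  [],
  [],
  [],
  [],
  [],
  [],
  [],
  [],
  [],
  [],
  [],
  [],
  [],
  [],
  [],
  [],
  [],
  [],
  [],
  [],
  [],
  [],
  [],
  [],
  [],
  [],
  [],
  [],
  [],
  [],
  [],
  [],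
  [],
  [],
  [],
  [],
  [],
  [],
  [],
  [],
  [],
  [],
  [],
  [],
  [],
  [],
  [],
  [],
  [],
  [],
  [],
  [],
  [],
  [],
  [],
  [],
  [],
  [],
  [],
  [],
  [],
  [],
  [],
  [],
  [],
  [],
  [],
  [],
  [],
  [],
  [],
  [],
  [],
  [],
  [],
  [],
  [],
  [],
  [],
  [],
  [],
  [],
  [],
  [],
  [],
  [],
  [],
  [],
  [],
  [],
  [],
  [],
  [],
  [],
  [],
  [],
  [],
  [],
  [],
  [],
  [],
  [],
  [],
  [],
  [],
  [],
  [],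
  [],
  [],
  [],
  [],
  [],
  [],
  [],
  [],
  [],
  [],
  [],
  [],
  [],
  [],
  [],
  [],
  [],
  [],
  [],
  [],
  [],
  [],
  [],
  [],
  [],
  [],
  [],
  [],
  [],
  [],
  [],
  [],
  [],
  [],
  [],
  [],
  [],
  [],
  [],
  [],
  [],
  [],
  [],
  [],
  [],
  [],
  [],
  [],
  [],
  [],
  [],
  [],
  [],
  [],
  [],
  [],
  [],
  [],
  [],
  [],
  [],
  [],
  [],
  [],
  [],
  [],
  [],
  [],
  [],
  [],
  [],
  [],
  [],
  [],
  [],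
  [],
  [],
  [],
  [],
  [],
  [],
  [],
  [],
  [],
  [],
  [],
  [],
  [],
  [],
  [],
  [],
  [],
  [],
  [],
  [],
  [],
  [],
  [],
  [],
  [],
  [],
  [],
  [],
  [],
  [],
  [],
  [],
  [],
  [],
  [],
  [],
  [],
  [],
  [],
  [],
  [],
  [],
  [],
  [],
  [],
  [],
  [],
  [],
  [],
  [],
  [],
  [],
  [],
  [],
  [],
  [],
  [],
  [],
  [],
  [],
  [],
  [],
  [],
  [],
  [],
  [],
  [],
  [],
  [],
  [],
  [],
  [],
  [],
  [],
  [],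
  [],
  [],
  [],
  [],
  [],
  [],
  [],
  [],
  [],
  [],
  [],
  [],
  [],
  [],
  [],
  [],
  [],
  [],
  [],
  [],
  [],
  [],
  [],
  [],
  [],
  [],
  [],
  [],
  [],
  [],
  [],
  [],
  [],
  [],
  [],
  [],
  [],
  [],
  [],
  [],
  [],
  [],
  [],
  [],
  [],
  [],
  [],
  [],
  [],
  [],
  [],
  [],
  [],
  [],
  [],
  [],
  [],
  [],
  [],
  [],
  [],
  [],
  [],
  [],
  [],
  [],
  [],
  [],
  [],
  [],
  [],
  [],
  [],
  [],
  [],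
  [],
  [],
  [],
  [],
  [],
  [],
  [],
  [],
  [],
  [],
  [],
  [],
  [],
  [],
  [],
  [],
  [],
  [],
  [],
  [],
  [],
  [],
  [],
  [],
  [],
  [],
  [],
  [],
  [],
  [],
  [],
  [],
  [],
  [],
  [],
  [],
  [],
  [],
  [],
  [],
  [],
  [],
  [],
  [],
  [],
  [],
  [],
  [],
  [],
  [],
  [],
  [],
  [],
  [],
  [],
  [],
  [],
  [],
  [],
  [],
  [],
  [],
  [],
  [],
  [],
  [],
  [],
  [],
  [],
  [],
  [],
  [],
  [],
  [],
  [],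
  [],
  [],
  [],
  [],
  [],
  [],
  [],
  [],
  [],
  [],
  [],
  [],
  [],
  [],
  [],
  [],
  [],
  [],
  [],
  [],
  [],
  [],
  [],
  [],
  [],
  [],
  [],
  [],
  [],
  [],
  [],
  [],
  [],
  [],
  [],
  [],
  [],
  [],
  [],
  [],
  [],
  [],
  [],
  [],
  [],
  [],
  [],
  [],
  [],
  [],
  [],
  [],
  [],
  [],
  [],
  [],
  [],
  [],
  [],
  [],
  [],
  [],
  [],
  [],
  [],
  [],
  [],
  [],
  [],
  [],
  [],
  [],
  [],
  [],
  [],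
  [],
  [],
  [],
  [],
  [],
  [],
  [],
  [],
  [],
  [],
  [],
  [],
  [],
  [],
  [],
  [],
  [],
  [],
  [],
  [],
  [],
  [],
  [],
  [],
  [],
  [],
  [],
  [],
  [],
  [],
  [],
  [],
  [],
  [],
  [],
  [],
  [],
  [],
  [],
  [],
  [],
  [],
  [],
  [],
  [],
  [],
  [],
  [],
  [],
  [],
  [],
  [],
  [],
  [],
  [],
  [],
  [],
  [],
  [],
  [],
  [],
  [],
  [],
  [],
  [],
  [],
  [],
  [],
  [],
  [],
  [],
  [],
  [],
  [],
  [],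
  [],
  [],
  [],
  [],
  [],
  [],
  [],
  [],
  [],
  [],
  [],
  [],
  [],
  [],
  [],
  [],
  [],
  [],
  [],
  [],
  [],
  [],
  [],
  [],
  [],
  [],
  [],
  [],
  [],
  [],
  [],
  [],
  [],
  [],
  [],
  [],
  [],
  [],
  [],
  [],
  [],
  [],
  [],
  [],
  [],
  [],
  [],
  [],
  [],
  [],
  [],
  [],
  [],
  [],
  [],
  [],
  [],
  [],
  [],
  [],
  [],
  [],
  [],
  [],
  [],
  [],
  [],
  [],
  [],
  [],
  [],
  [],
  [],
  [],
  [],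
  [],
  [],
  [],
  [],
  [],
  [],
  [],
  [],
  [],
  [],
  [],
  [],
  [],
  [],
  [],
  [],
  [],
  [],
  [],
  [],
  [],
  [],
  [],
  [],
  [],
  [],
  [],
  [],
  [],
  [],
  [],
  [],
  [],
  [],
  [],
  [],
  [],
  [],
  [],
  [],
  [],
  [],
  [],
  [],
  [],
  [],
  [],
  [],
  [],
  [],
  [],
  [],
  [],
  [],
  [],
  [],
  [],
  [],
  [],
  [],
  [],
  [],
  [],
  [],
  [],
  [],
  [],
  [],
  [],
  [],
  [],
  [],
  [],
  [],
  [],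
  [],
  [],
  [],
  [],
  [],
  [],
  [],
  [],
  [],
  [],
  [],
  [],
  [],
  [],
  [],
  [],
  [],
  [],
  [],
  [],
  [],
  [],
  [],
  [],
  [],
  [],
  [],
  [],
  [],
  [],
  [],
  [],
  [],
  [],
  [],
  [],
  [],
  [],
  [],
  [],
  [],
  [],
  [],
  [],
  [],
  [],
  [],
  [],
  [],
  [],
  [],
  [],
  [],
  [],
  [],
  [],
  [],
  [],
  [],
  [],
  [],
  [],
  [],
  [],
  [],
  [],
  [],
  [],
  [],
  [],
  [],
  [],
  [],
  [],
  [],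
  [],
  [],
  [],
  [],
  [],
  [],
  [],
  [],
  [],
  [],
  [],
  [],
  [],
  [],
  [],
  [],
  [],
  [],
  [],
  [],
  [],
  [],
  [],
  [],
  [],
  [],
  [],
  [],
  [],
  [],
  [],
  [],
  [],
  [],
  [],
  [],
  [],
  [],
  [],
  [],
  [],
  [],
  [],
  [],
  [],
  [],
  [],
  [],
  [],
  [],
  [],
  [],
  [],
  [],
  [],
  [],
  [],
  [],
  [],
  [],
  [],
  [],
  [],
  [],
  [],
  [],
  [],
  [],
  [],
  [],
  [],
  [],
  [],
  [],
  [],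
  [],
  [],
  [],
  [],
  [],
  [],
  [],
  [],
  [],
  [],
  [],
  [],
  [],
  [],
  [],
  [],
  [],
  [],
  [],
  [],
  [],
  [],
  [],
  [],
  [],
  [],
  [],
  [],
  [],
  [],
  [],
  [],
  [],
  [],
  [],
  [],
  [],
  [],
  [],
  [],
  [],
  [],
  [],
  [],
  [],
  [],
  [],
  [],
  [],
  [],
  [],
  [],
  [],
  [],
  [],
  [],
  [],
  [],
  [],
  [],
  [],
  [],
  [],
  [],
  [],
  [],
  [],
  [],
  [],
  [],
  [],
  [],
  [],
  [],
  [],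
  [],
  [],
  [],
  [],
  [],
  [],
  [],
  [],
  [],
  [],
  [],
  [],
  [],
  [],
  [],
  [],
  [],
  [],
  [],
  [],
  [],
  [],
  [],
  [],
  [],
  [],
  [],
  [],
  [],
  [],
  [],
  [],
  [],
  [],
  [],
  [],
  [],
  [],
  [],
  [],
  [],
  [],
  [],
  [],
  [],
  [],
  [],
  [],
  [],
  [],
  [],
  [],
  [],
  [],
  [],
  [],
  [],
  [],
  [],
  [],
  [],
  [],
  [],
  [],
  [],
  [],
  [],
  [],
  [],
  [],
  [],
  [],
  [],
  [],
  [],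
  [],
  [],
  [],
  [],
  [],
  [],
  [],
  [],
  [],
  [],
  [],
  [],
  [],
  [],
  [],
  [],
  [],
  [],
  [],
  [],
  [],
  [],
  [],
  [],
  [],
  [],
  [],
  [],
  [],
  [],
  [],
  [],
  [],
  [],
  [],
  [],
  [],
  [],
  [],
  [],
  [],
  [],
  [],
  [],
  [],
  [],
  [],
  [],
  [],
  [],
  [],
  [],
  [],
  [],
  [],
  [],
  [],
  [],
  [],
  [],
  [],
  [],
  [],
  [],
  [],
  [],
  [],
  [],
  [],
  [],
  [],
  [],
  [],
  [],
  [],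
  [],
  [],
  [],
  [],
  [],
  [],
  [],
  [],
  [],
  [],
  [],
  [],
  [],
  [],
  [],
  [],
  [],
  [],
  [],
  [],
  [],
  [],
  [],
  [],
  [],
  [],
  [],
  [],
  [],
  [],
  [],
  [],
  [],
  [],
  [],
  [],
  [],
  [],
  [],
  [],
  [],
  [],
  [],
  [],
  [],
  [],
  [],
  [],
  [],
  [],
  [],
  [],
  [],
  [],
  [],
  [],
  [],
  [],
  [],
  [],
  [],
  [],
  [],
  [],
  [],
  [],
  [],
  [],
  [],
  [],
  [],
  [],
  [],
  [],
  [],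
  [],
  [],
  [],
  [],
  [],
  [],
  [],
  [],
  [],
  [],
  [],
  [],
  [],
  [],
  [],
  [],
  [],
  [],
  [],
  [],
  [],
  [],
  [],
  [],
  [],
  [],
  [],
  [],
  [],
  [],
  [],
  [],
  [],
  [],
  [],
  [],
  [],
  [],
  [],
  [],
  [],
  [],
  [],
  [],
  [],
  [],
  [],
  [],
  [],
  [],
  [],
  [],
  [],
  [],
  [],
  [],
  [],
  [],
  [],
  [],
  [],
  [],
  [],
  [],
  [],
  [],
  [],
  [],
  [],
  [],
  [],
  [],
  [],
  [],
  [],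
  [],
  [],
  [],
  [],
  [],
  [],
  [],
  [],
  [],
  [],
  [],
  [],
  [],
  [],
  [],
  [],
  [],
  [],
  [],
  [],
  [],
  [],
  [],
  [],
  [],
  [],
  [],
  [],
  [],
  [],
  [],
  [],
  [],
  [],
  [],
  [],
  [],
  [],
  [],
  [],
  [],
  [],
  [],
  [],
  [],
  [],
  [],
  [],
  [],
  [],
  [],
  [],
  [],
  [],
  [],
  [],
  [],
  [],
  [],
  [],
  [],
  [],
  [],
  [],
  [],
  [],
  [],
  [],
  [],
  [],
  [],
  [],
  [],
  [],
  [],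
  [],
  [],
  [],
  [],
  [],
  [],
  [],
  [],
  [],
  [],
  [],
  [],
  [],
  [],
  [],
  [],
  [],
  [],
  [],
  [],
  [],
  [],
  [],
  [],
  [],
  [],
  [],
  [],
  [],
  [],
  [],
  [],
  [],
  [],
  [],
  [],
  [],
  [],
  [],
  [],
  [],
  [],
  [],
  [],
  [],
  [],
  [],
  [],
  [],
  [],
  [],
  [],
  [],
  [],
  [],
  [],
  [],
  [],
  [],
  [],
  [],
  [],
  [],
  [],
  [],
  [],
  [],
  [],
  [],
  [],
  [],
  [],
  [],
  [],
  [],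
  [],
  [],
  [],
  [],
  [],
  [],
  [],
  [],
  [],
  [],
  [],
  [],
  [],
  [],
  [],
  [],
  [],
  [],
  [],
  [],
  [],
  [],
  [],
  [],
  [],
  [],
  [],
  [],
  [],
  [],
  [],
  [],
  [],
  [],
  [],
  [],
  [],
  [],
  [],
  [],
  [],
  [],
  [],
  [],
  [],
  [],
  [],
  [],
  [],
  [],
  [],
  [],
  [],
  [],
  [],
  [],
  [],
  [],
  [],
  [],
  [],
  [],
  [],
  [],
  [],
  [],
  [],
  [],
  [],
  [],
  [],
  [],
  [],
  [],
  [],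
  [],
  [],
  [],
  [],
  [],
  [],
  [],
  [],
  [],
  [],
  [],
  [],
  [],
  [],
  [],
  [],
  [],
  [],
  [],
  [],
  [],
  [],
  [],
  [],
  [],
  [],
  [],
  [],
  [],
  [],
  [],
  [],
  [],
  [],
  [],
  [],
  [],
  [],
  [],
  [],
  [],
  [],
  [],
  [],
  [],
  [],
  [],
  [],
  [],
  [],
  [],
  [],
  [],
  [],
  [],
  [],
  [],
  [],
  [],
  [],
  [],
  [],
  [],
  [],
  [],
  [],
  [],
  [],
  [],
  [],
  [],
  [],
  [],
  [],
  [],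
  [],
  [],
  [],
  [],
  [],
  [],
  [],
  [],
  [],
  [],
  [],
  [],
  [],
  [],
  [],
  [],
  [],
  [],
  [],
  [],
  [],
  [],
  [],
  [],
  [],
  [],
  [],
  [],
  [],
  [],
  [],
  [],
  [],
  [],
  [],
  [],
  [],
  [],
  [],
  [],
  [],
  [],
  [],
  [],
  [],
  [],
  [],
  [],
  [],
  [],
  [],
  [],
  [],
  [],
  [],
  [],
  [],
  [],
  [],
  [],
  [],
  [],
  [],
  [],
  [],
  [],
  [],
  [],
  [],
  [],
  [],
  [],
  [],
  [],
  [],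
  [],
  [],
  [],
  [],
  [],
  [],
  [],
  [],
  [],
  [],
  [],
  [],
  [],
  [],
  [],
  [],
  [],
  [],
  [],
  [],
  [],
  [],
  [],
  [],
  [],
  [],
  [],
  [],
  [],
  [],
  [],
  [],
  [],
  [],
  [],
  [],
  [],
  [],
  [],
  [],
  [],
  [],
  [],
  [],
  [],
  [],
  [],
  [],
  [],
  [],
  [],
  [],
  [],
  [],
  [],
  [],
  [],
  [],
  [],
  [],
  [],
  [],
  [],
  [],
  [],
  [],
  [],
  [],
  [],
  [],
  [],
  [],
  [],
  [],
  [],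
  [],
  [],
  [],
  [],
  [],
  [],
  [],
  [],
  [],
  [],
  [],
  [],
  [],
  [],
  [],
  [],
  [],
  [],
  [],
  [],
  [],
  [],
  [],
  [],
  [],
  [],
  [],
  [],
  [],
  [],
  [],
  [],
  [],
  [],
  [],
  [],
  [],
  [],
  [],
  [],
  [],
  [],
  [],
  [],
  [],
  [],
  [],
  [],
  [],
  [],
  [],
  [],
  [],
  [],
  [],
  [],
  [],
  [],
  [],
  [],
  [],
  [],
  [],
  [],
  [],
  [],
  [],
  [],
  [],
  [],
  [],
  [],
  [],
  [],
  [],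
  [],
  [],
  [],
  [],
  [],
  [],
  [],
  [],
  [],
  [],
  [],
  [],
  [],
  [],
  [],
  [],
  [],
  [],
  [],
  [],
  [],
  [],
  [],
  [],
  [],
  [],
  [],
  [],
  [],
  [],
  [],
  [],
  [],
  [],
  [],
  [],
  [],
  [],
  [],
  [],
  [],
  [],
  [],
  [],
  [],
  [],
  [],
  [],
  [],
  [],
  [],
  [],
  [],
  [],
  [],
  [],
  [],
  [],
  [],
  [],
  [],
  [],
  [],
  [],
  [],
  [],
  [],
  [],
  [],
  [],
  [],
  [],
  [],
  [],
  [],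
  [],
  [],
  [],
  [],
  [],
  [],
  [],
  [],
  [],
  [],
  [],
  [],
  [],
  [],
  [],
  [],
  [],
  [],
  [],
  [],
  [],
  [],
  [],
  [],
  [],
  [],
  [],
  [],
  [],
  [],
  [],
  [],
  [],
  [],
  [],
  [],
  [],
  [],
  [],
  [],
  [],
  [],
  [],
  [],
  [],
  [],
  [],
  [],
  [],
  [],
  [],
  [],
  [],
  [],
  [],
  [],
  [],
  [],
  [],
  [],
  [],
  [],
  [],
  [],
  [],
  [],
  [],
  [],
  [],
  [],
  [],
  [],
  [],
  [],
  [],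
  [],
  [],
  [],
  [],
  [],
  [],
  [],
  [],
  [],
  [],
  [],
  [],
  [],
  [],
  [],
  [],
  [],
  [],
  [],
  [],
  [],
  [],
  [],
  [],
  [],
  [],
  [],
  [],
  [],
  [],
  [],
  [],
  [],
  [],
  [],
  [],
  [],
  [],
  [],
  [],
  [],
  [],
  [],
  [],
  [],
  [],
  [],
  [],
  [],
  [],
  [],
  [],
  [],
  [],
  [],
  [],
  [],
  [],
  [],
  [],
  [],
  [],
  [],
  [],
  [],
  [],
  [],
  [],
  [],
  [],
  [],
  [],
  [],
  [],
  [],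
  [],
  [],
  [],
  [],
  [],
  [],
  [],
  [],
  [],
  [],
  [],
  [],
  [],
  [],
  [],
  [],
  [],
  [],
  [],
  [],
  [],
  [],
  [],
  [],
  [],
  [],
  [],
  [],
  [],
  [],
  [],
  [],
  [],
  [],
  [],
  [],
  [],
  [],
  [],
  [],
  [],
  [],
  [],
  [],
  [],
  [],
  [],
  [],
  [],
  [],
  [],
  [],
  [],
  [],
  [],
  [],
  [],
  [],
  [],
  [],
  [],
  [],
  [],
  [],
  [],
  [],
  [],
  [],
  [],
  [],
  [],
  [],
  [],
  [],
  [],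
  [],
  [],
  [],
  [],
  [],
  [],
  [],
  [],
  [],
  [],
  [],
  [],
  [],
  [],
  [],
  [],
  [],
  [],
  [],
  [],
  [],
  [],
  [],
  [],
  [],
  [],
  [],
  [],
  [],
  [],
  [],
  [],
  [],
  [],
  [],
  [],
  [],
  [],
  [],
  [],
  [],
  [],
  [],
  [],
  [],
  [],
  [],
  [],
  [],
  [],
  [],
  [],
  [],
  [],
  [],
  [],
  [],
  [],
  [],
  [],
  [],
  [],
  [],
  [],
  [],
  [],
  [],
  [],
  [],
  [],
  [],
  [],
  [],
  [],
  [],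
  [],
  [],
  [],
  [],
  [],
  [],
  [],
  [],
  [],
  [],
  [],
  [],
  [],
  [],
  [],
  [],
  [],
  [],
  [],
  [],
  [],
  [],
  [],
  [],
  [],
  [],
  [],
  [],
  [],
  [],
  [],
  [],
  [],
  [],
  [],
  [],
  [],
  [],
  [],
  [],
  [],
  [],
  [],
  [],
  [],
  [],
  [],
  [],
  [],
  [],
  [],
  [],
  [],
  [],
  [],
  [],
  [],
  [],
  [],
  [],
  [],
  [],
  [],
  [],
  [],
  [],
  [],
  [],
  [],
  [],
  [],
  [],
  [],
  [],
  [],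
  [],
  [],
  [],
  [],
  [],
  [],
  [],
  [],
  [],
  [],
  [],
  [],
  [],
  [],
  [],
  [],
  [],
  [],
  [],
  [],
  [],
  [],
  [],
  [],
  [],
  [],
  [],
  [],
  [],
  [],
  [],
  [],
  [],
  [],
  [],
  [],
  [],
  [],
  [],
  [],
  [],
  [],
  [],
  [],
  [],
  [],
  [],
  [],
  [],
  [],
  [],
  [],
  [],
  [],
  [],
  [],
  [],
  [],
  [],
  [],
  [],
  [],
  [],
  [],
  [],
  [],
  [],
  [],
  [],
  [],
  [],
  [],
  [],
  [],
  [],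
  [],
  [],
  [],
  [],
  [],
  [],
  [],
  [],
  [],
  [],
  [],
  [],
  [],
  [],
  [],
  [],
  [],
  [],
  [],
  [],
  [],
  [],
  [],
  [],
  [],
  [],
  [],
  [],
  [],
  [],
  [],
  [],
  [],
  [],
  [],
  [],
  [],
  [],
  [],
  [],
  [],
  [],
  [],
  [],
  [],
  [],
  [],
  [],
  [],
  [],
  [],
  [],
  [],
  [],
  [],
  [],
  [],
  [],
  [],
  [],
  [],
  [],
  [],
  [],
  [],
  [],
  [],
  [],
  [],
  [],
  [],
  [],
  [],
  [],
  [],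
  [],
  [],
  [],
  [],
  [],
  [],
  [],
  [],
  [],
  [],
  [],
  [],
  [],
  [],
  [],
  [],
  [],
  [],
  [],
  [],
  [],
  [],
  [],
  [],
  [],
  [],
  [],
  [],
  [],
  [],
  [],
  [],
  [],
  [],
  [],
  [],
  [],
  [],
  [],
  [],
  [],
  [],
  [],
  [],
  [],
  [],
  [],
  [],
  [],
  [],
  [],
  [],
  [],
  [],
  [],
  [],
  [],
  [],
  [],
  [],
  [],
  [],
  [],
  [],
  [],
  [],
  [],
  [],
  [],
  [],
  [],
  [],
  [],
  [],
  [],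
  [],
  [],
  [],
  [],
  [],
  [],
  [],
  [],
  [],
  [],
  [],
  [],
  [],
  [],
  [],
  [],
  [],
  [],
  [],
  [],
  [],
  [],
  [],
  [],
  [],
  [],
  [],
  [],
  [],
  [],
  [],
  [],
  [],
  [],
  [],
  [],
  [],
  [],
  [],
  [],
  [],
  [],
  [],
  [],
  [],
  [],
  [],
  [],
  [],
  [],
  [],
  [],
  [],
  [],
  [],
  [],
  [],
  [],
  [],
  [],
  [],
  [],
  [],
  [],
  [],
  [],
  [],
  [],
  [],
  [],
  [],
  [],
  [],
  [],
  [],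
  [],
  [],
  [],
  [],
  [],
  [],
  [],
  [],
  [],
  [],
  [],
  [],
  [],
  [],
  [],
  [],
  [],
  [],
  [],
  [],
  [],
  [],
  [],
  [],
  [],
  [],
  [],
  [],
  [],
  [],
  [],
  [],
  [],
  [],
  [],
  [],
  [],
  [],
  [],
  [],
  [],
  [],
  [],
  [],
  [],
  [],
  [],
  [],
  [],
  [],
  [],
  [],
  [],
  [],
  [],
  [],
  [],
  [],
  [],
  [],
  [],
  [],
  [],
  [],
  [],
  [],
  [],
  [],
  [],
  [],
  [],
  [],
  [],
  [],
  [],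
  [],
  [],
  [],
  [],
  [],
  [],
  [],
  [],
  [],
  [],
  [],
  [],
  [],
  [],
  [],
  [],
  [],
  [],
  [],
  [],
  [],
  [],
  [],
  [],
  [],
  [],
  [],
  [],
  [],
  [],
  [],
  [],
  [],
  [],
  [],
  [],
  [],
  [],
  [],
  [],
  [],
  [],
  [],
  [],
  [],
  [],
  [],
  [],
  [],
  [],
  [],
  [],
  [],
  [],
  [],
  [],
  [],
  [],
  [],
  [],
  [],
  [],
  [],
  [],
  [],
  [],
  [],
  [],
  [],
  [],
  [],
  [],
  [],
  [],
  [],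
  [],
  [],
  [],
  [],
  [],
  [],
  [],
  [],
  [],
  [],
  [],
  [],
  [],
  [],
  [],
  [],
  [],
  [],
  [],
  [],
  [],
  [],
  [],
  [],
  [],
  [],
  [],
  [],
  [],
  [],
  [],
  [],
  [],
  [],
  [],
  [],
  [],
  [],
  [],
  [],
  [],
  [],
  [],
  [],
  [],
  [],
  [],
  [],
  [],
  [],
  [],
  [],
  [],
  [],
  [],
  [],
  [],
  [],
  [],
  [],
  [],
  [],
  [],
  [],
  [],
  [],
  [],
  [],
  [],
  [],
  [],
  [],
  [],
  [],
  [],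
  [],
  [],
  [],
  [],
  [],
  [],
  [],
  [],
  [],
  [],
  [],
  [],
  [],
  [],
  [],
  [],
  [],
  [],
  [],
  [],
  [],
  [],
  [],
  [],
  [],
  [],
  [],
  [],
  [],
  [],
  [],
  [],
  [],
  [],
  [],
  [],
  [],
  [],
  [],
  [],
  [],
  [],
  [],
  [],
  [],
  [],
  [],
  [],
  [],
  [],
  [],
  [],
  [],
  [],
  [],
  [],
  [],
  [],
  [],
  [],
  [],
  [],
  [],
  [],
  [],
  [],
  [],
  [],
  [],
  [],
  [],
  [],
  [],
  [],
  [],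
  [],
  [],
  [],
  [],
  [],
  [],
  [],
  [],
  [],
  [],
  [],
  [],
  [],
  [],
  [],
  [],
  [],
  [],
  [],
  [],
  [],
  [],
  [],
  [],
  [],
  [],
  [],
  [],
  [],
  [],
  [],
  [],
  [],
  [],
  [],
  [],
  [],
  [],
  [],
  [],
  [],
  [],
  [],
  [],
  [],
  [],
  [],
  [],
  [],
  [],
  [],
  [],
  [],
  [],
  [],
  [],
  [],
  [],
  [],
  [],
  [],
  [],
  [],
  [],
  [],
  [],
  [],
  [],
  [],
  [],
  [],
  [],
  [],
  [],
  [],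
  [],
  [],
  [],
  [],
  [],
  [],
  [],
  [],
  [],
  [],
  [],
  [],
  [],
  [],
  [],
  [],
  [],
  [],
  [],
  [],
  [],
  [],
  [],
  [],
  [],
  [],
  [],
  [],
  [],
  [],
  [],
  [],
  [],
  [],
  [],
  [],
  [],
  [],
  [],
  [],
  [],
  [],
  [],
  [],
  [],
  [],
  [],
  [],
  [],
  [],
  [],
  [],
  [],
  [],
  [],
  [],
  [],
  [],
  [],
  [],
  [],
  [],
  [],
  [],
  [],
  [],
  [],
  [],
  [],
  [],
  [],
  [],
  [],
  [],
  [],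
  [],
  [],
  [],
  [],
  [],
  [],
  [],
  [],
  [],
  [],
  [],
  [],
  [],
  [],
  [],
  [],
  [],
  [],
  [],
  [],
  [],
  [],
  [],
  [],
  [],
  [],
  [],
  [],
  [],
  [],
  [],
  [],
  [],
  [],
  [],
  [],
  [],
  [],
  [],
  [],
  [],
  [],
  [],
  [],
  [],
  [],
  [],
  [],
  [],
  [],
  [],
  [],
  [],
  [],
  [],
  [],
  [],
  [],
  [],
  [],
  [],
  [],
  [],
  [],
  [],
  [],
  [],
  [],
  [],
  [],
  [],
  [],
  [],
  [],
  [],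
  [],
  [],
  [],
  [],
  [],
  [],
  [],
  [],
  [],
  [],
  [],
  [],
  [],
  [],
  [],
  [],
  [],
  [],
  [],
  [],
  [],
  [],
  [],
  [],
  [],
  [],
  [],
  [],
  [],
  [],
  [],
  [],
  [],
  [],
  [],
  [],
  [],
  [],
  [],
  [],
  [],
  [],
  [],
  [],
  [],
  [],
  [],
  [],
  [],
  [],
  [],
  [],
  [],
  [],
  [],
  [],
  [],
  [],
  [],
  [],
  [],
  [],
  [],
  [],
  [],
  [],
  [],
  [],
  [],
  [],
  [],
  [],
  [],
  [],
  [],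
  [],
  [],
  [],
  [],
  [],
  [],
  [],
  [],
  [],
  [],
  [],
  [],
  [],
  [],
  [],
  [],
  [],
  [],
  [],
  [],
  [],
  [],
  [],
  [],
  [],
  [],
  [],
  [],
  [],
  [],
  [],
  [],
  [],
  [],
  [],
  [],
  [],
  [],
  [],
  [],
  [],
  [],
  [],
  [],
  [],
  [],
  [],
  [],
  [],
  [],
  [],
  [],
  [],
  [],
  [],
  [],
  [],
  [],
  [],
  [],
  [],
  [],
  [],
  [],
  [],
  [],
  [],
  [],
  [],
  [],
  [],
  [],
  [],
  [],
  [],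
  [],
  [],
  [],
  [],
  [2,23,20,19,19,22,18,17,19,22,21,12,17,16,15],
  [],
  [2,9,21,23,19,20,9,18,19,16,16,22,19,14,12,19,18,16],
  [],
  [],
  [],
  [],
  [],
  [],
  [],
  [],
  [],
  [],
  [],
  [],
  [],
  [],
  [],
  [],
  [],
  [],
  [],
  [],
  [],
  [],
  [],
  [],
  [],
  [],
  [],
  [],
  [],
  [2,9,23,21,22,22,23,22,20,22,19,22,17,19,17,12,14,18],
  [],
  [2,9,23,21,22,22,19,9,22,16,18,18,17,14,15],
  [],
  [],
  [],
  [],
  [],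
  [],
  [],
  [],
  [],
  [],
  [],
  [],
  [],
  [],
  [],
  [],
  [],
  [],
  [],
  [],
  [],
  [],
  [],
  [],
  [],
  [],
  [],
  [],
  [],
  [2,21,22,22,19,21,19,18,23,16,16,19,15,13,18,14,13,19],
  [],
  [2,9,23,21,22,20,19,19,19,17,15,18,12,12,15,18,13],
  [],
  [],
  [],
  [],
  [],
  [],
  [],
  [],
  [],
  [],
  [],
  [],
  [],
  [],
  [],
  [],
  [],
  [],
  [],
  [],
  [],
  [],
  [],
  [],
  [],
  [],
  [],
  [],
  [],
  [2,9,21,23,23,23,21,19,19,9,22,18,16,19,22,12],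
  [],
  [2,23,9,22,18,22,18,9,21,16,20,20,15,14,14,12,12],
  [],
  [],
  [],
  [],
  [],
  [],
  [],
  [],
  [],
  [],
  [],
  [],
  [],
  [],
  [],
  [],
  [],
  [],
  [],
  [],
  [2,23,23,23,19,21,19,20,22,16,16,17,22,14,18,12,18,18],
  [],
  [2,21,23,23,19,21,22,19,16,17,17,16,21,12,14,19,19,15],
  [],
  [],
  [],
  [],
  [],
  [],
  [],
  [],
  [],
  [],
  [],
  [],
  [],
  [],
  [],
  [],
  [],
  [],
  [],
  [],
  [],
  [2,22,22,23,19,9,20,9,21,16,16,16,15,12,15,19,17,14],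
  [],
  [2,23,22,9,22,18,23,20,22,17,15,19,13,18,16,13],
  [],
  [],
  [],
  [],
  [],
  [],
  [],
  [],
  [],
  [],
  [],
  [],
  [],
  [],
  [],
  [],
  [],
  [],
  [],
  [],
  [],
  [],
  [],
  [],
  [],
  [],
  [],
  [],
  [],
  [],
  [],
  [],
  [],
  [2,9,23,9,23,9,19,19,23,22,9,17,21,19,18,13,15,15,15],
  [],
  [2,23,21,22,19,23,9,20,17,17,20,22,16,13,12,19,17],
  [],
  [],
  [],
  [],
  [],
  [],
  [],
  [],
  [],
  [],
  [],
  [],
  [],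
  [],
  [],
  [],
  [],
  [],
  [],
  [],
  [],
  [],
  [],
  [],
  [],
  [],
  [],
  [],
  [],
  [2,21,22,23,22,19,20,22,19,15,19,16,12,19,18,12,15],
  [],
  [2,9,22,9,19,18,22,23,17,17,19,21,18,13,16,12,17,13],
  [],
  [],
  [],
  [],
  [],
  [],
  [],
  [],
  [],
  [],
  [],
  [],
  [],
  [],
  [],
  [],
  [],
  [],
  [],
  [],
  [],
  [],
  [],
  [],
  [],
  [],
  [],
  [],
  [],
  [2,9,23,9,19,19,21,22,9,17,20,16,14,13,18,12],
  [],
  [2,22,9,23,9,19,22,23,9,17,22,16,17,12,16,18,17],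
  [],
  [],
  [],
  [],
  [],
  [],
  [],
  [],
  [],
  [],
  [],
  [],
  [],
  [],
  [],
  [],
  [],
  [],
  [],
  [],
  [],
  [],
  [],
  [],
  [],
  [],
  [],
  [],
  [],
  [2,23,22,22,22,23,23,18,23,9,20,17,18,19,19,12,13,12],
  [],
  [2,22,9,20,23,18,21,17,16,19,20,20,12,16,16,18],
  [],
  [],
  [],
  [],
  [],
  [],
  [],
  [],
  [],
  [],
  [],
  [],
  [],
  [],
  [],
  [],
  [],
  [],
  [],
  [],
  [],
  [],
  [],
  [],
  [],
  [],
  [],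
  [],
  [],
  [2,23,22,9,23,20,9,22,21,22,15,19,18,18,14,17],
  [],
  [2,9,21,22,23,9,18,22,19,18,17,17,19,22,21,14,19,17],
  [],
  [],
  [],
  [],
  [],
  [],
  [],
  [],
  [],
  [],
  [],
  [],
  [],
  [],
  [],
  [],
  [],
  [],
  [],
  [],
  [],
  [],
  [],
  [],
  [],
  [],
  [],
  [],
  [],
  [2,9,22,22,22,9,20,22,23,20,9,16,17,18,17,12,13,16],
  [],
  [2,23,23,19,23,21,20,16,21,18,20,14,14,19,15,13],
  [],
  [],
  [],
  [],
  [],
  [],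
  [],
  [],
  [],
  [],
  [],
  [],
  [],
  [],
  [],
  [],
  [],
  [],
  [],
  [],
  [],
  [],
  [],
  [],
  [],
  [],
  [],
  [],
  [],
  [2,22,9,23,9,22,21,18,22,18,23,16,19,16,18,14,17,12,12],
  [],
  [2,9,22,21,23,21,23,21,23,20,9,23,23,22,13,13,12,17],
  [],
  [],
  [],
  [],
  [],
  [],
  [],
  [],
  [],
  [],
  [],
  [],
  [],
  [],
  [],
  [],
  [],
  [],
  [],
  [],
  [],
  [],
  [],
  [],
  [],
  [],
  [],
  [],
  [],
  [2,23,22,21,18,21,19,22,15,20,21,20,13,19,19,16],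
  [],
  [2,23,22,20,23,20,9,15,19,22,22,16,14,14,19,17,15],
  [],
  [],
  [],
  [],
  [],
  [],
  [],
  [],
  [],
  [],
  [],
  [],
  [],
  [],
  [],
  [],
  [],
  [],
  [],
  [],
  [],
  [],
  [],
  [],
  [],
  [],
  [],
  [],
  [],
  [],
  [2,22,9,21,23,23,20,23,18,17,17,19,22,13,18,12,19],
  [],
  [2,22,9,19,20,23,19,17,17,22,22,19,14,12,14,17,14],
  [],
  [],
  [],
  [],
  [],
  [],
  [],
  [],
  [],
  [],
  [],
  [],
  [],
  [],
  [],
  [],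
  [],
  [],
  [],
  [],
  [],
  [],
  [],
  [],
  [],
  [],
  [],
  [],
  [],
  [2,22,22,9,21,23,19,22,19,20,15,20,12,19,17,14,13],
  [],
  [2,21,22,9,22,9,20,23,15,22,19,16,12,15,13,19,13],
  [],
  [],
  [],
  [],
  [],
  [],
  [],
  [],
  [],
  [],
  [],
  [],
  [],
  [],
  [],
  [],
  [],
  [],
  [],
  [],
  [],
  [],
  [],
  [],
  [],
  [],
  [],
  [],
  [],
  [],
  [],
  [],
  [],
  [],
  [],
  [],
  [],
  [],
  [],
  [],
  [],
  [],
  [],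
  [],
  [],
  [2,21,22,22,20,21,20,20,16,17,15,18,12,12,18,17,15],
  [],
  [2,9,21,23,22,23,21,18,19,9,15,16,21,16,13,14,18,12],
  [],
  [],
  [],
  [],
  [],
  [],
  [],
  [],
  [],
  [],
  [],
  [],
  [],
  [],
  [],
  [],
  [],
  [],
  [],
  [],
  [],
  [2,9,22,23,9,22,19,22,9,22,17,16,12,13,19,18],
  [],
  [2,9,23,21,23,23,9,19,19,21,18,17,18,19,14,18,17,17],
  [],
  [],
  [],
  [],
  [],
  [],
  [],
  [],
  [],
  [],
  [],
  [],
  [],
  [],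
  [],
  [],
  [],
  [],
  [],
  [],
  [],
  [],
  [],
  [],
  [],
  [],
  [],
  [],
  [],
  [],
  [],
  [],
  [],
  [],
  [],
  [],
  [],
  [2,23,22,22,22,20,18,20,20,17,15,14,16,17,13,19],
  [],
  [2,22,23,22,21,18,23,9,23,16,22,12,18,18,12,14],
  [],
  [],
  [],
  [],
  [],
  [],
  [],
  [],
  [],
  [],
  [],
  [],
  [],
  [],
  [],
  [],
  [],
  [],
  [],
  [],
  [],
  [2,21,22,22,19,23,18,20,16,20,16,17,18,13,12,19,13,16],
  [],
  [2,9,21,23,23,19,19,18,18,17,19,20,16,18,13,16,16,16],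
  [],
  [],
  [],
  [],
  [],
  [],
  [],
  [],
  [],
  [],
  [],
  [],
  [],
  [],
  [],
  [],
  [],
  [],
  [],
  [],
  [],
  [],
  [],
  [],
  [],
  [],
  [],
  [],
  [],
  [],
  [],
  [],
  [],
  [2,23,22,20,20,23,18,17,21,19,16,16,13,17,17,16],
  [],
  [2,22,22,9,23,22,19,22,18,9,21,16,22,21,12,17,15,12],
  [],
  [],
  [],
  [],
  [],
  [],
  [],
  [],
  [],
  [],
  [],
  [],
  [],
  [],
  [],
  [],
  [],
  [],
  [],
  [],
  [],
  [],
  [],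
  [],
  [],
  [],
  [],
  [],
  [],
  [2,22,21,22,23,9,21,19,21,22,23,17,21,21,12,12,19,15],
  [],
  [2,21,22,20,20,21,22,23,15,19,16,20,14,18,13,14,12],
  [],
  [],
  [],
  [],
  [],
  [],
  [],
  [],
  [],
  [],
  [],
  [],
  [],
  [],
  [],
  [],
  [],
  [],
  [],
  [],
  [],
  [],
  [],
  [],
  [],
  [],
  [],
  [],
  [],
  [2,23,9,21,23,23,20,20,21,16,19,18,19,14,18,16,12],
  [],
  [2,22,21,23,21,23,21,23,19,9,17,21,15,12,14,17,17],
  [],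
  [],
  [],
  [],
  [],
  [],
  [],
  [],
  [],
  [],
  [],
  [],
  [],
  [],
  [],
  [],
  [],
  [],
  [],
  [],
  [],
  [],
  [],
  [],
  [],
  [],
  [],
  [],
  [],
  [2,23,21,22,9,21,20,22,22,20,20,16,20,16,16,12,16,15,19],
  [],
  [2,22,22,22,9,21,19,22,21,18,17,17,16,20,19,14,12,14],
  [],
  [],
  [],
  [],
  [],
  [],
  [],
  [],
  [],
  [],
  [],
  [],
  [],
  [],
  [],
  [],
  [],
  [],
  [],
  [],
  [],
  [],
  [],
  [],
  [],
  [],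
  [],
  [],
  [2,22,9,23,9,22,18,18,16,20,17,15,15,12,19,18,17],
  [],
  [2,21,23,22,9,19,9,18,21,15,22,21,15,12,12,17,15,15],
  [],
  [],
  [],
  [],
  [],
  [],
  [],
  [],
  [],
  [],
  [],
  [],
  [],
  [],
  [],
  [],
  [],
  [],
  [],
  [],
  [],
  [],
  [],
  [],
  [],
  [],
  [],
  [],
  [],
  [2,21,23,9,22,22,9,20,23,21,22,17,19,20,12,18,14],
  [],
  [2,22,23,9,22,22,19,22,19,20,17,17,21,22,19,14,17,12],
  [],
  [],
  [],
  [],
  [],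
  [],
  [],
  [],
  [],
  [],
  [],
  [],
  [],
  [],
  [],
  [],
  [],
  [],
  [],
  [],
  [],
  [],
  [],
  [],
  [],
  [],
  [],
  [],
  [],
  [2,21,20,18,9,18,16,15,16,22,18,12,18,19,13],
  [],
  [2,22,9,23,21,19,22,18,20,16,18,16,18,12,17,12,18,15],
  [],
  [],
  [],
  [],
  [],
  [],
  [],
  [],
  [],
  [],
  [],
  [],
  [],
  [],
  [],
  [],
  [],
  [],
  [],
  [],
  [],
  [],
  [],
  [],
  [],
  [],
  [],
  [],
  [],
  [2,22,23,23,21,22,19,21,18,15,20,16,16,12,17,16,19],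
  [],
  [2,22,9,19,20,19,18,23,16,20,17,17,13,16],
  [],
  [],
  [],
  [],
  [],
  [],
  [],
  [],
  [],
  [],
  [],
  [],
  [],
  [],
  [],
  [],
  [],
  [],
  [],
  [],
  [],
  [2,23,21,23,9,19,20,20,17,20,18,13,13,17,16],
  [],
  [2,21,23,18,9,21,18,17,18,15,17,15,14,12,16,13,17],
  [],
  [],
  [],
  [],
  [],
  [],
  [],
  [],
  [],
  [],
  [],
  [],
  [],
  [],
  [],
  [],
  [],
  [],
  [],
  [],
  [],
  [2,9,23,9,23,18,9,18,16,15,20,18,12,13,14,18],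
  [],
  [2,22,9,21,23,23,18,18,21,17,17,22,21,15,12,12,13,17,14],
  [],
  [],
  [],
  [],
  [],
  [],
  [],
  [],
  [],
  [],
  [],
  [],
  [],
  [],
  [],
  [],
  [],
  [],
  [],
  [],
  [],
  [],
  [],
  [],
  [],
  [],
  [],
  [],
  [],
  [],
  [],
  [],
  [],
  [],
  [2,9,21,19,23,19,22,16,15,16,18,15,14,13,19,13],
  [],
  [2,21,22,19,23,9,20,22,16,20,15,16,12,14,18,12,14],
  [],
  [],
  [],
  [],
  [],
  [],
  [],
  [],
  [],
  [],
  [],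
  [],
  [],
  [],
  [],
  [],
  [],
  [],
  [],
  [],
  [],
  [],
  [],
  [],
  [],
  [],
  [],
  [],
  [],
  [2,23,22,23,22,23,21,20,9,20,15,19,18,12,16,13,18],
  [],
  [2,23,9,23,23,19,20,9,22,17,19,21,13,12,17,16],
  [],
  [],
  [],
  [],
  [],
  [],
  [],
  [],
  [],
  [],
  [],
  [],
  [],
  [],
  [],
  [],
  [],
  [],
  [],
  [],
  [],
  [],
  [],
  [],
  [],
  [],
  [],
  [],
  [2,23,21,20,22,9,18,15,17,15,21,12,13,17,12,19],
  [],
  [2,9,22,22,21,23,18,21,22,15,15,15,13,17,18],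
  [],
  [2,23,9,19,23,9,17,20,20,15,19,13,19,16,15],
  [],
  [2,23,22,19,22,23,9,16,21,22,21,13,13,17,16,15],
  [],
  [],
  [],
  [],
  [],
  [],
  [],
  [],
  [],
  [],
  [2,23,23,23,20,9,19,18,16,19,16,16,21,12,14,17,17,18],
  [],
  [2,23,9,22,22,21,18,23,21,20,16,17,16,18,19,13,12,19,15],
  [],
  [],
  [],
  [],
  [],
  [],
  [],
  [],
  [],
  [],
  [],
  [],
  [2,9,23,21,23,9,20,20,18,22,16,12,12,13,16,12],
  [],
  [2,23,22,21,20,9,20,9,17,22,21,15,13,15,17,14],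
  [],
  [],
  [],
  [],
  [],
  [],
  [],
  [],
  [],
  [],
  [],
  [],
  [],
  [],
  [],
  [],
  [],
  [],
  [],
  [],
  [],
  [],
  [],
  [],
  [],
  [],
  [],
  [],
  [],
  [2,22,22,22,9,19,22,19,20,15,15,18,13,14,15,18],
  [],
  [2,22,21,23,23,19,19,22,18,18,16,21,22,18,12,14,14,19,17],
  [],
  [],
  [],
  [],
  [],
  [],
  [],
  [],
  [],
  [],
  [],
  [],
  [],
  [],
  [],
  [],
  [],
  [],
  [],
  [],
  [],
  [],
  [],
  [],
  [],
  [],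
  [],
  [],
  [],
  [2,23,22,21,19,20,9,21,17,22,21,15,13,18,16,12],
  [2,23,23,22,21,23,19,21,23,22,15,18,16,12,15,13,12],
  [2,22,23,21,19,9,23,20,9,16,20,19,19,12,12,14,18,18],
  [2,23,21,23,23,21,23,20,19,17,22,19,15,14,18,17,18,14],
  [],
  [],
  [],
  [],
  [],
  [],
  [],
  [],
  [2,23,9,19,19,9,23,18,17,21,20,19,13,13,16,14,16],
  [],
  [2,21,23,9,22,22,19,19,20,18,15,20,17,17,12,17,16],
  [],
  [],
  [],
  [],
  [],
  [],
  [],
  [],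
  [],
  [],
  [],
  [],
  [],
  [],
  [],
  [],
  [],
  [],
  [],
  [],
  [],
  [],
  [],
  [],
  [],
  [],
  [],
  [],
  [],
  [],
  [],
  [],
  [],
  [],
  [2,23,22,9,22,9,18,20,21,17,17,21,14,14,17,17],
  [],
  [2,23,21,19,20,20,17,18,22,15,14,16,19,13],
  [],
  [],
  [],
  [],
  [],
  [],
  [],
  [],
  [],
  [],
  [],
  [],
  [2,23,23,9,23,21,20,20,19,16,17,18,22,12,17,19,15],
  [],
  [2,9,21,22,19,9,23,19,17,17,16,21,17,12,15,13,12,18],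
  [],
  [],
  [],
  [],
  [],
  [],
  [2,9,23,21,19,22,18,19,22,15,18,16,18,12,19,15,17],
  [],
  [2,9,22,23,9,23,20,22,19,20,17,18,19,15,12,14,12,19,16],
  [],
  [2,22,22,9,23,23,20,23,18,18,12,19,19,12,13],
  [],
  [2,20,22,19,22,17,15,15,17,12,17,16,19,13],
  [],
  [],
  [],
  [],
  [],
  [],
  [],
  [],
  [],
  [],
  [],
  [],
  [],
  [],
  [],
  [],
  [],
  [2,22,9,22,18,19,20,22,22,15,17,15,14,19,17,16,17],
  [],
  [2,9,21,22,21,19,22,20,21,19,16,17,19,15,14,19,12,15],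
  [],
  [2,9,23,9,22,9,23,19,19,19,21,22,17,17,22,21,19,13,12],
  [],
  [2,9,23,23,21,23,9,20,22,19,21,16,21,15,16,12,12,18,13],
  [],
  [],
  [],
  [],
  [],
  [],
  [],
  [],
  [2,9,22,21,23,22,19,21,23,20,20,17,16,21,15,15,14,18],
  [],
  [2,23,23,22,22,9,19,9,21,15,18,20,22,14,12,17,15,16],
  [],
  [],
  [],
  [],
  [],
  [],
  [],
  [],
  [],
  [],
  [1,21,23,9,22,19,22,17,18,17,18,17,12,14,19,17,14],
  [],
  [0,23,9,22,22,23,23,18,20,17,20,14,19,18,19,17],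
  [],
  [],
  [],
  [],
  [],
  [],
  [],
  [],
  [2,21,23,23,23,21,23,19,18,18,18,20,12,15,17,19],
  [],
  [2,22,23,9,23,19,21,15,18,22,21,12,17],
  [],
  [2,9,22,9,19,19,18,20,15,16,22,21,13,16,12,19],
  [],
  [2,22,23,22,21,23,20,21,18,19,16,16,19,22,12,13,12,13],
  [],
  [],
  [],
  [],
  [],
  [],
  [],
  [],
  [],
  [],
  [],
  [],
  [],
  [],
  [],
  [],
  [],
  [],
  [2,22,9,22,18,19,22,20,17,17,15,17,17,12,14,14],
  [],
  [2,23,21,23,21,20,21,20,20,20,16,20,20,18,12,14,19,13],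
  [],
  [2,21,23,21,23,23,19,19,18,18,20,16,15,16,13,15,14,12],
  [],
  [2,21,23,21,23,21,20,21,22,16,17,22,21,13,15,16,12],
  [],
  [],
  [],
  [],
  [],
  [],
  [],
  [],
  [1,23,22,23,22,19,21,23,17,20,21,15,20,12,13,16,12,14],
  [],
  [0,23,23,9,22,20,9,17,17,22,16,15,12,12,15,18,17],
  [],
  [],
  [],
  [],
  [],
  [],
  [],
  [],
  [],
  [],
  [2,9,22,9,23,21,22,21,15,21,15,18,13,12,12,12],
  [],
  [2,23,22,23,9,19,23,23,19,19,17,22,15,14,19,18,14,18],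
  [],
  [],
  [],
  [],
  [],
  [],
  [],
  [],
  [2,9,19,18,20,9,22,17,21,17,19,14,15,18,14],
  [],
  [2,21,22,22,23,22,19,19,19,21,18,16,21,20,14,17,14,16],
  [],
  [2,23,23,9,23,18,19,23,23,15,22,15,19,12,13,19,16,14],
  [],
  [2,21,23,23,22,18,22,22,19,17,21,18,12,13,16,16,15],
  [],
  [],
  [],
  [],
  [],
  [],
  [],
  [],
  [],
  [],
  [],
  [],
  [],
  [],
  [],
  [],
  [],
  [],
  [],
  [],
  [],
  [2,9,22,22,22,9,18,9,19,17,20,19,14,16,12,19],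
  [2,22,22,22,21,23,18,18,18,9,17,20,15,20,21,14,13],
  [2,23,21,22,21,20,9,21,18,17,22,18,16,12,18,13],
  [2,23,9,23,20,9,22,9,16,20,21,12,12,17,13,18],
  [],
  [],
  [],
  [],
  [],
  [],
  [],
  [],
  [2,9,22,22,23,21,19,21,18,15,16,19,22,12,12,16,13,15],
  [],
  [2,21,23,21,19,18,20,20,15,15,20,20,16,12,16,12,19,17],
  [],
  [],
  [],
  [],
  [],
  [],
  [],
  [],
  [],
  [],
  [0,23,9,22,9,19,19,21,17,19,22,15,14,18,18,16,17],
  [],
  [1,23,22,9,23,21,22,20,22,9,20,17,22,13,12,16,15],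
  [],
  [],
  [],
  [],
  [],
  [],
  [],
  [],
  [2,23,21,23,18,21,18,20,17,21,17,16,12,14,16,18,15],
  [2,9,21,22,22,23,21,18,19,19,17,15,19,19,20,12,14,12,17],
  [2,22,22,21,23,21,22,19,18,18,16,20,15,18,12,15,17,16,14],
  [2,9,23,21,18,9,22,23,17,15,16,16,17,12,13,12,14,17],
  [],
  [],
  [],
  [],
  [],
  [],
  [],
  [],
  [],
  [],
  [],
  [],
  [],
  [],
  [],
  [],
  [],
  [],
  [],
  [],
  [],
  [],
  [],
  [],
  [],
  [2,9,22,22,22,9,18,18,23,15,14,13,12,15],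
  [],
  [2,21,23,21,18,20,18,21,17,19,22,22,13,14,12,18,16],
  [],
  [],
  [],
  [],
  [],
  [],
  [],
  [],
  [2,22,23,9,21,22,23,9,19,19,9,18,15,22,21,12,13,17,19],
  [2,22,23,9,19,20,20,23,22,16,15,21,15,21,12,15,15],
  [2,9,19,19,23,22,18,15,16,22,19,14,16,18,17],
  [2,23,21,19,20,21,22,17,16,16,17,20,12,16,15,19],
  [],
  [],
  [],
  [],
  [],
  [],
  [],
  [],
  [2,22,9,23,9,23,18,9,19,17,16,17,19,17,12,19,17,13,19],
  [2,9,22,23,9,21,20,19,22,20,16,16,15,21,12,17,14,15],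
  [2,23,22,23,9,23,21,19,17,17,18,18,21,12,12,18,17,14],
  [2,9,23,22,23,21,18,23,18,16,21,22,12,17,16,14,16],
  [],
  [],
  [],
  [],
  [],
  [],
  [],
  [],
  [1,23,23,9,21,19,20,20,23,16,22,17,18,14,13],
  [],
  [0,23,23,23,9,18,9,17,17,17,18,20,14,14,13,15,18],
  [],
  [],
  [],
  [],
  [],
  [],
  [],
  [],
  [],
  [],
  [],
  [],
  [],
  [],
  [],
  [],
  [],
  [],
  [],
  [],
  [],
  [],
  [],
  [],
  [],
  [],
  [],
  [],
  [],
  [],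
  [],
  [],
  [],
  [2,9,23,9,20,19,23,23,15,21,21,18,14,12,13,17],
  [],
  [2,23,21,23,22,19,19,22,19,21,16,18,21,14,12,17,18,15],
  [],
  [],
  [],
  [],
  [],
  [],
  [],
  [],
  [],
  [],
  [],
  [],
  [],
  [],
  [],
  [],
  [],
  [2,9,22,23,22,19,23,23,18,19,15,21,12,12,18,18,16],
  [],
  [2,22,9,20,9,21,18,18,17,19,17,19,17,13,16,13,19,17],
  [],
  [],
  [],
  [],
  [],
  [],
  [],
  [],
  [],
  [2,23,22,9,22,22,18,18,20,20,16,22,19,22,14,18,16],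
  [2,9,23,21,22,23,19,18,18,15,16,17,18,14,13,14,18],
  [2,22,9,21,20,20,18,21,17,18,16,13,12,14,15,13],
  [2,22,9,22,22,23,21,18,20,23,19,20,17,16,16,21,17,14],
  [],
  [],
  [],
  [],
  [],
  [],
  [],
  [],
  [],
  [],
  [],
  [],
  [],
  [],
  [],
  [],
  [],
  [2,21,23,9,18,21,20,20,17,17,17,15,14,17,12,14],
  [],
  [2,9,21,23,22,21,19,18,20,23,17,19,17,18,22,13,17,15],
  [],
  [2,9,22,19,20,9,23,19,15,17,12,18,16,16,13],
  [],
  [2,21,22,22,21,19,23,18,21,17,19,22,19,22,12,12,12,18,13],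
  [],
  [],
  [],
  [],
  [1,21,22,9,19,22,23,9,20,15,16,22,15,14,14,15],
  [],
  [0,22,22,19,19,23,23,20,16,16,17,15,12,19,14,14,14],
  [],
  [],
  [],
  [],
  [],
  [],
  [],
  [],
  [],
  [],
  [],
  [],
  [],
  [],
  [],
  [],
  [],
  [],
  [2,9,22,23,20,20,23,18,16,15,17,18,18,13,12,18,17],
  [],
  [2,22,21,22,23,19,23,23,18,17,17,19,22,13,17,15,12,14],
  [],
  [],
  [],
  [],
  [2,22,23,22,21,23,22,19,21,20,17,17,17,16,12,12,13,18],
  [],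
  [2,9,23,23,22,21,19,22,20,21,22,15,22,15,12,16,12,14],
  [],
  [2,21,22,9,23,19,23,20,9,16,15,20,19,13,15,18,16],
  [],
  [2,22,9,22,9,20,9,23,17,17,16,19,13,16,15,16],
  [],
  [],
  [],
  [],
  [],
  [],
  [],
  [],
  [],
  [],
  [],
  [],
  [],
  [],
  [],
  [],
  [],
  [],
  [2,23,9,21,22,19,18,22,21,17,16,16,22,17,13,12,15],
  [],
  [2,23,23,23,20,19,19,22,20,15,17,22,18,14,15,19,15],
  [],
  [2,22,22,22,23,23,9,20,18,18,16,22,22,14,12,17,13,15],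
  [],
  [2,9,23,23,23,22,23,20,23,20,17,20,17,13,14,14,12],
  [],
  [],
  [],
  [],
  [2,9,23,22,18,20,20,16,22,14,13,17,17],
  [],
  [2,9,22,23,23,21,19,22,18,17,18,22,19,12,18,13,12,12],
  [],
  [],
  [],
  [],
  [],
  [],
  [],
  [],
  [],
  [],
  [],
  [],
  [],
  [],
  [],
  [],
  [],
  [],
  [0,22,9,22,21,22,19,22,22,17,20,20,15,13,14,17,14],
  [],
  [1,22,22,23,22,19,20,9,16,16,20,21,22,12,19,15,18,12],
  [],
  [],
  [],
  [],
  [2,9,23,23,21,18,21,19,9,20,15,16,17,15,12,17,14],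
  [],
  [2,23,23,9,19,23,21,22,19,16,20,18,16,13,17,16],
  [],
  [2,9,23,19,19,18,15,15,20,21,14,18,16,13,16],
  [],
  [2,9,22,22,21,23,9,20,23,9,20,17,20,22,18,15,12,18,15],
  [],
  [],
  [],
  [],
  [],
  [],
  [],
  [],
  [],
  [],
  [],
  [],
  [],
  [],
  [],
  [],
  [],
  [],
  [],
  [],
  [],
  [],
  [],
  [],
  [],
  [],
  [],
  [],
  [],
  [],
  [2,22,22,21,23,9,19,9,20,19,17,16,17,22,18,14,13],
  [],
  [2,22,9,22,9,18,23,19,16,21,17,22,12,12,19,15,12],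
  [],
  [],
  [],
  [],
  [],
  [],
  [],
  [],
  [],
  [],
  [],
  [],
  [2,9,22,23,22,9,18,23,20,15,20,19,15,14,13,15,14],
  [],
  [2,23,9,23,9,19,19,19,20,17,22,16,21,19,13,15,19,14],
  [],
  [],
  [],
  [],
  [],
  [],
  [],
  [],
  [],
  [],
  [2,9,23,23,22,22,21,22,18,19,22,17,15,13,15,18],
  [],
  [2,9,23,23,9,19,20,18,18,22,17,18,21,21,13,17,19],
  [],
  [2,9,22,23,21,22,9,20,20,21,16,16,22,18,16,14,18,16],
  [],
  [2,22,22,22,21,19,9,22,9,16,22,15,15,14,17,15,18],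
  [],
  [],
  [],
  [],
  [],
  [],
  [],
  [],
  [],
  [],
  [],
  [],
  [],
  [],
  [],
  [],
  [],
  [],
  [],
  [],
  [],
  [],
  [],
  [],
  [],
  [],
  [],
  [],
  [],
  [2,9,22,22,9,21,23,9,20,20,17,21,20,22,22,13,12,19,14],
  [],
  [2,9,21,22,22,21,18,19,22,20,16,18,18,13,13,18,15],
  [],
  [],
  [],
  [],
  [],
  [],
  [],
  [],
  [],
  [],
  [],
  [],
  [],
  [],
  [],
  [],
  [],
  [2,21,23,23,19,9,19,18,17,16,20,17,16,12,18,13,15],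
  [],
  [2,21,22,23,9,19,20,22,9,21,17,20,15,14,12,15,12],
  [],
  [],
  [],
  [],
  [],
  [],
  [],
  [],
  [2,9,22,23,21,19,20,9,23,15,15,20,21,12,12,14,15,17],
  [2,23,21,19,19,20,20,20,15,17,19,12,19,17,18,14],
  [2,21,23,22,20,9,19,18,19,16,18,15,15,14,12,17,15],
  [2,23,23,23,21,20,22,19,9,17,15,21,16,21,13,13,12,18],
  [],
  [],
  [],
  [],
  [],
  [],
  [],
  [],
  [],
  [],
  [],
  [],
  [],
  [],
  [],
  [],
  [],
  [],
  [],
  [],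
  [2,23,22,22,9,23,19,18,20,20,15,19,15,22,12,15,19,12],
  [],
  [2,9,22,22,21,23,9,19,20,22,22,23,16,18,12,16,13,16,13],
  [],
  [],
  [],
  [],
  [],
  [],
  [],
  [],
  [],
  [2,22,22,19,18,9,23,15,22,20,13,13,17,12],
  [2,9,23,22,23,23,21,19,18,17,19,18,21,14,18,16,17],
  [2,23,23,22,22,23,19,18,21,16,18,18,16,16,12,18,17],
  [2,23,21,23,23,23,18,19,22,17,21,19,14,18,19,17,17],
  [],
  [],
  [],
  [],
  [],
  [],
  [],
  [],
  [2,23,9,22,21,20,9,19,9,15,15,20,21,12,16,18,16],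
  [2,9,21,22,20,20,20,19,17,21,20,20,14,19,14,15],
  [2,23,22,21,20,23,18,22,17,17,19,16,12,16,14,15],
  [2,23,9,23,9,21,18,19,20,23,16,17,22,17,16,12,14,16,17],
  [],
  [],
  [],
  [],
  [],
  [],
  [],
  [],
  [],
  [0,23,21,22,19,20,18,17,16,21,16,14,12,16,13,17],
  [],
  [1,22,22,22,9,19,20,23,19,15,16,22,13,13,14,15],
  [],
  [],
  [],
  [],
  [],
  [],
  [],
  [],
  [],
  [],
  [],
  [],
  [],
  [],
  [],
  [],
  [],
  [],
  [],
  [],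
  [],
  [],
  [],
  [],
  [2,23,23,23,22,9,23,20,9,21,16,17,18,14,19,15,16,18],
  [2,21,22,22,21,19,9,19,20,9,15,20,16,21,13,19,17,12],
  [2,23,23,23,22,22,19,17,18,22,17,17,12,12,16,17,16],
  [2,22,23,22,19,19,9,23,20,16,19,17,18,14,13,12,17],
  [],
  [],
  [],
  [],
  [],
  [],
  [],
  [],
  [],
  [2,22,9,21,23,21,19,22,21,15,15,15,17,13,17,18,13],
  [],
  [2,23,23,22,21,22,19,20,19,15,22,12,17,15,15,14],
  [],
  [],
  [],
  [],
  [],
  [],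
  [],
  [],
  [1,9,23,23,21,23,23,21,20,9,23,23,17,21,22,16,13,19],
  [],
  [0,9,23,23,22,19,23,23,19,22,15,17,19,13,12,13,19,17],
  [],
  [],
  [],
  [],
  [],
  [],
  [],
  [],
  [],
  [2,23,21,19,20,20,16,17,18,19,14,17,15,19],
  [2,23,9,21,22,19,22,22,15,17,16,19,16,13,12,12,16],
  [2,21,23,23,22,9,23,21,19,19,9,17,16,20,12,18,17,18,15],
  [2,23,21,23,21,23,19,9,20,15,18,18,21,13,15,12,19],
  [],
  [],
  [],
  [],
  [],
  [],
  [],
  [],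
  [],
  [],
  [],
  [],
  [],
  [],
  [],
  [],
  [],
  [],
  [],
  [],
  [2,9,23,22,20,23,20,9,17,17,18,22,22,12,18,19,19],
  [],
  [2,23,21,22,23,21,23,18,9,22,15,19,15,22,12,12,19],
  [],
  [2,21,22,9,19,9,18,18,17,18,18,16,17,12,18,17,12],
  [],
  [2,23,23,22,21,18,21,19,19,15,19,16,16,14,15,19,16,16],
  [],
  [],
  [],
  [],
  [],
  [],
  [2,9,23,23,22,21,23,17,18,17,20,14,15,19,19,17],
  [],
  [2,23,23,23,19,18,20,19,15,16,19,21,12,19,14,19,12],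
  [],
  [],
  [],
  [],
  [],
  [],
  [],
  [],
  [],
  [],
  [],
  [],
  [2,9,22,9,21,23,9,20,20,17,12,19,16,15,16],
  [],
  [2,23,9,23,23,9,20,19,9,21,20,16,19,21,14,18],
  [],
  [],
  [],
  [],
  [],
  [],
  [],
  [],
  [],
  [],
  [],
  [],
  [],
  [],
  [],
  [],
  [],
  [],
  [],
  [],
  [],
  [],
  [],
  [],
  [],
  [],
  [],
  [],
  [],
  [],
  [],
  [],
  [],
  [],
  [2,22,22,9,23,21,22,19,18,21,16,18,15,12,17,15,19,17],
  [],
  [2,23,9,19,20,18,22,18,16,16,18,19,12,15,14,18,13],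
  [],
  [],
  [],
  [],
  [],
  [],
  [],
  [],
  [],
  [],
  [],
  [],
  [],
  [],
  [],
  [],
  [],
  [],
  [],
  [],
  [],
  [],
  [],
  [],
  [],
  [],
  [],
  [],
  [2,22,21,22,21,18,21,18,21,16,22,15,20,20,12,16,12,13],
  [2,9,23,9,23,18,22,18,23,15,16,22,13,15,16,14,12],
  [2,22,21,22,20,22,19,18,15,18,15,12,13,16,15,17],
  [2,23,23,9,21,18,18,21,17,19,15,22,12,17,14,15,12],
  [],
  [],
  [],
  [],
  [],
  [],
  [],
  [],
  [],
  [2,9,21,23,9,21,18,23,18,15,21,22,17,14,14,17,18,15],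
  [],
  [2,23,9,23,21,19,20,20,21,20,17,19,17,15,14,13,19,16],
  [],
  [],
  [],
  [],
  [],
  [],
  [],
  []] = true := by decide +kernel
theorem clT_2 : allZ (clsB 5120 LS [1,11,9,2,0] mT MT) (mapApp [41] (prods [AT1, AT2, AT3, AT4]) []) [[2,22,23,23,21,22,23,17,15,15,16,12,17,14,12,14],
  [],
  [0,21,23,9,22,20,21,18,22,15,16,15,15,14,17,16,15],
  [],
  [],
  [2,21,22,9,20,18,9,20,21,16,15,15,22,20,14,13,19],
  [],
  [0,23,22,23,22,21,19,22,21,17,21,22,22,16,12,13,13,18],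
  [],
  [],
  [],
  [],
  [],
  [],
  [],
  [],
  [],
  [],
  [],
  [],
  [],
  [],
  [],
  [],
  [],
  [],
  [],
  [],
  [],
  [],
  [],
  [],
  [],
  [],
  [],
  [],
  [],
  [],
  [],
  [],
  [],
  [],
  [],
  [],
  [],
  [],
  [],
  [],
  [],
  [],
  [],
  [],
  [],
  [],
  [],
  [],
  [0,22,23,9,23,18,21,19,18,15,20,16,13,15,19,14],
  [],
  [2,21,23,23,9,22,18,23,16,17,17,17,13,16,12,12],
  [],
  [],
  [2,9,23,21,23,9,22,22,19,19,23,22,20,17,21,17,18,13,16],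
  [],
  [0,23,23,9,22,9,19,19,9,18,18,17,22,18,20,13,15,17],
  [2,23,22,23,19,18,22,20,17,22,15,12,19,17,17,16],
  [],
  [1,23,20,18,19,19,21,17,22,18,16,20,12,18,12,14,18],
  [],
  [],
  [1,23,22,9,21,18,9,18,23,17,16,20,19,13,15,13,18],
  [],
  [2,9,23,23,9,23,18,19,20,19,15,15,19,14,12,18,17],
  [],
  [],
  [],
  [],
  [],
  [],
  [],
  [],
  [],
  [],
  [],
  [],
  [],
  [],
  [],
  [],
  [],
  [],
  [],
  [],
  [],
  [],
  [],
  [],
  [],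
  [],
  [],
  [],
  [],
  [],
  [],
  [],
  [],
  [],
  [],
  [],
  [],
  [],
  [],
  [],
  [],
  [],
  [],
  [],
  [],
  [],
  [],
  [],
  [1,9,22,22,19,19,20,9,17,19,22,17,20,13,12,19,18],
  [],
  [2,22,9,23,19,22,20,23,15,18,16,19,18,12,16,16,13],
  [],
  [],
  [1,9,23,21,19,22,19,18,22,15,15,19,17,12,14,12,19,14],
  [],
  [2,9,21,22,22,23,20,19,22,21,17,19,18,16,15,13,18,12],
  [],
  [],
  [],
  [],
  [],
  [],
  [],
  [],
  [],
  [],
  [],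
  [],
  [],
  [],
  [],
  [],
  [2,23,9,23,19,19,9,21,19,17,22,22,19,18,13,16,13,12],
  [],
  [0,9,22,23,9,22,18,23,21,15,15,22,20,13,19,16,14,15],
  [],
  [],
  [],
  [],
  [],
  [],
  [],
  [],
  [],
  [],
  [2,9,23,21,20,22,19,20,17,22,15,17,14,15,15,18],
  [],
  [0,21,23,9,22,18,19,9,22,16,15,17,17,12,18,17],
  [2,23,23,9,23,18,9,20,9,17,19,18,21,20,13,17,12,19],
  [],
  [0,21,22,22,23,23,18,22,15,22,15,19,12,16,14,15,15],
  [],
  [],
  [],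
  [],
  [],
  [],
  [],
  [],
  [],
  [],
  [0,23,23,9,22,22,18,21,19,15,19,21,14,14,15,12,14],
  [],
  [2,23,23,21,22,20,22,23,20,9,16,21,17,18,14,14,17,19],
  [],
  [],
  [],
  [],
  [],
  [],
  [],
  [],
  [],
  [],
  [],
  [],
  [],
  [],
  [],
  [],
  [],
  [],
  [],
  [],
  [],
  [],
  [],
  [],
  [],
  [],
  [],
  [],
  [],
  [],
  [],
  [],
  [],
  [],
  [],
  [],
  [],
  [],
  [],
  [],
  [],
  [],
  [],
  [],
  [],
  [],
  [],
  [],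
  [],
  [],
  [],
  [],
  [],
  [],
  [],
  [],
  [],
  [],
  [],
  [],
  [],
  [],
  [],
  [],
  [],
  [],
  [],
  [],
  [],
  [],
  [],
  [],
  [],
  [],
  [],
  [],
  [],
  [],
  [],
  [],
  [],
  [],
  [],
  [],
  [],
  [],
  [],
  [],
  [],
  [],
  [],
  [],
  [],
  [],
  [],
  [],
  [],
  [],
  [],
  [],
  [],
  [],
  [],
  [],
  [],
  [],
  [],
  [],
  [],
  [],
  [],
  [],
  [],
  [],
  [],
  [],
  [],
  [],
  [],
  [],
  [],
  [],
  [],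
  [],
  [],
  [],
  [],
  [],
  [],
  [],
  [],
  [],
  [],
  [],
  [],
  [],
  [],
  [],
  [],
  [],
  [],
  [],
  [],
  [],
  [],
  [],
  [],
  [],
  [],
  [],
  [],
  [],
  [],
  [],
  [],
  [],
  [],
  [],
  [],
  [],
  [],
  [],
  [],
  [],
  [],
  [],
  [],
  [],
  [],
  [],
  [],
  [],
  [],
  [],
  [],
  [],
  [],
  [],
  [],
  [],
  [],
  [],
  [],
  [],
  [],
  [],
  [],
  [],
  [],
  [],
  [],
  [],
  [],
  [],
  [],
  [],
  [],
  [],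
  [],
  [],
  [],
  [],
  [],
  [],
  [],
  [],
  [],
  [],
  [],
  [],
  [],
  [],
  [],
  [],
  [],
  [],
  [],
  [],
  [],
  [],
  [],
  [],
  [],
  [],
  [],
  [],
  [],
  [],
  [],
  [],
  [],
  [],
  [],
  [],
  [],
  [],
  [],
  [],
  [],
  [],
  [],
  [],
  [],
  [],
  [],
  [],
  [],
  [],
  [],
  [],
  [],
  [],
  [],
  [],
  [],
  [],
  [],
  [],
  [],
  [],
  [],
  [],
  [],
  [],
  [],
  [],
  [],
  [],
  [],
  [],
  [],
  [],
  [],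
  [2,23,21,19,9,18,18,20,16,16,15,17,21,14,15,15,16],
  [],
  [1,21,19,18,18,17,15,20,16,14,12,13,14,13],
  [1,22,22,19,22,20,22,15,16,18,12,16,12,16,14],
  [],
  [2,9,23,19,20,23,23,21,16,16,21,17,17,13,12,19,12],
  [],
  [],
  [],
  [],
  [],
  [],
  [],
  [],
  [],
  [],
  [],
  [],
  [],
  [],
  [],
  [],
  [],
  [],
  [],
  [],
  [],
  [],
  [],
  [],
  [],
  [],
  [],
  [],
  [],
  [],
  [],
  [],
  [],
  [],
  [],
  [],
  [],
  [],
  [],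
  [],
  [],
  [],
  [],
  [],
  [],
  [],
  [],
  [],
  [],
  [],
  [1,9,23,21,23,21,22,21,17,22,15,21,12,12,19,16,15],
  [],
  [2,23,21,22,21,23,23,20,21,22,15,18,22,21,12,19,15,16],
  [1,23,23,23,21,22,22,23,20,19,18,16,15,12,16,13,19],
  [],
  [2,9,22,23,21,19,23,18,21,16,19,16,18,15,13,15,14],
  [],
  [],
  [],
  [],
  [],
  [],
  [],
  [],
  [],
  [],
  [],
  [],
  [],
  [],
  [],
  [],
  [],
  [],
  [],
  [],
  [],
  [],
  [],
  [],
  [],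
  [],
  [],
  [],
  [],
  [],
  [],
  [],
  [],
  [],
  [],
  [],
  [],
  [],
  [],
  [],
  [],
  [],
  [],
  [],
  [],
  [],
  [],
  [],
  [],
  [],
  [],
  [],
  [],
  [],
  [],
  [],
  [],
  [],
  [],
  [],
  [],
  [],
  [],
  [],
  [],
  [],
  [],
  [],
  [],
  [],
  [],
  [],
  [],
  [],
  [],
  [],
  [],
  [],
  [],
  [],
  [],
  [],
  [],
  [],
  [],
  [],
  [],
  [],
  [],
  [],
  [],
  [],
  [],
  [],
  [],
  [],
  [],
  [],
  [],
  [],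
  [],
  [],
  [],
  [],
  [],
  [],
  [],
  [],
  [],
  [],
  [],
  [],
  [],
  [],
  [],
  [],
  [],
  [],
  [],
  [],
  [],
  [],
  [],
  [],
  [],
  [],
  [],
  [],
  [],
  [],
  [],
  [],
  [],
  [],
  [],
  [],
  [],
  [],
  [],
  [],
  [],
  [],
  [],
  [],
  [],
  [],
  [2,9,23,21,23,21,22,23,22,20,16,16,19,14,18,19],
  [],
  [0,23,21,22,9,23,19,23,19,22,15,18,20,12,18,15,19],
  [],
  [],
  [],
  [],
  [],
  [],
  [],
  [],
  [2,9,22,21,22,18,20,20,9,16,18,20,18,15,14,17,14,13],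
  [],
  [0,9,23,23,21,20,18,20,19,17,15,19,19,14,19,12],
  [],
  [],
  [0,9,21,23,19,9,21,18,15,19,15,16,19,14,17,13,13,18],
  [],
  [2,23,9,19,19,23,9,20,17,22,15,19,14,19,19,18],
  [],
  [],
  [],
  [],
  [],
  [],
  [],
  [],
  [2,23,23,9,21,20,18,9,17,15,15,17,12,12,12,16,14],
  [],
  [0,23,23,23,21,19,22,23,16,21,20,16,13,17,19],
  [],
  [],
  [],
  [],
  [],
  [],
  [],
  [],
  [],
  [],
  [],
  [],
  [],
  [],
  [],
  [],
  [],
  [],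
  [],
  [],
  [],
  [],
  [],
  [],
  [],
  [],
  [],
  [],
  [],
  [],
  [],
  [],
  [],
  [],
  [2,9,23,21,19,22,9,19,17,21,19,17,12,15,16,14,14],
  [],
  [1,22,21,22,23,22,9,20,20,18,15,20,16,21,14,14,15,13],
  [],
  [],
  [],
  [],
  [],
  [],
  [],
  [],
  [2,21,22,22,23,23,19,20,9,18,22,16,16,14,18,15,14,13],
  [],
  [1,9,21,22,23,19,9,22,9,17,18,12,14,12,19],
  [],
  [],
  [1,22,19,22,19,23,9,17,16,15,19,18,13,17,12,19],
  [],
  [2,21,18,18,18,17,17,17,17,21,13,13,18,13],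
  [],
  [],
  [],
  [],
  [],
  [],
  [],
  [],
  [2,21,23,23,9,21,19,19,21,16,15,19,18,12,16,15,12,17],
  [],
  [1,9,23,22,21,20,21,18,20,16,15,12,18,14,12,17],
  [],
  [],
  [],
  [],
  [],
  [],
  [],
  [],
  [],
  [],
  [],
  [],
  [],
  [],
  [],
  [],
  [],
  [],
  [],
  [],
  [],
  [],
  [],
  [],
  [],
  [],
  [],
  [],
  [],
  [],
  [],
  [],
  [],
  [],
  [],
  [],
  [],
  [],
  [],
  [],
  [],
  [],
  [],
  [],
  [],
  [],
  [],
  [],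
  [],
  [],
  [],
  [],
  [],
  [],
  [],
  [],
  [],
  [],
  [],
  [],
  [],
  [],
  [],
  [],
  [],
  [],
  [],
  [],
  [],
  [],
  [],
  [],
  [],
  [],
  [],
  [],
  [],
  [],
  [],
  [],
  [],
  [],
  [],
  [],
  [],
  [],
  [],
  [],
  [],
  [],
  [],
  [],
  [],
  [],
  [],
  [],
  [],
  [],
  [],
  [],
  [],
  [],
  [],
  [],
  [],
  [],
  [],
  [],
  [],
  [],
  [],
  [],
  [],
  [],
  [],
  [],
  [],
  [],
  [],
  [],
  [],
  [],
  [],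
  [],
  [],
  [],
  [],
  [],
  [],
  [],
  [],
  [],
  [],
  [],
  [],
  [],
  [],
  [],
  [],
  [],
  [],
  [],
  [],
  [],
  [],
  [],
  [0,23,21,20,9,19,23,20,16,16,21,18,22,13,12,14],
  [],
  [2,23,23,21,22,23,21,19,22,23,18,16,19,14,13,19,19],
  [0,23,23,22,23,21,20,19,19,22,18,15,21,19,13,17,14,15],
  [],
  [2,19,20,22,22,19,16,16,18,19,18,12,19,13,16,12],
  [],
  [],
  [],
  [],
  [],
  [],
  [],
  [],
  [],
  [],
  [],
  [],
  [],
  [],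
  [],
  [],
  [],
  [],
  [],
  [],
  [],
  [],
  [],
  [],
  [],
  [],
  [],
  [],
  [],
  [],
  [],
  [],
  [],
  [],
  [],
  [],
  [],
  [],
  [],
  [],
  [],
  [],
  [],
  [],
  [],
  [],
  [],
  [],
  [],
  [],
  [0,23,23,22,23,9,19,21,17,21,19,16,12,14],
  [],
  [2,23,21,22,9,23,18,19,23,23,16,17,17,14,12,14,16],
  [2,22,9,23,21,18,22,19,18,17,15,19,17,14,14,13,18],
  [],
  [0,23,22,9,21,19,19,19,18,16,20,21,14,18,19,13],
  [],
  [],
  [],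
  [],
  [],
  [],
  [],
  [],
  [],
  [],
  [],
  [],
  [],
  [],
  [],
  [],
  [],
  [2,23,18,23,9,19,17,17,15,20,22,12,15,12,12,19],
  [],
  [1,22,23,23,20,19,21,20,17,18,17,21,17,14,16,16],
  [],
  [],
  [],
  [],
  [],
  [],
  [],
  [],
  [],
  [],
  [2,23,9,21,19,16,16,21,21,18,13,12,19,12,16],
  [],
  [1,23,23,22,22,21,20,23,20,22,16,17,20,17,12,16,16,18],
  [1,9,22,23,19,23,23,18,17,19,18,13,16,12,17,19],
  [],
  [2,9,22,22,18,20,20,22,15,16,20,21,12,12,18,17,13],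
  [],
  [],
  [],
  [],
  [],
  [],
  [],
  [],
  [],
  [],
  [2,21,23,22,20,23,19,18,18,16,16,14,19,12,13,15],
  [],
  [1,22,21,23,21,23,23,19,20,19,17,20,19,17,13,16,16,19],
  [],
  [],
  [],
  [],
  [],
  [],
  [],
  [],
  [],
  [],
  [],
  [],
  [],
  [],
  [],
  [],
  [2,22,23,22,20,19,19,17,16,22,19,17,12,16,13,13,15],
  [],
  [0,9,23,22,23,9,23,18,17,16,16,15,17,12,12,17,15,17],
  [],
  [],
  [],
  [],
  [],
  [],
  [],
  [],
  [],
  [],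
  [],
  [],
  [],
  [],
  [],
  [],
  [],
  [],
  [],
  [],
  [],
  [],
  [],
  [],
  [],
  [],
  [],
  [],
  [],
  [],
  [],
  [],
  [],
  [],
  [],
  [],
  [],
  [],
  [],
  [],
  [],
  [],
  [],
  [],
  [],
  [],
  [],
  [],
  [],
  [],
  [],
  [],
  [],
  [0,23,9,22,22,19,19,23,19,16,21,18,20,12,12,13,18,14],
  [],
  [2,23,22,22,9,23,20,23,21,22,15,20,19,21,14,15],
  [],
  [],
  [],
  [],
  [],
  [2,21,23,22,20,18,20,18,17,17,22,21,18,13,13,15,14,18],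
  [],
  [1,23,23,22,23,22,21,19,17,21,18,12,14,19,15,17],
  [],
  [],
  [],
  [],
  [],
  [],
  [],
  [],
  [],
  [],
  [],
  [],
  [],
  [],
  [],
  [],
  [],
  [],
  [],
  [],
  [],
  [],
  [],
  [],
  [],
  [],
  [],
  [],
  [],
  [],
  [],
  [],
  [],
  [],
  [],
  [],
  [],
  [],
  [],
  [],
  [],
  [],
  [],
  [],
  [],
  [],
  [],
  [],
  [],
  [],
  [],
  [],
  [],
  [1,21,19,20,9,23,18,17,16,19,19,16,13,16,15,12],
  [],
  [2,23,9,23,9,22,19,9,19,17,19,18,21,13,18,19,14,12],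
  [],
  [],
  [],
  [],
  [],
  [],
  [],
  [],
  [],
  [],
  [],
  [],
  [],
  [],
  [],
  [],
  [],
  [],
  [],
  [],
  [],
  [],
  [],
  [],
  [],
  [],
  [],
  [],
  [],
  [],
  [],
  [],
  [],
  [],
  [0,9,21,23,19,18,20,19,19,17,16,19,19,20,12,13,19],
  [],
  [2,23,23,9,22,21,19,9,19,23,15,15,18,13,13,15,13],
  [],
  [],
  [],
  [],
  [],
  [],
  [],
  [],
  [],
  [],
  [],
  [],
  [],
  [2,23,23,21,23,23,20,9,19,20,17,15,16,19,20,13,13],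
  [],
  [0,23,9,21,23,20,19,23,18,15,16,19,12,18,16,13,12],
  [],
  [],
  [],
  [],
  [],
  [],
  [],
  [],
  [],
  [],
  [],
  [],
  [],
  [],
  [],
  [],
  [],
  [],
  [],
  [],
  [],
  [],
  [],
  [],
  [],
  [],
  [],
  [],
  [],
  [],
  [],
  [],
  [],
  [0,9,22,22,20,21,22,18,16,18,17,20,21,13,18,14,13,19],
  [],
  [2,22,22,9,23,23,18,21,19,18,17,21,16,15,12,14,15,12],
  [],
  [],
  [],
  [],
  [],
  [],
  [],
  [],
  [],
  [],
  [],
  [],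
  [],
  [2,9,23,23,19,22,23,20,23,17,15,17,20,16,14,15,17,17],
  [],
  [0,23,22,22,18,23,21,15,22,22,21,13,14,18,15,14],
  [],
  [],
  [],
  [],
  [],
  [],
  [],
  [],
  [],
  [],
  [],
  [],
  [],
  [],
  [],
  [],
  [],
  [],
  [],
  [],
  [],
  [],
  [],
  [],
  [],
  [],
  [],
  [],
  [],
  [],
  [],
  [],
  [],
  [],
  [],
  [],
  [],
  [],
  [],
  [],
  [],
  [],
  [],
  [],
  [],
  [],
  [],
  [],
  [],
  [],
  [],
  [],
  [],
  [],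
  [],
  [],
  [0,23,21,23,19,9,22,23,21,16,20,18,19,13,15,15,17,12],
  [],
  [2,19,19,19,21,22,17,16,20,17,16,12,19,12,17,13],
  [],
  [],
  [],
  [],
  [],
  [],
  [],
  [],
  [],
  [],
  [],
  [],
  [],
  [0,23,23,22,23,9,23,23,20,22,19,22,17,16,15,18,12],
  [],
  [2,9,23,9,20,9,23,22,16,15,21,15,17,14,16,19,15,12],
  [],
  [],
  [],
  [],
  [],
  [],
  [],
  [],
  [],
  [],
  [],
  [],
  [],
  [],
  [],
  [],
  [],
  [],
  [],
  [],
  [],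
  [],
  [],
  [],
  [],
  [],
  [],
  [],
  [],
  [],
  [],
  [],
  [],
  [],
  [2,9,22,22,19,21,22,20,15,21,17,21,13,12,12],
  [],
  [1,23,22,21,23,22,19,20,19,19,21,17,19,18,13,17,17],
  [],
  [],
  [],
  [],
  [],
  [],
  [],
  [],
  [],
  [],
  [],
  [],
  [],
  [1,21,23,23,9,22,21,19,19,20,20,19,17,22,21,12,12,16],
  [],
  [2,21,23,9,21,22,9,19,22,18,21,16,16,15,12,13,12],
  [],
  [],
  [],
  [],
  [],
  [],
  [],
  [],
  [],
  [],
  [],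
  [],
  [],
  [],
  [],
  [],
  [],
  [],
  [],
  [],
  [],
  [],
  [],
  [],
  [],
  [],
  [],
  [],
  [],
  [],
  [],
  [],
  [],
  [],
  [],
  [],
  [],
  [],
  [],
  [],
  [],
  [],
  [],
  [],
  [],
  [],
  [],
  [],
  [],
  [],
  [],
  [],
  [],
  [],
  [],
  [],
  [1,22,23,23,22,23,19,22,9,20,21,17,19,21,12,12,18,19,17],
  [],
  [2,23,23,21,22,23,19,22,20,23,17,17,20,17,12,18,13],
  [],
  [],
  [],
  [],
  [],
  [],
  [],
  [],
  [],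
  [],
  [],
  [],
  [],
  [1,22,23,21,22,20,20,19,20,17,15,16,22,15,13,13,17,16],
  [],
  [2,22,21,23,9,19,20,19,21,23,17,19,20,19,12,18,12],
  [],
  [],
  [],
  [],
  [],
  [],
  [],
  [],
  [],
  [],
  [],
  [],
  [],
  [],
  [],
  [],
  [],
  [],
  [],
  [],
  [],
  [2,21,22,23,22,9,23,18,18,18,21,16,14,19,15,13,15],
  [],
  [1,22,22,22,23,19,20,20,21,16,20,15,21,13,12,16,15,13],
  [],
  [],
  [],
  [],
  [],
  [],
  [],
  [],
  [],
  [],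
  [],
  [],
  [],
  [],
  [],
  [],
  [],
  [],
  [],
  [],
  [],
  [],
  [],
  [],
  [],
  [],
  [],
  [],
  [],
  [],
  [],
  [],
  [],
  [],
  [],
  [],
  [],
  [],
  [],
  [],
  [],
  [],
  [],
  [],
  [],
  [],
  [],
  [],
  [],
  [],
  [],
  [],
  [],
  [2,21,23,23,21,23,18,18,21,17,20,20,17,12,16,16,16,15],
  [],
  [1,23,21,23,9,21,22,20,22,23,20,17,22,12,18,16,19,17],
  [],
  [],
  [],
  [],
  [],
  [0,23,9,21,23,21,19,22,18,19,18,17,22,17,18,13,15,19],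
  [],
  [2,23,21,22,22,23,23,20,21,22,21,17,21,22,15,19,14,13],
  [],
  [],
  [],
  [],
  [],
  [],
  [],
  [],
  [],
  [],
  [],
  [],
  [],
  [],
  [],
  [],
  [],
  [],
  [],
  [],
  [],
  [],
  [],
  [],
  [],
  [],
  [],
  [],
  [],
  [],
  [],
  [],
  [],
  [],
  [],
  [],
  [],
  [],
  [],
  [],
  [],
  [],
  [],
  [],
  [],
  [],
  [],
  [],
  [],
  [],
  [],
  [],
  [],
  [2,22,21,23,22,19,9,19,22,9,15,18,19,16,14,13,18],
  [],
  [0,22,9,22,23,21,18,21,18,16,18,18,12,13,15,16,17],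
  [],
  [],
  [0,9,23,23,9,22,22,23,19,18,16,16,22,17,14,12,17,18],
  [],
  [2,9,22,9,21,18,9,22,23,17,16,20,14,15,16],
  [],
  [],
  [],
  [],
  [],
  [],
  [],
  [],
  [],
  [],
  [],
  [],
  [],
  [],
  [],
  [],
  [],
  [],
  [],
  [],
  [],
  [],
  [],
  [],
  [],
  [],
  [],
  [],
  [],
  [],
  [],
  [],
  [],
  [],
  [],
  [],
  [],
  [],
  [],
  [],
  [],
  [],
  [],
  [],
  [],
  [],
  [],
  [],
  [],
  [],
  [],
  [],
  [],
  [0,9,23,9,18,22,18,23,17,20,18,20,12,18,17,17,15],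
  [],
  [2,22,20,19,23,18,16,16,22,20,12,15,14,18],
  [],
  [],
  [],
  [],
  [],
  [],
  [],
  [],
  [],
  [2,22,23,23,22,23,18,18,9,16,18,18,17,13,15,12,15],
  [],
  [0,22,21,23,20,22,22,9,17,17,22,15,18,13,12,18,17,15],
  [],
  [],
  [],
  [],
  [],
  [],
  [],
  [],
  [],
  [],
  [],
  [],
  [],
  [],
  [],
  [],
  [],
  [],
  [],
  [],
  [],
  [],
  [],
  [],
  [],
  [],
  [],
  [],
  [],
  [],
  [],
  [],
  [],
  [],
  [],
  [],
  [],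
  [],
  [],
  [],
  [],
  [],
  [],
  [],
  [],
  [],
  [],
  [],
  [],
  [],
  [],
  [],
  [],
  [2,23,21,23,21,22,9,20,9,18,16,17,18,17,14,13,14,15],
  [],
  [0,23,22,9,23,9,19,23,17,15,17,16,12,12,18,17,13],
  [],
  [],
  [],
  [],
  [],
  [2,9,22,22,23,21,18,18,21,18,23,16,17,17,15,15,14,13,13],
  [],
  [1,9,21,23,9,18,9,21,20,16,19,21,20,17,12,12,18],
  [],
  [],
  [],
  [],
  [],
  [],
  [],
  [],
  [],
  [],
  [],
  [],
  [],
  [],
  [],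
  [],
  [],
  [],
  [],
  [],
  [],
  [],
  [],
  [],
  [],
  [],
  [],
  [],
  [],
  [],
  [],
  [],
  [],
  [],
  [],
  [],
  [],
  [],
  [],
  [],
  [],
  [],
  [],
  [],
  [],
  [],
  [],
  [],
  [],
  [],
  [],
  [],
  [],
  [2,22,9,22,21,18,22,22,15,17,19,12,19,15],
  [],
  [1,22,9,22,23,19,19,18,19,17,17,20,22,14,14,16,15],
  [],
  [],
  [],
  [],
  [],
  [],
  [],
  [],
  [],
  [],
  [],
  [],
  [],
  [],
  [],
  [],
  [],
  [],
  [],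
  [],
  [],
  [],
  [],
  [],
  [],
  [],
  [],
  [],
  [],
  [1,19,22,23,9,17,15,22,21,15,12,18,17,12,19,16],
  [],
  [2,9,22,9,23,18,19,18,21,17,17,16,22,18,14,16,19,15],
  [],
  [],
  [],
  [],
  [],
  [],
  [],
  [],
  [],
  [],
  [],
  [],
  [],
  [1,22,22,19,22,23,19,18,17,17,21,22,19,12,13,19,15],
  [],
  [2,23,22,23,22,21,19,20,9,23,16,17,15,17,14,18,12],
  [],
  [],
  [],
  [],
  [],
  [],
  [],
  [],
  [],
  [],
  [],
  [],
  [],
  [],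
  [],
  [],
  [],
  [],
  [],
  [],
  [],
  [],
  [],
  [],
  [],
  [],
  [],
  [],
  [],
  [],
  [],
  [],
  [1,23,9,23,21,20,22,19,17,20,20,21,20,14,14,18],
  [],
  [2,18,21,19,18,22,17,22,21,18,15,14,12,12,14,18],
  [],
  [],
  [],
  [],
  [],
  [],
  [],
  [],
  [],
  [],
  [],
  [],
  [],
  [2,23,22,23,23,21,20,19,22,18,19,17,18,15,16,12],
  [],
  [1,9,23,21,22,21,19,19,18,16,18,19,18,13,14,13,14],
  [],
  [],
  [],
  [],
  [],
  [],
  [],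
  [],
  [],
  [],
  [],
  [],
  [],
  [],
  [],
  [],
  [],
  [],
  [],
  [],
  [],
  [],
  [],
  [],
  [],
  [],
  [],
  [],
  [],
  [],
  [],
  [],
  [],
  [],
  [],
  [],
  [],
  [],
  [],
  [],
  [],
  [],
  [],
  [],
  [],
  [0,9,22,21,23,18,23,19,18,16,19,17,22,13,17,17,14],
  [],
  [2,23,22,9,19,20,22,21,17,16,17,21,14,16,19,14],
  [],
  [],
  [],
  [],
  [],
  [],
  [],
  [],
  [],
  [],
  [],
  [],
  [],
  [0,22,22,23,21,20,19,23,20,17,18,17,17,15,13,12,14,15,12],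
  [],
  [2,9,23,23,23,19,19,21,22,20,15,22,15,14,19,12,17],
  [],
  [],
  [],
  [],
  [],
  [],
  [],
  [],
  [],
  [],
  [],
  [],
  [],
  [],
  [],
  [],
  [],
  [],
  [],
  [],
  [],
  [],
  [],
  [],
  [],
  [],
  [],
  [],
  [],
  [],
  [1,22,22,22,21,20,19,19,23,17,16,17,21,17,12,15,17],
  [],
  [2,19,21,22,22,17,20,19,20,19,14,15,19,14],
  [],
  [],
  [],
  [],
  [],
  [],
  [],
  [],
  [],
  [],
  [],
  [],
  [],
  [],
  [],
  [],
  [],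
  [],
  [],
  [],
  [],
  [],
  [],
  [],
  [],
  [],
  [],
  [],
  [],
  [],
  [],
  [],
  [],
  [],
  [],
  [],
  [],
  [],
  [],
  [],
  [],
  [],
  [],
  [],
  [],
  [],
  [],
  [],
  [],
  [],
  [],
  [],
  [],
  [2,23,9,22,9,22,19,22,23,9,20,17,22,13,14,12,17,19],
  [],
  [1,9,22,23,23,9,23,9,20,9,16,20,20,15,13,18,14,17],
  [],
  [],
  [],
  [],
  [2,9,21,20,18,19,9,21,17,16,18,15,21,12,12,16,18,14],
  [],
  [2,23,23,22,9,22,9,23,18,18,23,17,20,20,17,22,13,15],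
  [],
  [],
  [2,21,22,18,22,20,16,17,17,21,16,12,18,18,19],
  [],
  [2,22,22,23,18,22,20,16,15,15,17,12,19,18,17,13],
  [],
  [],
  [],
  [],
  [2,23,23,9,21,20,18,18,9,23,15,15,18,16,12,14,18,12,17],
  [],
  [2,21,22,23,19,18,17,16,21,20,20,14,18,12,12],
  [],
  [],
  [],
  [],
  [],
  [],
  [],
  [],
  [],
  [],
  [2,18,19,20,9,15,16,16,15,12,13,16,15],
  [],
  [2,22,19,20,21,20,16,17,18,15,12,12,12,18,13],
  [],
  [],
  [],
  [],
  [],
  [],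
  [],
  [],
  [2,9,23,23,20,9,18,19,19,16,18,20,18,15,13,19,16,15,19],
  [],
  [2,9,22,20,18,23,22,15,20,17,15,14,12,12,12,18],
  [],
  [],
  [],
  [],
  [],
  [],
  [],
  [],
  [],
  [],
  [2,22,19,19,18,9,22,17,17,17,16,16,12,12,12,16,18],
  [],
  [2,9,23,23,23,21,19,23,18,22,16,15,13,15,13,16,19],
  [],
  [],
  [],
  [],
  [2,21,22,23,22,19,9,22,19,20,16,15,15,20,12,14,12],
  [],
  [2,23,23,9,22,18,9,16,16,18,16,13,19,16,12],
  [],
  [],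
  [2,23,9,23,23,23,20,19,18,22,16,20,20,13,14,14,14],
  [],
  [2,21,23,22,9,21,18,15,21,18,20,12,12,12,17,12],
  [2,9,23,23,21,23,22,20,18,21,22,17,16,17,13,16,18,14],
  [],
  [2,22,21,23,21,19,18,18,23,20,17,17,18,18,21,13,16,17,18],
  [],
  [],
  [1,21,23,22,19,22,20,23,20,17,21,21,20,12,18],
  [],
  [0,23,23,22,9,23,22,19,9,17,21,15,18,12,19,13,12,18],
  [],
  [],
  [],
  [],
  [],
  [],
  [],
  [],
  [],
  [],
  [],
  [],
  [],
  [],
  [],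
  [],
  [],
  [],
  [],
  [],
  [],
  [],
  [],
  [],
  [],
  [],
  [],
  [],
  [],
  [],
  [],
  [],
  [],
  [],
  [],
  [],
  [],
  [],
  [],
  [],
  [],
  [],
  [],
  [],
  [],
  [],
  [],
  [],
  [2,22,23,9,21,19,22,20,15,22,15,14,14,15,17,19],
  [],
  [2,23,9,21,19,20,9,23,17,21,18,17,13,19,13,17],
  [],
  [],
  [1,22,9,22,9,19,9,18,21,20,17,18,18,17,12,14,17,12],
  [],
  [0,21,22,23,23,21,20,21,19,19,16,21,18,15,12,15,19,17,13],
  [],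
  [],
  [],
  [],
  [],
  [],
  [],
  [],
  [],
  [],
  [],
  [],
  [],
  [],
  [],
  [],
  [1,23,23,23,21,22,20,18,19,17,19,17,19,17,13,12,18],
  [],
  [0,22,23,23,9,18,20,18,15,22,15,19,13,12,12,14],
  [],
  [],
  [],
  [],
  [],
  [],
  [],
  [],
  [],
  [],
  [2,22,21,23,22,20,19,18,23,17,16,21,12,13,13,14,19],
  [],
  [2,23,23,20,23,19,20,17,21,20,22,22,14,16,12,19,19],
  [1,21,22,23,21,19,20,22,22,15,19,20,15,13,19,13,17],
  [],
  [0,22,23,21,23,20,20,21,19,16,15,17,18,20,14,15],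
  [],
  [],
  [],
  [],
  [],
  [],
  [],
  [],
  [],
  [],
  [2,22,21,19,19,9,22,18,17,22,16,18,12,12,17,18,12],
  [],
  [2,22,23,20,19,9,23,9,17,17,22,21,15,12,16,13,17,15],
  [],
  [],
  [],
  [],
  [],
  [],
  [],
  [],
  [],
  [],
  [],
  [],
  [],
  [],
  [],
  [],
  [],
  [],
  [],
  [],
  [],
  [2,21,22,21,23,23,19,18,15,19,21,21,14,15,12,13,19],
  [],
  [2,9,22,9,21,23,20,9,22,17,22,14,15,18,19,18],
  [],
  [],
  [],
  [],
  [2,23,21,18,9,22,22,16,15,17,12,14,18,16,16],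
  [],
  [2,23,21,22,9,20,9,22,23,16,17,22,21,13,14,12,12,14],
  [],
  [],
  [],
  [],
  [],
  [],
  [],
  [],
  [],
  [],
  [],
  [],
  [],
  [],
  [],
  [],
  [],
  [],
  [],
  [],
  [],
  [2,21,23,22,19,21,19,20,23,16,15,16,12,17,14,17,12],
  [],
  [2,22,21,23,22,19,22,18,23,20,15,19,20,12,13,16,13],
  [],
  [],
  [],
  [],
  [],
  [],
  [],
  [],
  [],
  [],
  [],
  [],
  [],
  [],
  [],
  [],
  [],
  [],
  [],
  [],
  [],
  [],
  [2,23,21,22,20,19,19,22,18,17,15,20,19,21,12,16,14,18],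
  [],
  [2,23,22,21,22,20,22,19,21,17,15,20,17,19,12,15,18,19],
  [],
  [],
  [],
  [],
  [],
  [],
  [],
  [],
  [],
  [],
  [],
  [],
  [],
  [],
  [],
  [],
  [],
  [2,21,23,23,9,21,18,20,22,21,17,21,17,15,14,18,16,19],
  [],
  [2,22,21,19,22,20,21,18,17,17,17,18,13,17,16,14],
  [2,23,23,21,22,19,23,19,20,19,17,21,21,16,13,15,18,16],
  [],
  [2,21,23,21,19,19,18,22,22,15,16,17,16,13,17,18,15],
  [],
  [],
  [],
  [],
  [],
  [],
  [],
  [],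
  [],
  [],
  [2,23,9,23,21,20,21,22,18,17,17,15,12,19,19,19],
  [],
  [2,9,23,22,9,19,20,18,22,21,15,22,16,20,12,12,13,18],
  [],
  [],
  [],
  [],
  [],
  [],
  [],
  [],
  [],
  [],
  [],
  [],
  [],
  [],
  [],
  [],
  [2,9,21,22,9,18,20,18,21,17,18,16,20,18,12,12,12,14,14],
  [],
  [2,23,23,21,22,19,23,19,18,19,15,22,19,16,13,13,15,17],
  [],
  [],
  [],
  [],
  [],
  [],
  [],
  [],
  [],
  [],
  [],
  [],
  [],
  [],
  [2,21,20,21,18,18,17,16,15,15,18,12,12,13,16,13],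
  [],
  [2,23,9,22,22,20,23,18,21,17,18,21,18,19,12,14,14,12],
  [],
  [2,23,22,21,23,18,23,18,22,17,22,21,22,12,15,13,15],
  [],
  [2,21,22,22,23,23,21,18,15,22,17,18,12,18,15,16,12],
  [],
  [],
  [],
  [],
  [],
  [],
  [],
  [],
  [],
  [],
  [],
  [],
  [],
  [],
  [],
  [],
  [],
  [],
  [],
  [],
  [],
  [],
  [],
  [],
  [],
  [],
  [],
  [],
  [],
  [2,22,22,9,23,23,22,22,19,20,23,16,14,18,14,14,15],
  [],
  [2,22,23,23,21,22,23,19,15,21,16,16,12,18,18,14,15],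
  [],
  [],
  [],
  [],
  [],
  [],
  [],
  [],
  [],
  [],
  [],
  [],
  [],
  [],
  [],
  [],
  [],
  [2,9,23,23,9,21,23,9,22,19,21,20,21,16,15,19,13,15],
  [],
  [2,23,23,23,9,20,19,18,20,15,17,22,19,14,19,17,17],
  [],
  [],
  [],
  [],
  [],
  [],
  [],
  [],
  [],
  [],
  [],
  [],
  [2,9,23,23,23,21,20,20,15,17,18,19,21,14,12,13,12,19],
  [],
  [2,21,22,23,23,21,18,18,23,16,17,15,15,12,18,16,12],
  [],
  [],
  [2,21,19,20,21,19,9,16,15,20,19,19,14,14,12,14,12],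
  [],
  [2,9,23,23,21,22,9,19,20,20,20,16,16,18,20,13,17],
  [],
  [],
  [],
  [],
  [],
  [],
  [],
  [],
  [],
  [],
  [],
  [],
  [],
  [2,23,9,22,9,23,19,18,18,18,17,21,21,20,13,15,14,12],
  [],
  [2,9,20,22,23,20,17,16,20,19,18,12,17,19,13],
  [2,9,22,22,22,9,20,22,23,23,17,16,22,19,14,15,17,18,13],
  [],
  [2,9,23,20,21,19,9,15,19,21,21,12,19,18,16,12],
  [],
  [],
  [],
  [],
  [],
  [],
  [],
  [],
  [],
  [],
  [],
  [],
  [],
  [],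
  [],
  [],
  [],
  [],
  [],
  [],
  [],
  [],
  [],
  [],
  [],
  [],
  [2,9,21,22,22,22,23,19,16,19,16,14,18,14,18,18],
  [],
  [2,23,22,9,22,23,19,23,19,23,15,16,18,21,14,12,14],
  [2,23,23,23,21,23,18,22,20,15,18,15,12,19],
  [],
  [2,9,23,21,19,20,19,22,18,17,15,17,22,16,14,17,19,16,12],
  [],
  [2,9,23,23,23,18,9,21,20,17,15,16,22,18,14,17,16],
  [],
  [2,22,22,22,21,20,22,9,18,15,17,22,12,13,16],
  [],
  [],
  [],
  [],
  [],
  [],
  [],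
  [],
  [],
  [],
  [2,21,23,23,22,22,9,20,22,20,9,21,15,16,14,13,17,12],
  [],
  [2,9,21,23,9,19,22,19,18,18,17,15,17,19,16,14,14,18],
  [],
  [],
  [],
  [],
  [],
  [],
  [],
  [],
  [],
  [],
  [],
  [],
  [],
  [],
  [],
  [],
  [2,22,9,22,22,19,19,18,17,18,20,12,12,14,17,16],
  [],
  [2,9,22,23,23,9,19,18,20,21,19,15,15,22,12,19,13,15],
  [],
  [],
  [],
  [],
  [],
  [],
  [],
  [],
  [],
  [],
  [2,9,21,23,19,18,22,20,9,16,18,18,15,22,14,13,12,13],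
  [],
  [2,23,23,21,22,9,18,20,20,22,16,15,21,13,17,15],
  [],
  [2,9,23,22,9,20,19,23,21,15,17,22,15,13,19,13,17],
  [],
  [2,22,22,22,21,18,9,21,23,15,17,20,18,15,12,19,17,17],
  [2,21,23,23,19,19,19,20,19,15,16,16,22,12,14,17,13],
  [],
  [2,23,22,23,21,22,20,23,16,22,18,15,14,18,12,17],
  [],
  [],
  [],
  [],
  [],
  [],
  [],
  [],
  [],
  [2,9,22,19,20,21,20,15,19,16,15,14,17,15,16],
  [],
  [2,21,23,23,21,19,19,22,18,18,15,16,20,16,12,16,19,19],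
  [],
  [],
  [],
  [],
  [],
  [2,22,22,21,18,23,19,18,17,22,16,21,12,18,16,12,17],
  [],
  [2,9,22,20,9,22,22,17,17,15,19,16,14,15,17,18],
  [],
  [],
  [],
  [],
  [],
  [],
  [],
  [],
  [],
  [],
  [],
  [],
  [],
  [2,9,22,22,9,21,23,19,19,15,17,20,18,14,19,18,16,16],
  [],
  [2,23,22,22,22,21,20,19,23,16,22,20,19,12,19,19,19,17],
  [],
  [],
  [],
  [],
  [],
  [2,23,22,22,9,21,20,16,18,15,18,19,13,12,17,17,13],
  [],
  [2,23,9,22,9,22,18,23,16,22,18,16,12,16,12,13,13],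
  [],
  [],
  [],
  [],
  [],
  [],
  [],
  [],
  [],
  [],
  [],
  [],
  [],
  [],
  [],
  [],
  [],
  [],
  [],
  [],
  [],
  [],
  [],
  [],
  [],
  [2,22,23,23,19,9,20,22,17,21,16,15,18,13,17,17,15,18],
  [],
  [2,22,9,23,18,20,18,22,19,16,22,19,22,14,19,17,16,17],
  [],
  [],
  [],
  [],
  [],
  [],
  [],
  [],
  [],
  [],
  [],
  [],
  [],
  [],
  [],
  [],
  [],
  [2,22,22,23,20,19,17,17,17,20,19,14,14,13,18,17],
  [],
  [2,23,22,23,22,21,23,19,20,18,18,20,17,12,12,17,17,14],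
  [],
  [],
  [],
  [],
  [],
  [],
  [],
  [],
  [],
  [],
  [],
  [],
  [],
  [],
  [],
  [],
  [],
  [],
  [],
  [],
  [],
  [2,9,22,22,19,19,9,19,19,15,18,15,15,12,14,18,12],
  [],
  [2,23,23,21,22,19,18,9,18,16,22,17,12,18,17,12,15],
  [],
  [],
  [],
  [],
  [],
  [],
  [],
  [],
  [],
  [2,23,9,22,9,19,23,19,16,15,17,20,12,14,17,15,17],
  [],
  [2,23,23,22,21,22,23,22,21,20,18,22,20,15,20,14,18,19,15],
  [],
  [],
  [],
  [],
  [],
  [],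
  [],
  [],
  [],
  [],
  [2,22,22,9,18,20,22,17,17,16,22,19,13,12,12,12,17],
  [],
  [2,23,22,21,20,22,19,21,23,15,15,16,22,14,19,14],
  [],
  [],
  [],
  [],
  [],
  [2,21,22,22,21,19,22,19,18,17,21,20,16,12,15,19,13,15],
  [],
  [2,22,22,23,21,19,20,20,23,18,17,15,16,21,19,14,16,15],
  [2,9,23,9,22,18,20,20,17,20,15,20,12,18,19,16,13],
  [],
  [2,9,21,23,22,22,20,23,18,22,15,22,16,12,13,17,15,14],
  [],
  [],
  [],
  [],
  [],
  [2,23,22,18,20,18,17,19,15,18,20,12,19,14,14,14],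
  [],
  [2,21,22,22,19,19,16,18,15,18,16,12,14,13,12],
  [],
  [],
  [2,23,23,9,22,23,20,22,9,16,15,17,20,14,15,12,16],
  [],
  [2,22,21,22,21,19,19,18,17,19,17,14,13,13,12],
  [],
  [],
  [],
  [],
  [],
  [2,9,22,22,23,18,20,21,17,20,22,20,16,13,16,17,14],
  [],
  [2,23,21,23,22,22,18,22,16,21,22,13,17,12,16],
  [2,21,23,23,9,21,18,17,17,21,15,17,14,18,12,13],
  [],
  [2,23,22,22,9,21,18,9,19,16,15,14,18,13,19],
  [],
  [],
  [],
  [],
  [],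
  [2,23,19,19,22,18,22,17,18,14,19,15,18,14],
  [],
  [2,21,23,23,22,9,21,18,18,23,16,17,19,22,13,12,16],
  [],
  [],
  [],
  [],
  [],
  [],
  [],
  [],
  [],
  [],
  [],
  [],
  [],
  [],
  [],
  [],
  [],
  [],
  [],
  [],
  [],
  [2,23,22,19,20,20,9,17,15,17,16,14,16,13,13],
  [],
  [2,21,22,23,22,19,22,20,19,23,17,22,17,17,12,13],
  [],
  [],
  [2,23,19,20,18,19,17,20,17,16,19,12,12,16],
  [],
  [2,9,23,9,21,19,19,20,16,18,22,15,14,17,15,16,16],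
  [],
  [],
  [],
  [],
  [],
  [2,23,20,9,22,22,16,22,15,20,20,14,12,15,15,18],
  [],
  [2,23,21,22,23,21,23,19,20,16,18,15,19,14,13,12,17,14],
  [2,23,9,20,20,20,20,17,16,18,17,12,18,12,17,14],
  [],
  [2,23,22,19,22,19,20,21,17,22,17,15,12,12,13,14],
  [],
  [],
  [2,23,22,23,22,19,20,22,22,19,17,20,22,18,14,16,14,15],
  [],
  [2,22,21,23,23,22,19,20,9,19,9,15,22,14,19,16,18,18],
  [2,22,21,23,21,20,19,9,16,15,20,18,22,13,18,19,12,19],
  [],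
  [2,9,22,9,22,19,20,18,9,17,17,21,21,12,19,14,19],
  [],
  [],
  [],
  [],
  [],
  [2,23,22,21,20,22,19,22,16,15,19,20,13,12,16,18,19],
  [],
  [2,21,23,22,9,20,22,22,19,15,19,18,20,12,13,15,15,15],
  [],
  [],
  [2,23,23,19,19,19,9,18,16,17,15,20,18,12,12,14,12,15],
  [],
  [2,21,23,22,9,22,22,20,19,9,16,19,19,16,13,16,19],
  [],
  [],
  [],
  [],
  [],
  [],
  [],
  [],
  [],
  [],
  [],
  [],
  [],
  [2,23,22,9,21,22,21,20,22,23,22,15,20,22,14,18,19,19,17],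
  [],
  [2,9,23,22,22,9,21,19,18,22,15,22,20,14,16,12,18],
  [],
  [],
  [],
  [],
  [2,23,19,9,20,19,17,18,16,21,14,13,19],
  [],
  [2,9,21,23,23,23,19,18,9,17,20,19,17,15,13,14,18,12],
  [],
  [],
  [],
  [],
  [],
  [],
  [],
  [],
  [],
  [],
  [],
  [],
  [],
  [],
  [],
  [],
  [],
  [],
  [],
  [],
  [],
  [],
  [],
  [],
  [],
  [],
  [],
  [],
  [],
  [2,21,23,9,19,19,20,19,16,19,17,18,12,14,13,14,13],
  [],
  [2,22,23,23,9,23,21,22,20,18,19,19,21,12,17,17],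
  [],
  [],
  [],
  [],
  [],
  [],
  [],
  [],
  [],
  [],
  [],
  [],
  [],
  [],
  [2,22,21,22,23,19,20,9,23,21,17,16,21,20,18,12,12,14],
  [],
  [2,9,22,9,23,19,9,18,18,17,18,19,16,13,19,18,12],
  [],
  [],
  [],
  [],
  [],
  [],
  [],
  [],
  [],
  [],
  [],
  [],
  [],
  [],
  [],
  [],
  [],
  [2,21,23,22,9,21,19,19,23,9,21,15,20,20,22,13,13,13],
  [],
  [2,23,9,22,21,20,21,18,20,17,20,18,12,14,16,14,14],
  [],
  [],
  [],
  [],
  [],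
  [],
  [],
  [],
  [],
  [],
  [],
  [],
  [],
  [2,9,23,21,23,23,20,20,23,18,17,17,21,16,12,15,12,17],
  [],
  [2,22,23,19,18,9,18,20,16,21,19,22,14,13,17],
  [],
  [],
  [],
  [],
  [],
  [2,23,23,23,22,9,20,23,18,9,15,18,21,21,12,19,15,19],
  [],
  [2,9,23,23,18,19,22,9,16,17,15,22,12,19,18,14,13],
  [],
  [],
  [],
  [],
  [],
  [2,23,23,22,22,23,19,23,21,15,22,14,14,12,12],
  [],
  [2,23,22,23,22,19,18,18,19,17,18,18,15,22,12,18,18,18],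
  [],
  [],
  [],
  [],
  [],
  [],
  [],
  [],
  [],
  [],
  [],
  [],
  [],
  [],
  [],
  [],
  [],
  [2,23,22,9,22,23,21,19,21,20,19,16,15,18,13,15,19],
  [],
  [2,23,22,9,22,19,22,22,20,17,20,17,14,15,15,16],
  [0,23,22,22,23,19,19,19,19,17,17,20,21,18,12,17,14],
  [],
  [1,9,22,9,21,23,9,17,21,16,19,12,13,13,18,14],
  [],
  [],
  [],
  [],
  [],
  [],
  [],
  [],
  [],
  [],
  [],
  [],
  [],
  [],
  [],
  [],
  [],
  [],
  [],
  [],
  [],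
  [],
  [],
  [],
  [],
  [],
  [],
  [],
  [],
  [],
  [],
  [],
  [],
  [],
  [],
  [],
  [],
  [],
  [],
  [],
  [],
  [],
  [],
  [],
  [],
  [],
  [],
  [],
  [],
  [],
  [2,9,21,22,21,23,19,22,9,15,19,17,14,15,12,14],
  [],
  [2,9,22,22,21,23,18,18,23,22,17,22,13,15,15,13],
  [0,23,22,23,21,22,20,9,20,18,18,17,22,21,17,20,12,14,19],
  [],
  [1,21,23,23,9,19,22,23,21,17,17,21,16,12,19,13,15,13],
  [],
  [],
  [],
  [],
  [],
  [],
  [],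
  [],
  [],
  [],
  [],
  [],
  [],
  [],
  [],
  [],
  [],
  [2,23,23,23,22,18,22,15,18,17,19,14,15,17,18,16],
  [],
  [2,22,23,21,22,19,17,15,21,21,21,14,13,18,16],
  [],
  [],
  [],
  [],
  [],
  [],
  [],
  [],
  [],
  [],
  [0,21,23,22,20,19,19,19,15,22,21,12,13,14,15],
  [],
  [1,9,23,22,20,20,21,22,17,17,18,18,17,14,19,18,18],
  [2,23,9,19,20,18,15,21,17,21,14,12,17],
  [],
  [2,23,21,18,20,18,17,17,19,21,18,12,15,15,19],
  [],
  [],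
  [],
  [],
  [],
  [],
  [],
  [],
  [],
  [],
  [1,21,23,21,23,21,19,22,20,23,17,17,22,21,19,12,19,16],
  [],
  [0,23,23,21,23,19,23,19,21,15,18,18,17,12,14,18,18],
  [],
  [],
  [],
  [],
  [],
  [],
  [],
  [],
  [],
  [],
  [],
  [],
  [],
  [],
  [],
  [],
  [],
  [],
  [],
  [],
  [],
  [],
  [],
  [],
  [],
  [],
  [],
  [],
  [],
  [],
  [],
  [],
  [],
  [],
  [],
  [],
  [],
  [],
  [],
  [],
  [],
  [],
  [],
  [],
  [],
  [],
  [],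
  [],
  [],
  [],
  [],
  [],
  [],
  [],
  [],
  [],
  [],
  [],
  [],
  [],
  [],
  [],
  [],
  [],
  [],
  [],
  [],
  [],
  [],
  [],
  [],
  [],
  [],
  [],
  [],
  [],
  [],
  [],
  [],
  [],
  [],
  [],
  [],
  [],
  [],
  [],
  [],
  [],
  [],
  [],
  [],
  [],
  [],
  [],
  [],
  [],
  [],
  [],
  [],
  [],
  [],
  [],
  [],
  [],
  [],
  [],
  [],
  [],
  [],
  [],
  [],
  [],
  [],
  [],
  [],
  [],
  [],
  [],
  [],
  [],
  [],
  [],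
  [],
  [],
  [],
  [],
  [],
  [],
  [],
  [],
  [],
  [],
  [],
  [],
  [],
  [],
  [],
  [],
  [],
  [],
  [],
  [],
  [],
  [],
  [],
  [],
  [],
  [],
  [],
  [],
  [],
  [],
  [],
  [],
  [],
  [],
  [],
  [],
  [],
  [],
  [],
  [],
  [],
  [],
  [],
  [],
  [],
  [],
  [],
  [],
  [],
  [],
  [],
  [],
  [],
  [],
  [],
  [],
  [],
  [],
  [],
  [],
  [],
  [],
  [],
  [],
  [],
  [],
  [],
  [],
  [],
  [],
  [],
  [],
  [],
  [],
  [],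
  [],
  [],
  [],
  [],
  [],
  [],
  [],
  [],
  [],
  [],
  [],
  [],
  [],
  [],
  [],
  [],
  [2,22,21,22,23,18,20,21,19,16,21,22,12,19,19,16,16],
  [],
  [2,23,9,22,23,22,19,22,9,15,22,16,12,13,13,18],
  [],
  [],
  [],
  [],
  [],
  [],
  [],
  [],
  [],
  [],
  [],
  [],
  [],
  [],
  [],
  [],
  [],
  [],
  [],
  [],
  [2,22,23,23,19,18,20,20,20,17,18,17,18,12,19,12,17,17],
  [],
  [2,22,21,22,23,21,18,19,9,16,18,16,22,15,13,13,12,16],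
  [],
  [],
  [],
  [],
  [],
  [],
  [],
  [],
  [],
  [],
  [],
  [],
  [],
  [2,22,22,9,19,18,22,9,17,20,18,22,14,13,14,15,17],
  [],
  [2,9,23,9,22,9,22,23,18,20,16,18,19,19,12,17,13,19],
  [],
  [],
  [],
  [],
  [],
  [],
  [],
  [],
  [],
  [],
  [],
  [],
  [],
  [],
  [2,21,22,9,20,20,20,23,17,22,22,15,15,12,12,15,13,14],
  [],
  [2,22,9,18,21,18,20,16,17,19,19,12,14,12,16],
  [],
  [],
  [],
  [],
  [],
  [],
  [],
  [],
  [],
  [],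
  [],
  [],
  [],
  [],
  [],
  [],
  [],
  [],
  [],
  [],
  [],
  [],
  [],
  [],
  [],
  [],
  [],
  [],
  [],
  [],
  [],
  [],
  [],
  [],
  [],
  [],
  [],
  [],
  [],
  [],
  [],
  [],
  [],
  [],
  [],
  [],
  [],
  [],
  [],
  [],
  [],
  [],
  [],
  [],
  [],
  [],
  [],
  [],
  [],
  [],
  [],
  [],
  [],
  [],
  [],
  [],
  [],
  [],
  [],
  [2,22,23,21,22,22,21,19,20,15,20,22,14,13,19,13],
  [],
  [2,22,9,23,21,19,19,20,20,15,16,16,15,12,15,13,19],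
  [],
  [],
  [],
  [],
  [],
  [],
  [],
  [],
  [],
  [],
  [],
  [],
  [],
  [],
  [],
  [],
  [],
  [],
  [],
  [],
  [2,23,23,22,19,18,21,22,20,17,17,22,22,12,19,16,16,12],
  [],
  [2,22,23,9,23,18,23,17,19,17,15,22,12,19,12,17,17],
  [],
  [],
  [],
  [],
  [],
  [],
  [],
  [],
  [],
  [],
  [],
  [],
  [],
  [2,19,9,20,21,15,18,17,17,12,19,17,17,12],
  [],
  [2,9,23,23,23,19,20,20,19,16,16,12,15,13,18,17],
  [],
  [],
  [],
  [],
  [],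
  [],
  [],
  [],
  [],
  [],
  [],
  [],
  [],
  [],
  [2,23,9,23,19,21,23,16,22,20,18,15,12,18,17,16],
  [],
  [2,9,23,23,21,18,19,19,20,17,15,22,12,15,12,16],
  [],
  [],
  [],
  [],
  [],
  [],
  [],
  [],
  [],
  [],
  [],
  [],
  [],
  [],
  [],
  [],
  [],
  [],
  [],
  [],
  [],
  [],
  [],
  [],
  [],
  [],
  [],
  [],
  [],
  [],
  [],
  [],
  [],
  [],
  [],
  [],
  [],
  [],
  [],
  [],
  [],
  [],
  [],
  [],
  [],
  [],
  [],
  [],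
  [],
  [],
  [],
  [],
  [],
  [],
  [],
  [],
  [],
  [],
  [],
  [],
  [],
  [],
  [],
  [],
  [],
  [],
  [],
  [],
  [],
  [],
  [],
  [],
  [],
  [],
  [],
  [],
  [],
  [],
  [],
  [],
  [],
  [],
  [],
  [],
  [],
  [],
  [],
  [],
  [],
  [],
  [],
  [],
  [],
  [],
  [],
  [],
  [],
  [],
  [],
  [],
  [],
  [],
  [],
  [],
  [],
  [],
  [],
  [],
  [],
  [],
  [],
  [],
  [],
  [],
  [],
  [],
  [],
  [],
  [],
  [],
  [],
  [],
  [],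
  [],
  [],
  [],
  [],
  [],
  [],
  [2,21,22,21,23,19,21,18,23,15,21,21,22,12,18,12,13,16],
  [],
  [2,22,23,22,9,19,18,20,19,19,15,17,18,13,12,19,13],
  [],
  [],
  [],
  [],
  [],
  [],
  [],
  [],
  [],
  [],
  [],
  [],
  [2,22,22,9,21,20,22,23,20,15,16,14,17,13,13,18],
  [],
  [2,22,20,18,21,22,9,17,15,16,21,16,21,14,17,17,18],
  [],
  [],
  [],
  [],
  [],
  [],
  [],
  [],
  [],
  [],
  [],
  [],
  [],
  [2,9,21,22,22,18,21,18,16,22,19,21,15,13,19,12,16],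
  [],
  [2,23,9,22,9,22,23,19,19,18,17,18,17,22,14,17,14],
  [],
  [],
  [],
  [],
  [],
  [],
  [],
  [],
  [],
  [],
  [],
  [],
  [],
  [],
  [],
  [],
  [],
  [],
  [],
  [],
  [],
  [],
  [2,22,22,9,21,20,21,18,9,17,15,17,12,13,13,19,18],
  [],
  [2,9,22,9,23,19,21,17,21,19,20,21,13,12],
  [],
  [],
  [],
  [],
  [],
  [],
  [],
  [],
  [],
  [],
  [],
  [],
  [],
  [],
  [],
  [],
  [],
  [],
  [],
  [],
  [],
  [],
  [],
  [],
  [],
  [],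
  [],
  [],
  [],
  [],
  [],
  [],
  [],
  [],
  [],
  [],
  [],
  [],
  [],
  [],
  [],
  [],
  [],
  [],
  [],
  [],
  [],
  [],
  [],
  [],
  [],
  [],
  [],
  [],
  [],
  [],
  [],
  [],
  [],
  [],
  [],
  [],
  [],
  [],
  [],
  [],
  [],
  [],
  [2,21,23,21,23,23,19,22,19,20,9,17,20,22,15,13,19,18],
  [],
  [2,9,22,9,20,21,20,9,17,18,17,21,20,14,17,13,15,14],
  [],
  [],
  [],
  [],
  [],
  [],
  [],
  [],
  [],
  [],
  [],
  [],
  [],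
  [],
  [2,9,23,22,23,22,19,22,9,17,17,22,21,21,12,19,14,18],
  [],
  [2,21,22,23,23,20,22,19,9,17,17,22,18,18,12,12,14],
  [],
  [],
  [],
  [],
  [],
  [],
  [],
  [],
  [],
  [],
  [],
  [],
  [],
  [2,23,21,23,22,21,18,20,22,17,22,15,16,13,13,18],
  [],
  [2,9,21,22,22,18,19,9,22,17,22,17,21,14,19,14,16,15],
  [],
  [],
  [],
  [],
  [],
  [],
  [],
  [],
  [],
  [],
  [],
  [],
  [],
  [],
  [],
  [],
  [],
  [],
  [],
  [],
  [2,23,23,22,18,18,16,18,19,19,20,12,14],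
  [],
  [2,22,22,23,23,19,21,18,20,17,18,18,18,14,18,19,14],
  [],
  [],
  [],
  [],
  [],
  [2,22,21,22,23,20,18,23,18,15,22,21,17,14,17,16,14,19],
  [],
  [2,23,21,22,18,22,20,21,16,16,16,16,13,18,19,16,14],
  [],
  [],
  [],
  [],
  [],
  [],
  [],
  [],
  [],
  [],
  [],
  [],
  [],
  [],
  [2,23,21,23,9,20,18,19,18,17,20,16,17,14,19,16,15,19],
  [],
  [2,22,23,23,22,22,20,21,22,15,22,14,19,13,17,13],
  [],
  [],
  [],
  [],
  [],
  [],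
  [],
  [],
  [],
  [],
  [],
  [],
  [],
  [2,23,22,23,23,9,22,20,19,16,20,21,12,12,14,18,16],
  [],
  [2,21,23,23,23,21,19,9,22,18,22,15,17,13,14,12,17,19],
  [],
  [],
  [],
  [],
  [],
  [],
  [],
  [],
  [],
  [],
  [],
  [],
  [],
  [],
  [],
  [],
  [],
  [],
  [],
  [],
  [2,23,23,21,23,23,22,20,18,18,21,15,16,15,17,12,14,12],
  [],
  [2,22,23,9,20,21,18,19,15,17,21,18,13,12,17,12,18],
  [],
  [],
  [],
  [],
  [],
  [],
  [2,21,22,9,23,21,19,22,18,21,15,20,19,16,13,14,18],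
  [],
  [2,23,22,21,23,19,9,21,22,15,22,22,14,19,16,19,15],
  [],
  [],
  [],
  [],
  [],
  [],
  [],
  [],
  [],
  [],
  [],
  [],
  [2,21,22,9,19,19,20,22,15,22,21,18,14,14,15,18],
  [],
  [2,21,23,21,22,22,20,23,16,16,19,17,14,19,16,18],
  [],
  [],
  [],
  [],
  [],
  [],
  [],
  [],
  [],
  [],
  [],
  [],
  [],
  [2,23,9,23,18,23,16,18,22,18,12,15,17,19,17],
  [],
  [2,23,22,23,9,23,9,20,9,21,18,17,15,21,21,19,13,17],
  [],
  [],
  [],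
  [],
  [],
  [],
  [],
  [],
  [],
  [],
  [],
  [],
  [],
  [],
  [],
  [],
  [],
  [],
  [],
  [],
  [],
  [],
  [2,22,21,23,22,9,19,18,20,9,17,20,21,15,14,13,17],
  [],
  [2,23,23,23,22,21,18,18,20,15,17,16,19,16,12,14,16],
  [],
  [],
  [],
  [],
  [],
  [],
  [],
  [],
  [],
  [],
  [],
  [],
  [],
  [],
  [],
  [],
  [],
  [],
  [],
  [],
  [],
  [],
  [],
  [],
  [],
  [],
  [],
  [],
  [],
  [],
  [],
  [],
  [],
  [],
  [],
  [],
  [],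
  [],
  [],
  [],
  [],
  [],
  [],
  [],
  [],
  [],
  [],
  [],
  [],
  [],
  [],
  [],
  [],
  [],
  [],
  [],
  [],
  [],
  [],
  [],
  [],
  [],
  [],
  [],
  [],
  [],
  [],
  [],
  [],
  [],
  [],
  [],
  [2,23,22,21,22,23,19,19,22,9,15,18,18,21,21,12,16,16],
  [],
  [2,23,22,23,23,20,20,23,22,23,16,16,17,18,12,15,12,13,13],
  [],
  [],
  [],
  [],
  [],
  [],
  [],
  [],
  [],
  [],
  [],
  [],
  [],
  [],
  [],
  [],
  [],
  [],
  [],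
  [],
  [],
  [],
  [2,23,22,23,20,19,18,16,18,21,15,20,12,13,13,12,17],
  [],
  [2,9,19,21,18,19,17,16,22,16,20,12,13,17,17,13],
  [],
  [],
  [],
  [],
  [],
  [],
  [],
  [],
  [],
  [],
  [],
  [],
  [],
  [2,9,23,21,23,22,9,18,17,16,21,19,16,12,17,13],
  [],
  [2,21,22,23,21,22,23,18,23,16,16,19,19,16,12,18,13,18],
  [],
  [],
  [],
  [],
  [],
  [],
  [],
  [],
  [],
  [],
  [],
  [],
  [2,23,23,9,21,19,22,19,17,20,17,18,13,17,14,18],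
  [],
  [2,23,22,22,22,23,19,20,18,21,23,17,19,14,17,15,16],
  [],
  [],
  [],
  [],
  [],
  [2,22,21,22,21,19,18,18,9,15,16,22,17,13,18,13,12],
  [],
  [2,21,22,9,23,19,18,20,9,15,16,18,16,13,15,15,17,12],
  [],
  [],
  [],
  [],
  [],
  [],
  [],
  [],
  [],
  [],
  [],
  [],
  [],
  [],
  [],
  [],
  [],
  [],
  [],
  [],
  [],
  [],
  [2,23,22,9,21,22,22,19,21,19,15,16,21,18,14,12,18,18],
  [],
  [2,23,22,23,22,19,18,18,9,19,17,16,20,19,15,12,14],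
  [],
  [],
  [],
  [],
  [],
  [],
  [],
  [],
  [],
  [],
  [],
  [],
  [],
  [2,22,22,19,18,18,23,16,16,17,18,19,12,16,15],
  [],
  [2,9,23,23,22,23,22,23,19,21,16,22,18,18,13,19,17,16],
  [],
  [],
  [],
  [],
  [],
  [],
  [],
  [],
  [],
  [],
  [],
  [],
  [2,23,23,9,22,23,22,18,19,18,9,17,17,18,12,13,13],
  [],
  [2,22,21,23,22,22,18,20,21,20,16,18,13,14,15,12],
  [],
  [],
  [],
  [],
  [],
  [],
  [],
  [],
  [],
  [],
  [],
  [],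
  [],
  [],
  [],
  [],
  [],
  [],
  [],
  [],
  [],
  [],
  [],
  [],
  [],
  [],
  [],
  [],
  [],
  [],
  [],
  [],
  [],
  [],
  [],
  [],
  [],
  [],
  [],
  [],
  [],
  [],
  [],
  [],
  [],
  [],
  [],
  [],
  [],
  [],
  [],
  [],
  [],
  [],
  [],
  [],
  [],
  [],
  [],
  [],
  [],
  [],
  [],
  [],
  [],
  [],
  [],
  [],
  [],
  [],
  [],
  [],
  [],
  [],
  [],
  [],
  [],
  [],
  [],
  [],
  [],
  [],
  [],
  [],
  [],
  [],
  [],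
  [],
  [],
  [],
  [],
  [],
  [],
  [],
  [],
  [],
  [],
  [],
  [],
  [],
  [],
  [],
  [],
  [],
  [],
  [],
  [],
  [],
  [],
  [],
  [],
  [],
  [],
  [],
  [],
  [],
  [],
  [],
  [],
  [],
  [],
  [],
  [],
  [],
  [],
  [],
  [],
  [],
  [],
  [],
  [],
  [],
  [],
  [],
  [],
  [],
  [],
  [],
  [],
  [],
  [],
  [],
  [],
  [],
  [],
  [],
  [],
  [],
  [],
  [],
  [],
  [],
  [],
  [],
  [],
  [],
  [],
  [],
  [],
  [],
  [],
  [],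
  [],
  [],
  [],
  [],
  [],
  [],
  [],
  [],
  [],
  [],
  [],
  [],
  [],
  [],
  [],
  [],
  [],
  [],
  [],
  [],
  [],
  [],
  [],
  [],
  [],
  [],
  [],
  [],
  [],
  [],
  [],
  [],
  [],
  [],
  [],
  [],
  [],
  [],
  [],
  [],
  [],
  [],
  [],
  [],
  [],
  [],
  [],
  [],
  [],
  [],
  [],
  [],
  [],
  [],
  [],
  [],
  [],
  [],
  [],
  [],
  [],
  [],
  [],
  [],
  [],
  [],
  [],
  [],
  [],
  [],
  [],
  [],
  [],
  [],
  [],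
  [],
  [],
  [],
  [],
  [],
  [],
  [],
  [],
  [],
  [],
  [],
  [],
  [],
  [],
  [],
  [],
  [],
  [],
  [],
  [],
  [],
  [],
  [],
  [],
  [],
  [],
  [],
  [],
  [],
  [],
  [],
  [],
  [],
  [],
  [],
  [],
  [],
  [],
  [],
  [],
  [],
  [],
  [],
  [],
  [],
  [],
  [],
  [],
  [],
  [],
  [],
  [],
  [],
  [],
  [],
  [],
  [],
  [],
  [],
  [],
  [],
  [],
  [],
  [],
  [],
  [],
  [],
  [],
  [],
  [],
  [],
  [],
  [],
  [],
  [],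
  [],
  [],
  [],
  [],
  [],
  [],
  [],
  [],
  [],
  [],
  [],
  [],
  [],
  [],
  [],
  [],
  [],
  [],
  [],
  [],
  [],
  [],
  [],
  [],
  [],
  [],
  [],
  [],
  [],
  [],
  [],
  [],
  [],
  [],
  [],
  [],
  [],
  [],
  [],
  [],
  [],
  [],
  [],
  [],
  [],
  [],
  [],
  [],
  [],
  [],
  [],
  [],
  [],
  [],
  [],
  [],
  [],
  [],
  [],
  [],
  [],
  [],
  [],
  [],
  [],
  [],
  [],
  [],
  [],
  [],
  [],
  [],
  [],
  [],
  [],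
  [],
  [],
  [],
  [],
  [],
  [],
  [],
  [],
  [],
  [],
  [],
  [],
  [],
  [],
  [],
  [],
  [],
  [],
  [],
  [],
  [],
  [],
  [],
  [],
  [],
  [],
  [],
  [],
  [],
  [],
  [],
  [],
  [],
  [],
  [],
  [],
  [],
  [],
  [],
  [],
  [],
  [],
  [],
  [],
  [],
  [],
  [],
  [],
  [],
  [],
  [],
  [],
  [],
  [],
  [],
  [],
  [],
  [],
  [],
  [],
  [],
  [],
  [],
  [],
  [],
  [],
  [],
  [],
  [],
  [],
  [],
  [],
  [],
  [],
  [],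
  [],
  [],
  [],
  [],
  [],
  [],
  [],
  [],
  [],
  [],
  [],
  [],
  [],
  [],
  [],
  [],
  [],
  [],
  [],
  [],
  [],
  [],
  [],
  [],
  [],
  [],
  [],
  [],
  [],
  [],
  [],
  [],
  [],
  [],
  [],
  [],
  [],
  [],
  [],
  [],
  [],
  [],
  [],
  [],
  [],
  [],
  [],
  [],
  [],
  [],
  [],
  [],
  [],
  [],
  [],
  [],
  [],
  [],
  [],
  [],
  [],
  [],
  [],
  [],
  [],
  [],
  [],
  [],
  [],
  [],
  [],
  [],
  [],
  [],
  [],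
  [],
  [],
  [],
  [],
  [],
  [],
  [],
  [],
  [],
  [],
  [],
  [],
  [],
  [],
  [],
  [],
  [],
  [],
  [],
  [],
  [],
  [],
  [],
  [],
  [],
  [],
  [],
  [],
  [],
  [],
  [],
  [],
  [],
  [],
  [],
  [],
  [],
  [],
  [],
  [],
  [],
  [],
  [],
  [],
  [],
  [],
  [],
  [],
  [],
  [],
  [],
  [],
  [],
  [],
  [],
  [],
  [],
  [],
  [],
  [],
  [],
  [],
  [],
  [],
  [],
  [],
  [],
  [],
  [],
  [],
  [],
  [],
  [],
  [],
  [],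
  [],
  [],
  [],
  [],
  [],
  [],
  [],
  [],
  [],
  [],
  [],
  [],
  [],
  [],
  [],
  [],
  [],
  [],
  [],
  [],
  [],
  [],
  [],
  [],
  [],
  [],
  [],
  [],
  [],
  [],
  [],
  [],
  [],
  [],
  [],
  [],
  [],
  [],
  [],
  [],
  [],
  [],
  [],
  [],
  [],
  [],
  [],
  [],
  [],
  [],
  [],
  [],
  [],
  [],
  [],
  [],
  [],
  [],
  [],
  [],
  [],
  [],
  [],
  [],
  [],
  [],
  [],
  [],
  [],
  [],
  [],
  [],
  [],
  [],
  [],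
  [],
  [],
  [],
  [],
  [],
  [],
  [],
  [],
  [],
  [],
  [],
  [],
  [],
  [],
  [],
  [],
  [],
  [],
  [],
  [],
  [],
  [],
  [],
  [],
  [],
  [],
  [],
  [],
  [],
  [],
  [],
  [],
  [],
  [],
  [],
  [],
  [],
  [],
  [],
  [],
  [],
  [],
  [],
  [],
  [],
  [],
  [],
  [],
  [],
  [],
  [],
  [],
  [],
  [],
  [],
  [],
  [],
  [],
  [],
  [],
  [],
  [],
  [],
  [],
  [],
  [],
  [],
  [],
  [],
  [],
  [],
  [],
  [],
  [],
  [],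
  [],
  [],
  [],
  [],
  [],
  [],
  [],
  [],
  [],
  [],
  [],
  [],
  [],
  [],
  [],
  [],
  [],
  [],
  [],
  [],
  [],
  [],
  [],
  [],
  [],
  [],
  [],
  [],
  [],
  [],
  [],
  [],
  [],
  [],
  [],
  [],
  [],
  [],
  [],
  [],
  [],
  [],
  [],
  [],
  [],
  [],
  [],
  [],
  [],
  [],
  [],
  [],
  [],
  [],
  [],
  [],
  [],
  [],
  [],
  [],
  [],
  [],
  [],
  [],
  [],
  [],
  [],
  [],
  [],
  [],
  [],
  [],
  [],
  [],
  [],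
  [],
  [],
  [],
  [],
  [],
  [],
  [],
  [],
  [],
  [],
  [],
  [],
  [],
  [],
  [],
  [],
  [],
  [],
  [],
  [],
  [],
  [],
  [],
  [],
  [],
  [],
  [],
  [],
  [],
  [],
  [],
  [],
  [],
  [],
  [],
  [],
  [],
  [],
  [],
  [],
  [],
  [],
  [],
  [],
  [],
  [],
  [],
  [],
  [],
  [],
  [],
  [],
  [],
  [],
  [],
  [],
  [],
  [],
  [],
  [],
  [],
  [],
  [],
  [],
  [],
  [],
  [],
  [],
  [],
  [],
  [],
  [],
  [],
  [],
  [],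
  [],
  [],
  [],
  [],
  [],
  [],
  [],
  [],
  [],
  [],
  [],
  [],
  [],
  [],
  [],
  [],
  [],
  [],
  [],
  [],
  [],
  [],
  [],
  [],
  [],
  [],
  [],
  [],
  [],
  [],
  [],
  [],
  [],
  [],
  [],
  [],
  [],
  [],
  [],
  [],
  [],
  [],
  [],
  [],
  [],
  [],
  [],
  [],
  [],
  [],
  [],
  [],
  [],
  [],
  [],
  [],
  [],
  [],
  [],
  [],
  [],
  [],
  [],
  [],
  [],
  [],
  [],
  [],
  [],
  [],
  [],
  [],
  [],
  [],
  [],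
  [],
  [],
  [],
  [],
  [],
  [],
  [],
  [],
  [],
  [],
  [],
  [],
  [],
  [],
  [],
  [],
  [],
  [],
  [],
  [],
  [],
  [],
  [],
  [],
  [],
  [],
  [],
  [],
  [],
  [],
  [],
  [],
  [],
  [],
  [],
  [],
  [],
  [],
  [],
  [],
  [],
  [],
  [],
  [],
  [],
  [],
  [],
  [],
  [],
  [],
  [],
  [],
  [],
  [],
  [],
  [],
  [],
  [],
  [],
  [],
  [],
  [],
  [],
  [],
  [],
  [],
  [],
  [],
  [],
  [],
  [],
  [],
  [],
  [],
  [],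
  [],
  [],
  [],
  [],
  [],
  [],
  [],
  [],
  [],
  [],
  [],
  [],
  [],
  [],
  [],
  [],
  [],
  [],
  [],
  [],
  [],
  [],
  [],
  [],
  [],
  [],
  [],
  [],
  [],
  [],
  [],
  [],
  [],
  [],
  [],
  [],
  [],
  [],
  [],
  [],
  [],
  [],
  [],
  [],
  [],
  [],
  [],
  [],
  [],
  [],
  [],
  [],
  [],
  [],
  [],
  [],
  [],
  [],
  [],
  [],
  [],
  [],
  [],
  [],
  [],
  [],
  [],
  [],
  [],
  [],
  [],
  [],
  [],
  [],
  [],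
  [],
  [],
  [],
  [],
  [],
  [],
  [],
  [],
  [],
  [],
  [],
  [],
  [],
  [],
  [],
  [],
  [],
  [],
  [],
  [],
  [],
  [],
  [],
  [],
  [],
  [],
  [],
  [],
  [],
  [],
  [],
  [],
  [],
  [],
  [],
  [],
  [],
  [],
  [],
  [],
  [],
  [],
  [],
  [],
  [],
  [],
  [],
  [],
  [],
  [],
  [],
  [],
  [],
  [],
  [],
  [],
  [],
  [],
  [],
  [],
  [],
  [],
  [],
  [],
  [],
  [],
  [],
  [],
  [],
  [],
  [],
  [],
  [],
  [],
  [],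
  [],
  [],
  [],
  [],
  [],
  [],
  [],
  [],
  [],
  [],
  [],
  [],
  [],
  [],
  [],
  [],
  [],
  [],
  [],
  [],
  [],
  [],
  [],
  [],
  [],
  [],
  [],
  [],
  [],
  [],
  [],
  [],
  [],
  [],
  [],
  [],
  [],
  [],
  [],
  [],
  [],
  [],
  [],
  [],
  [],
  [],
  [],
  [],
  [],
  [],
  [],
  [],
  [],
  [],
  [],
  [],
  [],
  [],
  [],
  [],
  [],
  [],
  [],
  [],
  [],
  [],
  [],
  [],
  [],
  [],
  [],
  [],
  [],
  [],
  [2,21,22,23,20,18,9,18,17,19,15,15,14,19,12,18],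
  [],
  [2,9,22,22,9,21,18,20,23,19,17,20,16,17,12,17,13,14],
  [],
  [],
  [],
  [],
  [],
  [],
  [],
  [],
  [],
  [2,22,23,23,9,22,20,18,23,17,17,17,17,12,12,12,18],
  [],
  [2,22,9,23,9,20,9,22,15,15,17,21,19,12,12,19,19],
  [],
  [],
  [],
  [],
  [],
  [],
  [],
  [],
  [],
  [],
  [],
  [],
  [],
  [2,23,21,22,19,23,18,23,18,16,17,17,20,13,18,15],
  [],
  [2,23,22,21,22,23,9,19,19,21,19,9,17,15,20,15,12,18],
  [],
  [],
  [],
  [],
  [],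
  [],
  [],
  [],
  [],
  [],
  [],
  [],
  [],
  [],
  [],
  [],
  [],
  [],
  [],
  [],
  [],
  [],
  [],
  [],
  [],
  [2,21,23,23,21,23,18,21,17,16,20,15,14,14,19,17,15],
  [],
  [2,23,21,23,22,18,9,19,15,17,18,21,22,12,13,19,14],
  [],
  [],
  [],
  [],
  [],
  [],
  [],
  [],
  [],
  [],
  [],
  [],
  [],
  [],
  [],
  [],
  [],
  [],
  [],
  [],
  [],
  [],
  [],
  [],
  [],
  [],
  [],
  [],
  [],
  [],
  [],
  [],
  [],
  [],
  [],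
  [],
  [],
  [],
  [],
  [],
  [],
  [],
  [],
  [],
  [],
  [],
  [],
  [],
  [],
  [],
  [],
  [],
  [],
  [],
  [],
  [],
  [],
  [],
  [],
  [],
  [],
  [],
  [],
  [],
  [],
  [],
  [],
  [],
  [],
  [2,9,22,23,21,19,18,18,22,17,19,22,14,15,14],
  [],
  [2,9,21,23,22,9,18,22,19,19,22,16,17,17,14,13,15,19],
  [],
  [],
  [],
  [],
  [],
  [],
  [],
  [],
  [],
  [2,9,22,22,9,19,9,20,9,18,15,15,17,12,16,18],
  [],
  [2,23,23,9,22,23,21,20,19,15,16,21,16,14,17,16,15],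
  [],
  [],
  [],
  [],
  [],
  [],
  [],
  [],
  [],
  [],
  [],
  [],
  [],
  [2,22,22,22,21,22,20,9,22,20,16,22,13,13,19,12],
  [],
  [2,9,23,9,21,23,9,18,20,20,22,15,17,13,18],
  [],
  [],
  [],
  [],
  [],
  [],
  [],
  [],
  [],
  [],
  [],
  [],
  [],
  [],
  [],
  [],
  [],
  [],
  [],
  [],
  [],
  [],
  [],
  [],
  [],
  [2,22,9,21,20,9,22,23,23,15,21,18,14,15,15,16],
  [],
  [2,23,22,23,21,23,19,9,17,16,22,16,20,12,12,12,19,19],
  [],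
  [],
  [],
  [],
  [],
  [],
  [],
  [],
  [],
  [],
  [],
  [],
  [],
  [],
  [],
  [],
  [],
  [],
  [],
  [],
  [],
  [],
  [],
  [],
  [],
  [],
  [],
  [],
  [],
  [],
  [],
  [],
  [],
  [],
  [],
  [],
  [],
  [],
  [],
  [],
  [],
  [],
  [],
  [],
  [],
  [],
  [],
  [],
  [],
  [],
  [],
  [],
  [],
  [],
  [],
  [],
  [],
  [],
  [],
  [],
  [],
  [],
  [],
  [],
  [],
  [],
  [],
  [],
  [],
  [],
  [],
  [],
  [],
  [],
  [],
  [],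
  [],
  [],
  [],
  [],
  [],
  [],
  [],
  [],
  [],
  [],
  [],
  [],
  [],
  [],
  [],
  [],
  [],
  [],
  [],
  [],
  [],
  [],
  [],
  [],
  [],
  [],
  [],
  [],
  [],
  [],
  [],
  [],
  [],
  [],
  [],
  [],
  [],
  [],
  [],
  [],
  [],
  [],
  [],
  [],
  [],
  [],
  [],
  [],
  [],
  [],
  [],
  [],
  [],
  [],
  [],
  [],
  [2,21,23,19,21,19,18,20,16,14,12,13,17,14],
  [],
  [2,9,21,22,9,22,18,20,20,22,15,19,22,16,12,13,15,15,19],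
  [],
  [],
  [],
  [],
  [],
  [],
  [],
  [],
  [],
  [2,23,23,9,20,19,19,19,15,19,19,22,14,18,13,14],
  [],
  [2,22,21,18,22,18,18,18,17,22,16,17,12,12,16,16],
  [],
  [],
  [],
  [],
  [],
  [],
  [],
  [],
  [],
  [],
  [],
  [],
  [],
  [2,23,23,21,22,20,23,18,18,17,15,21,22,22,12,19,13,14,17],
  [],
  [2,9,21,22,22,23,19,23,9,20,17,21,16,15,12,17,12],
  [],
  [],
  [],
  [],
  [],
  [],
  [],
  [],
  [],
  [],
  [],
  [],
  [],
  [],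
  [],
  [],
  [],
  [],
  [],
  [],
  [],
  [],
  [],
  [],
  [],
  [2,9,23,23,9,22,21,22,19,21,19,20,15,20,21,15,12,15],
  [],
  [2,9,22,21,19,21,16,16,18,21,19,13,16,16,19],
  [],
  [],
  [],
  [],
  [],
  [],
  [2,23,22,19,20,22,19,15,20,22,19,12,15,16,18],
  [],
  [2,23,22,23,22,18,19,19,17,16,22,18,16,14,12,13,17,16],
  [],
  [],
  [],
  [],
  [],
  [],
  [],
  [],
  [],
  [2,9,23,22,9,23,18,22,18,15,19,18,22,13,19,16,16],
  [],
  [2,9,22,22,23,23,19,20,17,20,16,13,12,16,13,19],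
  [],
  [],
  [],
  [],
  [],
  [],
  [],
  [],
  [],
  [],
  [],
  [],
  [],
  [2,9,22,22,21,23,19,18,18,20,18,17,19,22,15,12],
  [],
  [2,23,22,22,23,21,22,20,19,23,18,17,19,20,17,13,18,14],
  [],
  [],
  [],
  [],
  [],
  [],
  [],
  [],
  [],
  [],
  [],
  [],
  [],
  [],
  [],
  [],
  [],
  [],
  [],
  [],
  [],
  [],
  [],
  [],
  [],
  [2,21,22,23,20,22,9,19,17,20,17,20,20,12,12,13,18,15],
  [],
  [2,23,9,21,23,21,18,21,20,18,17,21,21,17,14,19,13,15],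
  [],
  [],
  [],
  [],
  [],
  [2,9,21,22,21,18,21,16,17,18,17,15,12,15,17,14],
  [],
  [2,21,23,23,21,18,19,17,16,19,19,16,13,16,13,12,14],
  [],
  [],
  [],
  [],
  [],
  [],
  [],
  [],
  [],
  [2,23,23,22,20,21,19,21,20,15,20,22,12,18,15,13,19],
  [],
  [2,23,21,23,22,9,19,23,18,20,22,15,15,21,12,19,18,17],
  [],
  [],
  [],
  [],
  [],
  [],
  [],
  [],
  [],
  [],
  [],
  [],
  [],
  [2,23,23,22,23,21,20,21,16,18,16,21,13,12,12,12,17],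
  [],
  [2,9,21,23,19,19,18,21,19,15,19,18,12,19,15,12,14],
  [],
  [],
  [],
  [],
  [],
  [],
  [],
  [],
  [],
  [],
  [],
  [],
  [],
  [],
  [],
  [],
  [],
  [],
  [],
  [],
  [],
  [],
  [],
  [],
  [],
  [2,9,23,22,21,19,20,20,9,16,15,22,18,17,12,13,19],
  [],
  [2,23,9,23,18,23,18,9,15,15,22,20,18,12,18,19,17,14],
  [],
  [],
  [],
  [],
  [],
  [],
  [],
  [],
  [],
  [],
  [],
  [],
  [],
  [],
  [],
  [],
  [],
  [],
  [],
  [],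
  [],
  [],
  [],
  [],
  [],
  [],
  [],
  [],
  [],
  [],
  [],
  [],
  [],
  [],
  [],
  [],
  [],
  [],
  [],
  [],
  [],
  [],
  [],
  [],
  [],
  [],
  [],
  [],
  [],
  [],
  [],
  [],
  [],
  [],
  [],
  [],
  [],
  [],
  [],
  [],
  [],
  [],
  [],
  [],
  [],
  [2,22,22,23,23,19,19,22,9,16,19,21,13,19,16,16],
  [],
  [2,23,22,21,22,21,23,18,19,20,21,15,17,15,21,14],
  [],
  [],
  [],
  [],
  [],
  [],
  [],
  [],
  [],
  [],
  [],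
  [],
  [],
  [],
  [],
  [],
  [],
  [],
  [],
  [],
  [],
  [],
  [],
  [],
  [],
  [2,23,21,23,22,23,19,20,18,20,17,21,19,12,19,17,16,18],
  [],
  [2,23,9,21,23,9,18,19,20,19,15,18,16,20,13,17,13,13],
  [],
  [],
  [],
  [],
  [],
  [],
  [],
  [],
  [],
  [],
  [],
  [],
  [],
  [2,22,19,22,20,22,15,19,16,20,14,14,13,12,15],
  [],
  [2,9,23,23,22,9,22,20,23,19,21,17,16,19,12,14,18,18,16],
  [],
  [],
  [],
  [],
  [],
  [],
  [],
  [],
  [],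
  [2,9,23,23,21,19,22,22,18,16,15,19,16,21,12,12,18],
  [],
  [2,23,23,22,19,22,20,23,18,17,18,20,14,14,17,14,16],
  [],
  [],
  [],
  [],
  [],
  [],
  [],
  [],
  [2,22,21,19,18,20,22,20,17,18,15,22,12,16,14,15,17],
  [],
  [2,23,22,21,22,20,18,19,9,16,21,18,19,14,17,14,16],
  [],
  [],
  [],
  [],
  [],
  [],
  [],
  [],
  [],
  [2,23,23,18,19,20,21,17,16,22,20,21,13,12,19,17],
  [],
  [2,21,23,22,21,23,20,19,18,16,16,15,20,12,18,12,14,13],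
  [],
  [],
  [],
  [],
  [],
  [],
  [],
  [],
  [],
  [],
  [],
  [],
  [],
  [2,23,21,23,23,22,9,19,21,19,18,15,22,20,18,12,12,15],
  [],
  [2,9,23,22,21,20,20,21,16,16,20,21,12,14,19,17,18],
  [],
  [],
  [],
  [],
  [],
  [],
  [],
  [],
  [],
  [],
  [],
  [],
  [],
  [],
  [],
  [],
  [],
  [],
  [],
  [],
  [],
  [],
  [],
  [],
  [],
  [2,9,22,23,23,9,22,19,18,18,23,17,20,22,20,14,15,12,12],
  [],
  [2,21,23,23,21,23,22,20,22,19,19,16,15,22,19,14,19,19],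
  [],
  [],
  [2,22,22,22,19,9,23,22,15,20,19,15,12,18,19,18,16],
  [],
  [2,19,20,18,20,21,15,22,21,13,18,14,13],
  [],
  [],
  [],
  [],
  [],
  [],
  [],
  [],
  [],
  [],
  [],
  [],
  [],
  [],
  [],
  [],
  [],
  [],
  [],
  [],
  [],
  [],
  [],
  [],
  [],
  [2,23,9,22,22,23,19,9,19,22,17,22,15,20,17,12,14,14],
  [],
  [2,21,23,22,23,9,19,18,21,23,20,17,20,17,19,14,16,17],
  [],
  [],
  [],
  [],
  [],
  [],
  [],
  [],
  [],
  [],
  [],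
  [],
  [],
  [2,9,22,21,20,22,19,17,16,20,17,16,14,13,15,13],
  [],
  [2,21,22,22,23,18,19,19,17,16,17,19,12,15,19,16],
  [],
  [],
  [],
  [],
  [],
  [],
  [],
  [],
  [],
  [2,21,22,22,21,19,22,19,16,20,15,22,13,14,14],
  [],
  [2,22,21,23,21,22,23,19,22,20,21,16,15,12,12,12,19,19,18],
  [],
  [],
  [],
  [],
  [],
  [],
  [],
  [],
  [],
  [],
  [],
  [],
  [],
  [],
  [],
  [],
  [],
  [],
  [],
  [],
  [],
  [2,9,22,23,21,20,19,9,23,18,15,15,20,14,18,18],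
  [],
  [2,23,9,23,20,9,19,22,17,17,19,19,21,12,14,14,15],
  [],
  [],
  [],
  [],
  [],
  [],
  [],
  [],
  [],
  [],
  [],
  [],
  [],
  [2,23,21,22,23,9,20,18,22,16,18,17,22,14,16,15,14,19],
  [],
  [2,22,22,9,23,23,19,19,21,20,17,21,16,17,13,12,15,14],
  [],
  [],
  [],
  [],
  [],
  [],
  [],
  [],
  [],
  [],
  [],
  [],
  [],
  [],
  [],
  [],
  [],
  [],
  [],
  [],
  [],
  [],
  [],
  [],
  [],
  [],
  [],
  [],
  [],
  [],
  [],
  [],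
  [],
  [],
  [],
  [],
  [],
  [],
  [],
  [],
  [],
  [],
  [],
  [],
  [],
  [2,22,22,9,23,18,23,20,22,17,20,18,19,14,12,15],
  [],
  [2,23,23,22,23,9,19,9,21,20,9,16,15,12,15,18,13,19],
  [],
  [],
  [],
  [],
  [],
  [],
  [],
  [],
  [],
  [],
  [],
  [],
  [],
  [2,21,23,21,19,9,22,21,22,16,20,19,18,13,12,19,14],
  [],
  [2,21,23,22,19,23,9,15,22,22,21,12,13,16,13,13],
  [],
  [],
  [],
  [],
  [],
  [],
  [],
  [],
  [],
  [],
  [],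
  [],
  [],
  [],
  [],
  [],
  [],
  [],
  [],
  [],
  [],
  [],
  [],
  [],
  [],
  [],
  [],
  [],
  [],
  [],
  [],
  [],
  [2,22,22,21,23,19,20,22,22,19,16,22,16,13,17,12,12],
  [],
  [2,23,9,23,23,9,22,20,21,19,18,15,22,22,14,13,15,15],
  [],
  [],
  [],
  [],
  [],
  [],
  [],
  [],
  [],
  [],
  [],
  [],
  [],
  [],
  [],
  [],
  [],
  [],
  [],
  [],
  [],
  [],
  [],
  [],
  [],
  [],
  [],
  [],
  [],
  [],
  [],
  [],
  [],
  [],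
  [],
  [],
  [],
  [],
  [],
  [],
  [],
  [],
  [],
  [],
  [],
  [],
  [],
  [],
  [],
  [],
  [],
  [],
  [],
  [2,9,22,20,22,9,18,22,16,16,22,22,13,17,17,14,15],
  [],
  [2,22,22,22,21,18,23,18,21,17,21,17,17,21,12,12,17,19],
  [],
  [],
  [],
  [],
  [],
  [],
  [],
  [],
  [],
  [],
  [],
  [],
  [],
  [],
  [],
  [],
  [],
  [],
  [],
  [],
  [],
  [],
  [],
  [],
  [],
  [],
  [],
  [],
  [],
  [2,9,23,9,21,22,9,18,21,15,18,17,21,12,13,15],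
  [],
  [2,9,23,22,21,20,9,22,23,23,17,20,15,16,19,12,17,19,19],
  [],
  [],
  [],
  [],
  [],
  [],
  [],
  [],
  [],
  [],
  [],
  [],
  [],
  [2,21,22,22,21,23,23,20,9,18,19,17,22,16,17,14,14,16],
  [],
  [2,22,23,9,22,20,22,23,18,16,15,18,17,12,15,19,16],
  [],
  [],
  [],
  [],
  [],
  [],
  [],
  [],
  [],
  [],
  [],
  [],
  [],
  [],
  [],
  [],
  [],
  [2,23,22,21,23,21,19,20,18,21,19,17,17,15,13,12,13,18,17],
  [],
  [2,22,23,22,9,21,19,18,22,23,19,16,19,17,20,12,15,16,14],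
  [],
  [],
  [],
  [],
  [],
  [],
  [],
  [],
  [],
  [],
  [],
  [],
  [],
  [],
  [],
  [],
  [],
  [],
  [],
  [],
  [],
  [],
  [],
  [],
  [],
  [],
  [],
  [],
  [],
  [],
  [],
  [],
  [],
  [],
  [],
  [],
  [],
  [],
  [],
  [],
  [],
  [],
  [],
  [],
  [],
  [],
  [],
  [],
  [],
  [],
  [],
  [],
  [],
  [2,21,23,23,21,22,20,9,17,22,17,21,14,18,14,17],
  [],
  [2,23,22,22,23,21,22,20,9,23,21,17,17,16,21,21,14,14,14],
  [],
  [],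
  [],
  [],
  [],
  [],
  [],
  [],
  [],
  [],
  [],
  [],
  [],
  [],
  [],
  [],
  [],
  [],
  [],
  [],
  [],
  [],
  [],
  [],
  [],
  [],
  [],
  [],
  [],
  [],
  [],
  [],
  [],
  [2,23,21,19,22,19,18,17,15,22,18,14,15,12,16,13],
  [],
  [2,22,22,22,9,20,18,20,23,16,17,22,15,21,14,17,19,13],
  [],
  [],
  [],
  [],
  [],
  [],
  [],
  [],
  [],
  [],
  [],
  [],
  [],
  [2,22,22,9,21,23,23,19,23,23,18,15,18,20,13,13,19,16],
  [],
  [2,23,23,9,21,23,18,20,22,23,15,16,17,21,17,14,12,17,19],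
  [],
  [],
  [],
  [],
  [],
  [],
  [],
  [],
  [],
  [],
  [],
  [],
  [],
  [],
  [],
  [],
  [],
  [2,9,23,9,22,18,22,18,21,17,20,16,12,15,15,14,12],
  [],
  [2,22,21,22,23,22,9,18,18,9,20,16,18,16,15,12,19,13,19],
  [],
  [],
  [],
  [],
  [],
  [],
  [],
  [],
  [],
  [],
  [],
  [],
  [],
  [],
  [],
  [],
  [],
  [],
  [],
  [],
  [],
  [],
  [],
  [],
  [],
  [],
  [],
  [],
  [],
  [],
  [],
  [],
  [],
  [],
  [],
  [],
  [],
  [],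
  [],
  [],
  [],
  [],
  [],
  [],
  [],
  [],
  [],
  [],
  [],
  [],
  [],
  [],
  [],
  [2,9,22,22,9,20,21,22,17,16,15,21,12,15,14,14],
  [],
  [2,9,22,21,18,18,20,23,15,22,20,22,14,13,18],
  [],
  [],
  [],
  [],
  [],
  [],
  [],
  [],
  [],
  [],
  [],
  [],
  [],
  [],
  [],
  [],
  [],
  [],
  [],
  [],
  [],
  [],
  [],
  [],
  [],
  [],
  [],
  [],
  [],
  [],
  [],
  [],
  [],
  [],
  [2,22,22,23,19,9,20,19,17,21,16,13,14,14],
  [],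
  [2,9,23,22,23,9,18,20,17,20,20,21,20,12,18,16,13,18],
  [],
  [],
  [],
  [],
  [],
  [],
  [],
  [],
  [],
  [],
  [],
  [],
  [],
  [2,23,21,23,22,23,9,19,21,16,17,19,14,15,12,12],
  [],
  [2,22,23,22,23,21,19,19,9,21,22,15,18,16,13,12,17,18],
  [],
  [],
  [],
  [],
  [],
  [],
  [],
  [],
  [],
  [],
  [],
  [],
  [],
  [],
  [],
  [],
  [],
  [2,23,23,9,21,22,23,19,19,19,19,19,16,21,13,15,19],
  [],
  [2,21,23,23,23,21,20,23,20,16,18,16,21,12,14,13,17],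
  [],
  [],
  [],
  [],
  [],
  [],
  [],
  [],
  [],
  [],
  [],
  [],
  [],
  [],
  [],
  [],
  [],
  [],
  [],
  [],
  [],
  [],
  [],
  [],
  [],
  [],
  [],
  [],
  [],
  [],
  [],
  [],
  [],
  [],
  [],
  [],
  [],
  [],
  [],
  [],
  [],
  [],
  [],
  [],
  [],
  [],
  [],
  [],
  [],
  [],
  [],
  [],
  [],
  [2,22,21,23,19,9,19,23,17,18,20,21,15,13,17,18,19],
  [],
  [2,9,23,23,23,22,9,21,20,21,19,19,9,17,20,22,20,13,14],
  [],
  [],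
  [],
  [],
  [],
  [],
  [],
  [],
  [],
  [],
  [],
  [],
  [],
  [],
  [],
  [],
  [],
  [],
  [],
  [],
  [],
  [],
  [],
  [],
  [],
  [],
  [],
  [],
  [],
  [],
  [],
  [],
  [],
  [2,9,22,22,9,19,22,9,23,9,17,22,18,20,12,13,16,19],
  [],
  [2,9,22,9,21,19,23,19,22,16,19,19,12,13,18,17],
  [],
  [],
  [],
  [],
  [],
  [],
  [],
  [],
  [],
  [],
  [],
  [],
  [],
  [2,22,22,23,23,23,9,18,19,18,20,16,19,19,12,19,17,19],
  [],
  [2,23,9,22,9,23,23,19,9,17,16,17,15,12,14,17,17],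
  [],
  [],
  [],
  [],
  [],
  [],
  [],
  [],
  [],
  [],
  [],
  [],
  [],
  [],
  [],
  [],
  [],
  [],
  [],
  [],
  [],
  [2,23,22,9,23,19,9,20,21,20,17,15,16,19,12,15,12,12],
  [],
  [2,21,22,9,22,19,21,20,15,16,17,15,12,19,17,17,12,13],
  [],
  [],
  [],
  [],
  [],
  [],
  [],
  [],
  [],
  [],
  [],
  [],
  [],
  [],
  [],
  [],
  [],
  [],
  [],
  [],
  [],
  [],
  [],
  [],
  [],
  [],
  [],
  [],
  [],
  [],
  [],
  [],
  [],
  [],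
  [],
  [],
  [],
  [],
  [],
  [],
  [],
  [],
  [],
  [],
  [],
  [],
  [],
  [],
  [],
  [],
  [],
  [],
  [],
  [2,21,22,9,19,9,22,18,23,16,17,17,12,12,14,18,19],
  [],
  [2,22,9,19,23,20,9,16,18,16,22,15,14,15,18,18,19],
  [],
  [],
  [],
  [],
  [],
  [2,21,23,23,19,23,18,21,17,17,16,20,13,17,14,15],
  [],
  [2,9,21,23,22,19,22,22,20,16,22,15,18,20,14,19,16],
  [],
  [],
  [],
  [],
  [],
  [],
  [],
  [],
  [],
  [],
  [],
  [],
  [],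
  [],
  [],
  [],
  [],
  [],
  [],
  [],
  [],
  [],
  [],
  [],
  [],
  [],
  [],
  [],
  [],
  [],
  [],
  [],
  [],
  [],
  [],
  [],
  [],
  [],
  [],
  [],
  [],
  [],
  [],
  [],
  [],
  [],
  [],
  [],
  [],
  [],
  [],
  [],
  [],
  [2,21,23,21,20,23,9,22,17,18,15,17,12,12,13,19,12],
  [],
  [2,9,23,9,21,23,19,23,20,22,23,16,15,20,16,12,12,16],
  [],
  [],
  [],
  [],
  [],
  [],
  [],
  [],
  [],
  [],
  [],
  [],
  [],
  [],
  [],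
  [],
  [2,21,23,23,23,20,19,19,16,19,19,13,13,12,15],
  [],
  [2,19,20,20,20,21,16,17,16,20,12,18,15,14,16],
  [],
  [],
  [],
  [],
  [],
  [],
  [],
  [],
  [],
  [],
  [],
  [],
  [],
  [2,9,23,23,22,23,21,18,19,19,17,16,21,16,17,14,14,15],
  [],
  [2,23,22,23,9,23,23,23,18,9,20,17,16,15,16,15,14,18,16,13],
  [],
  [],
  [],
  [],
  [],
  [],
  [],
  [],
  [],
  [],
  [],
  [],
  [],
  [],
  [],
  [],
  [],
  [],
  [],
  [],
  [],
  [],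
  [],
  [],
  [],
  [],
  [],
  [],
  [],
  [],
  [],
  [],
  [],
  [2,9,22,9,22,22,18,23,9,20,15,22,19,16,12,16,18,17],
  [],
  [2,23,9,21,22,21,19,9,22,16,19,16,16,12,18,16,15,18],
  [],
  [],
  [],
  [],
  [],
  [],
  [],
  [],
  [],
  [],
  [],
  [],
  [],
  [],
  [],
  [],
  [],
  [],
  [],
  [],
  [],
  [],
  [],
  [],
  [],
  [],
  [],
  [],
  [],
  [],
  [],
  [],
  [],
  [],
  [],
  [],
  [],
  [],
  [],
  [],
  [],
  [],
  [],
  [],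
  [],
  [],
  [],
  [],
  [],
  [],
  [],
  [],
  [],
  [2,21,23,9,21,22,18,23,18,15,20,17,15,12,19,18,13,12],
  [],
  [2,9,23,23,22,22,23,21,22,18,21,16,16,18,18,12,15,14,16],
  [],
  [],
  [],
  [],
  [],
  [],
  [],
  [],
  [],
  [],
  [],
  [],
  [],
  [],
  [],
  [],
  [],
  [2,23,21,22,19,18,20,18,15,16,16,13,18,16],
  [],
  [2,22,23,21,19,19,19,18,9,22,16,16,18,21,19,13,13],
  [],
  [],
  [],
  [],
  [],
  [],
  [],
  [],
  [],
  [],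
  [],
  [],
  [],
  [2,23,23,9,22,22,9,15,16,19,19,14,14,13,13],
  [],
  [2,23,22,9,21,23,18,22,19,18,17,16,22,13,18,12,12],
  [],
  [],
  [],
  [],
  [],
  [],
  [],
  [],
  [],
  [],
  [],
  [],
  [],
  [],
  [],
  [],
  [],
  [],
  [],
  [],
  [],
  [],
  [],
  [],
  [],
  [],
  [],
  [],
  [],
  [],
  [2,9,22,21,18,19,23,17,15,22,19,22,12,12,16,15],
  [],
  [2,21,23,9,19,20,19,23,9,16,21,22,12,16,14,13],
  [],
  [],
  [],
  [],
  [],
  [],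
  [],
  [],
  [],
  [],
  [],
  [],
  [],
  [],
  [],
  [],
  [],
  [],
  [],
  [],
  [],
  [],
  [],
  [],
  [],
  [],
  [],
  [],
  [],
  [],
  [],
  [],
  [],
  [],
  [],
  [],
  [],
  [],
  [],
  [],
  [],
  [],
  [],
  [],
  [],
  [],
  [],
  [],
  [],
  [],
  [],
  [],
  [],
  [2,9,23,9,23,23,22,19,21,23,16,22,17,16,13,15,12,15],
  [],
  [2,9,22,9,22,21,22,21,18,19,16,22,17,16,12,12,17,19,15,13],
  [],
  [],
  [],
  [],
  [],
  [],
  [],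
  [],
  [],
  [],
  [],
  [],
  [],
  [],
  [],
  [],
  [],
  [],
  [],
  [],
  [],
  [],
  [],
  [],
  [],
  [],
  [],
  [],
  [],
  [],
  [],
  [],
  [],
  [],
  [],
  [],
  [],
  [],
  [],
  [],
  [],
  [],
  [],
  [],
  [],
  [],
  [],
  [],
  [],
  [],
  [],
  [],
  [],
  [],
  [],
  [],
  [],
  [],
  [],
  [],
  [],
  [],
  [],
  [],
  [],
  [],
  [],
  [],
  [],
  [],
  [],
  [],
  [],
  [],
  [],
  [],
  [],
  [],
  [],
  [],
  [],
  [],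
  [],
  [],
  [],
  [],
  [],
  [],
  [],
  [],
  [],
  [],
  [],
  [],
  [],
  [],
  [],
  [],
  [],
  [],
  [],
  [],
  [],
  [],
  [],
  [],
  [],
  [],
  [],
  [],
  [],
  [],
  [],
  [],
  [],
  [],
  [],
  [],
  [],
  [],
  [],
  [],
  [],
  [],
  [],
  [],
  [],
  [],
  [],
  [],
  [],
  [],
  [],
  [],
  [],
  [],
  [],
  [],
  [],
  [],
  [],
  [],
  [],
  [],
  [],
  [],
  [],
  [],
  [],
  [],
  [],
  [],
  [],
  [],
  [],
  [],
  [],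
  [],
  [],
  [],
  [],
  [],
  [],
  [],
  [],
  [],
  [],
  [],
  [],
  [],
  [],
  [],
  [],
  [],
  [],
  [],
  [],
  [],
  [],
  [],
  [],
  [],
  [],
  [],
  [],
  [],
  [],
  [],
  [],
  [],
  [],
  [],
  [],
  [],
  [],
  [],
  [],
  [],
  [],
  [],
  [],
  [],
  [],
  [],
  [],
  [],
  [],
  [],
  [],
  [],
  [],
  [],
  [],
  [],
  [],
  [],
  [],
  [],
  [],
  [],
  [],
  [],
  [],
  [],
  [],
  [],
  [],
  [],
  [],
  [],
  [],
  [],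
  [],
  [],
  [],
  [],
  [],
  [],
  [],
  [],
  [],
  [],
  [],
  [],
  [],
  [],
  [],
  [],
  [],
  [],
  [],
  [],
  [],
  [],
  [],
  [],
  [],
  [],
  [],
  [],
  [],
  [],
  [],
  [],
  [],
  [],
  [],
  [],
  [],
  [],
  [],
  [],
  [],
  [],
  [],
  [],
  [],
  [],
  [],
  [],
  [],
  [],
  [],
  [],
  [],
  [],
  [],
  [],
  [],
  [],
  [],
  [],
  [],
  [],
  [],
  [],
  [],
  [],
  [],
  [],
  [],
  [],
  [],
  [],
  [],
  [],
  [],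
  [],
  [],
  [],
  [],
  [],
  [],
  [],
  [],
  [],
  [],
  [],
  [],
  [],
  [],
  [],
  [],
  [],
  [],
  [],
  [],
  [],
  [],
  [],
  [],
  [],
  [],
  [],
  [],
  [],
  [],
  [],
  [],
  [],
  [],
  [],
  [],
  [],
  [],
  [],
  [],
  [],
  [],
  [],
  [],
  [],
  [],
  [],
  [],
  [],
  [],
  [],
  [],
  [],
  [],
  [],
  [],
  [],
  [],
  [],
  [],
  [],
  [],
  [],
  [],
  [],
  [],
  [],
  [],
  [],
  [],
  [],
  [],
  [],
  [],
  [],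
  [],
  [],
  [],
  [],
  [],
  [],
  [],
  [],
  [],
  [],
  [],
  [],
  [],
  [],
  [],
  [],
  [],
  [],
  [],
  [],
  [],
  [],
  [],
  [],
  [],
  [],
  [],
  [],
  [],
  [],
  [],
  [],
  [],
  [],
  [],
  [],
  [],
  [],
  [],
  [],
  [],
  [],
  [],
  [],
  [],
  [],
  [],
  [],
  [],
  [],
  [],
  [],
  [],
  [],
  [],
  [],
  [],
  [],
  [],
  [],
  [],
  [],
  [],
  [],
  [],
  [],
  [],
  [],
  [],
  [],
  [],
  [],
  [],
  [],
  [],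
  [],
  [],
  [],
  [],
  [],
  [],
  [],
  [],
  [],
  [],
  [],
  [],
  [],
  [],
  [],
  [],
  [],
  [],
  [],
  [],
  [],
  [],
  [],
  [],
  [],
  [],
  [],
  [],
  [],
  [],
  [],
  [],
  [],
  [],
  [],
  [],
  [],
  [],
  [],
  [],
  [],
  [],
  [],
  [],
  [],
  [],
  [],
  [],
  [],
  [],
  [],
  [],
  [],
  [],
  [],
  [],
  [],
  [],
  [],
  [],
  [],
  [],
  [],
  [],
  [],
  [],
  [],
  [],
  [],
  [],
  [],
  [],
  [],
  [],
  [],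
  [],
  [],
  [],
  [],
  [],
  [],
  [],
  [],
  [],
  [],
  [],
  [],
  [],
  [],
  [],
  [],
  [],
  [],
  [],
  [],
  [],
  [],
  [],
  [],
  [],
  [],
  [],
  [],
  [],
  [],
  [],
  [],
  [],
  [],
  [],
  [],
  [],
  [],
  [],
  [],
  [],
  [],
  [],
  [],
  [],
  [],
  [],
  [],
  [],
  [],
  [],
  [],
  [],
  [],
  [],
  [],
  [],
  [],
  [],
  [],
  [],
  [],
  [],
  [],
  [],
  [],
  [],
  [],
  [],
  [],
  [],
  [],
  [],
  [],
  [],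
  [],
  [],
  [],
  [],
  [],
  [],
  [],
  [],
  [],
  [],
  [],
  [],
  [],
  [],
  [],
  [],
  [],
  [],
  [],
  [],
  [],
  [],
  [],
  [],
  [],
  [],
  [],
  [],
  [],
  [],
  [],
  [],
  [],
  [],
  [],
  [],
  [],
  [],
  [],
  [],
  [],
  [],
  [],
  [],
  [],
  [],
  [],
  [],
  [],
  [],
  [],
  [],
  [],
  [],
  [],
  [],
  [],
  [],
  [],
  [],
  [],
  [],
  [],
  [],
  [],
  [],
  [],
  [],
  [],
  [],
  [],
  [],
  [],
  [],
  [],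
  [],
  [],
  [],
  [],
  [],
  [],
  [],
  [],
  [],
  [],
  [],
  [],
  [],
  [],
  [],
  [],
  [],
  [],
  [],
  [],
  [],
  [],
  [],
  [],
  [],
  [],
  [],
  [],
  [],
  [],
  [],
  [],
  [],
  [],
  [],
  [],
  [],
  [],
  [],
  [],
  [],
  [],
  [],
  [],
  [],
  [],
  [],
  [],
  [],
  [],
  [],
  [],
  [],
  [],
  [],
  [],
  [],
  [],
  [],
  [],
  [],
  [],
  [],
  [],
  [],
  [],
  [],
  [],
  [],
  [],
  [],
  [],
  [],
  [],
  [],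
  [],
  [],
  [],
  [],
  [],
  [],
  [],
  [],
  [],
  [],
  [],
  [],
  [],
  [],
  [],
  [],
  [],
  [],
  [],
  [],
  [],
  [],
  [],
  [],
  [],
  [],
  [],
  [],
  [],
  [],
  [],
  [],
  [],
  [],
  [],
  [],
  [],
  [],
  [],
  [],
  [],
  [],
  [],
  [],
  [],
  [],
  [],
  [],
  [],
  [],
  [],
  [],
  [],
  [],
  [],
  [],
  [],
  [],
  [],
  [],
  [],
  [],
  [],
  [],
  [],
  [],
  [],
  [],
  [],
  [],
  [],
  [],
  [],
  [],
  [],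
  [],
  [],
  [],
  [],
  [],
  [],
  [],
  [],
  [],
  [],
  [],
  [],
  [],
  [],
  [],
  [],
  [],
  [],
  [],
  [],
  [],
  [],
  [],
  [],
  [],
  [],
  [],
  [],
  [],
  [],
  [],
  [],
  [],
  [],
  [],
  [],
  [],
  [],
  [],
  [],
  [],
  [],
  [],
  [],
  [],
  [],
  [],
  [],
  [],
  [],
  [],
  [],
  [],
  [],
  [],
  [],
  [],
  [],
  [],
  [],
  [],
  [],
  [],
  [],
  [],
  [],
  [],
  [],
  [],
  [],
  [],
  [],
  [],
  [],
  [],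
  [],
  [],
  [],
  [],
  [],
  [],
  [],
  [],
  [],
  [],
  [],
  [],
  [],
  [],
  [],
  [],
  [],
  [],
  [],
  [],
  [],
  [],
  [],
  [],
  [],
  [],
  [],
  [],
  [],
  [],
  [],
  [],
  [],
  [],
  [],
  [],
  [],
  [],
  [],
  [],
  [],
  [],
  [],
  [],
  [],
  [],
  [],
  [],
  [],
  [],
  [],
  [],
  [],
  [],
  [],
  [],
  [],
  [],
  [],
  [],
  [],
  [],
  [],
  [],
  [],
  [],
  [],
  [],
  [],
  [],
  [],
  [],
  [],
  [],
  [],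
  [],
  [],
  [],
  [],
  [],
  [],
  [],
  [],
  [],
  [],
  [],
  [],
  [],
  [],
  [],
  [],
  [],
  [],
  [],
  [],
  [],
  [],
  [],
  [],
  [],
  [],
  [],
  [],
  [],
  [],
  [],
  [],
  [],
  [],
  [],
  [],
  [],
  [],
  [],
  [],
  [],
  [],
  [],
  [],
  [],
  [],
  [],
  [],
  [],
  [],
  [],
  [],
  [],
  [],
  [],
  [],
  [],
  [],
  [],
  [],
  [],
  [],
  [],
  [],
  [],
  [],
  [],
  [],
  [],
  [],
  [],
  [],
  [],
  [],
  [],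
  [],
  [],
  [],
  [],
  [],
  [],
  [],
  [],
  [],
  [],
  [],
  [],
  [],
  [],
  [],
  [],
  [],
  [],
  [],
  [],
  [],
  [],
  [],
  [],
  [],
  [],
  [],
  [],
  [],
  [],
  [],
  [],
  [],
  [],
  [],
  [],
  [],
  [],
  [],
  [],
  [],
  [],
  [],
  [],
  [],
  [],
  [],
  [],
  [],
  [],
  [],
  [],
  [],
  [],
  [],
  [],
  [],
  [],
  [],
  [],
  [],
  [],
  [],
  [],
  [],
  [],
  [],
  [],
  [],
  [],
  [],
  [],
  [],
  [],
  [],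
  [],
  [],
  [],
  [],
  [],
  [],
  [],
  [],
  [],
  [],
  [],
  [],
  [],
  [],
  [],
  [],
  [],
  [],
  [],
  [],
  [],
  [],
  [],
  [],
  [],
  [],
  [],
  [],
  [],
  [],
  [],
  [],
  [],
  [],
  [],
  [],
  [],
  [],
  [],
  [],
  [],
  [],
  [],
  [],
  [],
  [],
  [],
  [],
  [],
  [],
  [],
  [],
  [],
  [],
  [],
  [],
  [],
  [],
  [],
  [],
  [],
  [],
  [],
  [],
  [],
  [],
  [],
  [],
  [],
  [],
  [],
  [],
  [],
  [],
  [],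
  [],
  [],
  [],
  [],
  [],
  [],
  [],
  [],
  [],
  [],
  [],
  [],
  [],
  [],
  [],
  [],
  [],
  [],
  [],
  [],
  [],
  [],
  [],
  [],
  [],
  [],
  [],
  [],
  [],
  [],
  [],
  [],
  [],
  [],
  [],
  [],
  [],
  [],
  [],
  [],
  [],
  [],
  [],
  [],
  [],
  [],
  [],
  [],
  [],
  [],
  [],
  [],
  [],
  [],
  [],
  [],
  [],
  [],
  [],
  [],
  [],
  [],
  [],
  [],
  [],
  [],
  [],
  [],
  [],
  [],
  [],
  [],
  [],
  [],
  [],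
  [],
  [],
  [],
  [],
  [],
  [],
  [],
  [2,22,22,23,21,19,19,21,20,9,17,18,18,12,18,15,15],
  [],
  [2,21,19,22,21,22,19,17,21,16,16,13,18,12,16,13],
  [],
  [],
  [],
  [],
  [],
  [],
  [],
  [],
  [],
  [2,23,23,23,9,18,23,20,23,17,22,15,17,20,12,15,13,18,17],
  [],
  [2,9,21,22,21,18,23,21,23,21,16,15,17,20,14,16,17,12],
  [],
  [],
  [],
  [],
  [],
  [],
  [],
  [],
  [],
  [],
  [],
  [],
  [],
  [2,22,21,19,19,18,21,17,17,21,22,12,13,18,17,15],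
  [],
  [2,9,23,23,22,23,21,19,9,20,19,17,15,15,13,16,16,16],
  [],
  [],
  [],
  [],
  [],
  [],
  [],
  [],
  [],
  [],
  [],
  [],
  [],
  [],
  [],
  [],
  [],
  [],
  [],
  [],
  [],
  [],
  [],
  [],
  [],
  [2,22,21,22,23,19,18,20,22,20,17,17,17,21,22,13],
  [],
  [2,22,23,22,23,21,20,23,15,20,19,15,12,17,16,12],
  [],
  [],
  [],
  [],
  [],
  [],
  [],
  [],
  [],
  [],
  [],
  [],
  [],
  [],
  [],
  [],
  [],
  [],
  [],
  [],
  [],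
  [],
  [],
  [],
  [],
  [],
  [],
  [],
  [],
  [],
  [],
  [],
  [],
  [],
  [],
  [],
  [],
  [],
  [],
  [],
  [],
  [],
  [],
  [],
  [],
  [],
  [],
  [],
  [],
  [],
  [],
  [],
  [],
  [],
  [],
  [],
  [],
  [],
  [],
  [],
  [],
  [],
  [],
  [],
  [],
  [],
  [],
  [],
  [],
  [2,23,21,23,19,20,22,22,17,16,22,22,16,14,17,16],
  [],
  [2,9,21,23,21,22,18,19,23,22,19,17,20,18,12,14,15,12],
  [],
  [],
  [],
  [],
  [],
  [],
  [],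
  [],
  [],
  [2,23,21,23,19,19,20,9,17,17,18,14,16,13,16,15],
  [],
  [2,9,23,21,23,20,18,18,23,17,20,17,15,12,18,13,16],
  [],
  [],
  [],
  [],
  [],
  [],
  [],
  [],
  [],
  [],
  [],
  [],
  [],
  [2,9,23,23,22,22,20,20,20,23,16,16,18,20,14,18,14,19],
  [],
  [2,22,23,23,9,23,20,21,20,21,17,22,21,14,19,17,16,17],
  [],
  [],
  [],
  [],
  [],
  [],
  [],
  [],
  [],
  [],
  [],
  [],
  [],
  [],
  [],
  [],
  [],
  [],
  [],
  [],
  [],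
  [],
  [],
  [],
  [],
  [2,23,23,9,22,23,20,20,21,20,20,16,16,12,14,18,14,14],
  [],
  [2,23,21,23,21,19,22,23,20,19,16,18,21,15,13,14,13],
  [],
  [],
  [],
  [],
  [],
  [],
  [],
  [],
  [],
  [],
  [],
  [],
  [],
  [],
  [],
  [],
  [],
  [],
  [],
  [],
  [],
  [],
  [],
  [],
  [],
  [],
  [],
  [],
  [],
  [],
  [],
  [],
  [],
  [],
  [],
  [],
  [],
  [],
  [],
  [],
  [],
  [],
  [],
  [],
  [],
  [],
  [],
  [],
  [],
  [],
  [],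
  [],
  [],
  [],
  [],
  [],
  [],
  [],
  [],
  [],
  [],
  [],
  [],
  [],
  [],
  [],
  [],
  [],
  [],
  [],
  [],
  [],
  [],
  [],
  [],
  [],
  [],
  [],
  [],
  [],
  [],
  [],
  [],
  [],
  [],
  [],
  [],
  [],
  [],
  [],
  [],
  [],
  [],
  [],
  [],
  [],
  [],
  [],
  [],
  [],
  [],
  [],
  [],
  [],
  [],
  [],
  [],
  [],
  [],
  [],
  [],
  [],
  [],
  [],
  [],
  [],
  [],
  [],
  [],
  [],
  [],
  [],
  [],
  [],
  [],
  [],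
  [],
  [],
  [],
  [],
  [],
  [],
  [2,21,23,18,19,9,20,16,17,19,16,14,17,15,13],
  [],
  [2,9,22,22,22,19,20,19,18,17,21,20,22,13,12,17],
  [],
  [],
  [],
  [],
  [],
  [],
  [],
  [],
  [],
  [2,23,9,23,20,21,19,16,21,15,16,12,19,16,18,17],
  [],
  [2,23,22,9,23,19,19,20,20,16,18,22,15,14,17,13,14,19],
  [],
  [],
  [],
  [],
  [],
  [],
  [],
  [],
  [],
  [],
  [],
  [],
  [],
  [2,9,22,23,22,9,23,23,20,21,17,22,21,14,12,18,17,19],
  [],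
  [2,9,22,23,23,9,18,9,22,20,19,16,19,20,14,19,14],
  [],
  [],
  [],
  [],
  [],
  [],
  [],
  [],
  [],
  [],
  [],
  [],
  [],
  [],
  [],
  [],
  [],
  [],
  [],
  [],
  [],
  [],
  [],
  [],
  [],
  [2,23,9,22,23,22,20,19,9,16,16,19,20,18,14,18,13,12],
  [],
  [2,23,9,20,9,22,21,22,16,16,19,15,18,14,16,15,13,16],
  [],
  [],
  [],
  [],
  [],
  [],
  [2,22,23,23,22,21,19,22,21,16,18,19,16,12,19,18,18,15],
  [],
  [2,9,23,19,21,22,23,15,12,12,14,19],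
  [],
  [],
  [],
  [],
  [],
  [],
  [],
  [],
  [],
  [2,21,23,23,22,9,20,17,17,21,21,15,12,14,17,14],
  [],
  [2,9,23,23,19,20,18,21,18,17,21,20,20,13,15,14,12],
  [],
  [],
  [],
  [],
  [],
  [],
  [],
  [],
  [],
  [],
  [],
  [],
  [],
  [2,23,22,23,22,23,21,19,18,21,19,19,16,22,13,17,17],
  [],
  [2,21,23,22,21,19,21,22,17,16,17,17,20,14,17,17,19,15],
  [],
  [],
  [],
  [],
  [],
  [],
  [],
  [],
  [],
  [],
  [],
  [],
  [],
  [],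
  [],
  [],
  [],
  [],
  [],
  [],
  [],
  [],
  [],
  [],
  [],
  [2,9,23,23,9,22,22,21,20,23,9,17,18,14,18,16,14,14],
  [],
  [2,22,21,23,20,18,9,20,17,18,20,22,15,13,12,14,16],
  [],
  [],
  [],
  [],
  [],
  [2,9,22,22,9,23,9,21,18,22,16,16,22,17,12,14,17,18],
  [],
  [2,23,21,23,22,23,18,16,22,15,18,12,19,19,17,12,13],
  [],
  [],
  [],
  [],
  [],
  [],
  [],
  [],
  [],
  [2,22,22,23,22,18,20,21,23,17,21,19,22,14,19,19,19],
  [],
  [2,23,9,19,9,23,18,19,15,21,21,15,14,12,17],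
  [],
  [],
  [],
  [],
  [],
  [],
  [],
  [],
  [],
  [],
  [],
  [],
  [],
  [2,23,22,23,21,23,19,23,18,23,18,16,15,16,19,12,14,19],
  [],
  [2,9,23,22,21,22,23,19,20,18,21,19,17,16,22,14,12,16,19],
  [],
  [],
  [],
  [],
  [],
  [],
  [],
  [],
  [],
  [],
  [],
  [],
  [],
  [],
  [],
  [],
  [],
  [],
  [],
  [],
  [],
  [],
  [],
  [],
  [],
  [2,23,22,21,22,18,21,18,21,15,18,12,13,19],
  [],
  [2,9,22,21,22,23,22,18,23,9,22,17,19,20,12,16,19,14],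
  [],
  [],
  [],
  [],
  [],
  [],
  [],
  [],
  [],
  [],
  [],
  [],
  [],
  [],
  [],
  [],
  [],
  [],
  [],
  [],
  [],
  [],
  [],
  [],
  [],
  [],
  [],
  [],
  [],
  [],
  [],
  [],
  [],
  [],
  [],
  [],
  [],
  [],
  [],
  [],
  [],
  [],
  [],
  [],
  [],
  [],
  [],
  [],
  [],
  [],
  [],
  [],
  [],
  [],
  [],
  [],
  [],
  [],
  [],
  [],
  [],
  [],
  [],
  [],
  [],
  [2,22,21,22,23,20,17,18,15,22,12,19,18,13],
  [],
  [2,23,23,22,23,22,21,20,23,23,17,20,15,18,14,16,18,17,17],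
  [],
  [],
  [],
  [],
  [],
  [],
  [],
  [],
  [],
  [],
  [],
  [],
  [],
  [],
  [],
  [],
  [],
  [],
  [],
  [],
  [],
  [],
  [],
  [],
  [],
  [2,9,22,22,19,18,20,18,17,15,18,16,21,13,14,15,18,18],
  [],
  [2,23,9,22,21,18,9,20,17,20,16,16,12,16,12,16,15],
  [],
  [],
  [],
  [],
  [],
  [],
  [],
  [],
  [],
  [],
  [],
  [],
  [],
  [2,23,23,21,22,20,19,17,20,22,16,19,13,19,13,13],
  [],
  [2,22,9,21,23,23,19,9,20,19,15,17,14,18,19,19,15],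
  [],
  [],
  [],
  [],
  [],
  [],
  [],
  [],
  [],
  [2,23,22,9,23,20,20,21,19,17,17,21,12,15,17,15,14],
  [],
  [2,23,23,21,22,23,9,23,19,18,20,19,16,22,21,16,13,16],
  [],
  [],
  [],
  [],
  [],
  [],
  [],
  [],
  [2,23,21,22,9,21,20,18,9,16,20,17,17,12,19,16,12,16],
  [],
  [2,22,22,21,23,21,20,18,19,16,20,21,15,12,13,13],
  [],
  [],
  [],
  [],
  [],
  [],
  [],
  [],
  [],
  [2,9,21,22,23,21,19,22,21,18,15,20,12,12,15,17,17],
  [],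
  [2,22,23,23,22,22,20,9,19,23,16,18,21,22,12,12,19,15,17],
  [],
  [],
  [],
  [],
  [],
  [],
  [],
  [],
  [],
  [],
  [],
  [],
  [],
  [2,22,9,22,9,20,18,19,21,23,17,16,21,15,12,16,15],
  [],
  [2,23,22,22,22,18,22,18,22,16,20,16,16,14,18,15,17],
  [],
  [],
  [],
  [],
  [],
  [],
  [],
  [],
  [],
  [],
  [],
  [],
  [],
  [],
  [],
  [],
  [],
  [],
  [],
  [],
  [],
  [],
  [],
  [],
  [],
  [2,22,9,23,21,19,9,18,22,16,16,15,17,17,14,15,15,15],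
  [],
  [2,23,9,23,23,23,20,23,21,20,15,20,18,14,12,13,16,18],
  [],
  [],
  [2,9,23,9,20,9,22,21,17,16,19,19,17,12,19,14,19],
  [],
  [2,23,23,19,22,18,19,22,16,19,15,22,19,12,18,16,12,19],
  [],
  [],
  [],
  [],
  [],
  [],
  [],
  [],
  [],
  [],
  [],
  [],
  [],
  [],
  [],
  [],
  [],
  [],
  [],
  [],
  [],
  [],
  [],
  [],
  [],
  [2,23,22,23,19,22,23,22,17,16,20,19,13,15,14],
  [],
  [2,9,22,23,21,23,19,9,23,17,16,19,12,15,15,17,18],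
  [],
  [],
  [],
  [],
  [],
  [],
  [],
  [],
  [],
  [],
  [],
  [],
  [],
  [2,9,21,23,19,9,23,18,17,21,22,17,14,12,16,15,14],
  [],
  [2,9,23,22,9,21,19,20,9,18,23,15,21,19,12,14,17,17],
  [],
  [],
  [],
  [],
  [],
  [],
  [],
  [],
  [],
  [2,9,18,18,20,20,17,17,22,18,18,12,18,19,19],
  [],
  [2,21,22,22,19,22,21,20,20,16,20,19,12,19,15,12],
  [],
  [],
  [],
  [],
  [],
  [],
  [],
  [],
  [],
  [],
  [],
  [],
  [],
  [],
  [],
  [],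
  [],
  [],
  [],
  [],
  [],
  [],
  [],
  [],
  [],
  [],
  [],
  [],
  [],
  [],
  [],
  [],
  [],
  [],
  [],
  [],
  [],
  [],
  [],
  [],
  [],
  [],
  [],
  [],
  [],
  [],
  [],
  [],
  [],
  [],
  [],
  [],
  [],
  [],
  [],
  [],
  [],
  [],
  [],
  [],
  [],
  [],
  [],
  [],
  [],
  [],
  [],
  [],
  [],
  [],
  [],
  [],
  [],
  [],
  [],
  [],
  [],
  [],
  [],
  [],
  [],
  [],
  [],
  [],
  [],
  [],
  [],
  [],
  [],
  [],
  [],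
  [],
  [],
  [],
  [],
  [],
  [],
  [],
  [],
  [],
  [],
  [],
  [],
  [],
  [],
  [],
  [],
  [],
  [],
  [],
  [],
  [],
  [],
  [],
  [],
  [],
  [],
  [],
  [],
  [],
  [],
  [],
  [],
  [],
  [],
  [],
  [],
  [],
  [],
  [],
  [],
  [],
  [],
  [],
  [],
  [],
  [],
  [],
  [],
  [],
  [],
  [],
  [],
  [],
  [],
  [],
  [],
  [],
  [],
  [],
  [],
  [],
  [],
  [],
  [],
  [],
  [],
  [],
  [],
  [],
  [],
  [],
  [],
  [],
  [],
  [],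
  [],
  [],
  [],
  [],
  [],
  [],
  [],
  [],
  [],
  [],
  [],
  [],
  [],
  [],
  [],
  [],
  [],
  [],
  [],
  [],
  [],
  [],
  [],
  [],
  [],
  [],
  [],
  [],
  [],
  [],
  [],
  [],
  [],
  [],
  [],
  [],
  [],
  [],
  [],
  [],
  [],
  [],
  [],
  [],
  [],
  [],
  [],
  [],
  [],
  [],
  [],
  [],
  [],
  [],
  [],
  [],
  [],
  [],
  [],
  [],
  [],
  [],
  [],
  [],
  [],
  [],
  [],
  [],
  [],
  [],
  [],
  [],
  [],
  [],
  [],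
  [],
  [],
  [],
  [],
  [],
  [],
  [],
  [],
  [],
  [],
  [],
  [],
  [],
  [],
  [],
  [],
  [],
  [],
  [],
  [],
  [],
  [],
  [],
  [],
  [2,9,21,23,21,19,22,21,15,19,21,19,14,19,17,12],
  [],
  [2,23,9,22,22,19,17,19,22,19,22,12,19,13,13,16],
  [],
  [],
  [],
  [],
  [],
  [],
  [],
  [],
  [],
  [2,23,22,22,20,18,22,17,17,18,22,20,12,18,14,19,12],
  [],
  [2,23,22,9,22,18,23,17,18,15,19,12,13,14,18,19],
  [],
  [],
  [],
  [],
  [],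
  [],
  [],
  [],
  [],
  [],
  [],
  [],
  [],
  [2,9,22,22,23,21,22,19,20,22,23,15,18,15,14,18,16,19],
  [],
  [2,23,9,23,23,19,19,21,16,22,15,19,12,15,12,12,17],
  [],
  [],
  [],
  [],
  [],
  [],
  [],
  [],
  [],
  [],
  [],
  [],
  [],
  [],
  [],
  [],
  [],
  [],
  [],
  [],
  [],
  [],
  [],
  [],
  [],
  [2,23,22,23,23,22,19,18,16,21,16,20,12,17,15,15,17],
  [],
  [2,9,23,22,23,20,18,22,17,17,22,18,21,14,12,16,12],
  [],
  [],
  [],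
  [],
  [],
  [],
  [],
  [],
  [],
  [],
  [],
  [],
  [],
  [],
  [],
  [],
  [],
  [],
  [],
  [],
  [],
  [],
  [],
  [],
  [],
  [],
  [],
  [],
  [],
  [],
  [],
  [],
  [],
  [],
  [],
  [],
  [],
  [],
  [],
  [],
  [],
  [],
  [],
  [],
  [],
  [],
  [],
  [],
  [],
  [],
  [],
  [],
  [],
  [],
  [],
  [],
  [],
  [],
  [],
  [],
  [],
  [],
  [],
  [],
  [],
  [],
  [],
  [],
  [],
  [2,21,22,23,19,22,19,18,18,17,16,21,21,12,19,17],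
  [],
  [2,23,9,22,9,19,21,22,17,17,19,17,17,13,12,19,16,13],
  [],
  [],
  [],
  [],
  [],
  [],
  [],
  [],
  [],
  [2,21,23,22,23,9,23,21,18,19,22,17,16,18,13,15,13,18,19],
  [],
  [2,21,23,19,18,18,18,17,15,17,20,21,12,17,16,12,15],
  [],
  [],
  [],
  [],
  [],
  [],
  [],
  [],
  [],
  [],
  [],
  [],
  [],
  [2,21,23,23,21,18,22,19,16,18,16,16,22,12,12,16,12,16,18],
  [],
  [2,9,22,19,9,23,22,17,17,19,20,13,12,13,18,18],
  [],
  [],
  [],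
  [],
  [],
  [],
  [],
  [],
  [],
  [],
  [],
  [],
  [],
  [],
  [],
  [],
  [],
  [],
  [],
  [],
  [],
  [],
  [],
  [],
  [],
  [2,9,23,22,22,19,23,23,23,18,16,22,16,12,12,17,15],
  [],
  [2,22,23,9,23,19,20,22,23,15,18,22,13,18,12,17,19],
  [],
  [],
  [],
  [],
  [],
  [],
  [],
  [],
  [],
  [],
  [],
  [],
  [],
  [],
  [],
  [],
  [],
  [],
  [],
  [],
  [],
  [],
  [],
  [],
  [],
  [],
  [],
  [],
  [],
  [],
  [],
  [],
  [],
  [],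
  [],
  [],
  [],
  [],
  [],
  [],
  [],
  [],
  [],
  [],
  [],
  [],
  [],
  [],
  [],
  [],
  [],
  [],
  [],
  [],
  [],
  [],
  [],
  [],
  [],
  [],
  [],
  [],
  [],
  [],
  [],
  [],
  [],
  [],
  [],
  [],
  [],
  [],
  [],
  [],
  [],
  [],
  [],
  [],
  [],
  [],
  [],
  [],
  [],
  [],
  [],
  [],
  [],
  [],
  [],
  [],
  [],
  [],
  [],
  [],
  [],
  [],
  [],
  [],
  [],
  [],
  [],
  [],
  [],
  [],
  [],
  [],
  [],
  [],
  [],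
  [],
  [],
  [],
  [],
  [],
  [],
  [],
  [],
  [],
  [],
  [],
  [],
  [],
  [],
  [],
  [],
  [],
  [],
  [],
  [],
  [],
  [],
  [],
  [2,22,9,21,23,22,20,19,9,19,17,20,20,20,13,13,18,12],
  [],
  [2,22,9,19,23,9,17,21,18,17,22,12,12,16,18,19],
  [],
  [],
  [],
  [],
  [],
  [],
  [],
  [],
  [],
  [2,23,21,19,19,22,20,17,17,15,21,22,13,17,12,19,18],
  [],
  [2,23,22,21,23,22,18,22,22,17,18,17,21,16,14,18,13,19,16],
  [],
  [],
  [],
  [],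
  [],
  [],
  [],
  [],
  [],
  [],
  [],
  [],
  [],
  [2,9,21,23,21,20,9,19,18,17,19,15,14,16,15,16,17],
  [],
  [2,23,9,22,9,22,18,20,22,22,15,15,22,16,13,16,16,14],
  [],
  [],
  [],
  [],
  [],
  [],
  [],
  [],
  [],
  [],
  [],
  [],
  [],
  [],
  [],
  [],
  [],
  [],
  [],
  [],
  [],
  [],
  [],
  [],
  [],
  [2,22,22,22,23,22,19,19,18,16,16,19,17,17,14,19,13,15],
  [],
  [2,22,9,22,23,19,22,22,20,21,17,20,20,12,17,19,12,18],
  [],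
  [2,9,22,9,22,22,9,15,19,15,20,12,19,16,14,19],
  [],
  [2,9,23,21,22,9,18,9,18,23,15,13,14,12,17,19],
  [],
  [],
  [],
  [],
  [],
  [],
  [],
  [],
  [],
  [],
  [],
  [],
  [],
  [],
  [],
  [],
  [],
  [],
  [],
  [],
  [],
  [],
  [],
  [],
  [],
  [2,22,21,23,21,22,23,19,22,19,13,14,13,18],
  [],
  [2,21,19,9,23,23,22,17,15,15,21,21,14,16,13,12],
  [],
  [],
  [],
  [],
  [],
  [],
  [],
  [],
  [],
  [],
  [],
  [],
  [],
  [2,23,22,22,22,23,22,20,23,19,17,22,18,17,13,17,14,12],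
  [],
  [2,23,23,9,22,22,18,19,20,17,20,18,19,16,12,18,14],
  [],
  [],
  [],
  [],
  [],
  [],
  [],
  [],
  [],
  [2,23,22,9,20,9,20,9,15,15,20,20,14,12,16,14],
  [],
  [2,23,9,22,22,21,19,20,9,23,20,17,16,13,17,15,12,14],
  [],
  [],
  [],
  [],
  [],
  [2,21,23,23,22,18,20,23,18,16,21,16,15,14,12,16,16,18],
  [],
  [2,21,22,21,23,9,20,22,9,15,18,15,17,13,16,15],
  [],
  [],
  [],
  [],
  [],
  [],
  [],
  [],
  [],
  [],
  [],
  [],
  [],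
  [],
  [],
  [],
  [],
  [],
  [],
  [],
  [],
  [],
  [],
  [],
  [],
  [2,23,21,23,21,23,18,21,17,18,16,18,17,14,12,18,17,13],
  [],
  [2,22,9,22,19,18,20,20,15,15,17,20,14,14,18,18],
  [],
  [],
  [],
  [],
  [],
  [],
  [],
  [],
  [],
  [],
  [],
  [],
  [],
  [2,23,9,19,20,23,23,19,16,17,18,21,15,13,18,16,17],
  [],
  [2,9,23,21,23,23,19,19,23,22,9,16,20,18,21,14,13,13,17],
  [],
  [],
  [],
  [],
  [],
  [],
  [],
  [],
  [],
  [2,9,23,23,23,9,19,22,21,18,22,17,18,22,15,12,19,15,12],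
  [],
  [2,22,23,9,20,18,22,9,16,22,19,16,12,14,12,18,17],
  [],
  [],
  [],
  [],
  [],
  [],
  [],
  [],
  [],
  [],
  [],
  [],
  [],
  [],
  [],
  [],
  [],
  [],
  [],
  [],
  [],
  [],
  [],
  [],
  [],
  [],
  [],
  [],
  [],
  [],
  [],
  [],
  [],
  [],
  [],
  [],
  [],
  [],
  [],
  [],
  [],
  [],
  [],
  [],
  [],
  [],
  [],
  [],
  [],
  [],
  [],
  [],
  [],
  [],
  [],
  [],
  [],
  [],
  [],
  [],
  [],
  [],
  [],
  [],
  [],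
  [],
  [],
  [],
  [],
  [],
  [2,23,9,22,22,19,19,18,16,16,19,15,18,14,18,17,19],
  [],
  [2,9,22,9,21,18,23,17,17,17,20,17,12,18,18,15,19],
  [],
  [],
  [],
  [],
  [],
  [],
  [],
  [],
  [],
  [],
  [],
  [],
  [],
  [],
  [],
  [],
  [],
  [],
  [],
  [],
  [],
  [],
  [],
  [],
  [],
  [2,22,9,22,19,18,20,9,20,16,22,15,22,12,12,16,19,17],
  [],
  [2,22,23,19,9,19,22,22,16,21,15,22,12,19,18,16,14],
  [],
  [],
  [],
  [],
  [],
  [],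
  [],
  [],
  [],
  [],
  [],
  [],
  [],
  [2,9,22,23,23,9,19,23,9,17,16,18,20,16,13,19],
  [],
  [2,22,22,23,19,22,18,22,16,21,20,13,13,19,19],
  [],
  [],
  [],
  [],
  [],
  [],
  [],
  [],
  [],
  [2,22,22,21,23,19,21,23,17,19,18,17,15,12,17,19,16,16],
  [],
  [2,9,23,23,19,22,22,19,17,16,15,19,20,14,16,13,18],
  [],
  [],
  [],
  [],
  [],
  [2,9,22,9,23,9,23,19,20,9,18,17,17,15,21,12,16,19],
  [],
  [2,22,9,19,23,18,22,16,20,17,12,19,12,16,15],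
  [],
  [],
  [],
  [],
  [],
  [],
  [],
  [],
  [],
  [],
  [],
  [],
  [],
  [],
  [],
  [],
  [],
  [],
  [],
  [],
  [],
  [],
  [],
  [],
  [],
  [2,23,21,22,21,23,23,20,18,19,19,15,20,14,17,14,15,17],
  [],
  [2,22,22,9,23,22,20,20,21,16,22,15,15,14,16,19,18],
  [],
  [],
  [],
  [],
  [],
  [],
  [],
  [],
  [],
  [],
  [],
  [],
  [],
  [2,20,20,21,19,19,15,17,21,19,12,15,14,16,12],
  [],
  [2,23,23,18,9,18,21,17,18,18,14,15,13],
  [],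
  [],
  [],
  [],
  [],
  [],
  [],
  [],
  [],
  [2,23,22,9,22,18,20,18,19,17,18,12,12,19,13],
  [],
  [2,22,9,19,22,21,22,19,17,15,22,20,16,12,15,13,12,13],
  [],
  [],
  [],
  [],
  [],
  [],
  [],
  [],
  [2,22,22,9,21,23,9,19,22,17,20,20,22,18,12,14,19],
  [],
  [2,23,22,19,19,18,9,22,17,18,21,21,17,14,15,17,16,12],
  [],
  [],
  [],
  [],
  [],
  [],
  [],
  [],
  [],
  [2,23,23,21,22,20,19,21,20,17,16,22,12,15,14,18,19],
  [],
  [2,22,18,9,22,22,15,16,15,15,22,12,14,14,19,12],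
  [],
  [],
  [],
  [],
  [],
  [],
  [],
  [],
  [],
  [],
  [],
  [],
  [],
  [2,23,9,22,22,20,22,23,21,22,15,17,16,16,14,15,16,18],
  [],
  [2,9,23,22,22,23,19,22,19,18,18,15,18,16,12,19,15,14,12],
  [],
  [],
  [],
  [],
  [],
  [],
  [],
  [],
  [],
  [],
  [],
  [],
  [],
  [],
  [],
  [],
  [],
  [],
  [],
  [],
  [],
  [],
  [],
  [],
  [],
  [2,23,23,21,19,18,21,22,21,17,16,18,20,14,12,13,14,17],
  [],
  [2,21,23,22,9,21,20,19,22,22,16,15,16,12,18,19],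
  [],
  [],
  [],
  [],
  [],
  [],
  [],
  [],
  [],
  [],
  [],
  [],
  [],
  [],
  [],
  [],
  [],
  [],
  [],
  [],
  [],
  [],
  [],
  [],
  [],
  [],
  [],
  [],
  [],
  [],
  [],
  [],
  [],
  [],
  [],
  [],
  [],
  [],
  [],
  [],
  [],
  [],
  [],
  [],
  [],
  [],
  [],
  [],
  [],
  [],
  [],
  [],
  [],
  [],
  [],
  [],
  [],
  [],
  [],
  [],
  [],
  [],
  [],
  [],
  [],
  [],
  [],
  [],
  [],
  [],
  [],
  [],
  [],
  [],
  [],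
  [],
  [],
  [],
  [],
  [],
  [],
  [],
  [],
  [],
  [],
  [],
  [],
  [],
  [],
  [],
  [],
  [],
  [],
  [],
  [],
  [],
  [],
  [],
  [],
  [],
  [],
  [],
  [],
  [],
  [],
  [],
  [],
  [],
  [],
  [],
  [],
  [],
  [],
  [],
  [],
  [],
  [],
  [],
  [],
  [],
  [],
  [],
  [],
  [],
  [],
  [],
  [],
  [],
  [],
  [],
  [],
  [],
  [],
  [],
  [],
  [],
  [],
  [],
  [],
  [],
  [],
  [],
  [],
  [],
  [],
  [],
  [],
  [],
  [],
  [],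
  [],
  [],
  [],
  [],
  [],
  [],
  [],
  [],
  [],
  [],
  [],
  [],
  [],
  [],
  [],
  [],
  [],
  [],
  [],
  [],
  [],
  [],
  [],
  [],
  [],
  [],
  [],
  [],
  [],
  [],
  [],
  [],
  [],
  [],
  [],
  [],
  [],
  [],
  [],
  [],
  [],
  [],
  [],
  [],
  [],
  [],
  [],
  [],
  [],
  [],
  [],
  [],
  [],
  [],
  [],
  [],
  [],
  [],
  [],
  [],
  [],
  [],
  [],
  [],
  [],
  [],
  [],
  [],
  [],
  [],
  [],
  [],
  [],
  [],
  [],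
  [],
  [],
  [],
  [],
  [],
  [],
  [],
  [],
  [],
  [],
  [],
  [],
  [],
  [],
  [],
  [],
  [],
  [],
  [],
  [],
  [],
  [],
  [],
  [],
  [],
  [],
  [],
  [],
  [],
  [],
  [],
  [],
  [],
  [],
  [],
  [],
  [],
  [],
  [],
  [],
  [],
  [],
  [],
  [],
  [],
  [],
  [],
  [],
  [],
  [],
  [],
  [],
  [],
  [],
  [],
  [],
  [],
  [],
  [],
  [],
  [],
  [],
  [],
  [],
  [],
  [],
  [],
  [],
  [],
  [],
  [],
  [],
  [],
  [],
  [],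
  [],
  [],
  [],
  [],
  [],
  [],
  [],
  [],
  [],
  [],
  [],
  [],
  [],
  [],
  [],
  [],
  [],
  [],
  [],
  [],
  [],
  [],
  [],
  [],
  [],
  [],
  [],
  [],
  [],
  [],
  [],
  [],
  [],
  [],
  [],
  [],
  [],
  [],
  [],
  [],
  [],
  [],
  [],
  [],
  [],
  [],
  [],
  [],
  [],
  [],
  [],
  [],
  [],
  [],
  [],
  [],
  [],
  [],
  [],
  [],
  [],
  [],
  [],
  [],
  [],
  [],
  [],
  [],
  [],
  [],
  [],
  [],
  [],
  [],
  [],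
  [],
  [],
  [],
  [],
  [],
  [],
  [],
  [],
  [],
  [],
  [],
  [],
  [],
  [],
  [],
  [],
  [],
  [],
  [],
  [],
  [],
  [],
  [],
  [],
  [],
  [],
  [],
  [],
  [],
  [],
  [],
  [],
  [],
  [],
  [],
  [],
  [],
  [],
  [],
  [],
  [],
  [],
  [],
  [],
  [],
  [],
  [],
  [],
  [],
  [],
  [],
  [],
  [],
  [],
  [],
  [],
  [],
  [],
  [],
  [],
  [],
  [],
  [],
  [],
  [],
  [],
  [],
  [],
  [],
  [],
  [],
  [],
  [],
  [],
  [],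
  [],
  [],
  [],
  [],
  [],
  [],
  [],
  [],
  [],
  [],
  [],
  [],
  [],
  [],
  [],
  [],
  [],
  [],
  [],
  [],
  [],
  [],
  [],
  [],
  [],
  [],
  [],
  [],
  [],
  [],
  [],
  [],
  [],
  [],
  [],
  [],
  [],
  [],
  [],
  [],
  [],
  [],
  [],
  [],
  [],
  [],
  [],
  [],
  [],
  [],
  [],
  [],
  [],
  [],
  [],
  [],
  [],
  [],
  [],
  [],
  [],
  [],
  [],
  [],
  [],
  [],
  [],
  [],
  [],
  [],
  [],
  [],
  [],
  [],
  [],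
  [],
  [],
  [],
  [],
  [],
  [],
  [],
  [],
  [],
  [],
  [],
  [],
  [],
  [],
  [],
  [],
  [],
  [],
  [],
  [],
  [],
  [],
  [],
  [],
  [],
  [],
  [],
  [],
  [],
  [],
  [],
  [],
  [],
  [],
  [],
  [],
  [],
  [],
  [],
  [],
  [],
  [],
  [],
  [],
  [],
  [],
  [],
  [],
  [],
  [],
  [],
  [],
  [],
  [],
  [],
  [],
  [],
  [],
  [],
  [],
  [],
  [],
  [],
  [],
  [],
  [],
  [],
  [],
  [],
  [],
  [],
  [],
  [],
  [],
  [],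
  [],
  [],
  [],
  [],
  [],
  [],
  [],
  [],
  [],
  [],
  [],
  [],
  [],
  [],
  [],
  [],
  [],
  [],
  [],
  [],
  [],
  [],
  [],
  [],
  [],
  [],
  [],
  [],
  [],
  [],
  [],
  [],
  [],
  [],
  [],
  [],
  [],
  [],
  [],
  [],
  [],
  [],
  [],
  [],
  [],
  [],
  [],
  [],
  [],
  [],
  [],
  [],
  [],
  [],
  [],
  [],
  [],
  [],
  [],
  [],
  [],
  [],
  [],
  [],
  [],
  [],
  [],
  [],
  [],
  [],
  [],
  [],
  [],
  [],
  [],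
  [],
  [],
  [],
  [],
  [],
  [],
  [],
  [],
  [],
  [],
  [],
  [],
  [],
  [],
  [],
  [],
  [],
  [],
  [],
  [],
  [],
  [],
  [],
  [],
  [],
  [],
  [],
  [],
  [],
  [],
  [],
  [],
  [],
  [],
  [],
  [],
  [],
  [],
  [],
  [],
  [],
  [],
  [],
  [],
  [],
  [],
  [],
  [],
  [],
  [],
  [],
  [],
  [],
  [],
  [],
  [],
  [],
  [],
  [],
  [],
  [],
  [],
  [],
  [],
  [],
  [],
  [],
  [],
  [],
  [],
  [],
  [],
  [],
  [],
  [],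
  [],
  [],
  [],
  [],
  [],
  [],
  [],
  [],
  [],
  [],
  [],
  [],
  [],
  [],
  [],
  [],
  [],
  [],
  [],
  [],
  [],
  [],
  [],
  [],
  [],
  [],
  [],
  [],
  [],
  [],
  [],
  [],
  [],
  [],
  [],
  [],
  [],
  [],
  [],
  [],
  [],
  [],
  [],
  [],
  [],
  [],
  [],
  [],
  [],
  [],
  [],
  [],
  [],
  [],
  [],
  [],
  [],
  [],
  [],
  [],
  [],
  [],
  [],
  [],
  [],
  [],
  [],
  [],
  [],
  [],
  [],
  [],
  [],
  [],
  [],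
  [],
  [],
  [],
  [],
  [],
  [],
  [],
  [],
  [],
  [],
  [],
  [],
  [],
  [],
  [],
  [],
  [],
  [],
  [],
  [],
  [],
  [],
  [],
  [],
  [],
  [],
  [],
  [],
  [],
  [],
  [],
  [],
  [],
  [],
  [],
  [],
  [],
  [],
  [],
  [],
  [],
  [],
  [],
  [],
  [],
  [],
  [],
  [],
  [],
  [],
  [],
  [],
  [],
  [],
  [],
  [],
  [],
  [],
  [],
  [],
  [],
  [],
  [],
  [],
  [],
  [],
  [],
  [],
  [],
  [],
  [],
  [],
  [],
  [],
  [],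
  [],
  [],
  [],
  [],
  [],
  [],
  [],
  [],
  [],
  [],
  [],
  [],
  [],
  [],
  [],
  [],
  [],
  [],
  [],
  [],
  [],
  [],
  [],
  [],
  [],
  [],
  [],
  [],
  [],
  [],
  [],
  [],
  [],
  [],
  [],
  [],
  [],
  [],
  [],
  [],
  [],
  [],
  [],
  [],
  [],
  [],
  [],
  [],
  [],
  [],
  [],
  [],
  [],
  [],
  [],
  [],
  [],
  [],
  [],
  [],
  [],
  [],
  [],
  [],
  [],
  [],
  [],
  [],
  [],
  [],
  [],
  [],
  [],
  [],
  [],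
  [],
  [],
  [],
  [],
  [],
  [],
  [],
  [],
  [],
  [],
  [],
  [],
  [],
  [],
  [],
  [],
  [],
  [],
  [],
  [],
  [],
  [],
  [],
  [],
  [],
  [],
  [],
  [],
  [],
  [],
  [],
  [],
  [],
  [],
  [],
  [],
  [],
  [],
  [],
  [],
  [],
  [],
  [],
  [],
  [],
  [],
  [],
  [],
  [],
  [],
  [2,23,23,21,22,9,22,20,18,9,17,15,15,16,15,14,14,13,19],
  [],
  [2,9,23,23,9,22,22,18,9,17,19,15,22,22,14,14,13,17],
  [],
  [],
  [],
  [],
  [],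
  [],
  [],
  [],
  [],
  [],
  [],
  [],
  [],
  [],
  [2,9,23,23,22,9,19,23,17,18,18,16,12,17,19,14,14],
  [],
  [2,23,23,22,19,21,23,17,17,20,16,17,14,15,12,19,16],
  [2,9,21,22,23,9,18,9,18,22,16,21,18,16,13,18,12,12],
  [],
  [2,23,9,22,22,22,18,21,17,17,19,18,22,14,12,18,18,16],
  [],
  [],
  [],
  [],
  [],
  [],
  [],
  [],
  [],
  [],
  [2,9,23,9,21,20,23,18,16,18,20,15,12,19,12,12,16],
  [],
  [2,21,18,18,21,18,17,18,19,18,12,12,16,12],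
  [],
  [],
  [],
  [],
  [],
  [],
  [],
  [],
  [],
  [],
  [],
  [],
  [],
  [],
  [],
  [],
  [2,22,22,18,22,19,19,17,17,22,15,22,14,14,15],
  [],
  [2,9,21,23,9,22,20,19,18,22,15,21,16,13,14,18],
  [],
  [2,23,9,23,23,9,21,20,18,16,22,13,17,14,13],
  [],
  [2,9,22,23,22,23,19,19,19,16,19,22,17,15,14,12,16,16],
  [],
  [],
  [],
  [],
  [],
  [2,9,23,22,23,23,9,23,20,21,20,21,12,19,16,14,18],
  [],
  [2,9,21,22,23,20,18,9,22,20,16,19,22,12,14,18,16,17],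
  [],
  [],
  [],
  [],
  [],
  [],
  [2,9,21,23,22,22,18,19,19,19,15,22,21,12,15,15,19,14],
  [],
  [2,21,23,22,21,22,19,20,22,22,19,16,22,12,13,17,15,14],
  [],
  [],
  [],
  [],
  [],
  [2,23,19,9,23,18,18,17,15,19,21,14,16,18,15],
  [],
  [2,9,21,19,22,18,20,15,18,17,14,17,12,19,17],
  [],
  [],
  [],
  [],
  [],
  [],
  [],
  [],
  [],
  [],
  [],
  [],
  [],
  [2,22,23,22,9,23,23,18,20,18,16,15,15,21,12,17,13],
  [],
  [2,9,23,9,19,18,18,23,9,15,15,17,17,12,18,19,16],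
  [],
  [],
  [],
  [],
  [],
  [2,22,21,23,23,21,20,20,23,15,19,15,19,14,19,19,17],
  [],
  [2,22,9,23,19,9,23,18,19,16,21,15,21,13,13,16,15],
  [],
  [],
  [],
  [],
  [],
  [],
  [],
  [],
  [],
  [],
  [],
  [],
  [2,9,23,23,21,22,21,20,21,22,18,17,21,22,12,15,18,15],
  [],
  [2,22,22,9,19,20,23,23,18,16,20,21,14,18,16,14,12],
  [],
  [],
  [],
  [],
  [],
  [],
  [],
  [],
  [],
  [2,23,9,23,23,23,20,19,21,20,17,19,21,21,13,17,18],
  [],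
  [2,9,22,23,21,19,23,20,19,16,21,18,19,14,18,15,16,19],
  [],
  [2,23,21,23,22,21,19,18,20,21,20,16,18,19,18,13],
  [],
  [2,22,23,21,22,23,22,18,22,20,18,15,22,14,18,17,19,18],
  [],
  [],
  [],
  [],
  [],
  [],
  [],
  [],
  [],
  [],
  [],
  [],
  [],
  [],
  [],
  [],
  [],
  [],
  [2,23,22,19,21,22,22,23,15,22,21,15,12,15,18,18],
  [],
  [2,9,22,20,21,19,17,15,18,15,20,12,15,17,16],
  [],
  [],
  [],
  [],
  [],
  [],
  [],
  [],
  [2,23,23,22,22,22,19,16,19,17,19,16,14,17,16,13],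
  [],
  [2,9,21,22,22,22,19,23,16,16,19,22,13,17,12,18],
  [],
  [],
  [2,22,22,9,23,21,18,18,21,20,17,20,17,12,12,13],
  [],
  [2,22,21,22,19,22,21,18,17,17,17,15,15,12,14,15,18],
  [],
  [],
  [],
  [],
  [],
  [],
  [],
  [],
  [],
  [],
  [],
  [],
  [2,9,22,9,21,23,23,20,18,9,22,9,17,21,20,12,12,15],
  [],
  [2,21,22,23,19,18,18,9,16,18,15,16,13,16,17],
  [],
  [],
  [],
  [],
  [],
  [],
  [],
  [],
  [],
  [],
  [],
  [],
  [],
  [],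
  [],
  [],
  [],
  [],
  [2,23,23,22,19,19,20,20,17,17,17,18,17,22,14,18,16],
  [],
  [2,21,23,22,9,22,23,18,23,20,19,17,18,12,14,18,19],
  [2,9,22,23,21,22,19,21,18,20,17,21,21,19,12,12,15,13],
  [],
  [2,9,21,23,22,9,20,23,15,20,19,21,13,13,12,15],
  [],
  [],
  [2,23,23,21,23,18,22,18,17,19,17,14,13,13,12,17],
  [],
  [2,21,22,21,23,9,19,20,21,19,19,17,17,21,18,14,13,14,16],
  [],
  [],
  [],
  [],
  [],
  [2,23,22,9,22,9,18,23,19,23,15,17,18,19,14,19,15,18],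
  [],
  [2,23,9,23,23,21,19,20,21,19,17,18,16,19,13,18,13,18],
  [],
  [],
  [],
  [],
  [],
  [],
  [],
  [],
  [],
  [],
  [],
  [],
  [],
  [2,9,21,23,23,18,19,22,19,17,20,19,12,17,15,12,14],
  [],
  [2,9,21,22,21,23,23,18,9,16,19,22,12,12,16,12,17,13],
  [2,22,9,21,23,21,20,19,17,16,15,15,17,14,19,13,18],
  [],
  [2,9,22,21,23,19,19,23,20,21,17,21,21,18,13,19,16],
  [],
  [],
  [],
  [],
  [],
  [],
  [],
  [],
  [],
  [],
  [],
  [],
  [],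
  [],
  [2,22,23,20,23,19,22,16,20,18,13,15,14,12,17],
  [],
  [2,22,22,23,21,18,21,22,21,17,15,19,20,12,14,18,15],
  [],
  [],
  [],
  [],
  [2,21,23,23,22,21,18,19,20,16,16,22,20,14,12,13],
  [],
  [2,22,22,9,23,21,19,19,23,23,15,17,16,13,18,14,17],
  [],
  [],
  [],
  [],
  [],
  [],
  [],
  [],
  [],
  [],
  [],
  [],
  [],
  [2,23,23,22,23,21,19,9,18,16,17,15,21,12,18,14,18,19],
  [],
  [2,23,23,22,22,23,21,20,20,16,16,18,21,19,12,18,17],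
  [],
  [],
  [],
  [],
  [],
  [2,23,9,19,19,19,9,17,19,18,19,19,12,16,13,16],
  [],
  [2,21,23,23,20,23,23,16,20,19,18,14,14,14,15,17],
  [],
  [],
  [],
  [],
  [],
  [2,9,23,22,22,9,18,20,15,15,20,21,13,18,12,16],
  [],
  [2,9,22,9,21,19,23,18,23,17,16,17,22,21,13,19,14,18],
  [],
  [],
  [],
  [],
  [],
  [],
  [],
  [],
  [],
  [],
  [],
  [],
  [],
  [],
  [2,9,22,23,22,23,19,23,18,23,21,17,15,16,12,13,18,14,14],
  [],
  [2,22,22,23,18,9,21,20,16,15,15,18,12,15,15,15,14],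
  [],
  [],
  [],
  [],
  [],
  [],
  [],
  [],
  [],
  [],
  [],
  [],
  [],
  [],
  [],
  [],
  [],
  [0,23,21,23,23,19,19,18,15,18,17,14,18,12,16],
  [],
  [1,22,23,9,21,18,22,19,19,22,16,17,22,13,17,13,18,18],
  [],
  [],
  [],
  [],
  [],
  [],
  [],
  [],
  [],
  [],
  [],
  [],
  [],
  [1,9,21,23,22,23,22,20,15,18,18,12,12,13,18,14],
  [],
  [0,9,22,9,23,9,19,20,9,23,20,16,18,19,14,18,19,16],
  [],
  [],
  [],
  [],
  [],
  [],
  [],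
  [],
  [],
  [],
  [],
  [],
  [],
  [],
  [],
  [],
  [],
  [],
  [],
  [],
  [],
  [],
  [],
  [],
  [],
  [],
  [],
  [],
  [],
  [],
  [],
  [],
  [],
  [2,22,21,23,21,23,18,18,18,21,16,18,17,17,14,15,18,16],
  [],
  [2,9,23,21,22,21,23,18,23,18,16,17,20,21,14,18,17,15],
  [],
  [],
  [],
  [],
  [],
  [],
  [],
  [],
  [],
  [],
  [],
  [],
  [2,9,21,22,9,22,9,19,23,18,9,17,18,15,14,19,15],
  [],
  [2,21,23,21,19,20,21,18,23,17,17,18,20,14,13,19,13],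
  [],
  [],
  [],
  [],
  [],
  [2,9,23,22,22,19,23,20,19,20,17,17,20,17,14,18,14,14],
  [],
  [2,23,23,22,22,23,21,22,19,22,20,20,16,16,12,19,13],
  [],
  [],
  [],
  [],
  [],
  [],
  [],
  [],
  [],
  [],
  [],
  [],
  [],
  [2,23,9,22,23,20,18,21,17,20,20,15,18,12,19,19,12,14],
  [],
  [2,23,9,21,22,19,18,18,16,15,17,20,12,18,14,19,14],
  [],
  [],
  [],
  [],
  [],
  [2,23,22,21,22,23,9,20,9,22,17,15,17,17,14,13,19,13],
  [],
  [2,22,9,22,9,20,23,19,22,17,19,22,18,12,18,13,18,19],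
  [],
  [],
  [],
  [],
  [],
  [],
  [2,23,21,23,23,9,22,21,18,18,23,17,18,22,14,14,14,13],
  [],
  [2,9,23,21,23,9,22,19,9,19,9,17,20,19,12,19,16,18],
  [],
  [],
  [],
  [],
  [2,21,23,23,23,9,19,22,20,21,15,18,22,12,13,16,19,19],
  [],
  [2,22,9,23,23,19,9,23,23,9,17,22,22,14,18,16,18,18],
  [],
  [],
  [],
  [],
  [],
  [],
  [],
  [],
  [],
  [],
  [],
  [],
  [],
  [],
  [],
  [],
  [],
  [2,23,22,9,23,21,22,19,17,17,17,20,20,13,19,14,14],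
  [],
  [2,23,9,22,18,22,22,17,16,17,12,18,19,14,18],
  [],
  [],
  [2,9,21,23,23,9,20,20,16,16,19,18,12,19,16,15,16],
  [],
  [2,23,23,21,23,21,20,22,23,23,17,21,22,12,17,19,15,12],
  [],
  [],
  [],
  [],
  [],
  [],
  [],
  [],
  [],
  [],
  [],
  [],
  [],
  [2,21,23,22,21,22,23,19,21,16,21,17,12,13,15,17,15],
  [],
  [2,9,23,21,20,22,23,17,17,21,22,20,13,16,13,13],
  [2,23,19,19,23,20,22,16,18,22,14,18,14,18,15],
  [],
  [2,23,22,23,22,23,20,19,22,17,15,15,22,12,19,14,15],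
  [],
  [],
  [],
  [],
  [],
  [],
  [],
  [],
  [],
  [2,9,23,23,22,9,23,20,19,9,21,15,21,18,22,12,14],
  [],
  [2,9,22,21,22,20,22,23,21,15,16,18,18,14,16,19,15,12],
  [],
  [],
  [],
  [],
  [],
  [0,23,22,22,21,18,19,20,22,22,15,18,21,13,14,17,19],
  [],
  [1,22,22,9,21,23,18,18,23,17,17,19,16,14,17,12,13],
  [],
  [],
  [],
  [],
  [],
  [],
  [],
  [],
  [],
  [],
  [],
  [],
  [],
  [],
  [],
  [],
  [],
  [],
  [],
  [],
  [],
  [],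
  [],
  [],
  [],
  [],
  [],
  [],
  [],
  [],
  [],
  [],
  [],
  [],
  [],
  [],
  [],
  [],
  [],
  [],
  [],
  [],
  [],
  [],
  [],
  [],
  [],
  [],
  [],
  [],
  [],
  [],
  [],
  [1,9,21,22,22,20,19,9,23,17,22,16,22,12,12,15,13,14],
  [],
  [0,23,9,21,19,22,18,18,23,15,22,16,14,15,13,18,14],
  [],
  [],
  [2,9,22,22,9,23,20,20,19,15,20,22,16,14,15,15,16,19],
  [],
  [2,22,23,21,23,22,21,19,23,20,16,19,22,14,17,16,14,19],
  [],
  [],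
  [],
  [],
  [],
  [],
  [],
  [],
  [],
  [],
  [],
  [],
  [2,21,22,21,19,20,18,19,23,17,20,19,20,14,15,16,16],
  [],
  [2,23,23,9,22,19,23,9,23,19,15,20,12,13,12,13,12],
  [],
  [],
  [],
  [],
  [],
  [2,9,23,22,23,9,22,21,17,15,15,17,12,18,15,16,14,16],
  [],
  [2,22,23,23,20,22,20,21,17,18,17,20,18,13,12,17,18],
  [],
  [],
  [],
  [],
  [],
  [2,22,9,20,20,18,23,16,17,22,13,16,13,18,19],
  [],
  [2,23,21,23,9,21,22,22,18,21,17,17,22,22,16,14,18,18],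
  [],
  [],
  [],
  [],
  [],
  [],
  [],
  [],
  [],
  [],
  [],
  [],
  [],
  [2,23,22,21,19,22,18,20,16,16,20,20,16,13,13,13,19],
  [],
  [2,9,21,19,23,21,20,21,16,20,20,18,12,19,19,12,13],
  [],
  [],
  [],
  [],
  [],
  [],
  [2,22,22,23,23,19,19,20,19,17,20,22,20,16,14,14,19,19],
  [],
  [2,22,23,9,18,20,22,23,20,17,17,18,19,16,13,19],
  [],
  [],
  [],
  [],
  [],
  [],
  [],
  [],
  [],
  [2,23,9,22,23,23,19,22,18,22,22,17,17,12,13,17,12,13],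
  [],
  [2,9,19,22,21,23,15,15,21,16,12,19,12,14,18],
  [],
  [2,22,19,22,19,19,22,17,20,21,19,16,12,19,12,12,15],
  [],
  [2,22,23,21,20,9,18,20,22,17,18,22,19,20,13,14,17,19],
  [2,21,23,22,21,22,23,19,19,20,19,16,15,15,22,14,19,14,14],
  [],
  [2,22,22,22,19,19,22,23,23,17,15,16,20,20,12,19,12],
  [],
  [],
  [],
  [],
  [],
  [],
  [],
  [],
  [],
  [],
  [],
  [],
  [],
  [],
  [],
  [],
  [],
  [],
  [],
  [],
  [],
  [2,23,21,22,23,22,9,19,19,16,18,21,22,14,14,12,17,18],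
  [],
  [2,23,21,20,22,9,20,17,17,18,19,12,19,19,15,17],
  [],
  [],
  [2,23,22,23,21,22,20,19,9,21,15,17,21,22,12,12,19,16],
  [],
  [2,21,22,23,21,19,21,22,18,17,22,21,19,13,14,15,14],
  [],
  [],
  [],
  [],
  [],
  [],
  [],
  [],
  [],
  [],
  [],
  [],
  [],
  [],
  [],
  [],
  [],
  [2,23,23,22,23,21,22,20,9,22,9,16,16,17,13,18,13,19],
  [],
  [2,22,9,18,23,19,17,18,17,17,18,17,12,16,12,18,16],
  [],
  [],
  [],
  [],
  [],
  [2,9,22,9,22,9,20,20,18,9,20,15,19,20,12,14,17,16,16],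
  [],
  [2,22,9,21,18,19,19,19,9,16,12,19,18,16,13],
  [],
  [],
  [],
  [],
  [],
  [],
  [],
  [],
  [],
  [],
  [],
  [],
  [2,9,22,21,19,9,21,22,9,15,20,20,22,12,18,16,16,12],
  [],
  [2,23,9,22,21,22,18,21,20,18,17,17,12,12,19],
  [],
  [],
  [2,21,22,22,19,22,20,20,16,17,19,16,13,17,14,17],
  [],
  [2,9,21,23,22,18,19,22,15,22,22,19,12,18,14,19,16],
  [],
  [],
  [],
  [],
  [],
  [],
  [],
  [],
  [],
  [],
  [],
  [],
  [],
  [],
  [],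
  [],
  [],
  [],
  [],
  [],
  [],
  [2,22,22,23,19,22,20,20,19,17,18,18,16,20,12,13,16,13],
  [],
  [2,22,22,22,21,18,20,21,23,17,21,16,22,12,17,13,13,16],
  [2,9,23,22,9,22,19,23,18,18,9,16,16,18,12,19,16,14,17],
  [],
  [2,23,9,22,22,23,21,20,20,17,16,19,19,17,14,12],
  [],
  [],
  [],
  [],
  [],
  [],
  [2,23,21,18,22,22,20,17,15,20,16,14,19,18,17,13],
  [],
  [2,23,23,9,22,19,23,23,15,20,21,18,12,18,19,13,13,19],
  [],
  [],
  [],
  [],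
  [],
  [],
  [],
  [],
  [],
  [],
  [],
  [],
  [],
  [],
  [],
  [],
  [],
  [],
  [],
  [],
  [],
  [2,22,23,20,18,20,20,17,17,22,15,22,12,12,13,13,13],
  [],
  [2,23,22,21,23,23,19,20,15,18,18,21,12,12,15,15,16],
  [2,21,22,21,23,22,18,19,18,22,16,22,22,12,12,13,13,16],
  [],
  [2,9,22,22,18,22,18,19,17,18,15,19,15,14,16,15,17],
  [],
  [],
  [2,9,19,18,9,23,21,17,17,17,22,17,15,13,13,12,16],
  [],
  [2,9,23,9,22,9,23,23,19,21,17,16,19,19,13,16,17,16],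
  [],
  [],
  [],
  [],
  [],
  [],
  [],
  [],
  [],
  [],
  [],
  [],
  [],
  [2,23,21,23,23,22,20,19,18,17,22,16,19,15,14,19,16,12],
  [],
  [2,21,23,23,22,22,9,20,23,17,16,21,18,15,13,13,12],
  [2,23,19,18,21,23,16,16,15,18,17,12,18,16,14],
  [],
  [2,22,22,22,9,19,22,9,23,9,15,15,14,14,16,13,15],
  [],
  [],
  [2,23,23,21,20,19,18,16,20,19,21,13,12,12,12],
  [],
  [2,23,23,23,21,22,22,22,18,18,23,16,22,15,14,18,17,12],
  [],
  [],
  [],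
  [],
  [],
  [],
  [],
  [],
  [],
  [2,23,22,9,20,21,20,20,17,17,19,22,21,12,15,17,15],
  [],
  [2,21,23,23,22,21,19,9,23,15,19,19,22,14,18,19,17,13],
  [],
  [],
  [],
  [],
  [],
  [],
  [],
  [],
  [],
  [2,22,23,22,18,23,20,20,9,16,15,17,20,14,16,13,15],
  [],
  [2,9,23,22,23,19,21,22,20,16,16,17,12,17,17,19,13],
  [2,23,23,9,21,19,21,20,19,16,21,18,21,14,18,16,14,16],
  [],
  [2,21,23,22,23,22,19,9,23,18,15,22,22,19,12,16,13,19],
  [],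
  [],
  [],
  [],
  [],
  [],
  [],
  [],
  [],
  [],
  [],
  [],
  [],
  [2,9,22,9,19,20,21,20,9,16,18,18,18,12,18,14,18,18],
  [],
  [2,21,23,21,22,23,9,20,23,9,16,17,16,19,18,12,15,14],
  [],
  [],
  [2,9,23,21,19,9,20,18,23,15,20,18,12,17,16,19],
  [],
  [2,9,22,22,9,21,23,22,20,19,16,20,16,14,12,19,12],
  [],
  [],
  [],
  [],
  [],
  [],
  [],
  [],
  [],
  [],
  [],
  [],
  [],
  [],
  [],
  [],
  [],
  [2,23,21,22,21,19,19,19,9,16,18,16,19,16,13,16,12,12],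
  [],
  [2,22,9,23,21,23,18,19,9,16,21,17,17,18,13,14],
  [],
  [],
  [],
  [],
  [],
  [],
  [],
  [],
  [],
  [],
  [],
  [],
  [],
  [],
  [],
  [],
  [],
  [],
  [],
  [],
  [1,23,21,22,21,23,19,22,18,18,17,18,19,22,12,17,12,13,17],
  [],
  [0,22,22,20,21,20,9,17,21,15,18,17,13,12,19,13],
  [],
  [],
  [],
  [],
  [],
  [],
  [],
  [],
  [],
  [],
  [],
  [],
  [],
  [0,21,23,9,22,18,19,9,16,18,16,21,19,12,12,18],
  [],
  [1,21,23,23,18,23,18,21,16,19,21,19,12,19,16,12,15],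
  [],
  [],
  [],
  [],
  [],
  [],
  [],
  [],
  [],
  [],
  [],
  [],
  [],
  [],
  [],
  [],
  [],
  [],
  [],
  [],
  [],
  [],
  [],
  [],
  [],
  [],
  [],
  [],
  [],
  [],
  [0,22,21,22,23,23,23,19,23,20,20,23,16,20,18,12,19,13],
  [],
  [1,22,22,19,21,22,22,23,17,17,20,22,15,14,15,12,15],
  [],
  [],
  [],
  [],
  [],
  [],
  [],
  [],
  [],
  [],
  [],
  [],
  [],
  [],
  [],
  [],
  [],
  [],
  [],
  [],
  [],
  [],
  [],
  [],
  [],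
  [],
  [],
  [],
  [],
  [],
  [],
  [],
  [],
  [],
  [],
  [],
  [],
  [],
  [],
  [],
  [],
  [],
  [],
  [],
  [],
  [],
  [],
  [],
  [],
  [],
  [],
  [],
  [],
  [0,21,23,23,23,21,19,20,23,21,17,15,19,14,13,12],
  [],
  [1,23,22,23,18,22,20,15,21,21,15,13,12,13,18,19],
  [],
  [],
  [],
  [],
  [2,9,22,22,21,23,19,20,20,16,16,19,20,13,13,15,19,14],
  [],
  [2,9,23,19,20,20,19,17,18,20,15,17,12,19,19,14,12],
  [],
  [],
  [],
  [],
  [],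
  [],
  [],
  [],
  [],
  [],
  [],
  [],
  [],
  [],
  [],
  [],
  [],
  [],
  [],
  [],
  [],
  [],
  [],
  [],
  [],
  [],
  [],
  [],
  [],
  [],
  [],
  [],
  [],
  [],
  [],
  [],
  [],
  [],
  [],
  [],
  [],
  [],
  [],
  [],
  [],
  [],
  [],
  [],
  [],
  [],
  [],
  [],
  [],
  [2,9,19,9,18,9,15,22,21,22,12,13,17,14],
  [],
  [2,23,23,23,22,21,18,21,18,21,15,17,21,13,12,16,16],
  [],
  [],
  [],
  [],
  [],
  [2,23,9,22,23,22,20,18,19,22,15,21,17,18,13,19,18,14],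
  [],
  [2,23,23,23,9,23,9,19,22,21,20,17,18,18,20,21,14,19,14],
  [],
  [],
  [],
  [],
  [],
  [],
  [],
  [],
  [],
  [],
  [],
  [],
  [],
  [],
  [],
  [],
  [],
  [],
  [],
  [],
  [],
  [],
  [],
  [],
  [],
  [],
  [],
  [],
  [],
  [],
  [],
  [],
  [],
  [],
  [],
  [],
  [],
  [],
  [],
  [],
  [],
  [],
  [],
  [],
  [],
  [],
  [],
  [],
  [],
  [],
  [],
  [],
  [],
  [2,21,23,23,22,22,9,19,17,19,22,19,17,12,14,16,19],
  [],
  [2,22,21,23,9,18,22,22,9,17,22,18,15,19,12,12,17,16,16],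
  [],
  [],
  [],
  [],
  [],
  [],
  [],
  [],
  [],
  [],
  [],
  [],
  [],
  [],
  [],
  [],
  [],
  [],
  [],
  [],
  [],
  [],
  [],
  [],
  [],
  [],
  [],
  [],
  [],
  [],
  [],
  [],
  [],
  [],
  [2,22,9,22,19,22,9,19,9,17,17,17,16,22,14,13,18,14],
  [],
  [2,21,22,23,19,22,20,22,18,17,22,19,17,12,14,14,13,12],
  [],
  [],
  [],
  [],
  [],
  [],
  [],
  [],
  [],
  [],
  [],
  [],
  [],
  [2,21,23,23,19,9,19,16,19,15,16,21,12,18,19,16,13],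
  [],
  [2,9,22,23,9,19,18,22,9,16,15,18,19,13,16,13,15],
  [],
  [],
  [],
  [],
  [],
  [],
  [],
  [],
  [],
  [],
  [],
  [],
  [],
  [],
  [],
  [],
  [],
  [],
  [],
  [],
  [],
  [],
  [],
  [],
  [],
  [],
  [],
  [],
  [],
  [],
  [],
  [],
  [],
  [],
  [],
  [],
  [],
  [],
  [],
  [],
  [],
  [],
  [],
  [],
  [2,23,22,21,22,19,19,23,22,9,16,18,15,18,12,16,14,13,16],
  [],
  [2,21,23,9,21,22,18,20,18,15,20,20,22,12,12,19,12,18],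
  [],
  [],
  [],
  [],
  [],
  [],
  [],
  [],
  [],
  [],
  [],
  [],
  [],
  [2,21,22,22,22,19,22,23,15,22,19,22,12,15,14,14],
  [],
  [2,21,23,22,22,19,20,20,9,20,16,18,20,18,12,16,16],
  [],
  [],
  [],
  [],
  [],
  [],
  [],
  [],
  [],
  [],
  [],
  [],
  [],
  [],
  [],
  [],
  [],
  [],
  [],
  [],
  [],
  [],
  [2,23,22,23,22,23,21,19,22,17,15,21,22,19,14,17,15,17],
  [],
  [2,23,9,23,20,21,22,22,17,21,15,19,12,13,14],
  [],
  [],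
  [],
  [],
  [],
  [],
  [],
  [],
  [],
  [],
  [],
  [],
  [],
  [],
  [],
  [],
  [],
  [],
  [],
  [],
  [],
  [],
  [],
  [],
  [],
  [],
  [],
  [],
  [],
  [],
  [],
  [],
  [],
  [],
  [],
  [],
  [],
  [],
  [],
  [],
  [],
  [],
  [],
  [],
  [],
  [],
  [],
  [],
  [],
  [],
  [],
  [],
  [],
  [2,23,21,22,20,22,17,19,21,21,20,14,15,15,18],
  [],
  [2,22,21,19,22,20,21,18,17,18,21,20,14,14,18,14],
  [],
  [],
  [],
  [],
  [],
  [],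
  [],
  [],
  [],
  [],
  [],
  [],
  [],
  [],
  [],
  [],
  [],
  [],
  [],
  [],
  [],
  [],
  [],
  [],
  [],
  [],
  [],
  [],
  [2,23,22,21,23,20,18,23,19,16,19,18,13,18,14,12],
  [],
  [2,22,23,22,23,20,22,20,23,15,18,22,22,12,13,16,15],
  [],
  [],
  [],
  [],
  [],
  [],
  [],
  [],
  [],
  [],
  [],
  [],
  [],
  [2,9,21,22,23,20,22,22,15,16,21,17,12,17,19,19,15],
  [],
  [2,22,9,21,23,18,23,16,19,22,22,14,17,18,17,17],
  [],
  [],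
  [],
  [],
  [],
  [],
  [],
  [],
  [],
  [],
  [],
  [],
  [],
  [],
  [],
  [],
  [],
  [],
  [],
  [],
  [],
  [],
  [2,23,21,23,20,23,18,21,17,17,18,15,19,14,19,14,13],
  [],
  [2,9,22,23,9,20,20,19,19,17,18,16,21,12,18,18,15,13],
  [],
  [],
  [],
  [],
  [],
  [],
  [],
  [],
  [],
  [],
  [],
  [],
  [],
  [],
  [],
  [],
  [],
  [],
  [],
  [],
  [],
  [],
  [],
  [],
  [],
  [],
  [],
  [],
  [],
  [],
  [],
  [],
  [],
  [],
  [],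
  [],
  [],
  [],
  [],
  [],
  [],
  [],
  [],
  [],
  [],
  [],
  [],
  [],
  [],
  [],
  [],
  [],
  [],
  [2,9,19,21,20,19,21,17,15,19,12,14,19,17,14],
  [],
  [2,22,23,23,21,20,21,22,18,15,22,18,14,12,15,18],
  [],
  [],
  [],
  [],
  [2,23,9,22,20,20,20,20,20,17,16,21,18,16,12,12,19],
  [],
  [2,22,22,22,21,22,19,20,23,23,18,16,18,18,15,12,12,18],
  [],
  [],
  [],
  [],
  [],
  [],
  [],
  [],
  [],
  [],
  [],
  [],
  [],
  [],
  [],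
  [],
  [],
  [],
  [],
  [],
  [],
  [],
  [],
  [],
  [],
  [],
  [],
  [],
  [],
  [],
  [],
  [],
  [],
  [],
  [],
  [],
  [],
  [],
  [],
  [],
  [],
  [],
  [],
  [],
  [],
  [],
  [],
  [],
  [],
  [],
  [],
  [],
  [],
  [2,23,22,23,23,22,9,19,20,19,21,16,21,15,22,14,18],
  [],
  [2,23,23,9,23,21,19,9,22,22,14,18,15,16,19],
  [],
  [],
  [2,23,21,23,23,22,22,19,18,20,21,20,16,19,19,16,14,18,13],
  [],
  [2,9,23,21,22,23,22,20,23,23,20,17,17,21,14,18,12,16],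
  [],
  [],
  [],
  [],
  [],
  [],
  [],
  [],
  [],
  [],
  [],
  [],
  [],
  [],
  [],
  [],
  [],
  [],
  [],
  [],
  [],
  [],
  [],
  [],
  [],
  [],
  [],
  [],
  [],
  [],
  [],
  [],
  [],
  [],
  [],
  [],
  [],
  [],
  [],
  [],
  [],
  [],
  [],
  [],
  [],
  [],
  [],
  [],
  [],
  [],
  [],
  [],
  [],
  [2,23,22,21,23,22,23,19,18,9,18,16,17,19,14,14,14,13,12],
  [],
  [2,22,21,23,9,19,22,20,19,16,21,20,15,14,14,15,19],
  [],
  [],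
  [],
  [],
  [],
  [],
  [],
  [],
  [],
  [],
  [],
  [],
  [],
  [],
  [],
  [],
  [],
  [],
  [],
  [],
  [2,21,20,19,22,20,17,20,20,15,12,15,13,12,14],
  [],
  [2,23,23,21,19,22,18,22,23,17,17,17,17,19,14,16,12],
  [],
  [],
  [],
  [],
  [],
  [],
  [],
  [],
  [],
  [],
  [],
  [],
  [],
  [2,9,22,23,18,21,20,20,21,15,19,18,20,13,14,15,14,13],
  [],
  [2,23,23,9,20,23,18,20,15,22,18,17,12,12,16,16,17],
  [],
  [],
  [],
  [],
  [],
  [],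
  [],
  [],
  [],
  [],
  [],
  [],
  [],
  [],
  [],
  [],
  [],
  [],
  [],
  [],
  [],
  [],
  [],
  [],
  [],
  [],
  [],
  [],
  [],
  [],
  [],
  [],
  [],
  [],
  [],
  [],
  [],
  [],
  [],
  [],
  [],
  [],
  [],
  [],
  [],
  [],
  [2,9,22,21,20,21,19,9,16,17,15,15,15,14,15,15,19],
  [],
  [2,23,23,21,23,22,9,23,19,23,20,21,18,16,18,15,17,13,16,13],
  [],
  [],
  [],
  [],
  [],
  [],
  [],
  [],
  [],
  [],
  [],
  [],
  [],
  [2,9,23,23,23,9,19,19,22,18,17,16,20,13,14,14,19],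
  [],
  [2,21,23,23,9,18,23,18,18,16,22,18,15,12,14,13,16,19],
  [],
  [],
  [],
  [],
  [],
  [],
  [],
  [],
  [],
  [],
  [],
  [],
  [],
  [],
  [],
  [],
  [],
  [],
  [],
  [],
  [],
  [],
  [],
  [],
  [],
  [],
  [],
  [],
  [],
  [],
  [],
  [],
  [],
  [],
  [],
  [],
  [],
  [],
  [],
  [],
  [],
  [],
  [],
  [],
  [],
  [2,9,23,23,23,22,18,18,20,23,17,15,19,19,14,19,19,14],
  [],
  [2,22,20,19,19,17,21,21,15,22,12,15,17,14],
  [],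
  [],
  [],
  [],
  [],
  [],
  [],
  [],
  [],
  [],
  [],
  [],
  [],
  [2,9,21,19,9,18,17,18,16,15,16,14,18,15,18],
  [],
  [2,9,23,23,9,23,9,20,21,19,21,16,21,19,16,12,13,15],
  [],
  [],
  [],
  [],
  [],
  [],
  [],
  [],
  [],
  [],
  [],
  [],
  [],
  [],
  [],
  [],
  [],
  [],
  [],
  [],
  [],
  [],
  [],
  [],
  [],
  [],
  [],
  [],
  [],
  [],
  [],
  [],
  [],
  [],
  [],
  [],
  [],
  [],
  [],
  [],
  [],
  [],
  [],
  [],
  [2,22,22,23,21,22,20,19,19,21,16,20,17,21,12,13,17],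
  [],
  [2,9,22,22,9,23,19,19,23,16,19,15,20,12,16],
  [],
  [],
  [],
  [],
  [],
  [],
  [],
  [],
  [],
  [],
  [],
  [],
  [],
  [2,23,22,22,22,9,19,23,18,20,15,16,15,14,19,13,14],
  [],
  [2,9,22,23,9,19,19,21,22,9,15,19,17,15,12,16,14,13],
  [],
  [],
  [],
  [],
  [],
  [],
  [],
  [],
  [],
  [],
  [],
  [],
  [],
  [],
  [],
  [],
  [],
  [],
  [],
  [],
  [],
  [],
  [],
  [],
  [],
  [],
  [],
  [],
  [],
  [],
  [2,9,23,22,21,23,23,19,23,9,22,16,22,18,18,16,12],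
  [],
  [2,21,22,9,22,19,21,16,15,20,17,17,14,12,17,15,16],
  [],
  [],
  [],
  [],
  [],
  [],
  [],
  [],
  [],
  [],
  [],
  [],
  [],
  [],
  [],
  [],
  [],
  [],
  [],
  [],
  [],
  [],
  [],
  [],
  [],
  [],
  [],
  [],
  [],
  [],
  [],
  [],
  [],
  [],
  [],
  [],
  [],
  [],
  [],
  [],
  [],
  [],
  [],
  [],
  [],
  [],
  [],
  [],
  [],
  [],
  [],
  [],
  [],
  [2,22,23,23,22,21,19,22,18,19,18,17,19,14,17,13,14,19],
  [],
  [2,21,19,22,19,21,17,20,19,20,12,18,13,13,14],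
  [],
  [],
  [],
  [],
  [],
  [],
  [],
  [],
  [2,23,20,23,19,21,18,16,19,16,19,12,16,12],
  [],
  [2,9,22,22,9,23,9,20,18,9,19,15,18,18,12,17,15,14],
  [],
  [],
  [],
  [],
  [],
  [],
  [],
  [],
  [],
  [],
  [],
  [],
  [],
  [],
  [],
  [],
  [],
  [],
  [],
  [],
  [],
  [],
  [],
  [],
  [],
  [],
  [],
  [],
  [],
  [],
  [],
  [],
  [],
  [],
  [],
  [],
  [],
  [],
  [],
  [],
  [],
  [],
  [],
  [],
  [],
  [],
  [],
  [],
  [],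
  [],
  [],
  [],
  [],
  [2,22,23,22,21,22,20,20,21,15,15,18,12,14,13,15],
  [],
  [2,22,23,21,22,9,19,19,18,19,20,16,21,17,20,12,13],
  [],
  [],
  [],
  [],
  [],
  [],
  [],
  [],
  [],
  [],
  [],
  [],
  [],
  [],
  [],
  [],
  [],
  [],
  [],
  [],
  [],
  [],
  [],
  [],
  [],
  [],
  [],
  [],
  [],
  [],
  [2,21,23,20,18,20,19,16,18,19,15,13,17,18,14,14],
  [],
  [2,23,22,22,22,21,20,19,19,23,16,16,19,13,17,17,15,18],
  [],
  [],
  [],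
  [],
  [],
  [],
  [],
  [],
  [],
  [],
  [],
  [],
  [],
  [2,22,23,19,9,23,15,21,18,21,12,17,19,12,15],
  [],
  [2,23,22,21,23,18,19,20,22,22,16,17,15,21,13,17,12,14],
  [],
  [],
  [],
  [],
  [],
  [],
  [],
  [],
  [],
  [],
  [],
  [],
  [],
  [],
  [],
  [],
  [],
  [],
  [],
  [],
  [],
  [],
  [],
  [],
  [],
  [],
  [],
  [],
  [],
  [],
  [],
  [],
  [],
  [],
  [],
  [],
  [],
  [],
  [],
  [],
  [],
  [],
  [],
  [],
  [],
  [],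
  [],
  [],
  [],
  [],
  [],
  [],
  [],
  [],
  [],
  [],
  [],
  [],
  [],
  [],
  [],
  [],
  [],
  [],
  [],
  [],
  [],
  [],
  [],
  [],
  [],
  [],
  [],
  [],
  [],
  [],
  [],
  [],
  [],
  [],
  [],
  [],
  [],
  [],
  [],
  [],
  [],
  [],
  [],
  [],
  [],
  [],
  [],
  [],
  [],
  [],
  [],
  [],
  [],
  [],
  [],
  [],
  [],
  [],
  [],
  [],
  [],
  [],
  [],
  [],
  [],
  [],
  [],
  [],
  [],
  [],
  [],
  [],
  [],
  [],
  [],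
  [],
  [],
  [],
  [],
  [],
  [],
  [],
  [],
  [],
  [],
  [],
  [],
  [],
  [],
  [],
  [],
  [],
  [],
  [],
  [],
  [],
  [],
  [],
  [],
  [],
  [],
  [],
  [],
  [],
  [],
  [],
  [],
  [],
  [],
  [],
  [],
  [],
  [],
  [],
  [],
  [],
  [],
  [],
  [],
  [],
  [],
  [],
  [],
  [],
  [],
  [],
  [],
  [],
  [],
  [],
  [],
  [],
  [],
  [],
  [],
  [],
  [],
  [],
  [],
  [],
  [],
  [],
  [],
  [],
  [],
  [],
  [],
  [],
  [],
  [],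
  [],
  [],
  [],
  [],
  [],
  [],
  [],
  [],
  [],
  [],
  [],
  [],
  [],
  [],
  [],
  [],
  [],
  [],
  [],
  [],
  [],
  [],
  [],
  [],
  [],
  [],
  [],
  [],
  [],
  [],
  [],
  [],
  [],
  [],
  [],
  [],
  [],
  [],
  [],
  [],
  [],
  [],
  [],
  [],
  [],
  [],
  [],
  [],
  [],
  [],
  [],
  [],
  [],
  [],
  [],
  [],
  [],
  [],
  [],
  [],
  [],
  [],
  [],
  [],
  [],
  [],
  [],
  [],
  [],
  [],
  [],
  [],
  [],
  [],
  [],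
  [],
  [],
  [],
  [],
  [],
  [],
  [],
  [],
  [],
  [],
  [],
  [],
  [],
  [],
  [],
  [],
  [],
  [],
  [],
  [],
  [],
  [],
  [],
  [],
  [],
  [],
  [],
  [],
  [],
  [],
  [],
  [],
  [],
  [],
  [],
  [],
  [],
  [],
  [],
  [],
  [],
  [],
  [],
  [],
  [],
  [],
  [],
  [],
  [],
  [],
  [],
  [],
  [],
  [],
  [],
  [],
  [],
  [],
  [],
  [],
  [],
  [],
  [],
  [],
  [],
  [],
  [],
  [],
  [],
  [],
  [],
  [],
  [],
  [],
  [],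
  [],
  [],
  [],
  [],
  [],
  [],
  [],
  [],
  [],
  [],
  [],
  [],
  [],
  [],
  [],
  [],
  [],
  [],
  [],
  [],
  [],
  [],
  [],
  [],
  [],
  [],
  [],
  [],
  [],
  [],
  [],
  [],
  [],
  [],
  [],
  [],
  [],
  [],
  [],
  [],
  [],
  [],
  [],
  [],
  [],
  [],
  [],
  [],
  [],
  [],
  [],
  [],
  [],
  [],
  [],
  [],
  [],
  [],
  [],
  [],
  [],
  [],
  [],
  [],
  [],
  [],
  [],
  [],
  [],
  [],
  [],
  [],
  [],
  [],
  [],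
  [],
  [],
  [],
  [],
  [],
  [],
  [],
  [],
  [],
  [],
  [],
  [],
  [],
  [],
  [],
  [],
  [],
  [],
  [],
  [],
  [],
  [],
  [],
  [],
  [],
  [],
  [],
  [],
  [],
  [],
  [],
  [],
  [],
  [],
  [],
  [],
  [],
  [],
  [],
  [],
  [],
  [],
  [],
  [],
  [],
  [],
  [],
  [],
  [],
  [],
  [],
  [],
  [],
  [],
  [],
  [],
  [],
  [],
  [],
  [],
  [],
  [],
  [],
  [],
  [],
  [],
  [],
  [],
  [],
  [],
  [],
  [],
  [],
  [],
  [],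
  [],
  [],
  [],
  [],
  [],
  [],
  [],
  [],
  [],
  [],
  [],
  [],
  [],
  [],
  [],
  [],
  [],
  [],
  [],
  [],
  [],
  [],
  [],
  [],
  [],
  [],
  [],
  [],
  [],
  [],
  [],
  [],
  [],
  [],
  [],
  [],
  [],
  [],
  [],
  [],
  [],
  [],
  [],
  [],
  [],
  [],
  [],
  [],
  [],
  [],
  [],
  [],
  [],
  [],
  [],
  [],
  [],
  [],
  [],
  [],
  [],
  [],
  [],
  [],
  [],
  [],
  [],
  [],
  [],
  [],
  [],
  [],
  [],
  [],
  [],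
  [],
  [],
  [],
  [],
  [],
  [],
  [],
  [],
  [],
  [],
  [],
  [],
  [],
  [],
  [],
  [],
  [],
  [],
  [],
  [],
  [],
  [],
  [],
  [],
  [],
  [],
  [],
  [],
  [],
  [],
  [],
  [],
  [],
  [],
  [],
  [],
  [],
  [],
  [],
  [],
  [],
  [],
  [],
  [],
  [],
  [],
  [],
  [],
  [],
  [],
  [],
  [],
  [],
  [],
  [],
  [],
  [],
  [],
  [],
  [],
  [],
  [],
  [],
  [],
  [],
  [],
  [],
  [],
  [],
  [],
  [],
  [],
  [],
  [],
  [],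
  [],
  [],
  [],
  [],
  [],
  [],
  [],
  [],
  [],
  [],
  [],
  [],
  [],
  [],
  [],
  [],
  [],
  [],
  [],
  [],
  [],
  [],
  [],
  [],
  [],
  [],
  [],
  [],
  [],
  [],
  [],
  [],
  [],
  [],
  [],
  [],
  [],
  [],
  [],
  [],
  [],
  [],
  [],
  [],
  [],
  [],
  [],
  [],
  [],
  [],
  [],
  [],
  [],
  [],
  [],
  [],
  [],
  [],
  [],
  [],
  [],
  [],
  [],
  [],
  [],
  [],
  [],
  [],
  [],
  [],
  [],
  [],
  [],
  [],
  [],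
  [],
  [],
  [],
  [],
  [],
  [],
  [],
  [],
  [],
  [],
  [],
  [],
  [],
  [],
  [],
  [],
  [],
  [],
  [],
  [],
  [],
  [],
  [],
  [],
  [],
  [],
  [],
  [],
  [],
  [],
  [],
  [],
  [],
  [],
  [],
  [],
  [],
  [],
  [],
  [],
  [],
  [],
  [],
  [],
  [],
  [],
  [],
  [],
  [],
  [],
  [],
  [],
  [],
  [],
  [],
  [],
  [],
  [],
  [],
  [],
  [],
  [],
  [],
  [],
  [],
  [],
  [],
  [],
  [],
  [],
  [],
  [],
  [],
  [],
  [],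
  [],
  [],
  [],
  [],
  [],
  [],
  [],
  [],
  [],
  [],
  [],
  [],
  [],
  [],
  [],
  [],
  [],
  [],
  [],
  [],
  [],
  [],
  [],
  [],
  [],
  [],
  [],
  [],
  [],
  [],
  [],
  [],
  [],
  [],
  [],
  [],
  [],
  [],
  [],
  [],
  [],
  [],
  [],
  [],
  [],
  [],
  [],
  [],
  [],
  [],
  [],
  [],
  [],
  [],
  [],
  [],
  [],
  [],
  [],
  [],
  [],
  [],
  [],
  [],
  [],
  [],
  [],
  [],
  [],
  [],
  [],
  [],
  [],
  [],
  [],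
  [],
  [],
  [],
  [],
  [],
  [],
  [],
  [],
  [],
  [],
  [],
  [],
  [],
  [],
  [],
  [],
  [],
  [],
  [],
  [],
  [],
  [],
  [],
  [],
  [],
  [],
  [],
  [],
  [],
  [],
  [],
  [],
  [],
  [],
  [],
  [],
  [],
  [],
  [],
  [],
  [],
  [],
  [],
  [],
  [],
  [],
  [],
  [],
  [],
  [],
  [],
  [],
  [],
  [],
  [],
  [],
  [],
  [],
  [],
  [],
  [],
  [],
  [],
  [],
  [],
  [],
  [],
  [],
  [],
  [],
  [],
  [],
  [],
  [],
  [],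
  [],
  [],
  [],
  [],
  [],
  [],
  [],
  [],
  [],
  [],
  [],
  [],
  [],
  [],
  [],
  [],
  [],
  [],
  [],
  [],
  [],
  [],
  [],
  [],
  [],
  [],
  [],
  [],
  [],
  [],
  [],
  [],
  [],
  [],
  [],
  [],
  [],
  [],
  [],
  [],
  [],
  [],
  [],
  [],
  [],
  [],
  [],
  [],
  [],
  [],
  [],
  [],
  [],
  [],
  [],
  [],
  [],
  [],
  [],
  [],
  [],
  [],
  [],
  [],
  [],
  [],
  [],
  [],
  [],
  [],
  [],
  [],
  [],
  [],
  [],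
  [],
  [],
  [],
  [],
  [],
  [],
  [],
  [],
  [],
  [],
  [],
  [],
  [],
  [],
  [],
  [],
  [],
  [],
  [],
  [2,9,23,22,22,23,19,17,16,18,20,13,19,13,16,17],
  [],
  [2,22,9,21,23,18,22,22,17,18,22,15,12,13,14,14],
  [],
  [],
  [],
  [],
  [],
  [],
  [],
  [],
  [],
  [],
  [],
  [],
  [],
  [],
  [],
  [],
  [],
  [],
  [],
  [],
  [],
  [],
  [],
  [],
  [],
  [],
  [],
  [],
  [],
  [],
  [],
  [],
  [],
  [],
  [],
  [],
  [],
  [],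
  [],
  [],
  [],
  [],
  [],
  [],
  [],
  [],
  [],
  [],
  [],
  [],
  [],
  [],
  [],
  [2,9,21,22,23,19,19,21,17,21,17,15,12,18,18,14,13],
  [],
  [2,23,22,22,23,18,22,18,9,17,20,15,22,12,12,16,13,14],
  [],
  [],
  [],
  [],
  [],
  [2,23,23,23,19,23,23,16,17,18,18,13,14,17],
  [],
  [2,22,19,20,18,19,18,17,17,21,17,12,19,18,16,13],
  [],
  [],
  [],
  [],
  [],
  [],
  [],
  [],
  [],
  [],
  [],
  [],
  [],
  [],
  [],
  [],
  [],
  [],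
  [],
  [],
  [],
  [],
  [],
  [],
  [],
  [],
  [],
  [],
  [],
  [],
  [],
  [],
  [],
  [],
  [],
  [],
  [],
  [],
  [],
  [],
  [],
  [],
  [],
  [],
  [],
  [],
  [],
  [],
  [],
  [],
  [],
  [],
  [],
  [2,9,22,23,22,20,20,20,19,17,18,16,21,12,12,16],
  [],
  [2,9,21,22,21,18,18,16,18,19,15,12,19,19,14,15],
  [],
  [],
  [],
  [],
  [],
  [],
  [],
  [],
  [],
  [],
  [],
  [],
  [],
  [],
  [],
  [],
  [],
  [],
  [],
  [],
  [],
  [],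
  [],
  [],
  [],
  [],
  [],
  [],
  [],
  [],
  [],
  [],
  [],
  [],
  [2,23,9,22,9,23,16,17,20,21,12,17,13],
  [],
  [2,9,23,9,21,23,9,21,18,23,9,16,17,19,20,13,16,13,19],
  [],
  [],
  [],
  [],
  [],
  [],
  [],
  [],
  [],
  [],
  [],
  [],
  [],
  [2,22,23,19,22,23,20,16,22,21,16,18,12,17,13,13,19],
  [],
  [2,22,23,22,9,23,19,18,21,16,20,16,12,12,15,12,15],
  [],
  [],
  [],
  [],
  [],
  [],
  [],
  [],
  [],
  [],
  [],
  [],
  [],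
  [],
  [],
  [],
  [],
  [],
  [],
  [],
  [],
  [],
  [],
  [],
  [],
  [],
  [],
  [],
  [],
  [],
  [],
  [],
  [],
  [],
  [],
  [],
  [],
  [],
  [],
  [],
  [],
  [],
  [],
  [],
  [2,23,23,23,22,21,19,23,20,22,23,16,22,20,12,18,16,12],
  [],
  [2,22,9,23,21,23,20,21,18,16,16,17,18,22,12,12,12,17],
  [],
  [],
  [],
  [],
  [],
  [],
  [],
  [],
  [],
  [],
  [],
  [],
  [],
  [2,22,19,19,18,19,16,18,15,17,17,12,12,16,17,13],
  [],
  [2,20,9,19,21,17,21,15,18,17,12,19,16,14],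
  [],
  [],
  [],
  [],
  [],
  [],
  [],
  [],
  [],
  [],
  [],
  [],
  [],
  [],
  [],
  [],
  [],
  [],
  [],
  [],
  [],
  [],
  [],
  [],
  [],
  [],
  [],
  [],
  [],
  [],
  [],
  [],
  [],
  [],
  [2,9,23,23,22,23,22,18,19,9,17,15,19,20,13,19,17],
  [],
  [2,9,21,23,23,19,19,9,21,16,21,17,19,13,15,15,14],
  [],
  [],
  [],
  [],
  [],
  [],
  [],
  [],
  [],
  [],
  [],
  [],
  [],
  [2,9,23,9,22,23,22,18,20,21,17,20,21,19,13,15,18,12],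
  [],
  [2,9,22,9,22,23,18,23,21,16,21,18,13,14,15,12],
  [],
  [],
  [],
  [],
  [],
  [],
  [],
  [],
  [],
  [],
  [],
  [],
  [],
  [],
  [],
  [],
  [],
  [],
  [],
  [],
  [],
  [],
  [],
  [],
  [],
  [],
  [],
  [],
  [],
  [],
  [],
  [],
  [],
  [],
  [],
  [],
  [],
  [],
  [],
  [],
  [],
  [],
  [],
  [],
  [],
  [],
  [],
  [],
  [],
  [],
  [],
  [],
  [],
  [],
  [],
  [],
  [2,23,9,23,9,19,19,21,18,15,18,22,22,13,12,19,13,19],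
  [],
  [2,23,9,22,22,21,23,20,20,23,22,17,17,20,17,13,14,18,15],
  [],
  [],
  [],
  [],
  [],
  [],
  [],
  [],
  [],
  [],
  [],
  [],
  [],
  [2,21,22,9,22,21,20,19,22,19,15,22,15,15,13,14,18,15],
  [],
  [2,9,21,22,9,23,21,19,19,18,22,23,14,15,12],
  [],
  [],
  [],
  [],
  [],
  [],
  [],
  [],
  [],
  [],
  [],
  [],
  [],
  [],
  [],
  [],
  [],
  [],
  [],
  [],
  [],
  [],
  [],
  [],
  [],
  [],
  [],
  [],
  [],
  [],
  [],
  [],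
  [],
  [],
  [2,22,22,21,23,21,19,23,19,18,19,17,21,16,21,12,14],
  [],
  [2,21,22,21,23,23,20,18,19,15,22,16,12,12,17,15,16],
  [],
  [],
  [],
  [],
  [],
  [],
  [],
  [],
  [],
  [],
  [],
  [],
  [],
  [2,23,9,22,23,23,19,19,9,23,17,19,21,16,12,13,15,12],
  [],
  [2,23,22,23,22,21,20,20,21,19,17,16,16,21,14,15,19,19],
  [],
  [],
  [],
  [],
  [],
  [],
  [],
  [],
  [],
  [],
  [],
  [],
  [],
  [],
  [],
  [],
  [],
  [],
  [],
  [],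
  [],
  [],
  [],
  [],
  [],
  [],
  [],
  [],
  [],
  [],
  [],
  [],
  [2,9,22,9,22,23,21,20,21,18,15,20,18,13,17,14,13,16],
  [],
  [2,22,21,23,23,22,22,20,23,20,23,17,17,19,19,13,15],
  [],
  [],
  [],
  [],
  [],
  [],
  [],
  [],
  [],
  [],
  [],
  [],
  [],
  [],
  [],
  [],
  [],
  [],
  [],
  [],
  [],
  [],
  [],
  [],
  [],
  [],
  [],
  [],
  [],
  [],
  [],
  [],
  [],
  [],
  [],
  [],
  [],
  [],
  [],
  [],
  [],
  [],
  [],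
  [],
  [],
  [],
  [],
  [],
  [],
  [],
  [],
  [],
  [],
  [2,9,22,23,9,22,19,22,22,17,20,19,21,14,18,16,12],
  [],
  [2,23,22,23,9,23,18,23,9,23,16,22,22,20,14,13,15,16],
  [],
  [],
  [2,23,22,9,23,23,18,22,22,17,16,22,18,16,12,19,17,19],
  [],
  [2,9,22,21,23,18,23,19,15,15,21,15,18,13,18,14,14],
  [],
  [],
  [],
  [],
  [],
  [],
  [],
  [],
  [],
  [],
  [],
  [],
  [],
  [],
  [],
  [],
  [],
  [],
  [],
  [],
  [],
  [],
  [],
  [],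
  [],
  [],
  [],
  [],
  [],
  [],
  [],
  [],
  [],
  [],
  [],
  [],
  [],
  [],
  [],
  [],
  [],
  [],
  [],
  [],
  [],
  [],
  [],
  [],
  [],
  [],
  [],
  [],
  [],
  [2,21,23,23,9,22,23,19,9,15,20,22,16,14,15,15,18],
  [],
  [2,22,23,21,22,21,18,19,18,22,15,21,18,21,12,17,16,13],
  [],
  [],
  [],
  [],
  [],
  [],
  [],
  [],
  [2,9,22,20,19,19,22,20,17,17,20,21,18,12,14,12,14,16],
  [],
  [2,21,23,23,9,22,18,19,19,22,17,18,16,19,22,14,12,14],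
  [],
  [],
  [],
  [],
  [],
  [],
  [],
  [],
  [],
  [],
  [],
  [],
  [],
  [],
  [],
  [],
  [],
  [],
  [],
  [],
  [],
  [],
  [],
  [],
  [],
  [],
  [],
  [],
  [],
  [],
  [],
  [],
  [],
  [],
  [],
  [],
  [],
  [],
  [],
  [],
  [],
  [],
  [],
  [],
  [],
  [],
  [],
  [],
  [],
  [],
  [],
  [],
  [],
  [2,9,21,23,23,21,20,9,22,18,17,18,21,17,12,16,16],
  [],
  [2,9,21,23,22,9,21,22,19,22,16,22,20,12,17,14,15],
  [],
  [],
  [],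
  [],
  [],
  [],
  [2,9,21,22,22,20,9,20,17,16,22,20,12,16,15,12],
  [],
  [2,23,9,22,22,9,19,18,21,15,19,18,18,17,12,12,15],
  [],
  [],
  [],
  [],
  [],
  [],
  [],
  [],
  [],
  [],
  [],
  [],
  [],
  [],
  [],
  [],
  [],
  [],
  [],
  [],
  [],
  [],
  [],
  [],
  [],
  [],
  [],
  [],
  [],
  [],
  [],
  [],
  [],
  [],
  [],
  [],
  [],
  [],
  [],
  [],
  [],
  [],
  [],
  [],
  [],
  [],
  [],
  [],
  [],
  [],
  [],
  [],
  [],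
  [2,9,23,21,23,21,20,21,18,20,17,15,20,17,18,13,13,12],
  [],
  [2,22,9,23,21,19,22,19,19,17,21,21,15,22,13,13,13],
  [],
  [],
  [],
  [],
  [],
  [2,22,22,22,21,19,19,21,19,15,15,16,14,18,19,19,15],
  [],
  [2,23,23,21,23,23,22,22,20,19,16,22,20,15,12,13,12,16],
  [],
  [],
  [],
  [],
  [],
  [],
  [],
  [],
  [],
  [],
  [],
  [],
  [],
  [],
  [],
  [],
  [],
  [],
  [],
  [],
  [],
  [],
  [],
  [],
  [],
  [],
  [],
  [],
  [],
  [],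
  [],
  [],
  [],
  [],
  [],
  [],
  [],
  [],
  [],
  [],
  [],
  [],
  [],
  [],
  [],
  [],
  [],
  [],
  [],
  [],
  [],
  [],
  [],
  [2,22,18,22,22,20,17,18,18,20,21,12,17,16,15,15],
  [],
  [2,23,23,23,22,22,9,20,19,23,15,20,18,22,12,18,13,18,14],
  [],
  [],
  [],
  [],
  [],
  [],
  [],
  [],
  [],
  [],
  [],
  [],
  [],
  [],
  [],
  [],
  [2,9,23,21,22,19,18,20,22,16,21,18,18,14,17,17,19,12],
  [],
  [2,22,9,21,18,23,21,20,15,20,16,12,19,14,14],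
  [],
  [],
  [],
  [],
  [],
  [],
  [],
  [],
  [],
  [],
  [],
  [],
  [],
  [2,22,22,23,23,18,19,23,21,15,19,15,19,14,13,18],
  [],
  [2,9,23,23,21,22,22,22,18,19,20,15,16,16,14,19],
  [],
  [],
  [],
  [],
  [],
  [],
  [],
  [],
  [],
  [],
  [],
  [],
  [],
  [],
  [],
  [],
  [],
  [],
  [],
  [],
  [],
  [],
  [],
  [],
  [],
  [],
  [],
  [],
  [],
  [],
  [],
  [],
  [],
  [],
  [],
  [],
  [],
  [],
  [],
  [],
  [],
  [],
  [],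
  [],
  [],
  [],
  [],
  [],
  [],
  [],
  [],
  [],
  [],
  [],
  [],
  [],
  [],
  [],
  [2,21,23,21,22,19,18,22,21,22,15,21,17,18,13,19,18,19],
  [],
  [2,22,9,22,22,23,19,20,17,17,20,16,15,12,14,18,16],
  [],
  [],
  [],
  [],
  [],
  [],
  [],
  [],
  [],
  [],
  [],
  [],
  [],
  [2,23,9,21,22,9,19,22,19,18,22,15,22,18,13,19,13,15,19],
  [],
  [2,22,9,22,19,19,9,21,17,17,16,19,16,12,19,19,12,16],
  [],
  [],
  [],
  [],
  [],
  [],
  [],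
  [],
  [],
  [],
  [],
  [],
  [],
  [],
  [],
  [],
  [],
  [],
  [],
  [],
  [],
  [],
  [],
  [],
  [],
  [],
  [],
  [],
  [],
  [],
  [],
  [],
  [2,9,23,18,22,20,17,17,18,21,13,12,17,18],
  [],
  [2,9,22,23,22,9,21,20,21,22,23,17,15,18,14,14,17,15],
  [],
  [],
  [],
  [],
  [],
  [],
  [],
  [],
  [],
  [],
  [],
  [],
  [],
  [2,21,22,9,23,21,19,9,22,9,16,18,20,16,12,15,12],
  [],
  [2,9,21,23,23,9,19,23,18,23,16,15,19,12,19,15,19],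
  [],
  [],
  [],
  [],
  [],
  [],
  [],
  [],
  [],
  [],
  [],
  [],
  [],
  [],
  [],
  [],
  [],
  [],
  [],
  [],
  [],
  [],
  [],
  [],
  [],
  [],
  [],
  [],
  [],
  [],
  [2,22,23,23,9,22,20,9,19,18,16,19,19,15,13,12,19,16],
  [],
  [2,9,21,23,21,22,19,9,19,16,22,21,19,12,17,17,14,19],
  [],
  [],
  [],
  [],
  [],
  [],
  [],
  [],
  [],
  [],
  [],
  [],
  [],
  [],
  [],
  [],
  [],
  [],
  [],
  [],
  [],
  [],
  [],
  [],
  [],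
  [],
  [],
  [],
  [],
  [],
  [],
  [],
  [],
  [],
  [],
  [],
  [],
  [],
  [],
  [],
  [],
  [],
  [],
  [],
  [],
  [],
  [],
  [],
  [],
  [],
  [],
  [],
  [],
  [2,23,23,22,22,21,22,20,9,22,22,16,16,22,12,12,17,14,17],
  [],
  [2,21,23,23,9,20,20,20,20,17,21,22,18,19,13,15,14,12],
  [],
  [],
  [],
  [],
  [],
  [],
  [],
  [],
  [],
  [],
  [],
  [],
  [],
  [],
  [],
  [],
  [],
  [],
  [],
  [],
  [],
  [],
  [],
  [],
  [],
  [],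
  [],
  [],
  [],
  [],
  [],
  [],
  [],
  [],
  [],
  [],
  [],
  [],
  [],
  [],
  [],
  [],
  [],
  [],
  [],
  [],
  [],
  [],
  [],
  [],
  [],
  [],
  [],
  [],
  [],
  [],
  [],
  [],
  [],
  [],
  [],
  [],
  [],
  [],
  [],
  [],
  [],
  [],
  [],
  [],
  [],
  [],
  [],
  [],
  [],
  [],
  [],
  [],
  [],
  [],
  [],
  [],
  [],
  [],
  [],
  [],
  [],
  [],
  [],
  [],
  [],
  [],
  [],
  [],
  [],
  [],
  [],
  [],
  [],
  [],
  [],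
  [],
  [],
  [],
  [],
  [],
  [],
  [],
  [],
  [],
  [],
  [],
  [],
  [],
  [],
  [],
  [],
  [],
  [],
  [],
  [],
  [],
  [],
  [],
  [],
  [],
  [],
  [],
  [],
  [],
  [],
  [],
  [],
  [],
  [],
  [],
  [],
  [],
  [],
  [],
  [],
  [],
  [],
  [],
  [],
  [],
  [],
  [],
  [],
  [],
  [],
  [],
  [],
  [],
  [],
  [],
  [],
  [],
  [],
  [],
  [],
  [],
  [],
  [],
  [],
  [],
  [],
  [],
  [],
  [],
  [],
  [],
  [],
  [],
  [],
  [],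
  [],
  [],
  [],
  [],
  [],
  [],
  [],
  [],
  [],
  [],
  [],
  [],
  [],
  [],
  [],
  [],
  [],
  [],
  [],
  [],
  [],
  [],
  [],
  [],
  [],
  [],
  [],
  [],
  [],
  [],
  [],
  [],
  [],
  [],
  [],
  [],
  [],
  [],
  [],
  [],
  [],
  [],
  [],
  [],
  [],
  [],
  [],
  [],
  [],
  [],
  [],
  [],
  [],
  [],
  [],
  [],
  [],
  [],
  [],
  [],
  [],
  [],
  [],
  [],
  [],
  [],
  [],
  [],
  [],
  [],
  [],
  [],
  [],
  [],
  [],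
  [],
  [],
  [],
  [],
  [],
  [],
  [],
  [],
  [],
  [2,23,23,22,22,22,20,22,9,21,16,21,15,17,12,15,19,12,12],
  [],
  [2,21,22,23,19,19,22,21,16,18,18,17,12,14,12,14,17],
  [],
  [],
  [2,9,22,9,23,20,19,19,9,17,20,15,16,13,12,13,12],
  [],
  [2,22,9,19,19,18,15,19,15,21,12,19,16,13,13],
  [],
  [],
  [],
  [],
  [],
  [],
  [],
  [],
  [],
  [2,22,20,9,19,20,19,17,20,20,21,12,15,16,18],
  [],
  [2,23,22,9,22,22,19,19,20,19,17,21,18,13,15,18,14],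
  [],
  [],
  [],
  [],
  [],
  [],
  [],
  [],
  [2,23,9,22,22,22,20,22,20,17,19,22,16,16,14,19,12],
  [],
  [2,21,22,23,19,9,23,20,16,17,17,21,12,17,12,18,13],
  [],
  [],
  [2,21,23,21,22,20,22,9,19,17,15,20,17,19,14,19,17,15],
  [],
  [2,9,21,23,22,19,23,19,22,20,15,16,20,12,18,13,12,19],
  [],
  [],
  [],
  [],
  [],
  [],
  [],
  [],
  [2,9,22,9,21,23,9,21,19,9,19,20,18,17,15,15,16,16],
  [],
  [2,23,22,9,20,20,19,17,20,17,18,12,17,13,16],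
  [],
  [],
  [],
  [],
  [],
  [],
  [],
  [],
  [],
  [2,9,23,21,22,20,20,23,22,16,22,19,22,13,19,12,13],
  [],
  [2,22,23,9,21,23,20,18,23,16,16,19,21,12,18,17,17,12],
  [],
  [],
  [2,23,22,22,22,20,19,18,17,21,22,22,19,13,19],
  [],
  [2,9,22,23,23,20,21,18,19,15,15,21,21,12,18],
  [],
  [],
  [],
  [],
  [],
  [],
  [],
  [],
  [],
  [],
  [],
  [],
  [],
  [],
  [],
  [],
  [],
  [],
  [],
  [],
  [],
  [],
  [],
  [],
  [],
  [],
  [],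
  [],
  [],
  [],
  [],
  [],
  [],
  [],
  [],
  [],
  [],
  [],
  [],
  [],
  [],
  [],
  [],
  [],
  [],
  [],
  [],
  [],
  [],
  [],
  [],
  [],
  [],
  [],
  [],
  [],
  [],
  [],
  [],
  [],
  [],
  [],
  [],
  [],
  [2,23,21,22,23,23,20,20,20,9,17,15,17,13,18,13,17,18],
  [],
  [2,9,22,22,21,20,9,18,20,22,15,16,19,19,14,19,16,15],
  [],
  [],
  [2,22,23,19,9,23,20,9,17,18,17,19,17,14,16,13],
  [],
  [2,9,23,21,18,20,23,20,17,20,20,21,16,13,17,18,12,12],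
  [],
  [],
  [],
  [],
  [],
  [],
  [],
  [],
  [],
  [2,23,23,22,21,22,23,19,22,18,16,19,19,13,15,15],
  [],
  [2,21,23,23,21,22,23,19,18,15,16,15,20,12,12,19,12,15],
  [],
  [],
  [],
  [],
  [],
  [],
  [],
  [],
  [2,9,22,9,23,19,9,22,19,20,17,16,22,22,14,14],
  [],
  [2,21,23,21,23,22,21,20,9,22,16,17,17,16,14,19,14,16],
  [],
  [],
  [2,23,22,9,22,22,9,23,19,23,21,22,15,15,12,12,13,18],
  [],
  [2,21,22,21,18,9,19,19,15,20,19,14,15,19,14],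
  [],
  [],
  [],
  [],
  [],
  [],
  [],
  [],
  [2,18,19,22,21,15,19,16,21,18,12,18,15,15,19],
  [],
  [2,23,23,21,22,23,18,18,17,16,20,22,12,13,14,13],
  [],
  [],
  [],
  [],
  [],
  [],
  [],
  [],
  [],
  [2,23,21,22,21,23,9,20,19,9,19,15,21,15,16,14,14],
  [],
  [2,22,23,9,21,19,23,9,20,18,15,18,16,18,14,15,13],
  [],
  [],
  [2,22,19,17,17,15,21,14,19,15,14],
  [],
  [2,23,22,23,20,18,19,9,21,17,17,18,15,13,19,19,18,13],
  [],
  [],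
  [],
  [],
  [],
  [],
  [],
  [],
  [],
  [],
  [],
  [],
  [],
  [],
  [],
  [],
  [],
  [],
  [],
  [],
  [],
  [],
  [],
  [],
  [],
  [],
  [],
  [],
  [],
  [],
  [],
  [],
  [],
  [],
  [],
  [],
  [],
  [],
  [],
  [],
  [],
  [],
  [],
  [],
  [],
  [],
  [],
  [],
  [],
  [],
  [],
  [],
  [],
  [],
  [],
  [],
  [],
  [],
  [],
  [],
  [],
  [],
  [],
  [],
  [],
  [],
  [],
  [],
  [],
  [],
  [],
  [],
  [],
  [],
  [],
  [],
  [],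
  [],
  [],
  [],
  [],
  [],
  [],
  [],
  [],
  [],
  [],
  [],
  [],
  [],
  [],
  [],
  [],
  [],
  [],
  [],
  [],
  [],
  [],
  [],
  [],
  [],
  [],
  [],
  [],
  [],
  [],
  [],
  [],
  [],
  [],
  [],
  [],
  [],
  [],
  [],
  [],
  [],
  [],
  [],
  [],
  [],
  [],
  [],
  [],
  [],
  [],
  [],
  [],
  [2,23,9,23,20,9,20,17,18,19,12,18,14,13,14],
  [],
  [2,9,23,21,20,23,21,20,17,20,16,15,12,12,17,17,13],
  [2,23,22,21,22,20,9,19,9,17,16,21,18,18,14],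
  [],
  [2,22,23,21,23,20,19,18,23,19,15,21,16,22,14,17,13,18,17],
  [],
  [],
  [],
  [],
  [],
  [],
  [],
  [],
  [],
  [2,21,22,22,21,19,18,21,22,9,15,18,19,16,12,16,18,18],
  [],
  [2,23,23,21,22,23,21,20,18,9,16,17,18,16,13,15,16,12],
  [],
  [],
  [],
  [],
  [],
  [],
  [],
  [],
  [],
  [],
  [2,22,21,22,21,23,19,23,20,9,17,16,20,21,19,14,17,17,15],
  [],
  [2,23,9,23,21,22,20,9,15,22,16,20,13,17],
  [2,21,23,21,23,22,18,19,16,17,17,16,12,16,16,19],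
  [],
  [2,9,21,22,22,23,23,20,23,20,18,18,16,21,17,13,19],
  [],
  [],
  [],
  [],
  [],
  [],
  [],
  [],
  [],
  [],
  [2,9,23,23,18,9,21,20,15,20,16,18,12,12,17,19,15,13],
  [],
  [2,22,22,19,9,23,20,16,16,20,13,14,12,17,19],
  [],
  [],
  [],
  [],
  [],
  [],
  [],
  [],
  [],
  [2,21,23,18,21,19,17,16,20,21,22,14,12,19,17,19],
  [],
  [2,23,9,23,21,19,20,9,16,21,15,20,12,12,19,15,16,17],
  [2,23,9,21,20,20,18,21,19,17,15,17,22,12,15,14,17],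
  [],
  [2,22,23,21,23,21,19,19,21,22,23,17,22,16,18,12],
  [],
  [],
  [],
  [],
  [],
  [],
  [],
  [],
  [],
  [],
  [],
  [],
  [],
  [],
  [],
  [],
  [],
  [],
  [],
  [],
  [],
  [],
  [],
  [],
  [],
  [],
  [],
  [],
  [],
  [],
  [],
  [],
  [],
  [],
  [],
  [],
  [],
  [],
  [],
  [],
  [],
  [],
  [],
  [],
  [],
  [],
  [],
  [],
  [],
  [],
  [],
  [],
  [],
  [],
  [],
  [],
  [],
  [],
  [],
  [],
  [],
  [],
  [],
  [],
  [],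
  [],
  [],
  [],
  [],
  [],
  [],
  [],
  [],
  [],
  [],
  [],
  [],
  [],
  [],
  [],
  [],
  [],
  [],
  [],
  [],
  [],
  [],
  [],
  [],
  [],
  [],
  [],
  [],
  [],
  [],
  [],
  [],
  [],
  [],
  [],
  [],
  [],
  [],
  [],
  [],
  [],
  [],
  [],
  [],
  [],
  [],
  [],
  [],
  [],
  [],
  [],
  [],
  [],
  [],
  [],
  [],
  [],
  [],
  [],
  [],
  [],
  [],
  [],
  [],
  [],
  [],
  [],
  [],
  [],
  [],
  [],
  [],
  [],
  [],
  [],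
  [],
  [],
  [],
  [],
  [],
  [],
  [],
  [],
  [],
  [],
  [],
  [],
  [],
  [],
  [],
  [],
  [],
  [],
  [],
  [],
  [],
  [],
  [],
  [],
  [],
  [],
  [],
  [],
  [],
  [],
  [],
  [],
  [],
  [],
  [],
  [],
  [],
  [],
  [],
  [],
  [],
  [],
  [],
  [],
  [],
  [],
  [],
  [],
  [],
  [],
  [],
  [],
  [],
  [],
  [2,23,9,22,23,9,20,19,18,23,21,17,17,19,12,18,13,14],
  [],
  [2,9,21,20,21,22,16,15,17,19,21,13,13,17,16,12],
  [2,23,9,23,18,21,22,16,22,17,12,19,15,15,12],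
  [],
  [2,9,23,21,23,21,23,9,19,9,18,21,15,18,18,18,14,12,13,17],
  [],
  [],
  [],
  [],
  [],
  [],
  [],
  [],
  [],
  [2,9,21,22,23,22,9,22,19,16,21,17,21,12,13,17,15,16],
  [],
  [2,9,23,23,9,22,23,21,18,18,21,15,21,19,12,14,19,14,17],
  [],
  [],
  [],
  [],
  [],
  [],
  [],
  [],
  [],
  [],
  [2,21,20,9,19,23,23,17,17,15,17,20,13,12,13,13],
  [],
  [2,22,19,18,18,9,17,18,21,22,14,17,17,19,16],
  [2,9,23,23,22,22,20,22,22,20,20,17,12,18,14,12,15],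
  [],
  [2,9,21,22,22,21,19,21,22,22,15,21,22,12,18,15,15],
  [],
  [],
  [],
  [],
  [],
  [],
  [],
  [],
  [],
  [],
  [2,21,23,21,22,9,19,22,18,17,22,15,17,12,19,12,16,15],
  [],
  [2,22,23,9,22,19,20,18,9,15,17,16,22,14,12,15],
  [],
  [],
  [],
  [],
  [],
  [],
  [],
  [],
  [],
  [2,9,21,22,23,21,18,18,18,21,13,13,17,12,12],
  [],
  [2,22,22,9,23,19,19,20,22,18,12,18,18,19,15],
  [2,23,23,23,21,23,22,21,19,18,20,23,19,17,15,21,19,12,13],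
  [],
  [2,23,23,9,19,23,18,21,15,18,17,16,12,15,15,13,13],
  [],
  [],
  [],
  [],
  [],
  [],
  [],
  [],
  [],
  [],
  [],
  [],
  [],
  [],
  [],
  [],
  [],
  [],
  [],
  [],
  [],
  [],
  [],
  [],
  [],
  [],
  [],
  [],
  [],
  [],
  [],
  [],
  [],
  [],
  [],
  [],
  [],
  [],
  [],
  [],
  [],
  [],
  [],
  [],
  [],
  [],
  [],
  [],
  [],
  [],
  [],
  [],
  [],
  [],
  [],
  [],
  [],
  [],
  [],
  [],
  [],
  [],
  [],
  [],
  [],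
  [],
  [],
  [],
  [],
  [],
  [],
  [],
  [],
  [],
  [],
  [],
  [],
  [],
  [],
  [],
  [],
  [],
  [],
  [],
  [],
  [],
  [],
  [],
  [],
  [],
  [],
  [],
  [],
  [],
  [],
  [],
  [],
  [],
  [],
  [],
  [],
  [],
  [],
  [],
  [],
  [],
  [],
  [],
  [],
  [],
  [],
  [],
  [],
  [],
  [],
  [],
  [],
  [],
  [],
  [],
  [],
  [],
  [],
  [],
  [],
  [],
  [],
  [],
  []] = true := by decide +kernel
end H80.KFCo2
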