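import Cfsg.Agent.H80.KFHSL0
set_option maxRecDepth 1000000
set_option Elab.async false
namespace H80.KFHS
open H71 H81 H88 H80.KF H43.KF
noncomputable def D0_0 : ℕ := 0xfffffffffffffffffffffffff
noncomputable def S0_0 : H88.Tr := (.leaf (nat_lit 0) (nat_lit 0x9c8ccd2a932ce1008bd82e5fc00000006476a97a9c2dd2f820dfd348000000009abf4233e48c72a51c3890ac4))
noncomputable def v0_0 : Lv := ⟨(nat_lit 0), D0_0, 100, wd LS [12,17,15,16,18,13,14,19], [0,5,6,0,2,5,3,4,0], S0_0, true, (nat_lit 0), (nat_lit 0), 0, 0, 0, []⟩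
noncomputable def D0_1 : ℕ := 0xced66b7fc3afd7fffdf7fd7fe
noncomputable def S0_1 : H88.Tr := (.leaf (nat_lit 0) (nat_lit 0x42126856838144090d465034000000000a96630ac106100dc8b3d9400000000084162025c02fd12ca1064465c))
noncomputable def v0_1 : Lv := ⟨(nat_lit 1), D0_1, 77, wd LS [16,15,17,18,19,21,20,22], [0,1,2,7,3,6,1,3,0], S0_1, true, (nat_lit 0), (nat_lit 0), 0, 0, 0, []⟩
noncomputable def D0_2 : ℕ := 0x4e566b3fc2afc77ecda37c3bc
noncomputable def S0_2 : H88.Tr := (.leaf (nat_lit 0) (nat_lit 0x8042226000a8060040268320000000046444213400d030c800304108000000000526910420386028d2020230))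
noncomputable def v0_2 : Lv := ⟨(nat_lit 2), D0_2, 60, wd LS [19,18,20,7,21,23,22], [0,1,0,2,5,1,0,3,0], S0_2, true, (nat_lit 0), (nat_lit 0), 0, 0, 0, []⟩
noncomputable def D0_3 : ℕ := 0x4c14433e4006826ccc8130300
noncomputable def S0_3 : H88.Tr := (.leaf (nat_lit 0) (nat_lit 0x480403320000004480013000000000000004013400028000c48000200))
noncomputable def v0_3 : Lv := ⟨(nat_lit 8), D0_3, 32, wd LS [7,23,22,21], [0,2,3,0,1,0,3], S0_3, true, (nat_lit 0), (nat_lit 0), 0, 0, 0, []⟩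
noncomputable def D0_4 : ℕ := 0x80000000000000200008
noncomputable def S0_4 : H88.Tr := (.leaf (nat_lit 0) (nat_lit 0))
noncomputable def v0_4 : Lv := ⟨(nat_lit 3), D0_4, 3, wd LS [23], [0,0], S0_4, true, (nat_lit 0), (nat_lit 0), 0, 0, 0, []⟩
noncomputable def L0 : List Lv := [v0_0, v0_1, v0_2, v0_3, v0_4]
theorem lok0 : LOK 112 (H79.RepHS.ρ).range L0 :=
  (LOK.cons (hLS.wd (w := [12,17,15,16,18,13,14,19]) (by decide +kernel))
  (LOK.cons (hLS.wd (w := [16,15,17,18,19,21,20,22]) (by decide +kernel))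
  (LOK.cons (hLS.wd (w := [19,18,20,7,21,23,22]) (by decide +kernel))
  (LOK.cons (hLS.wd (w := [7,23,22,21]) (by decide +kernel))
  (LOK.cons (hLS.wd (w := [23]) (by decide +kernel))
  LOK.nil)))))
theorem lb0_0 : lbLv 7 112 v0_0 [v0_1, v0_2, v0_3, v0_4] = true := by decide +kernel
theorem lb0_1 : lbLv 7 112 v0_1 [v0_2, v0_3, v0_4] = true := by decide +kernel
theorem lb0_2 : lbLv 7 112 v0_2 [v0_3, v0_4] = true := by decide +kernel
theorem lb0_3 : lbLv 7 112 v0_3 [v0_4] = true := by decide +kernel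
theorem lb0_4 : lbLv 7 112 v0_4 [] = true := by decide +kernel
theorem lb0 : LB 7 112 L0 := ⟨lb0_0, ⟨lb0_1, ⟨lb0_2, ⟨lb0_3, ⟨lb0_4, trivial⟩⟩⟩⟩⟩
theorem ch0 : Ch 112 L0 (H79.RepHS.ρ).range := lb_exact L0 _ lok0 lb0 (by rw [cardB]; decide +kernel)
theorem base : IsBase 112 (H79.RepHS.ρ).range [3,8,2,1,0] := ch0.isBase
theorem hB : (H79.RepHS.ρ).range ≤ supp 112 :=
  (eq_of_lb (B' := (H79.RepHS.ρ).range ⊓ supp 112) inf_le_left (fun v hv a ha => (lok0 v hv a ha).mono ⟨(lok0 v hv a ha).2.1, (lok0 v hv a ha).supp⟩) lb0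
    (by rw [cardB]; decide +kernel)).ge.trans inf_le_right
def AT0 : Sl := ⟨[33,32,31,30,29,28,27,26,25], [[],
  [33],
  [32],
  [31],
  [32,33],
  [31,33],
  [33,32],
  [31,32]], [[(1, []), (0, []), (6, []), (5, [28,29,25,27]), (7, [27]), (3, [28,29,25,27]), (2, []), (4, [25,27])],
  [(2, []), (4, []), (3, []), (7, []), (5, []), (6, [27]), (1, [28,29,25]), (0, [28,29,25,27])],
  [(3, []), (5, []), (7, []), (0, [28,29,25,27]), (6, [27]), (1, [28,29,25,27]), (4, [28,29,25]), (2, [28,29,25,27])],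
  [(0, [30]), (1, [30,26,27]), (2, [29,30,26,27]), (3, [29,30,25,27]), (4, [28,30,27]), (5, [28,30,25,26,27]), (6, [28,29,30,25]), (7, [28,29,30,26,27])],
  [(0, [29]), (1, [28,27]), (2, [28,25,27]), (3, [29]), (4, [29,25]), (5, [28,27]), (6, [29,25]), (7, [28,25,27])],
  [(0, [28]), (1, [29,27]), (2, [29,25,27]), (3, [28]), (4, [28,25]), (5, [29,27]), (6, [28,25]), (7, [29,25,27])],
  [(0, [27]), (1, [25,27]), (2, [25,27]), (3, [27]), (4, [27]), (5, [25,27]), (6, [27]), (7, [25,27])],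
  [(0, [26]), (1, [25,26]), (2, [28,25,26]), (3, [28,29,25,26,27]), (4, [29,26,27]), (5, [28,29,26,27]), (6, [28,26]), (7, [29,25,26,27])],
  [(0, [25]), (1, [25]), (2, [25]), (3, [25]), (4, [25]), (5, [25]), (6, [25]), (7, [25])]]⟩
theorem rAT0 : relP LS [3,8,2,1,0] (schR AT0) = true := by decide +kernel
def AT1 : Sl := ⟨[30,29,28,27,26,25], [[],
  [30],
  [29],
  [28],
  [29,30],
  [28,30],
  [28,29],
  [28,29,30]], [[(1, []), (0, []), (4, [25]), (5, []), (2, [25]), (3, []), (7, [25]), (6, [25])],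
  [(2, []), (4, []), (0, []), (6, []), (1, []), (7, []), (3, []), (5, [])],
  [(3, []), (5, []), (6, []), (0, [25]), (7, []), (1, [25]), (2, [25]), (4, [25])],
  [(0, [27]), (1, [27]), (2, [27]), (3, [27]), (4, [27]), (5, [27]), (6, [27]), (7, [27])],
  [(0, [26]), (1, [26]), (2, [25,26]), (3, [25,26]), (4, [25,26]), (5, [25,26]), (6, [26]), (7, [26])],
  [(0, [25]), (1, [25]), (2, [25]), (3, [25]), (4, [25]), (5, [25]), (6, [25]), (7, [25])]]⟩
theorem rAT1 : relP LS [3,8,2,1,0] (schR AT1) = true := by decide +kernel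
def AT2 : Sl := ⟨[27,26,25], [[],
  [27],
  [26],
  [25],
  [26,27],
  [25,27],
  [25,26],
  [25,26,27]], [[(1, []), (3, []), (4, []), (5, []), (6, []), (0, []), (7, []), (2, [])],
  [(2, []), (4, []), (3, []), (6, []), (5, []), (7, []), (0, []), (1, [])],
  [(3, []), (5, []), (6, []), (0, []), (7, []), (1, []), (2, []), (4, [])]]⟩
theorem rAT2 : relP LS [3,8,2,1,0] (schR AT2) = true := by decide +kernel
def CT : List Sl := [AT0, AT1, AT2]
theorem rCT : ∀ e ∈ CT.flatMap schR, evw (vL LS) e.1 = evw (vL LS) e.2 :=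
  (List.forall_mem_append.2 ⟨of_relP base hLS rAT0, (List.forall_mem_append.2 ⟨of_relP base hLS rAT1, (List.forall_mem_append.2 ⟨of_relP base hLS rAT2, fun _ h => absurd h List.not_mem_nil⟩)⟩)⟩)
theorem oCT : schOK CT = true := by decide +kernel
def ST : List ℕ := [33,32,31,30,29,28,27,26,25]
def PT : List (ℕ × List ℕ) := [(96, [30,31,31,29]), (97, [33,29,28])]
theorem knT : ∀ l ∈ slpS PT ST, vL LS l ∈ (gen (vL LS) ST) :=
  slp_mem base hLS _ (fun _ h => mem_gen _ h) (by decide +kernel)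
theorem leT : (gen (vL LS) ST) ≤ (H79.RepHS.ρ).range := gen_le_of hLS (by decide +kernel)
instance finT : Finite (gen (vL LS) ST) := Finite.of_injective _ (Subgroup.inclusion_injective leT)
noncomputable def DT_0 : ℕ := 0xa3b7faf5f8f777843dcb66dea
noncomputable def ST_0 : H88.Tr := (.leaf (nat_lit 0) (nat_lit 0))
noncomputable def vT_0 : Lv := ⟨(nat_lit 1), DT_0, 64, wd LS [32,33,25,31,30,29,27,28,26], [0,1,2,5,6,3,0], ST_0, true, (nat_lit 0), (nat_lit 0), 0, 0, 0, []⟩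
noncomputable def DT_1 : ℕ := 0x10800008002400010201
noncomputable def ST_1 : H88.Tr := (.leaf (nat_lit 0) (nat_lit 0))
noncomputable def vT_1 : Lv := ⟨(nat_lit 0), DT_1, 8, wd LS [97,96], [0,1,0,1], ST_1, true, (nat_lit 0), (nat_lit 0), 0, 0, 0, []⟩
noncomputable def LT : List Lv := [vT_0, vT_1]
theorem lokT : LOK 112 (gen (vL LS) ST) LT :=
  (LOK.cons (hLS.wdK knT (w := [32,33,25,31,30,29,27,28,26]) (by decide +kernel))
  (LOK.cons (hLS.wdK knT (w := [97,96]) (by decide +kernel))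
  LOK.nil))
theorem lbT_0 : lbLv 7 112 vT_0 [vT_1] = true := by decide +kernel
theorem lbT_1 : lbLv 7 112 vT_1 [] = true := by decide +kernel
theorem lbT : LB 7 112 LT := ⟨lbT_0, ⟨lbT_1, trivial⟩⟩
theorem lowT : 512 ≤ Nat.card (gen (vL LS) ST) := (by decide +kernel : 512 ≤ prodN LT).trans (lb_le _ _ lokT lbT)
theorem cardT : Nat.card (gen (vL LS) ST) = 2 ^ 9 := card_gen_eq rCT oCT (by decide +kernel) lowT
def R0 : List (List ℕ × List ℕ) := [([24], [])]
theorem rR0 : ∀ e ∈ R0, evw (vL LS) e.1 = evw (vL LS) e.2 := of_relP base hLS (by decide +kernel)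
theorem v1 : vL LS 24 = 1 := by simpa using rR0 ([24], []) (by decide)
def mT : Md := ([], [], 24)
def MT : List Md := [([], [], 25), ([], [], 64)]
def SKa : List ℕ := [34,35,25,26,27,28,29,30,36]
def PKa : List (ℕ × List ℕ) := [(37, [34,35,26,36,29]), (38, [26,28,34,28]), (39, [38,37,37]), (40, [34,34,35,26,35]), (41, [36,35,35,36,29,35]), (42, [34,26,26,36]), (43, [28,30,41,42,28,25,40]), (44, [42,25,30,41,40]), (45, [43,43]), (46, [43,43,43,44]), (47, [45,46,46,45,46])]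
theorem knKa : ∀ l ∈ slpS PKa SKa, vL LS l ∈ (gen (vL LS) SKa) :=
  slp_mem base hLS _ (fun _ h => mem_gen _ h) (by decide +kernel)
theorem leKa : (gen (vL LS) SKa) ≤ (H79.RepHS.ρ).range := gen_le_of hLS (by decide +kernel)
instance finKa : Finite (gen (vL LS) SKa) := Finite.of_injective _ (Subgroup.inclusion_injective leKa)
noncomputable def DKa_0 : ℕ := 0xf3fffbfdf8f7f7a77dcff6feb
noncomputable def SKa_0 : H88.Tr := (.leaf (nat_lit 0) (nat_lit 0))
noncomputable def vKa_0 : Lv := ⟨(nat_lit 0), DKa_0, 80, wd LS [35,27,36,26,34,25,28,30,29], [0,1,2,5,0,2,3,0], SKa_0, true, (nat_lit 0), (nat_lit 0), 0, 0, 0, []⟩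
noncomputable def DKa_1 : ℕ := 0x906a55c0a6410038c34458a
noncomputable def SKa_1 : H88.Tr := (.leaf (nat_lit 0) (nat_lit 0))
noncomputable def vKa_1 : Lv := ⟨(nat_lit 1), DKa_1, 32, wd LS [38,39,37,29], [0,2,3,0,1,3], SKa_1, true, (nat_lit 0), (nat_lit 0), 0, 0, 0, []⟩
noncomputable def DKa_2 : ℕ := 0x48000000004
noncomputable def SKa_2 : H88.Tr := (.leaf (nat_lit 0) (nat_lit 0))
noncomputable def vKa_2 : Lv := ⟨(nat_lit 2), DKa_2, 3, wd LS [39], [0,0], SKa_2, true, (nat_lit 0), (nat_lit 0), 0, 0, 0, []⟩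
noncomputable def LKa : List Lv := [vKa_0, vKa_1, vKa_2]
theorem lokKa : LOK 112 (gen (vL LS) SKa) LKa :=
  (LOK.cons (hLS.wdK knKa (w := [35,27,36,26,34,25,28,30,29]) (by decide +kernel))
  (LOK.cons (hLS.wdK knKa (w := [38,39,37,29]) (by decide +kernel))
  (LOK.cons (hLS.wdK knKa (w := [39]) (by decide +kernel))
  LOK.nil)))
theorem lbKa_0 : lbLv 7 112 vKa_0 [vKa_1, vKa_2] = true := by decide +kernel
theorem lbKa_1 : lbLv 7 112 vKa_1 [vKa_2] = true := by decide +kernel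
theorem lbKa_2 : lbLv 7 112 vKa_2 [] = true := by decide +kernel
theorem lbKa : LB 7 112 LKa := ⟨lbKa_0, ⟨lbKa_1, ⟨lbKa_2, trivial⟩⟩⟩
theorem lowKa : 7680 ≤ Nat.card (gen (vL LS) SKa) := (by decide +kernel : 7680 ≤ prodN LKa).trans (lb_le _ _ lokKa lbKa)
noncomputable def Oa : ℕ := 0xf3fffbfdf8f7f7a77dcff6feb
theorem hOa : ∀ y, Oa.testBit y = true ↔ ∃ w ∈ [[25]], evw (vL LS) w y ≠ y :=
  of_movIs (m := 7) (by norm_num) hLS (by decide +kernel)
def Ra : List (List ℕ × List ℕ) := [([34,25], [25,34]),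
  ([35,25], [25,35]),
  ([25,25], [25,25]),
  ([26,25], [25,26]),
  ([27,25], [25,27]),
  ([28,25], [25,28]),
  ([29,25], [25,29]),
  ([30,25], [25,30]),
  ([36,25], [25,36])]
theorem rRa : ∀ e ∈ Ra, evw (vL LS) e.1 = evw (vL LS) e.2 := of_relP base hLS (by decide +kernel)
def CPa3_0 : Sl := ⟨[34], [[],
  [34],
  [34,34]], [[(1, []), (2, []), (0, [])]]⟩
theorem rCPa3_0 : relP LS [3,8,2,1,0] (schR CPa3_0) = true := by decide +kernel
def CPa3 : List Sl := [CPa3_0]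
theorem rCPa3 : ∀ e ∈ CPa3.flatMap schR, evw (vL LS) e.1 = evw (vL LS) e.2 :=
  (List.forall_mem_append.2 ⟨of_relP base hLS rCPa3_0, fun _ h => absurd h List.not_mem_nil⟩)
theorem oCPa3 : schOK CPa3 = true := by decide +kernel
def SPa3 : List ℕ := [34]
def PPa3 : List (ℕ × List ℕ) := []
theorem knPa3 : ∀ l ∈ slpS PPa3 SPa3, vL LS l ∈ (gen (vL LS) SPa3) :=
  slp_mem base hLS _ (fun _ h => mem_gen _ h) (by decide +kernel)
theorem lePa3 : (gen (vL LS) SPa3) ≤ (H79.RepHS.ρ).range := gen_le_of hLS (by decide +kernel)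
instance finPa3 : Finite (gen (vL LS) SPa3) := Finite.of_injective _ (Subgroup.inclusion_injective lePa3)
noncomputable def DPa3_0 : ℕ := 0x4040000000000000000000001
noncomputable def SPa3_0 : H88.Tr := (.leaf (nat_lit 0) (nat_lit 0))
noncomputable def vPa3_0 : Lv := ⟨(nat_lit 0), DPa3_0, 3, wd LS [34], [0,0], SPa3_0, true, (nat_lit 0), (nat_lit 0), 0, 0, 0, []⟩
noncomputable def LPa3 : List Lv := [vPa3_0]
theorem lokPa3 : LOK 112 (gen (vL LS) SPa3) LPa3 :=
  (LOK.cons (hLS.wdK knPa3 (w := [34]) (by decide +kernel))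
  LOK.nil)
theorem lbPa3_0 : lbLv 7 112 vPa3_0 [] = true := by decide +kernel
theorem lbPa3 : LB 7 112 LPa3 := ⟨lbPa3_0, trivial⟩
theorem lowPa3 : 3 ≤ Nat.card (gen (vL LS) SPa3) := (by decide +kernel : 3 ≤ prodN LPa3).trans (lb_le _ _ lokPa3 lbPa3)
theorem cardPa3 : Nat.card (gen (vL LS) (topS CPa3)) = 3 ^ 1 := card_gen_eq rCPa3 oCPa3 (by decide +kernel) lowPa3
def CPa5_0 : Sl := ⟨[35], [[],
  [35],
  [35,35],
  [35,35,35],
  [35,35,35,35]], [[(1, []), (2, []), (3, []), (4, []), (0, [])]]⟩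
theorem rCPa5_0 : relP LS [3,8,2,1,0] (schR CPa5_0) = true := by decide +kernel
def CPa5 : List Sl := [CPa5_0]
theorem rCPa5 : ∀ e ∈ CPa5.flatMap schR, evw (vL LS) e.1 = evw (vL LS) e.2 :=
  (List.forall_mem_append.2 ⟨of_relP base hLS rCPa5_0, fun _ h => absurd h List.not_mem_nil⟩)
theorem oCPa5 : schOK CPa5 = true := by decide +kernel
def SPa5 : List ℕ := [35]
def PPa5 : List (ℕ × List ℕ) := []
theorem knPa5 : ∀ l ∈ slpS PPa5 SPa5, vL LS l ∈ (gen (vL LS) SPa5) :=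
  slp_mem base hLS _ (fun _ h => mem_gen _ h) (by decide +kernel)
theorem lePa5 : (gen (vL LS) SPa5) ≤ (H79.RepHS.ρ).range := gen_le_of hLS (by decide +kernel)
instance finPa5 : Finite (gen (vL LS) SPa5) := Finite.of_injective _ (Subgroup.inclusion_injective lePa5)
noncomputable def DPa5_0 : ℕ := 0x20000020000000000044001
noncomputable def SPa5_0 : H88.Tr := (.leaf (nat_lit 0) (nat_lit 0))
noncomputable def vPa5_0 : Lv := ⟨(nat_lit 0), DPa5_0, 5, wd LS [35], [0,0,0,0], SPa5_0, true, (nat_lit 0), (nat_lit 0), 0, 0, 0, []⟩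
noncomputable def LPa5 : List Lv := [vPa5_0]
theorem lokPa5 : LOK 112 (gen (vL LS) SPa5) LPa5 :=
  (LOK.cons (hLS.wdK knPa5 (w := [35]) (by decide +kernel))
  LOK.nil)
theorem lbPa5_0 : lbLv 7 112 vPa5_0 [] = true := by decide +kernel
theorem lbPa5 : LB 7 112 LPa5 := ⟨lbPa5_0, trivial⟩
theorem lowPa5 : 5 ≤ Nat.card (gen (vL LS) SPa5) := (by decide +kernel : 5 ≤ prodN LPa5).trans (lb_le _ _ lokPa5 lbPa5)
theorem cardPa5 : Nat.card (gen (vL LS) (topS CPa5)) = 5 ^ 1 := card_gen_eq rCPa5 oCPa5 (by decide +kernel) lowPa5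
def SQa : List ℕ := [30,29,28,27,26,25]
def PQa : List (ℕ × List ℕ) := []
theorem knQa : ∀ l ∈ slpS PQa SQa, vL LS l ∈ (gen (vL LS) SQa) :=
  slp_mem base hLS _ (fun _ h => mem_gen _ h) (by decide +kernel)
theorem leQa : (gen (vL LS) SQa) ≤ (H79.RepHS.ρ).range := gen_le_of hLS (by decide +kernel)
instance finQa : Finite (gen (vL LS) SQa) := Finite.of_injective _ (Subgroup.inclusion_injective leQa)
def Rna : List (List ℕ × List ℕ) := [([34,30], [28,29,26,34]),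
  ([34,29], [28,27,34]),
  ([34,28], [28,29,34]),
  ([34,27], [27,34]),
  ([34,26], [28,30,26,34]),
  ([34,25], [25,34]),
  ([35,30], [28,29,25,27,35]),
  ([35,29], [30,25,26,27,35]),
  ([35,28], [29,26,27,35]),
  ([35,27], [27,35]),
  ([35,26], [28,29,26,27,35]),
  ([35,25], [25,35]),
  ([25,30], [30,25]),
  ([25,29], [29,25]),
  ([25,28], [28,25]),
  ([25,27], [27,25]),
  ([25,26], [26,25]),
  ([25,25], [25,25]),
  ([26,30], [30,26]),
  ([26,29], [29,25,26]),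
  ([26,28], [28,25,26]),
  ([26,27], [27,26]),
  ([26,26], [26,26]),
  ([26,25], [25,26]),
  ([27,30], [30,27]),
  ([27,29], [29,27]),
  ([27,28], [28,27]),
  ([27,27], [27,27]),
  ([27,26], [26,27]),
  ([27,25], [25,27]),
  ([28,30], [30,28]),
  ([28,29], [29,28]),
  ([28,28], [28,28]),
  ([28,27], [27,28]),
  ([28,26], [25,26,28]),
  ([28,25], [25,28]),
  ([29,30], [30,25,29]),
  ([29,29], [29,29]),
  ([29,28], [28,29]),
  ([29,27], [27,29]),
  ([29,26], [25,26,29]),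
  ([29,25], [25,29]),
  ([30,30], [30,30]),
  ([30,29], [29,25,30]),
  ([30,28], [28,30]),
  ([30,27], [27,30]),
  ([30,26], [26,30]),
  ([30,25], [25,30]),
  ([36,30], [28,29,30,25,26,27,36]),
  ([36,29], [28,26,27,36]),
  ([36,28], [28,30,25,26,36]),
  ([36,27], [25,27,36]),
  ([36,26], [28,30,25,36]),
  ([36,25], [25,36])]
theorem rRna : ∀ e ∈ Rna, evw (vL LS) e.1 = evw (vL LS) e.2 := of_relP base hLS (by decide +kernel)
theorem nrma : (gen (vL LS) SKa) ≤ Subgroup.normalizer (gen (vL LS) SQa : Set (Equiv.Perm ℕ)) := gen_le_norm rRna (by decide +kernel)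
def SKb : List ℕ := [66,65,67,64,68,69]
def PKb : List (ℕ × List ℕ) := [(70, [68,69,67,67]), (71, [66,66,67,64,64]), (72, [71,65,71,65]), (73, [66,68,68,69,68]), (74, [68,65,69,67]), (75, [73,65]), (76, [65,74]), (77, [76,76,72,76]), (78, [76,75,76])]
theorem knKb : ∀ l ∈ slpS PKb SKb, vL LS l ∈ (gen (vL LS) SKb) :=
  slp_mem base hLS _ (fun _ h => mem_gen _ h) (by decide +kernel)
theorem leKb : (gen (vL LS) SKb) ≤ (H79.RepHS.ρ).range := gen_le_of hLS (by decide +kernel)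
instance finKb : Finite (gen (vL LS) SKb) := Finite.of_injective _ (Subgroup.inclusion_injective leKb)
noncomputable def DKb_0 : ℕ := 0xfb49257f76cbed336e8d95375
noncomputable def SKb_0 : H88.Tr := (.leaf (nat_lit 0) (nat_lit 0))
noncomputable def vKb_0 : Lv := ⟨(nat_lit 0), DKb_0, 60, wd LS [69,66,64,68,65,67,70,71], [0,1,2,3,0,7,3], SKb_0, true, (nat_lit 0), (nat_lit 0), 0, 0, 0, []⟩
noncomputable def DKb_1 : ℕ := 0x49242008124104c90722800a
noncomputable def SKb_1 : H88.Tr := (.leaf (nat_lit 0) (nat_lit 0))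
noncomputable def vKb_1 : Lv := ⟨(nat_lit 1), DKb_1, 24, wd LS [71,72,65,70], [0,2,3,0,1,0], SKb_1, true, (nat_lit 0), (nat_lit 0), 0, 0, 0, []⟩
noncomputable def DKb_2 : ℕ := 0x10000000000000000004
noncomputable def SKb_2 : H88.Tr := (.leaf (nat_lit 0) (nat_lit 0))
noncomputable def vKb_2 : Lv := ⟨(nat_lit 2), DKb_2, 2, wd LS [72], [0], SKb_2, true, (nat_lit 0), (nat_lit 0), 0, 0, 0, []⟩
noncomputable def LKb : List Lv := [vKb_0, vKb_1, vKb_2]
theorem lokKb : LOK 112 (gen (vL LS) SKb) LKb :=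
  (LOK.cons (hLS.wdK knKb (w := [69,66,64,68,65,67,70,71]) (by decide +kernel))
  (LOK.cons (hLS.wdK knKb (w := [71,72,65,70]) (by decide +kernel))
  (LOK.cons (hLS.wdK knKb (w := [72]) (by decide +kernel))
  LOK.nil)))
theorem lbKb_0 : lbLv 7 112 vKb_0 [vKb_1, vKb_2] = true := by decide +kernel
theorem lbKb_1 : lbLv 7 112 vKb_1 [vKb_2] = true := by decide +kernel
theorem lbKb_2 : lbLv 7 112 vKb_2 [] = true := by decide +kernel
theorem lbKb : LB 7 112 LKb := ⟨lbKb_0, ⟨lbKb_1, ⟨lbKb_2, trivial⟩⟩⟩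
theorem lowKb : 2880 ≤ Nat.card (gen (vL LS) SKb) := (by decide +kernel : 2880 ≤ prodN LKb).trans (lb_le _ _ lokKb lbKb)
noncomputable def Ob : ℕ := 0xfffffffffffffffffffffffff
theorem hOb : ∀ y, Ob.testBit y = true ↔ ∃ w ∈ [[64]], evw (vL LS) w y ≠ y :=
  of_movIs (m := 7) (by norm_num) hLS (by decide +kernel)
def Rb : List (List ℕ × List ℕ) := [([66,64], [64,66]),
  ([65,64], [64,65]),
  ([67,64], [64,67]),
  ([64,64], [64,64]),
  ([68,64], [64,68]),
  ([69,64], [64,69])]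
theorem rRb : ∀ e ∈ Rb, evw (vL LS) e.1 = evw (vL LS) e.2 := of_relP base hLS (by decide +kernel)
def CPb3_0 : Sl := ⟨[66,65], [[],
  [66],
  [65],
  [66,66],
  [65,66],
  [65,65],
  [65,66,66],
  [65,65,66],
  [65,65,66,66]], [[(1, []), (3, []), (4, []), (0, []), (6, []), (7, []), (2, []), (8, []), (5, [])],
  [(2, []), (4, []), (5, []), (6, []), (7, []), (0, []), (8, []), (1, []), (3, [])]]⟩
theorem rCPb3_0 : relP LS [3,8,2,1,0] (schR CPb3_0) = true := by decide +kernel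
def CPb3 : List Sl := [CPb3_0]
theorem rCPb3 : ∀ e ∈ CPb3.flatMap schR, evw (vL LS) e.1 = evw (vL LS) e.2 :=
  (List.forall_mem_append.2 ⟨of_relP base hLS rCPb3_0, fun _ h => absurd h List.not_mem_nil⟩)
theorem oCPb3 : schOK CPb3 = true := by decide +kernel
def SPb3 : List ℕ := [66,65]
def PPb3 : List (ℕ × List ℕ) := []
theorem knPb3 : ∀ l ∈ slpS PPb3 SPb3, vL LS l ∈ (gen (vL LS) SPb3) :=
  slp_mem base hLS _ (fun _ h => mem_gen _ h) (by decide +kernel)
theorem lePb3 : (gen (vL LS) SPb3) ≤ (H79.RepHS.ρ).range := gen_le_of hLS (by decide +kernel)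
instance finPb3 : Finite (gen (vL LS) SPb3) := Finite.of_injective _ (Subgroup.inclusion_injective lePb3)
noncomputable def DPb3_0 : ℕ := 0x2100080100044000008802
noncomputable def SPb3_0 : H88.Tr := (.leaf (nat_lit 0) (nat_lit 0))
noncomputable def vPb3_0 : Lv := ⟨(nat_lit 1), DPb3_0, 9, wd LS [65,66], [0,1,0,1], SPb3_0, true, (nat_lit 0), (nat_lit 0), 0, 0, 0, []⟩
noncomputable def LPb3 : List Lv := [vPb3_0]
theorem lokPb3 : LOK 112 (gen (vL LS) SPb3) LPb3 :=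
  (LOK.cons (hLS.wdK knPb3 (w := [65,66]) (by decide +kernel))
  LOK.nil)
theorem lbPb3_0 : lbLv 7 112 vPb3_0 [] = true := by decide +kernel
theorem lbPb3 : LB 7 112 LPb3 := ⟨lbPb3_0, trivial⟩
theorem lowPb3 : 9 ≤ Nat.card (gen (vL LS) SPb3) := (by decide +kernel : 9 ≤ prodN LPb3).trans (lb_le _ _ lokPb3 lbPb3)
theorem cardPb3 : Nat.card (gen (vL LS) (topS CPb3)) = 3 ^ 2 := card_gen_eq rCPb3 oCPb3 (by decide +kernel) lowPb3
def CPb5_0 : Sl := ⟨[67], [[],
  [67],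
  [67,67],
  [67,67,67],
  [67,67,67,67]], [[(1, []), (2, []), (3, []), (4, []), (0, [])]]⟩
theorem rCPb5_0 : relP LS [3,8,2,1,0] (schR CPb5_0) = true := by decide +kernel
def CPb5 : List Sl := [CPb5_0]
theorem rCPb5 : ∀ e ∈ CPb5.flatMap schR, evw (vL LS) e.1 = evw (vL LS) e.2 :=
  (List.forall_mem_append.2 ⟨of_relP base hLS rCPb5_0, fun _ h => absurd h List.not_mem_nil⟩)
theorem oCPb5 : schOK CPb5 = true := by decide +kernel
def SPb5 : List ℕ := [67]
def PPb5 : List (ℕ × List ℕ) := []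
theorem knPb5 : ∀ l ∈ slpS PPb5 SPb5, vL LS l ∈ (gen (vL LS) SPb5) :=
  slp_mem base hLS _ (fun _ h => mem_gen _ h) (by decide +kernel)
theorem lePb5 : (gen (vL LS) SPb5) ≤ (H79.RepHS.ρ).range := gen_le_of hLS (by decide +kernel)
instance finPb5 : Finite (gen (vL LS) SPb5) := Finite.of_injective _ (Subgroup.inclusion_injective lePb5)
noncomputable def DPb5_0 : ℕ := 0x5000080000000080001
noncomputable def SPb5_0 : H88.Tr := (.leaf (nat_lit 0) (nat_lit 0))
noncomputable def vPb5_0 : Lv := ⟨(nat_lit 0), DPb5_0, 5, wd LS [67], [0,0,0,0], SPb5_0, true, (nat_lit 0), (nat_lit 0), 0, 0, 0, []⟩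
noncomputable def LPb5 : List Lv := [vPb5_0]
theorem lokPb5 : LOK 112 (gen (vL LS) SPb5) LPb5 :=
  (LOK.cons (hLS.wdK knPb5 (w := [67]) (by decide +kernel))
  LOK.nil)
theorem lbPb5_0 : lbLv 7 112 vPb5_0 [] = true := by decide +kernel
theorem lbPb5 : LB 7 112 LPb5 := ⟨lbPb5_0, trivial⟩
theorem lowPb5 : 5 ≤ Nat.card (gen (vL LS) SPb5) := (by decide +kernel : 5 ≤ prodN LPb5).trans (lb_le _ _ lokPb5 lbPb5)
theorem cardPb5 : Nat.card (gen (vL LS) (topS CPb5)) = 5 ^ 1 := card_gen_eq rCPb5 oCPb5 (by decide +kernel) lowPb5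
end H80.KFHS
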