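import Cfsg.Agent.H80.KFP
import Cfsg.Agent.H79.RepHS
set_option maxRecDepth 1000000
set_option Elab.async false
namespace H80.KFHS
open H71 H81 H88 H80.KF H43.KF
theorem good0 : Good 112 (H79.RepHS.ρ).range [H79.RepHS.nb, H79.RepHS.na] :=
  H79.RepHS.good0
noncomputable def n0_0 : ℕ := 0x687df35bcf4d58
noncomputable def n0_1 : ℕ := 0x42a04f00000000be8e618
noncomputable def n0_2 : ℕ := 0x1dba000036a00023420000078
noncomputable def n0_3 : ℕ := 0x10048003801c01000000138024
noncomputable def n0_4 : ℕ := 0xe08004061418706101060000300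
noncomputable def n0_5 : ℕ := 0x400110000880204081102000000
noncomputable def n0_6 : ℕ := 0x22500900204a9122102112840810
noncomputable def n0_7 : ℕ := 0x240c9000404092260c9012640082
noncomputable def n0_8 : ℕ := 0xe002040a103030c103820808304
noncomputable def n0_9 : ℕ := 0x8000c00a0043000c00f009c002
noncomputable def n0_10 : ℕ := 0x1dbb0001d36000016000021da
noncomputable def n0_11 : ℕ := 0x22fe97b0000000a9052c4
noncomputable def n0_12 : ℕ := 0x68775f5c3ad63a
noncomputable def n0 : Net := .cons 56 n0_0 <| .cons 28 n0_1 <| .cons 14 n0_2 <| .cons 7 n0_3 <| .cons 4 n0_4 <| .cons 2 n0_5 <| .cons 1 n0_6 <| .cons 2 n0_7 <| .cons 4 n0_8 <| .cons 7 n0_9 <| .cons 14 n0_10 <| .cons 28 n0_11 <| .cons 56 n0_12 <| .nil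
noncomputable def La2 : List Net := n0 :: [H79.RepHS.nb, H79.RepHS.na]
theorem ga2 : Good 112 (H79.RepHS.ρ).range La2 :=
  Good.word (m := 7) (by norm_num) good0 (w := [3,3,0,2,1,1,3,1]) (by decide +kernel)
noncomputable def Tn0 : H88.Tr := (.leaf (nat_lit 0) (nat_lit 0xfff542098828dd44c620881cae620000fff324d615b2029090d8a2e0409c0000000e30cf6f060cf4601565d7b8e00000ff0e0d905d8759f26e471aa9a1320000f0f2103ed64c19e36bea1bd62a8c0000ccc6d455027f697518d9d8b91fa00000aaa51a116dad625b5b3c6ae70cc6))
noncomputable def ln0 : Lt := ⟨Tn0, n0⟩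
theorem on0 : OK 112 (H79.RepHS.ρ).range ln0 := OK.of (m := 7) (by norm_num) (H := 128) ga2 (by decide +kernel)
noncomputable def n1_0 : ℕ := 0xc2e13106f0af90
noncomputable def n1_1 : ℕ := 0x98406f80000000b8d3b58
noncomputable def n1_2 : ℕ := 0x2560000042200001b80001b38
noncomputable def n1_3 : ℕ := 0x1980120008050008007001c004a
noncomputable def n1_4 : ℕ := 0xc001020800201000c0840410004
noncomputable def n1_5 : ℕ := 0x400000000811200400100008100
noncomputable def n1_6 : ℕ := 0x850a050a442112a502900004204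
noncomputable def n1_7 : ℕ := 0x48101040410322001112640180
noncomputable def n1_8 : ℕ := 0xc14002081c0840a180810010384
noncomputable def n1_9 : ℕ := 0x1801601a8055009800401b004e
noncomputable def n1_10 : ℕ := 0x13e300025f300023f800014b0
noncomputable def n1_11 : ℕ := 0x1a2a5fc0000000acd5db0
noncomputable def n1_12 : ℕ := 0xc2e3d746f32848
noncomputable def n1 : Net := .cons 56 n1_0 <| .cons 28 n1_1 <| .cons 14 n1_2 <| .cons 7 n1_3 <| .cons 4 n1_4 <| .cons 2 n1_5 <| .cons 1 n1_6 <| .cons 2 n1_7 <| .cons 4 n1_8 <| .cons 7 n1_9 <| .cons 14 n1_10 <| .cons 28 n1_11 <| .cons 56 n1_12 <| .nil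
noncomputable def La3 : List Net := n1 :: La2
theorem ga3 : Good 112 (H79.RepHS.ρ).range La3 :=
  Good.word (m := 7) (by norm_num) ga2 (w := [4,4,3,3,5,3,3,4,4,2,4]) (by decide +kernel)
noncomputable def Tn1 : H88.Tr := (.leaf (nat_lit 0) (nat_lit 0xfffb198040974b6c11431180aa2a0000fff5e231b701ac924488846294100000000a16a1d4e8e6da92f0631319da0000ff041b396eca92e3120ab22f656e0000f0fe853af49eb062ec6138694b920000ccc4ecd108e2ba1ea1cdd847eb5a0000aaa8b0de1e0527e684987f23eae6))
noncomputable def ln1 : Lt := ⟨Tn1, n1⟩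
theorem on1 : OK 112 (H79.RepHS.ρ).range ln1 := OK.of (m := 7) (by norm_num) (H := 128) ga3 (by decide +kernel)
noncomputable def n2_0 : ℕ := 0x9b665f6d07a3ac
noncomputable def n2_1 : ℕ := 0xd56554c00000005dbabb4
noncomputable def n2_2 : ℕ := 0x23980001fc400028e40000200
noncomputable def n2_3 : ℕ := 0x28050004805c011002c0040028
noncomputable def n2_4 : ℕ := 0x10000001420508100830800200
noncomputable def n2_5 : ℕ := 0x8800200010000481100008012
noncomputable def n2_6 : ℕ := 0x210a15221409020500912050a94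
noncomputable def n2_7 : ℕ := 0x20010124489030640092200c180
noncomputable def n2_8 : ℕ := 0x103040c1c20406000820c00382
noncomputable def n2_9 : ℕ := 0x10805101c8048011001e0054022
noncomputable def n2_10 : ℕ := 0x141000017d200036c50000a32
noncomputable def n2_11 : ℕ := 0xde2403400000005d2c766
noncomputable def n2_12 : ℕ := 0x9b6dc1ac6fd0fe
noncomputable def n2 : Net := .cons 56 n2_0 <| .cons 28 n2_1 <| .cons 14 n2_2 <| .cons 7 n2_3 <| .cons 4 n2_4 <| .cons 2 n2_5 <| .cons 1 n2_6 <| .cons 2 n2_7 <| .cons 4 n2_8 <| .cons 7 n2_9 <| .cons 14 n2_10 <| .cons 28 n2_11 <| .cons 56 n2_12 <| .nil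
noncomputable def La4 : List Net := n2 :: La3
theorem ga4 : Good 112 (H79.RepHS.ρ).range La4 :=
  Good.word (m := 7) (by norm_num) ga3 (w := [5,6,4,4,7,4]) (by decide +kernel)
noncomputable def Tn2 : H88.Tr := (.leaf (nat_lit 0) (nat_lit 0xfffb080bcb2541431990302f1c800000fff047c50418b62462aae6a06048000000046ef8d507df2e3670110e21360000ff0e5a5001fced79882cd4d639160000f0fcfe32825b461739279184ce4e0000ccca0b4ca657941ca1ca59eb9bae0000aaabf6de32ab39b0b8da3287c104))
noncomputable def ln2 : Lt := ⟨Tn2, n2⟩
theorem on2 : OK 112 (H79.RepHS.ρ).range ln2 := OK.of (m := 7) (by norm_num) (H := 128) ga4 (by decide +kernel)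
noncomputable def n3_0 : ℕ := 0x21f1cb8ef9b418
noncomputable def n3_1 : ℕ := 0xe73e5b40000000aeded6c
noncomputable def n3_2 : ℕ := 0xf90000120e00021d200038c2
noncomputable def n3_3 : ℕ := 0x1f001a0168040008805e0040054
noncomputable def n3_4 : ℕ := 0x1400006080810e002820800302
noncomputable def n3_5 : ℕ := 0x802200810200489002008000
noncomputable def n3_6 : ℕ := 0x2a54814281008128508812204284
noncomputable def n3_7 : ℕ := 0xc1032604903260c8112448882
noncomputable def n3_8 : ℕ := 0x1c0050a0c2830a083850000184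
noncomputable def n3_9 : ℕ := 0x12406b0188049000804b0144072
noncomputable def n3_10 : ℕ := 0xef50001e3e00012e10003d02
noncomputable def n3_11 : ℕ := 0xc769a2600000003cdfbbc
noncomputable def n3_12 : ℕ := 0x21f023a9282e24
noncomputable def n3 : Net := .cons 56 n3_0 <| .cons 28 n3_1 <| .cons 14 n3_2 <| .cons 7 n3_3 <| .cons 4 n3_4 <| .cons 2 n3_5 <| .cons 1 n3_6 <| .cons 2 n3_7 <| .cons 4 n3_8 <| .cons 7 n3_9 <| .cons 14 n3_10 <| .cons 28 n3_11 <| .cons 56 n3_12 <| .nil
noncomputable def La5 : List Net := n3 :: La4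
theorem ga5 : Good 112 (H79.RepHS.ρ).range La5 :=
  Good.word (m := 7) (by norm_num) ga4 (w := [3,5,5,5,0,4,1,5,5]) (by decide +kernel)
noncomputable def Tn3 : H88.Tr := (.leaf (nat_lit 0) (nat_lit 0xfff4529548418c2260ca267300bc0000fff0855b150c430d1316c1ac2e000000000d42ee1d1365d20fc1849ccb5c0000ff02cc64632ac59ef89994dbb9080000f0f70e26b17fb7a051ac0b8e216c0000cccd23e2e0e499e49a9e44f4bad80000aaab82fec3ea2b13875eec03a02e))
noncomputable def ln3 : Lt := ⟨Tn3, n3⟩
theorem on3 : OK 112 (H79.RepHS.ρ).range ln3 := OK.of (m := 7) (by norm_num) (H := 128) ga5 (by decide +kernel)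
noncomputable def n4_0 : ℕ := 0xe52cca89470430
noncomputable def n4_1 : ℕ := 0xc1da57400000009756e62
noncomputable def n4_2 : ℕ := 0x268200018780001cb00003a4c
noncomputable def n4_3 : ℕ := 0x13005a006003c005005200c8018
noncomputable def n4_4 : ℕ := 0x2080800a141020e100050818003
noncomputable def n4_5 : ℕ := 0x408000000081004400000000102
noncomputable def n4_6 : ℕ := 0x2100810a04a1102402140210a01
noncomputable def n4_7 : ℕ := 0x2644101200c81202048020248180
noncomputable def n4_8 : ℕ := 0xc0840a1830300000070a1c081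
noncomputable def n4_9 : ℕ := 0x1c806a006807d015805b00ec004
noncomputable def n4_10 : ℕ := 0x1ea60001db20003a210003252
noncomputable def n4_11 : ℕ := 0xa1fb97b00000008d40dfe
noncomputable def n4_12 : ℕ := 0xe527ff8825b8b8
noncomputable def n4 : Net := .cons 56 n4_0 <| .cons 28 n4_1 <| .cons 14 n4_2 <| .cons 7 n4_3 <| .cons 4 n4_4 <| .cons 2 n4_5 <| .cons 1 n4_6 <| .cons 2 n4_7 <| .cons 4 n4_8 <| .cons 7 n4_9 <| .cons 14 n4_10 <| .cons 28 n4_11 <| .cons 56 n4_12 <| .nil
noncomputable def La6 : List Net := n4 :: La5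
theorem ga6 : Good 112 (H79.RepHS.ρ).range La6 :=
  Good.word (m := 7) (by norm_num) ga5 (w := [7,7,4,3,7,2]) (by decide +kernel)
noncomputable def Tn4 : H88.Tr := (.leaf (nat_lit 0) (nat_lit 0xfff3af90628aa101064c26a0c90c0000fff0502840744eedb90301632a600000000c13eb1380dd5e9f402c9c53e80000ff07f8402a35568ec239b49477cc0000f0fa4747a745c8eae58e8290e5e40000cccb5ee1be687821d451c62f23b80000aaa523cfa8c32adfb021a70deb16))
noncomputable def ln4 : Lt := ⟨Tn4, n4⟩
theorem on4 : OK 112 (H79.RepHS.ρ).range ln4 := OK.of (m := 7) (by norm_num) (H := 128) ga6 (by decide +kernel)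
noncomputable def n5_0 : ℕ := 0x3a91f6343c4e82
noncomputable def n5_1 : ℕ := 0x3428f940000000e40e8d0
noncomputable def n5_2 : ℕ := 0x150000038c20000e040002dea
noncomputable def n5_3 : ℕ := 0xc005201c007801100720120078
noncomputable def n5_4 : ℕ := 0x41008008102800a000050810380
noncomputable def n5_5 : ℕ := 0x110000090000080002440800
noncomputable def n5_6 : ℕ := 0x4091004088108048152244a84
noncomputable def n5_7 : ℕ := 0x648083200411006008020204082
noncomputable def n5_8 : ℕ := 0x41c20408042810200007000c084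
noncomputable def n5_9 : ℕ := 0xc0048001004f0000032008803a
noncomputable def n5_10 : ℕ := 0x1b2000024f700027460002f82
noncomputable def n5_11 : ℕ := 0x3e3ffd50000000e54cca8
noncomputable def n5_12 : ℕ := 0x3a95427e7b6082
noncomputable def n5 : Net := .cons 56 n5_0 <| .cons 28 n5_1 <| .cons 14 n5_2 <| .cons 7 n5_3 <| .cons 4 n5_4 <| .cons 2 n5_5 <| .cons 1 n5_6 <| .cons 2 n5_7 <| .cons 4 n5_8 <| .cons 7 n5_9 <| .cons 14 n5_10 <| .cons 28 n5_11 <| .cons 56 n5_12 <| .nil
noncomputable def La7 : List Net := n5 :: La6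
theorem ga7 : Good 112 (H79.RepHS.ρ).range La7 :=
  Good.word (m := 7) (by norm_num) ga6 (w := [8,4,8,5]) (by decide +kernel)
noncomputable def Tn5 : H88.Tr := (.leaf (nat_lit 0) (nat_lit 0xfff9ea5403e74b06a114b08021200000fff20509a408e45106fb4820ec64000000056bcfbd729d28ccca241c49840000ff0a19f15136af241aafc0ed99880000f0f3a0f1fa58995d37c6a13693100000ccca3f353980b8f077153fcc4b240000aaa6dfe8f8cec86e019d6680c69a))
noncomputable def ln5 : Lt := ⟨Tn5, n5⟩
theorem on5 : OK 112 (H79.RepHS.ρ).range ln5 := OK.of (m := 7) (by norm_num) (H := 128) ga7 (by decide +kernel)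
noncomputable def n6_0 : ℕ := 0xcc6711996a2610
noncomputable def n6_1 : ℕ := 0x819f8220000000cc4b280
noncomputable def n6_2 : ℕ := 0x2318000023800009e80002100
noncomputable def n6_3 : ℕ := 0x190058002004c00b00280068008
noncomputable def n6_4 : ℕ := 0x8104060c185001c3000804105
noncomputable def n6_5 : ℕ := 0x8910000800004488000008000
noncomputable def n6_6 : ℕ := 0x10891280428502448850850084
noncomputable def n6_7 : ℕ := 0xc000040011206080900244101
noncomputable def n6_8 : ℕ := 0xc083810e0c1850a04084080c105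
noncomputable def n6_9 : ℕ := 0x19802b0008019000002b0040028
noncomputable def n6_10 : ℕ := 0x33340000eba00002d80002140
noncomputable def n6_11 : ℕ := 0xc9933880000000ed55318
noncomputable def n6_12 : ℕ := 0xcc64c3597d23c0
noncomputable def n6 : Net := .cons 56 n6_0 <| .cons 28 n6_1 <| .cons 14 n6_2 <| .cons 7 n6_3 <| .cons 4 n6_4 <| .cons 2 n6_5 <| .cons 1 n6_6 <| .cons 2 n6_7 <| .cons 4 n6_8 <| .cons 7 n6_9 <| .cons 14 n6_10 <| .cons 28 n6_11 <| .cons 56 n6_12 <| .nil
noncomputable def La8 : List Net := n6 :: La7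
theorem ga8 : Good 112 (H79.RepHS.ρ).range La8 :=
  Good.word (m := 7) (by norm_num) ga7 (w := [2,5,5,1,1,2,0,3,3,1,1,5]) (by decide +kernel)
noncomputable def Tn6 : H88.Tr := (.leaf (nat_lit 0) (nat_lit 0xfff2b7ff622f44814644405800000000fff540000810df6028b1b7ba03b00000000b0fe0dd3f998e910a796303900000ff0190011eff83ef504ec7e0f8700000f0f97700fb212a96ee68c380f7980000cccd5bc718382b49e78a54dece440000aaa18eaba27268aaf2b8a4ef691a))
noncomputable def ln6 : Lt := ⟨Tn6, n6⟩
theorem on6 : OK 112 (H79.RepHS.ρ).range ln6 := OK.of (m := 7) (by norm_num) (H := 128) ga8 (by decide +kernel)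
noncomputable def n7_0 : ℕ := 0xe800c50344ecd0
noncomputable def n7_1 : ℕ := 0x200aba800000002190520
noncomputable def n7_2 : ℕ := 0x2a9e00007f800039e80001a4a
noncomputable def n7_3 : ℕ := 0x190022015002000c00400120020
noncomputable def n7_4 : ℕ := 0x8001800c0c00404080020600000
noncomputable def n7_5 : ℕ := 0x8810040000200401000408000
noncomputable def n7_6 : ℕ := 0x50a11020401100500940244290
noncomputable def n7_7 : ℕ := 0x2040890020c98104000810248002
noncomputable def n7_8 : ℕ := 0xa141800e1808606082830404302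
noncomputable def n7_9 : ℕ := 0x1d40620150015010804f0044022
noncomputable def n7_10 : ℕ := 0x189c000077000038a40003c6a
noncomputable def n7_11 : ℕ := 0x95b4000000021fc1a8
noncomputable def n7_12 : ℕ := 0xe80ce945f7d078
noncomputable def n7 : Net := .cons 56 n7_0 <| .cons 28 n7_1 <| .cons 14 n7_2 <| .cons 7 n7_3 <| .cons 4 n7_4 <| .cons 2 n7_5 <| .cons 1 n7_6 <| .cons 2 n7_7 <| .cons 4 n7_8 <| .cons 7 n7_9 <| .cons 14 n7_10 <| .cons 28 n7_11 <| .cons 56 n7_12 <| .nil
noncomputable def La9 : List Net := n7 :: La8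
theorem ga9 : Good 112 (H79.RepHS.ρ).range La9 :=
  Good.word (m := 7) (by norm_num) ga8 (w := [5,2,2]) (by decide +kernel)
noncomputable def Tn7 : H88.Tr := (.leaf (nat_lit 0) (nat_lit 0xfff11298481b01882e9ad893c3080000ffff84641c849055914626242a60000000025ea2a34304e7a17cf5cee8300000ff0af9c360e0c916bb395c75b8080000f0f4302662cbfc82d7cddf2025b80000cccc6e65f0568f4ccc1ec12abf0c0000aaadc2a914f2efe641fa3a0d611a))
noncomputable def ln7 : Lt := ⟨Tn7, n7⟩
theorem on7 : OK 112 (H79.RepHS.ρ).range ln7 := OK.of (m := 7) (by norm_num) (H := 128) ga9 (by decide +kernel)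
noncomputable def n8_0 : ℕ := 0x70000000000000
noncomputable def n8_1 : ℕ := 0x53bd18000000001c1a4c0
noncomputable def n8_2 : ℕ := 0x24100002e80000357a0002850
noncomputable def n8_3 : ℕ := 0x48042002802800c00600068030
noncomputable def n8_4 : ℕ := 0xe000000000281021c0000800206
noncomputable def n8_5 : ℕ := 0x48100200890004008000000002
noncomputable def n8_6 : ℕ := 0x2a44081220489002108050844a84
noncomputable def n8_7 : ℕ := 0x648100200890204481000040180
noncomputable def n8_8 : ℕ := 0xe0020000002850e1c0000c00206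
noncomputable def n8_9 : ℕ := 0x1c8042002802800c00600068030
noncomputable def n8_10 : ℕ := 0x2c140002f90000353a0002a10
noncomputable def n8_11 : ℕ := 0x53bd18000000001d9bc88
noncomputable def n8_12 : ℕ := 0x70000000000000
noncomputable def n8 : Net := .cons 56 n8_0 <| .cons 28 n8_1 <| .cons 14 n8_2 <| .cons 7 n8_3 <| .cons 4 n8_4 <| .cons 2 n8_5 <| .cons 1 n8_6 <| .cons 2 n8_7 <| .cons 4 n8_8 <| .cons 7 n8_9 <| .cons 14 n8_10 <| .cons 28 n8_11 <| .cons 56 n8_12 <| .nil
noncomputable def La10 : List Net := n8 :: La9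
theorem ga10 : Good 112 (H79.RepHS.ρ).range La10 :=
  Good.word (m := 7) (by norm_num) ga9 (w := [8,8,7,9,4,6,4,8,8,6]) (by decide +kernel)
noncomputable def Tn8 : H88.Tr := (.leaf (nat_lit 0) (nat_lit 0xfffe7ffc7bdfb9600000000000000000fff188038c24479250fe440b4e0800000009e7abd521ceb32e00a378e3200000ff0b7747c4c0743cf8017ed389480000f0f095a5e7b126e4702ef1b4b8d00000ccce398b332c74a5e9cd15117ba40000aaaa8eaba8ca28fb837476b62b82))
noncomputable def ln8 : Lt := ⟨Tn8, n8⟩
theorem on8 : OK 112 (H79.RepHS.ρ).range ln8 := OK.of (m := 7) (by norm_num) (H := 128) ga10 (by decide +kernel)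
noncomputable def n9_0 : ℕ := 0x29b9b836b32c20
noncomputable def n9_1 : ℕ := 0x833130c00000008ef6c8c
noncomputable def n9_2 : ℕ := 0xa8c00008e8000035000012b0
noncomputable def n9_3 : ℕ := 0x1c0030017000000d001a0190048
noncomputable def n9_4 : ℕ := 0x808301041420304100820018304
noncomputable def n9_5 : ℕ := 0x2008010000001020481002008000
noncomputable def n9_6 : ℕ := 0x2044294020401528448812250204
noncomputable def n9_7 : ℕ := 0x200898020488010248180044c100
noncomputable def n9_8 : ℕ := 0x81c301061c20002080010214300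
noncomputable def n9_9 : ℕ := 0x1d402801e406601540020018048
noncomputable def n9_10 : ℕ := 0x2aa40001b8f00027cb00002f0
noncomputable def n9_11 : ℕ := 0x8339b0c00000008ebee5c
noncomputable def n9_12 : ℕ := 0x29b02036d02418
noncomputable def n9 : Net := .cons 56 n9_0 <| .cons 28 n9_1 <| .cons 14 n9_2 <| .cons 7 n9_3 <| .cons 4 n9_4 <| .cons 2 n9_5 <| .cons 1 n9_6 <| .cons 2 n9_7 <| .cons 4 n9_8 <| .cons 7 n9_9 <| .cons 14 n9_10 <| .cons 28 n9_11 <| .cons 56 n9_12 <| .nil
noncomputable def La11 : List Net := n9 :: La10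
theorem ga11 : Good 112 (H79.RepHS.ρ).range La11 :=
  Good.word (m := 7) (by norm_num) ga10 (w := [3,5]) (by decide +kernel)
noncomputable def Tn9 : H88.Tr := (.leaf (nat_lit 0) (nat_lit 0xfff4769951c38c642898940388080000fff281430600449a971a4bcc72a0000000083b86fcf650afc9623895e8200000ff07487440bac1318966f783e7e80000f0f2f4f6c8d8335833c3aa9da0580000cccb83b61be8b891eed91da1660c0000aaafe3ee8aa6ad4e19b461e0c03a))
noncomputable def ln9 : Lt := ⟨Tn9, n9⟩
theorem on9 : OK 112 (H79.RepHS.ρ).range ln9 := OK.of (m := 7) (by norm_num) (H := 128) ga11 (by decide +kernel)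
noncomputable def n10 : Net := H79.RepHS.na
noncomputable def La12 : List Net := n10 :: La11
theorem ga12 : Good 112 (H79.RepHS.ρ).range La12 :=
  Good.word (m := 7) (by norm_num) ga11 (w := [22]) (by decide +kernel)
noncomputable def Tn10 : H88.Tr := (.leaf (nat_lit 0) (nat_lit 0xfffd4921533b6c00e80c4c2548200000fff28272889492f002e4638093830000000e2fc63887e0f8443b862b8c660000ff0e968ec1eab84085101f2175ff0000f0fabc45d060afd54a598566e2170000ccccca3501d178f3b6ba914f670a0000aaaef74f1a79108f8ceac490526b))
noncomputable def ln10 : Lt := ⟨Tn10, n10⟩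
theorem on10 : OK 112 (H79.RepHS.ρ).range ln10 := OK.of (m := 7) (by norm_num) (H := 128) ga12 (by decide +kernel)
noncomputable def n11 : Net := H79.RepHS.nb
noncomputable def La13 : List Net := n11 :: La12
theorem ga13 : Good 112 (H79.RepHS.ρ).range La13 :=
  Good.word (m := 7) (by norm_num) ga12 (w := [22]) (by decide +kernel)
noncomputable def Tn11 : H88.Tr := (.leaf (nat_lit 0) (nat_lit 0xfff65174ac046001e07648120e530000fff828ca0a52984c1f8521e8202a0000000dca9976d2f2c15292640fd6900000ff044f3f17c28190a9b98b8ab6cc0000f0f1af195395ac46f34b1512067d0000cccd2338d2466cf3903d23e739170000aaa0fad643a705a596bf62316ad8))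
noncomputable def ln11 : Lt := ⟨Tn11, n11⟩
theorem on11 : OK 112 (H79.RepHS.ρ).range ln11 := OK.of (m := 7) (by norm_num) (H := 128) ga13 (by decide +kernel)
noncomputable def n12_0 : ℕ := 0xbb37e719ac7980
noncomputable def n12_1 : ℕ := 0x38640d600000002a122d2
noncomputable def n12_2 : ℕ := 0x3a3200008d800005c600022ce
noncomputable def n12_3 : ℕ := 0xe800000b005c001002a01f0040
noncomputable def n12_4 : ℕ := 0x10001020820500000820000304
noncomputable def n12_5 : ℕ := 0x200880000480000040002
noncomputable def n12_6 : ℕ := 0x2a502052a1081022508900050204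
noncomputable def n12_7 : ℕ := 0x1032444903060c980224c101
noncomputable def n12_8 : ℕ := 0xc04081041420604083820c00207
noncomputable def n12_9 : ℕ := 0x17800f01c001c001400d0150032
noncomputable def n12_10 : ℕ := 0x16ac00006fd000075600026dd
noncomputable def n12_11 : ℕ := 0x9075b3000000002a12f39
noncomputable def n12_12 : ℕ := 0xbb3880e8890a0d
noncomputable def n12 : Net := .cons 56 n12_0 <| .cons 28 n12_1 <| .cons 14 n12_2 <| .cons 7 n12_3 <| .cons 4 n12_4 <| .cons 2 n12_5 <| .cons 1 n12_6 <| .cons 2 n12_7 <| .cons 4 n12_8 <| .cons 7 n12_9 <| .cons 14 n12_10 <| .cons 28 n12_11 <| .cons 56 n12_12 <| .nil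
noncomputable def La14 : List Net := n12 :: La13
theorem ga14 : Good 112 (H79.RepHS.ρ).range La14 :=
  Good.word (m := 7) (by norm_num) ga13 (w := [27,25,26,25,27,19,23,13,15,17,11,9,4]) (by decide +kernel)
noncomputable def Tn12 : H88.Tr := (.leaf (nat_lit 0) (nat_lit 0xfff61a4611804eb321122825ae500000fff8c4f0e66131844480d408713800000008c8af6fbe4b4136f030ccc4430000ff02bb81c530db653aa2cfeb91800000f0f161a3d8422837afb828abd16f0000cccae110ec8ef21d573b6849ae9c0000aaafb01cd1473bd81ca035b1c7d6))
noncomputable def ln12 : Lt := ⟨Tn12, n12⟩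
theorem on12 : OK 112 (H79.RepHS.ρ).range ln12 := OK.of (m := 7) (by norm_num) (H := 128) ga14 (by decide +kernel)
noncomputable def n13_0 : ℕ := 0xd601907ab47402
noncomputable def n13_1 : ℕ := 0x161c7840000000b867af8
noncomputable def n13_2 : ℕ := 0x7b40002a100000c520003a88
noncomputable def n13_3 : ℕ := 0x60002013006a00f802201b0016
noncomputable def n13_4 : ℕ := 0x810200021c3000a041040400082
noncomputable def n13_5 : ℕ := 0x48002040080000000120040100
noncomputable def n13_6 : ℕ := 0x204420102048100a10a942a40081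
noncomputable def n13_7 : ℕ := 0x240000244888302401800640093
noncomputable def n13_8 : ℕ := 0x218384001c1060e103030c1c082
noncomputable def n13_9 : ℕ := 0xfc042015c0130198059013c01c
noncomputable def n13_10 : ℕ := 0x27b60003c5100026000002a73
noncomputable def n13_11 : ℕ := 0xd21877f0000000b838ab8
noncomputable def n13_12 : ℕ := 0xd6022f1ad76386
noncomputable def n13 : Net := .cons 56 n13_0 <| .cons 28 n13_1 <| .cons 14 n13_2 <| .cons 7 n13_3 <| .cons 4 n13_4 <| .cons 2 n13_5 <| .cons 1 n13_6 <| .cons 2 n13_7 <| .cons 4 n13_8 <| .cons 7 n13_9 <| .cons 14 n13_10 <| .cons 28 n13_11 <| .cons 56 n13_12 <| .nil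
noncomputable def La15 : List Net := n13 :: La14
theorem ga15 : Good 112 (H79.RepHS.ρ).range La15 :=
  Good.word (m := 7) (by norm_num) ga14 (w := [26,28,28,26,24,22,17,19,8,12]) (by decide +kernel)
noncomputable def Tn13 : H88.Tr := (.leaf (nat_lit 0) (nat_lit 0xfff30004ace8007c17f129a6c0240000fff0e9ab501628c6004e30500f520000000fb5e1671c3b8164161ba7d0220000ff0193d1f33e46b196880425bb750000f0fd194f12386ba8cbbc4dec205a0000cccc10196dbce25ea3125a694df70000aaa5eb50ed731214e1fe40e2b59a))
noncomputable def ln13 : Lt := ⟨Tn13, n13⟩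
theorem on13 : OK 112 (H79.RepHS.ρ).range ln13 := OK.of (m := 7) (by norm_num) (H := 128) ga15 (by decide +kernel)
noncomputable def n14_0 : ℕ := 0x8e9e2350fc6e84
noncomputable def n14_1 : ℕ := 0xa6ee1800000000bf8e3c4
noncomputable def n14_2 : ℕ := 0x1c200002f8000216e0001cd8
noncomputable def n14_3 : ℕ := 0x60072010004401680340030008
noncomputable def n14_4 : ℕ := 0x10380001028000082840210083
noncomputable def n14_5 : ℕ := 0x440010004811220400120000100
noncomputable def n14_6 : ℕ := 0x244090085021428440912814084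
noncomputable def n14_7 : ℕ := 0x22409120000093040c1800208003
noncomputable def n14_8 : ℕ := 0x438400040060a0c2050010180
noncomputable def n14_9 : ℕ := 0x13004900bc02401e800d001004c
noncomputable def n14_10 : ℕ := 0x286b000155c0001d960001880
noncomputable def n14_11 : ℕ := 0xa0759d600000008fc6b8f
noncomputable def n14_12 : ℕ := 0x8e9f22cef4e8eb
noncomputable def n14 : Net := .cons 56 n14_0 <| .cons 28 n14_1 <| .cons 14 n14_2 <| .cons 7 n14_3 <| .cons 4 n14_4 <| .cons 2 n14_5 <| .cons 1 n14_6 <| .cons 2 n14_7 <| .cons 4 n14_8 <| .cons 7 n14_9 <| .cons 14 n14_10 <| .cons 28 n14_11 <| .cons 56 n14_12 <| .nil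
noncomputable def La16 : List Net := n14 :: La15
theorem ga16 : Good 112 (H79.RepHS.ρ).range La16 :=
  Good.word (m := 7) (by norm_num) ga15 (w := [29,29,31,29,30,24,24,23,18,16,10,15]) (by decide +kernel)
noncomputable def Tn14 : H88.Tr := (.leaf (nat_lit 0) (nat_lit 0xfff8701646821ca3e755835201000000fffb8d90b944c04910002d28b89a00000007b5638c0ff97a0e124ad384c20000ff0399cd8723185665ebe8c928360000f0f2e0434c51e9564b7cb464bd170000cccb3fbd184154e6687452c437f80000aaa415dcc413e44fdb97722a724e))
noncomputable def ln14 : Lt := ⟨Tn14, n14⟩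
theorem on14 : OK 112 (H79.RepHS.ρ).range ln14 := OK.of (m := 7) (by norm_num) (H := 128) ga16 (by decide +kernel)
noncomputable def n15_0 : ℕ := 0xbc1acb12578952
noncomputable def n15_1 : ℕ := 0xb9542480000000ac3bea0
noncomputable def n15_2 : ℕ := 0x14f8000047400007c80000032
noncomputable def n15_3 : ℕ := 0xf0000016005e00e000e008000a
noncomputable def n15_4 : ℕ := 0x80420404040000c103020018000
noncomputable def n15_5 : ℕ := 0x400002000000200080100400000
noncomputable def n15_6 : ℕ := 0x281020420440910a44a100200094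
noncomputable def n15_7 : ℕ := 0x20401322480010248111040c880
noncomputable def n15_8 : ℕ := 0x61400406181050608084001c080
noncomputable def n15_9 : ℕ := 0x280040148076000c00e00a007e
noncomputable def n15_10 : ℕ := 0x37fb000267a000361c00004ca
noncomputable def n15_11 : ℕ := 0x8d430540000000aef0fd8
noncomputable def n15_12 : ℕ := 0xbc183d1422d2c0
noncomputable def n15 : Net := .cons 56 n15_0 <| .cons 28 n15_1 <| .cons 14 n15_2 <| .cons 7 n15_3 <| .cons 4 n15_4 <| .cons 2 n15_5 <| .cons 1 n15_6 <| .cons 2 n15_7 <| .cons 4 n15_8 <| .cons 7 n15_9 <| .cons 14 n15_10 <| .cons 28 n15_11 <| .cons 56 n15_12 <| .nil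
noncomputable def La17 : List Net := n15 :: La16
theorem ga17 : Good 112 (H79.RepHS.ρ).range La17 :=
  Good.word (m := 7) (by norm_num) ga16 (w := [29,25,19,23,21,22,12,15,16,11]) (by decide +kernel)
noncomputable def Tn15 : H88.Tr := (.leaf (nat_lit 0) (nat_lit 0xfff178e88403b580b0b111875c000000fff60231182c047d4a5a24580ad800000007c59fcaef00f432e5e1a061140000ff015255b855e82240e4f934f6fc0000f0f0de1ad55d58141bcd36ada44a0000cccc3b7fd0ba903274966f7ec0020000aaa36e0860b6c6b7859be13d371a))
noncomputable def ln15 : Lt := ⟨Tn15, n15⟩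
theorem on15 : OK 112 (H79.RepHS.ρ).range ln15 := OK.of (m := 7) (by norm_num) (H := 128) ga17 (by decide +kernel)
noncomputable def n16_0 : ℕ := 0x89fcfc9ae79d4e
noncomputable def n16_1 : ℕ := 0x761c96c00000005b981b4
noncomputable def n16_2 : ℕ := 0x255200034b400039160000c60
noncomputable def n16_3 : ℕ := 0x6000a01b0044012004c0080002
noncomputable def n16_4 : ℕ := 0x8083040830000000070410381
noncomputable def n16_5 : ℕ := 0x2440002044000220088000400900
noncomputable def n16_6 : ℕ := 0x285029108448042244a100244881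
noncomputable def n16_7 : ℕ := 0x224491302048000208192000c103
noncomputable def n16_8 : ℕ := 0x143800c103050a043050618301
noncomputable def n16_9 : ℕ := 0x198005011405000fc04b000c008
noncomputable def n16_10 : ℕ := 0x349600034f50002590000147a
noncomputable def n16_11 : ℕ := 0xfe8722a00000002b97512
noncomputable def n16_12 : ℕ := 0x89fb275c129d3c
noncomputable def n16 : Net := .cons 56 n16_0 <| .cons 28 n16_1 <| .cons 14 n16_2 <| .cons 7 n16_3 <| .cons 4 n16_4 <| .cons 2 n16_5 <| .cons 1 n16_6 <| .cons 2 n16_7 <| .cons 4 n16_8 <| .cons 7 n16_9 <| .cons 14 n16_10 <| .cons 28 n16_11 <| .cons 56 n16_12 <| .nil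
noncomputable def La18 : List Net := n16 :: La17
theorem ga18 : Good 112 (H79.RepHS.ρ).range La18 :=
  Good.word (m := 7) (by norm_num) ga17 (w := [27,21,25,20,14,19,13]) (by decide +kernel)
noncomputable def Tn16 : H88.Tr := (.leaf (nat_lit 0) (nat_lit 0xfff701bb21d20a6a9200aa04a9840000fff05204aa2cf003205a04cf723200000001f39cc696d4ec2025c1b0cdba0000ff031a72ca09a1edb7a909a3d1cc0000f0f920a0cfc78cbd8f1e96a182760000ccce50683c9abf1dd52246fcc19a0000aaa22d3b6a677f3464109599f50e))
noncomputable def ln16 : Lt := ⟨Tn16, n16⟩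
theorem on16 : OK 112 (H79.RepHS.ρ).range ln16 := OK.of (m := 7) (by norm_num) (H := 128) ga18 (by decide +kernel)
noncomputable def n17_0 : ℕ := 0xabf691ed624bec
noncomputable def n17_1 : ℕ := 0xa4e9b120000000fba4d84
noncomputable def n17_2 : ℕ := 0xabc0000d6200014020003ef0
noncomputable def n17_3 : ℕ := 0x128044002004800880420080004
noncomputable def n17_4 : ℕ := 0x800086020818004040040408101
noncomputable def n17_5 : ℕ := 0x800040811200008002440000
noncomputable def n17_6 : ℕ := 0x804805081021402408942244201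
noncomputable def n17_7 : ℕ := 0x200980020c81120489832040102
noncomputable def n17_8 : ℕ := 0x21c18002001010a043030e04101
noncomputable def n17_9 : ℕ := 0x168053014c03d000407b0004006
noncomputable def n17_10 : ℕ := 0xa040003b8100004e10003fe0
noncomputable def n17_11 : ℕ := 0x25cd5890000000ffa29e6
noncomputable def n17_12 : ℕ := 0xabff979ba9961a
noncomputable def n17 : Net := .cons 56 n17_0 <| .cons 28 n17_1 <| .cons 14 n17_2 <| .cons 7 n17_3 <| .cons 4 n17_4 <| .cons 2 n17_5 <| .cons 1 n17_6 <| .cons 2 n17_7 <| .cons 4 n17_8 <| .cons 7 n17_9 <| .cons 14 n17_10 <| .cons 28 n17_11 <| .cons 56 n17_12 <| .nil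
noncomputable def La19 : List Net := n17 :: La18
theorem ga19 : Good 112 (H79.RepHS.ρ).range La19 :=
  Good.word (m := 7) (by norm_num) ga18 (w := [29,33,23,27,22,16,21,16]) (by decide +kernel)
noncomputable def Tn17 : H88.Tr := (.leaf (nat_lit 0) (nat_lit 0xfff60e19422ff000406a8a89a2640000fffb00460b120aebb03464460c1a000000093c6aac29c9d68c4548acf8ae0000ff01fba18c8c443ba0d6a627a3ae0000f0fcfe4c39c09551895b6a72264e0000ccc5a2e32ab0b930e770fad495b40000aaac3c874ec6c70d66c763dc08f8))
noncomputable def ln17 : Lt := ⟨Tn17, n17⟩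
theorem on17 : OK 112 (H79.RepHS.ρ).range ln17 := OK.of (m := 7) (by norm_num) (H := 128) ga19 (by decide +kernel)
noncomputable def n18_0 : ℕ := 0x640c2411f17106
noncomputable def n18_1 : ℕ := 0x66103a80000000c8597c0
noncomputable def n18_2 : ℕ := 0x43800006a400018fc0003b40
noncomputable def n18_3 : ℕ := 0xa0022000000a01c805e0130002
noncomputable def n18_4 : ℕ := 0x610300001030200083010600000
noncomputable def n18_5 : ℕ := 0x408800240810200080020000010
noncomputable def n18_6 : ℕ := 0x220480128442110a04a140a10090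
noncomputable def n18_7 : ℕ := 0x44800000409022444090020c800
noncomputable def n18_8 : ℕ := 0x143060a1c30306183870a00202
noncomputable def n18_9 : ℕ := 0xe402701d804a01680320124006
noncomputable def n18_10 : ℕ := 0x4bc00007a40003cb90001eb0
noncomputable def n18_11 : ℕ := 0x221712c0000000d0e287c
noncomputable def n18_12 : ℕ := 0x6408f92a62e8ce
noncomputable def n18 : Net := .cons 56 n18_0 <| .cons 28 n18_1 <| .cons 14 n18_2 <| .cons 7 n18_3 <| .cons 4 n18_4 <| .cons 2 n18_5 <| .cons 1 n18_6 <| .cons 2 n18_7 <| .cons 4 n18_8 <| .cons 7 n18_9 <| .cons 14 n18_10 <| .cons 28 n18_11 <| .cons 56 n18_12 <| .nil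
noncomputable def La20 : List Net := n18 :: La19
theorem ga20 : Good 112 (H79.RepHS.ρ).range La20 :=
  Good.word (m := 7) (by norm_num) ga19 (w := [29,24,29,23,18,22,16]) (by decide +kernel)
noncomputable def Tn18 : H88.Tr := (.leaf (nat_lit 0) (nat_lit 0xfff1aad82918c3a6402298066a440000fff01025c62160189ecf216920b40000000050dd03f3b5b3e149673645c80000ff0adc59d91f0a0dda9843b20ee80000f0f620b5673f9e6415d4d32699280000ccc829e7683d3c72ae220e935cfc0000aaa666ab4bae46da180eacbf03ca))
noncomputable def ln18 : Lt := ⟨Tn18, n18⟩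
theorem on18 : OK 112 (H79.RepHS.ρ).range ln18 := OK.of (m := 7) (by norm_num) (H := 128) ga20 (by decide +kernel)
noncomputable def n19_0 : ℕ := 0x824b6eb706c590
noncomputable def n19_1 : ℕ := 0x713cf24000000007ac1ec
noncomputable def n19_2 : ℕ := 0x31500001c9000034180001674
noncomputable def n19_3 : ℕ := 0xc006c01b000801b807801b8000
noncomputable def n19_4 : ℕ := 0x18206000438200041060618300
noncomputable def n19_5 : ℕ := 0x12004081004409120008900
noncomputable def n19_6 : ℕ := 0x2048110050a100254a110250884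
noncomputable def n19_7 : ℕ := 0x44880100080112000982064c000
noncomputable def n19_8 : ℕ := 0xc28702103840a0c2040e0c380
noncomputable def n19_9 : ℕ := 0x1a4009017004d003c07b008800c
noncomputable def n19_10 : ℕ := 0x59c0001cb20003f960001068
noncomputable def n19_11 : ℕ := 0xf13d8e400000001b8f4d0
noncomputable def n19_12 : ℕ := 0x824e186b27e7fc
noncomputable def n19 : Net := .cons 56 n19_0 <| .cons 28 n19_1 <| .cons 14 n19_2 <| .cons 7 n19_3 <| .cons 4 n19_4 <| .cons 2 n19_5 <| .cons 1 n19_6 <| .cons 2 n19_7 <| .cons 4 n19_8 <| .cons 7 n19_9 <| .cons 14 n19_10 <| .cons 28 n19_11 <| .cons 56 n19_12 <| .nil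
noncomputable def La21 : List Net := n19 :: La20
theorem ga21 : Good 112 (H79.RepHS.ρ).range La21 :=
  Good.word (m := 7) (by norm_num) ga20 (w := [30,27,29,22,25,18]) (by decide +kernel)
noncomputable def Tn19 : H88.Tr := (.leaf (nat_lit 0) (nat_lit 0xfffe229c48186c3a171840b272000000fff9d4229c8480c5a0c229412a5c000000031f7aa257bc636151e66648240000ff07190df296eb90afb20e48d9300000f0f7606263dbb5b2b2c01179c5ac0000cccdae016335d8ee885f0217df1c0000aaade7ed93b76312b05bf220a04a))
noncomputable def ln19 : Lt := ⟨Tn19, n19⟩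
theorem on19 : OK 112 (H79.RepHS.ρ).range ln19 := OK.of (m := 7) (by norm_num) (H := 128) ga21 (by decide +kernel)
noncomputable def n20_0 : ℕ := 0x945fa24e1e0e80
noncomputable def n20_1 : ℕ := 0xc04a5400000000229c10c
noncomputable def n20_2 : ℕ := 0x1d7c0002be200031000001f24
noncomputable def n20_3 : ℕ := 0x148018018001800c00580120048
noncomputable def n20_4 : ℕ := 0xa000000c1000208081800800180
noncomputable def n20_5 : ℕ := 0x400000040880004401000408800
noncomputable def n20_6 : ℕ := 0x240084080488008440842844a00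
noncomputable def n20_7 : ℕ := 0x60c802000c9930404802040c100
noncomputable def n20_8 : ℕ := 0xe18280061000204183830c04080
noncomputable def n20_9 : ℕ := 0x12801e01c007a01d407101e8068
noncomputable def n20_10 : ℕ := 0x87e0002a8200031810000624
noncomputable def n20_11 : ℕ := 0x501395900000000315194
noncomputable def n20_12 : ℕ := 0x94539d88871f68
noncomputable def n20 : Net := .cons 56 n20_0 <| .cons 28 n20_1 <| .cons 14 n20_2 <| .cons 7 n20_3 <| .cons 4 n20_4 <| .cons 2 n20_5 <| .cons 1 n20_6 <| .cons 2 n20_7 <| .cons 4 n20_8 <| .cons 7 n20_9 <| .cons 14 n20_10 <| .cons 28 n20_11 <| .cons 56 n20_12 <| .nil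
noncomputable def La22 : List Net := n20 :: La21
theorem ga22 : Good 112 (H79.RepHS.ρ).range La22 :=
  Good.word (m := 7) (by norm_num) ga21 (w := [32,29,31,26,24,27,20]) (by decide +kernel)
noncomputable def Tn20 : H88.Tr := (.leaf (nat_lit 0) (nat_lit 0xfff538a98a830c308320f8d053100000fff34c1611309347ec9b4002882400000008a6fe74c5871a05923bf488d40000ff0272f5b70ce315300697ea3b300000f0fa9620f10c8cdc6f2ebca1ee0c0000ccce392f64bcc96546c4fa491ce40000aaa38bcff26a6ab36529b253a842))
noncomputable def ln20 : Lt := ⟨Tn20, n20⟩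
theorem on20 : OK 112 (H79.RepHS.ρ).range ln20 := OK.of (m := 7) (by norm_num) (H := 128) ga22 (by decide +kernel)
noncomputable def n21_0 : ℕ := 0xb8ecc2c8201e00
noncomputable def n21_1 : ℕ := 0x1aaa06000000001f17940
noncomputable def n21_2 : ℕ := 0x3698000142000039000003400
noncomputable def n21_3 : ℕ := 0x70000006c01100040040010
noncomputable def n21_4 : ℕ := 0x800202040000404000820800002
noncomputable def n21_5 : ℕ := 0x810000801004000000048000
noncomputable def n21_6 : ℕ := 0x800a1400048102800a002844000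
noncomputable def n21_7 : ℕ := 0x8810040809322001120048012
noncomputable def n21_8 : ℕ := 0x8042820c180040a100820800382
noncomputable def n21_9 : ℕ := 0x80070011006c01100040048010
noncomputable def n21_10 : ℕ := 0x3e9800014200003c050003400
noncomputable def n21_11 : ℕ := 0x1aaa06000000001f17940
noncomputable def n21_12 : ℕ := 0xb8ecc2c8201e00
noncomputable def n21 : Net := .cons 56 n21_0 <| .cons 28 n21_1 <| .cons 14 n21_2 <| .cons 7 n21_3 <| .cons 4 n21_4 <| .cons 2 n21_5 <| .cons 1 n21_6 <| .cons 2 n21_7 <| .cons 4 n21_8 <| .cons 7 n21_9 <| .cons 14 n21_10 <| .cons 28 n21_11 <| .cons 56 n21_12 <| .nil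
noncomputable def La23 : List Net := n21 :: La22
theorem ga23 : Good 112 (H79.RepHS.ρ).range La23 :=
  Good.word (m := 7) (by norm_num) ga22 (w := [28,27,22]) (by decide +kernel)
noncomputable def Tn21 : H88.Tr := (.leaf (nat_lit 0) (nat_lit 0xfff93e9a4c1b61882644c81303000000fffa812198649f7218aa042e8840000000067eb3b382de93459c2349e3000000ff033dc5c7c4bc1c94167af55c000000f0f03231e2e836ac70edb5b16d980000ccc98f2157b2ac65a31f9123bb340000aaad2aae91d62df7c8e6e290283a))
noncomputable def ln21 : Lt := ⟨Tn21, n21⟩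
theorem on21 : OK 112 (H79.RepHS.ρ).range ln21 := OK.of (m := 7) (by norm_num) (H := 128) ga23 (by decide +kernel)
noncomputable def n22_0 : ℕ := 0x7153ebc9fdde9a
noncomputable def n22_1 : ℕ := 0x29876b0000000000e9122
noncomputable def n22_2 : ℕ := 0x269800037d20002dd40001e52
noncomputable def n22_3 : ℕ := 0xa0032018002201600480190004
noncomputable def n22_4 : ℕ := 0x1000a1038608101060c14304
noncomputable def n22_5 : ℕ := 0x400000004810004080020040010
noncomputable def n22_6 : ℕ := 0x2442010844a0408042840254214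
noncomputable def n22_7 : ℕ := 0x2400110020800320400030600110
noncomputable def n22_8 : ℕ := 0x10408002050a000040e10302
noncomputable def n22_9 : ℕ := 0x1740320094043015c04b0054044
noncomputable def n22_10 : ℕ := 0x2efe000025a0002dc40002d38
noncomputable def n22_11 : ℕ := 0x69dd52800000000a4b338
noncomputable def n22_12 : ℕ := 0x715fb2cc14b6fa
noncomputable def n22 : Net := .cons 56 n22_0 <| .cons 28 n22_1 <| .cons 14 n22_2 <| .cons 7 n22_3 <| .cons 4 n22_4 <| .cons 2 n22_5 <| .cons 1 n22_6 <| .cons 2 n22_7 <| .cons 4 n22_8 <| .cons 7 n22_9 <| .cons 14 n22_10 <| .cons 28 n22_11 <| .cons 56 n22_12 <| .nil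
noncomputable def La24 : List Net := n22 :: La23
theorem ga24 : Good 112 (H79.RepHS.ρ).range La24 :=
  Good.word (m := 7) (by norm_num) ga23 (w := [28,31,29]) (by decide +kernel)
noncomputable def Tn22 : H88.Tr := (.leaf (nat_lit 0) (nat_lit 0xfff89fde6227581ca0808882e0000000fff060018cc0b6c9906e317129480000000e374bd576eea2481a7e094a200000ff0d2867cebb8f3226e00fb81e080000f0f691694e99ab57313dd80752380000cccf6b6b284d94f84855998f878c0000aaafe6ec9ac29b729a0833d6c0b2))
noncomputable def ln22 : Lt := ⟨Tn22, n22⟩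
theorem on22 : OK 112 (H79.RepHS.ρ).range ln22 := OK.of (m := 7) (by norm_num) (H := 128) ga24 (by decide +kernel)
noncomputable def n23_0 : ℕ := 0x29b02036d02418
noncomputable def n23_1 : ℕ := 0x8339b0c00000008ebee5c
noncomputable def n23_2 : ℕ := 0x2aa40002cc0000183400002f0
noncomputable def n23_3 : ℕ := 0x280080000012008002a01b0060
noncomputable def n23_4 : ℕ := 0x610301000018004002010800202
noncomputable def n23_5 : ℕ := 0x440000040810000000020000002
noncomputable def n23_6 : ℕ := 0x2240294284408028402912250204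
noncomputable def n23_7 : ℕ := 0x440990260c0110200193024c000
noncomputable def n23_8 : ℕ := 0xc10301060408402041020c00206
noncomputable def n23_9 : ℕ := 0x3c07001cc026006404b00f4028
noncomputable def n23_10 : ℕ := 0xa8c00025950003caf00012b0
noncomputable def n23_11 : ℕ := 0x833130c00000008ef6c8c
noncomputable def n23_12 : ℕ := 0x29b9b836b32c20
noncomputable def n23 : Net := .cons 56 n23_0 <| .cons 28 n23_1 <| .cons 14 n23_2 <| .cons 7 n23_3 <| .cons 4 n23_4 <| .cons 2 n23_5 <| .cons 1 n23_6 <| .cons 2 n23_7 <| .cons 4 n23_8 <| .cons 7 n23_9 <| .cons 14 n23_10 <| .cons 28 n23_11 <| .cons 56 n23_12 <| .nil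
noncomputable def La25 : List Net := n23 :: La24
theorem ga25 : Good 112 (H79.RepHS.ρ).range La25 :=
  Good.word (m := 7) (by norm_num) ga24 (w := [27]) (by decide +kernel)
noncomputable def Tn23 : H88.Tr := (.leaf (nat_lit 0) (nat_lit 0xfff192fc62170089a08899abc8000000fffe09020ae83526c064464c2ad00000000345ba7d3a81fe7a92a550a0980000ff023c3d3c5c6d491eed21e525900000f0f8b5f478e0cf0463a37a7590a80000ccc6b8c3beba8d752396c1ae56040000aaa4aba999cad6e695d82ba9c09a))
noncomputable def ln23 : Lt := ⟨Tn23, n23⟩
theorem on23 : OK 112 (H79.RepHS.ρ).range ln23 := OK.of (m := 7) (by norm_num) (H := 128) ga25 (by decide +kernel)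
noncomputable def n24 : Net := .nil
noncomputable def La26 : List Net := n24 :: La25
theorem ga26 : Good 112 (H79.RepHS.ρ).range La26 :=
  Good.word (m := 7) (by norm_num) ga25 (w := []) (by decide +kernel)
noncomputable def Tn24 : H88.Tr := (.leaf (nat_lit 0) (nat_lit 0xffffffffffff00000000000000000000ffff00000000ffffffff0000000000000000ffff0000ffff0000ffff00000000ff00ff00ff00ff00ff00ff00ff000000f0f0f0f0f0f0f0f0f0f0f0f0f0f00000cccccccccccccccccccccccccccc0000aaaaaaaaaaaaaaaaaaaaaaaaaaaa))
noncomputable def ln24 : Lt := ⟨Tn24, n24⟩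
theorem on24 : OK 112 (H79.RepHS.ρ).range ln24 := OK.of (m := 7) (by norm_num) (H := 128) ga26 (by decide +kernel)
noncomputable def n25_0 : ℕ := 0x240850503e8104
noncomputable def n25_1 : ℕ := 0x5183688000000088ba5c8
noncomputable def n25_2 : ℕ := 0x148a000330800007f800028c4
noncomputable def n25_3 : ℕ := 0x180058019000c01400240130002
noncomputable def n25_4 : ℕ := 0x400200000820008002000210001
noncomputable def n25_5 : ℕ := 0x102040000004489000008000
noncomputable def n25_6 : ℕ := 0x204a01080020508508840a10084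
noncomputable def n25_7 : ℕ := 0x2000102040800304489000608010
noncomputable def n25_8 : ℕ := 0x8202021c2800a002010a04003
noncomputable def n25_9 : ℕ := 0x12c05c01d400c01600640028002
noncomputable def n25_10 : ℕ := 0x148a000330800007f800028c4
noncomputable def n25_11 : ℕ := 0x51836880000000c8ba7c8
noncomputable def n25_12 : ℕ := 0x240850503e8104
noncomputable def n25 : Net := .cons 56 n25_0 <| .cons 28 n25_1 <| .cons 14 n25_2 <| .cons 7 n25_3 <| .cons 4 n25_4 <| .cons 2 n25_5 <| .cons 1 n25_6 <| .cons 2 n25_7 <| .cons 4 n25_8 <| .cons 7 n25_9 <| .cons 14 n25_10 <| .cons 28 n25_11 <| .cons 56 n25_12 <| .nil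
noncomputable def La27 : List Net := n25 :: La26
theorem ga27 : Good 112 (H79.RepHS.ρ).range La27 :=
  Good.word (m := 7) (by norm_num) ga26 (w := [50,52,48,48,42,32,30]) (by decide +kernel)
noncomputable def Tn25 : H88.Tr := (.leaf (nat_lit 0) (nat_lit 0xfff3e9c648688e044810508b41630000fff826b08014759a85cc8c582a800000000fc12d8adef0f25a56373620200000ff0ac275c50e7241bd72a3c0d92b0000f0f3d4334e23f3a7d281a4159a330000cccdcb724e1f4fc8b69f042bc40c0000aaa7ba68a26ca691b8af6ad78e02))
noncomputable def ln25 : Lt := ⟨Tn25, n25⟩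
theorem on25 : OK 112 (H79.RepHS.ρ).range ln25 := OK.of (m := 7) (by norm_num) (H := 128) ga27 (by decide +kernel)
noncomputable def n26_0 : ℕ := 0x2820b5a35b4cc2
noncomputable def n26_1 : ℕ := 0x6db191000000002252694
noncomputable def n26_2 : ℕ := 0x3aa40003ebe00001520002e14
noncomputable def n26_3 : ℕ := 0x3806c0050048006801c0110064
noncomputable def n26_4 : ℕ := 0x40008400003870400006
noncomputable def n26_5 : ℕ := 0x408802040000200000000000100
noncomputable def n26_6 : ℕ := 0x2210a0108102042014a100840205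
noncomputable def n26_7 : ℕ := 0x2208902000808200088032600000
noncomputable def n26_8 : ℕ := 0xc00002060800402102000a10107
noncomputable def n26_9 : ℕ := 0x1b804800c400a0024061005404a
noncomputable def n26_10 : ℕ := 0x22cf00034a600015830003a2c
noncomputable def n26_11 : ℕ := 0x4db027b000000064552ae
noncomputable def n26_12 : ℕ := 0x282cd363c24ac3
noncomputable def n26 : Net := .cons 56 n26_0 <| .cons 28 n26_1 <| .cons 14 n26_2 <| .cons 7 n26_3 <| .cons 4 n26_4 <| .cons 2 n26_5 <| .cons 1 n26_6 <| .cons 2 n26_7 <| .cons 4 n26_8 <| .cons 7 n26_9 <| .cons 14 n26_10 <| .cons 28 n26_11 <| .cons 56 n26_12 <| .nil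
noncomputable def La28 : List Net := n26 :: La27
theorem ga28 : Good 112 (H79.RepHS.ρ).range La28 :=
  Good.word (m := 7) (by norm_num) ga27 (w := [55,55,52,47,51,40,44,44,34,37,33]) (by decide +kernel)
noncomputable def Tn26 : H88.Tr := (.leaf (nat_lit 0) (nat_lit 0xfff00b6898ae052c3d14043c01e40000fffb509555045891c24c629126020000000b376303d979f94ca0f520206d0000ff085964e3907a62fdc139c8839e0000f0f23031027af1eaa771a28ff1360000ccc9dad73a9c4c88857bda06c1cd0000aaab19442b65a0afb29aa270cf6f))
noncomputable def ln26 : Lt := ⟨Tn26, n26⟩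
theorem on26 : OK 112 (H79.RepHS.ρ).range ln26 := OK.of (m := 7) (by norm_num) (H := 128) ga28 (by decide +kernel)
noncomputable def n27_0 : ℕ := 0x75d564d6aec44
noncomputable def n27_1 : ℕ := 0xd180c3400000008fff9ae
noncomputable def n27_2 : ℕ := 0x149000029220001c4e0002796
noncomputable def n27_3 : ℕ := 0xe804c01380300028030009802a
noncomputable def n27_4 : ℕ := 0x10106080000604042850008002
noncomputable def n27_5 : ℕ := 0x100000011000000002400000
noncomputable def n27_6 : ℕ := 0x22148940a442110250a142250201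
noncomputable def n27_7 : ℕ := 0x200c88126001032004101260c102
noncomputable def n27_8 : ℕ := 0x4082840a1c0000e181010404102
noncomputable def n27_9 : ℕ := 0x1e8041007802401d80760098062
noncomputable def n27_10 : ℕ := 0x344500021270001f3c00039b4
noncomputable def n27_11 : ℕ := 0xd7881010000000cf70b98
noncomputable def n27_12 : ℕ := 0x7502fe807adec
noncomputable def n27 : Net := .cons 56 n27_0 <| .cons 28 n27_1 <| .cons 14 n27_2 <| .cons 7 n27_3 <| .cons 4 n27_4 <| .cons 2 n27_5 <| .cons 1 n27_6 <| .cons 2 n27_7 <| .cons 4 n27_8 <| .cons 7 n27_9 <| .cons 14 n27_10 <| .cons 28 n27_11 <| .cons 56 n27_12 <| .nil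
noncomputable def La29 : List Net := n27 :: La28
theorem ga29 : Good 112 (H79.RepHS.ρ).range La29 :=
  Good.word (m := 7) (by norm_num) ga28 (w := [55,57,55,56,53,48,51,47,43,40,39]) (by decide +kernel)
noncomputable def Tn27 : H88.Tr := (.leaf (nat_lit 0) (nat_lit 0xfff808c03c590810bf26c41428e50000fff46025d3264c8150152b09870a000000060059a78f64ed24abb4e68d850000ff027dd4642436d72de9b811a4360000f0f2308f06a8f2e48f13ea80f3dd0000ccced95308aeddac07651b0e286f0000aaa60f5c2b31ff29da91a3356087))
noncomputable def ln27 : Lt := ⟨Tn27, n27⟩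
theorem on27 : OK 112 (H79.RepHS.ρ).range ln27 := OK.of (m := 7) (by norm_num) (H := 128) ga29 (by decide +kernel)
noncomputable def n28_0 : ℕ := 0x81590031e42302
noncomputable def n28_1 : ℕ := 0x4c2c24200000004d58bac
noncomputable def n28_2 : ℕ := 0x103000006640003b420001240
noncomputable def n28_3 : ℕ := 0xe002c008801e01300020010020
noncomputable def n28_4 : ℕ := 0x60018602003030010104081c004
noncomputable def n28_5 : ℕ := 0x8812000001220400000408810
noncomputable def n28_6 : ℕ := 0x810a11020021128442940850891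
noncomputable def n28_7 : ℕ := 0x608010060411006480800200992
noncomputable def n28_8 : ℕ := 0x61838604140000204106080c004
noncomputable def n28_9 : ℕ := 0x16806600d803501a40230034021
noncomputable def n28_10 : ℕ := 0x20790000e43000248b00034e3
noncomputable def n28_11 : ℕ := 0x4d794c700000000fdeaef
noncomputable def n28_12 : ℕ := 0x81565ca8846382
noncomputable def n28 : Net := .cons 56 n28_0 <| .cons 28 n28_1 <| .cons 14 n28_2 <| .cons 7 n28_3 <| .cons 4 n28_4 <| .cons 2 n28_5 <| .cons 1 n28_6 <| .cons 2 n28_7 <| .cons 4 n28_8 <| .cons 7 n28_9 <| .cons 14 n28_10 <| .cons 28 n28_11 <| .cons 56 n28_12 <| .nil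
noncomputable def La30 : List Net := n28 :: La29
theorem ga30 : Good 112 (H79.RepHS.ρ).range La30 :=
  Good.word (m := 7) (by norm_num) ga29 (w := [57,59,57,58,53,50,55,45,48,42]) (by decide +kernel)
noncomputable def Tn28 : H88.Tr := (.leaf (nat_lit 0) (nat_lit 0xfff8a0e4321c0d0b956314c444030000fff44803fcea52982890a13a0320000000088b198e527bd4762f6a8d49030000ff08eeac4fe4b0f71d29e230b0420000f0f0b3928522f8c6add13075da9b0000ccccdb6b0c2fccea45e6c1e9804d0000aaaab71c2dad6732b096af5ac083))
noncomputable def ln28 : Lt := ⟨Tn28, n28⟩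
theorem on28 : OK 112 (H79.RepHS.ρ).range ln28 := OK.of (m := 7) (by norm_num) (H := 128) ga30 (by decide +kernel)
noncomputable def n29_0 : ℕ := 0x762e9382004400
noncomputable def n29_1 : ℕ := 0xe1d400000000000809a0
noncomputable def n29_2 : ℕ := 0x4380003e1000000520002740
noncomputable def n29_3 : ℕ := 0x4004800e800801000700000042
noncomputable def n29_4 : ℕ := 0xc08100080810200183800410004
noncomputable def n29_5 : ℕ := 0x800200880000000002000800
noncomputable def n29_6 : ℕ := 0xa8020448140004a812010a94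
noncomputable def n29_7 : ℕ := 0x240c802240890000401902400190
noncomputable def n29_8 : ℕ := 0xe0c100080810208183800614304
noncomputable def n29_9 : ℕ := 0xb404800e800801000700000076
noncomputable def n29_10 : ℕ := 0x4380003e9000000520002740
noncomputable def n29_11 : ℕ := 0x4e1d40900000000080ba0
noncomputable def n29_12 : ℕ := 0x762e93c2004400
noncomputable def n29 : Net := .cons 56 n29_0 <| .cons 28 n29_1 <| .cons 14 n29_2 <| .cons 7 n29_3 <| .cons 4 n29_4 <| .cons 2 n29_5 <| .cons 1 n29_6 <| .cons 2 n29_7 <| .cons 4 n29_8 <| .cons 7 n29_9 <| .cons 14 n29_10 <| .cons 28 n29_11 <| .cons 56 n29_12 <| .nil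
noncomputable def La31 : List Net := n29 :: La30
theorem ga31 : Good 112 (H79.RepHS.ρ).range La31 :=
  Good.word (m := 7) (by norm_num) ga30 (w := [53,55,52,47,49,50,40,42,45,38]) (by decide +kernel)
noncomputable def Tn29 : H88.Tr := (.leaf (nat_lit 0) (nat_lit 0xfff1088858b307343c11d4ac68040000fff165312708f8cac3c411080e200000000c02f7245dfdd2341ce2e1206e0000ff0a7155d6167262bf7b2280e09c0000f0f83fe6f0a079b3e4c06046f3160000ccc6c2c5c2df4acec4d6dd4ec10c0000aaa632862eb3a0f7aaa43bb0cf4c))
noncomputable def ln29 : Lt := ⟨Tn29, n29⟩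
theorem on29 : OK 112 (H79.RepHS.ρ).range ln29 := OK.of (m := 7) (by norm_num) (H := 128) ga31 (by decide +kernel)
noncomputable def n30_0 : ℕ := 0xec00315863c000
noncomputable def n30_1 : ℕ := 0x571194800000005fc0462
noncomputable def n30_2 : ℕ := 0xc20002f1800030080001950
noncomputable def n30_3 : ℕ := 0x803c0030050015002a0148024
noncomputable def n30_4 : ℕ := 0x800100000020804105
noncomputable def n30_5 : ℕ := 0x400800000090000480000000002
noncomputable def n30_6 : ℕ := 0x2204a800050a0500502052a14001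
noncomputable def n30_7 : ℕ := 0x40080004009132240113064c112
noncomputable def n30_8 : ℕ := 0x7000800104000020804105
noncomputable def n30_9 : ℕ := 0x11803c00b0056015002a0148064
noncomputable def n30_10 : ℕ := 0xc20002f1800032520001950
noncomputable def n30_11 : ℕ := 0x571194800000005fc0462
noncomputable def n30_12 : ℕ := 0xec00315863c000
noncomputable def n30 : Net := .cons 56 n30_0 <| .cons 28 n30_1 <| .cons 14 n30_2 <| .cons 7 n30_3 <| .cons 4 n30_4 <| .cons 2 n30_5 <| .cons 1 n30_6 <| .cons 2 n30_7 <| .cons 4 n30_8 <| .cons 7 n30_9 <| .cons 14 n30_10 <| .cons 28 n30_11 <| .cons 56 n30_12 <| .nil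
noncomputable def La32 : List Net := n30 :: La31
theorem ga32 : Good 112 (H79.RepHS.ρ).range La32 :=
  Good.word (m := 7) (by norm_num) ga31 (w := [62,60,62,62,62,55,59,55,53,50,53,44,44,46]) (by decide +kernel)
noncomputable def Tn30 : H88.Tr := (.leaf (nat_lit 0) (nat_lit 0xfffbde2904760260193414720d000000fff02684f890e49684cb48c9a00800000007d9678849edbe2a106f13a4420000ff03f051e708bbc59d206b98c91b0000f0fcd1ac3829fa83b9b62484d4ba0000ccc5e0590ed2dfe4e79e544540ce0000aaa2a2279275f351fadcf28b08a3))
noncomputable def ln30 : Lt := ⟨Tn30, n30⟩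
theorem on30 : OK 112 (H79.RepHS.ρ).range ln30 := OK.of (m := 7) (by norm_num) (H := 128) ga32 (by decide +kernel)
noncomputable def n31_0 : ℕ := 0x26818ee695ec14
noncomputable def n31_1 : ℕ := 0xb4a382800000004343f0a
noncomputable def n31_2 : ℕ := 0x239400034b8000090000000c8
noncomputable def n31_3 : ℕ := 0x4004001c000000c80260120070
noncomputable def n31_4 : ℕ := 0x8000040a0400200001000404302
noncomputable def n31_5 : ℕ := 0x8000000001000000022000810
noncomputable def n31_6 : ℕ := 0xa108000a0489102502112010810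
noncomputable def n31_7 : ℕ := 0x600001020800100081022204900
noncomputable def n31_8 : ℕ := 0xa000040e1410500080040e10306
noncomputable def n31_9 : ℕ := 0x10063017c01200c40060038068
noncomputable def n31_10 : ℕ := 0xfb4000362f0003d8f000049a
noncomputable def n31_11 : ℕ := 0x94a29110000000134791a
noncomputable def n31_12 : ℕ := 0x268304e7b0b800
noncomputable def n31 : Net := .cons 56 n31_0 <| .cons 28 n31_1 <| .cons 14 n31_2 <| .cons 7 n31_3 <| .cons 4 n31_4 <| .cons 2 n31_5 <| .cons 1 n31_6 <| .cons 2 n31_7 <| .cons 4 n31_8 <| .cons 7 n31_9 <| .cons 14 n31_10 <| .cons 28 n31_11 <| .cons 56 n31_12 <| .nil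
noncomputable def La33 : List Net := n31 :: La32
theorem ga33 : Good 112 (H79.RepHS.ρ).range La33 :=
  Good.word (m := 7) (by norm_num) ga32 (w := [61,58,54,53,54,48,48,42]) (by decide +kernel)
noncomputable def Tn31 : H88.Tr := (.leaf (nat_lit 0) (nat_lit 0xffff1b849a0087e032086c042e440000fff504680275741ac52793930002000000087388ecb3894ee90a86dac2e60000ff08697179056902899a7fb58e9c0000f0f82cb250b7db95bbe83a02505e0000ccc4b1e727a35a79a68ca9980f8e0000aaaa1ddfca3b5c8807d35819c9e4))
noncomputable def ln31 : Lt := ⟨Tn31, n31⟩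
theorem on31 : OK 112 (H79.RepHS.ρ).range ln31 := OK.of (m := 7) (by norm_num) (H := 128) ga33 (by decide +kernel)
noncomputable def n32_0 : ℕ := 0x55c01dfc6469b8
noncomputable def n32_1 : ℕ := 0x8ed18560000000f2c9a1c
noncomputable def n32_2 : ℕ := 0x25c000001a00016820003c4c
noncomputable def n32_3 : ℕ := 0x20024006801c01180680078026
noncomputable def n32_4 : ℕ := 0xc0808206003030c1c0800004000
noncomputable def n32_5 : ℕ := 0x40002000090020008002000800
noncomputable def n32_6 : ℕ := 0xa4008402048902214a842014884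
noncomputable def n32_7 : ℕ := 0xc18304401122404903220c813
noncomputable def n32_8 : ℕ := 0x41c004020c1070e083030010005
noncomputable def n32_9 : ℕ := 0x2006600c800c019c03f0074033
noncomputable def n32_10 : ℕ := 0x254f00004030002c36000154f
noncomputable def n32_11 : ℕ := 0xca9f2240000000f0c951e
noncomputable def n32_12 : ℕ := 0x55c8f6e037a077
noncomputable def n32 : Net := .cons 56 n32_0 <| .cons 28 n32_1 <| .cons 14 n32_2 <| .cons 7 n32_3 <| .cons 4 n32_4 <| .cons 2 n32_5 <| .cons 1 n32_6 <| .cons 2 n32_7 <| .cons 4 n32_8 <| .cons 7 n32_9 <| .cons 14 n32_10 <| .cons 28 n32_11 <| .cons 56 n32_12 <| .nil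
noncomputable def La34 : List Net := n32 :: La33
theorem ga34 : Good 112 (H79.RepHS.ρ).range La34 :=
  Good.word (m := 7) (by norm_num) ga33 (w := [64,66,63,58,61,55,50,46,45]) (by decide +kernel)
noncomputable def Tn32 : H88.Tr := (.leaf (nat_lit 0) (nat_lit 0xfff905902111a217cac5d0a415210000fff70068cae495a0750e22484a800000000a10f3c74048ce3ff01dacf8e00000ff00797c67214d909ec2ab07b6870000f0f8f69a4ad266c28daaa8d07c470000ccc44ca0ef1a9d1a83adbe3a71d20000aaa0669903cdf9dd7148b99b17c8))
noncomputable def ln32 : Lt := ⟨Tn32, n32⟩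
theorem on32 : OK 112 (H79.RepHS.ρ).range ln32 := OK.of (m := 7) (by norm_num) (H := 128) ga34 (by decide +kernel)
noncomputable def n33_0 : ℕ := 0xeed68472d51900
noncomputable def n33_1 : ℕ := 0x6eed020000000042c500
noncomputable def n33_2 : ℕ := 0x1586000392600025880003468
noncomputable def n33_3 : ℕ := 0xd0010001001e00000040078010
noncomputable def n33_4 : ℕ := 0xc0060a0028008102000a18101
noncomputable def n33_5 : ℕ := 0x200011000000000400010
noncomputable def n33_6 : ℕ := 0x2a5480522000950a140110200a10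
noncomputable def n33_7 : ℕ := 0xc000040019102088002448993
noncomputable def n33_8 : ℕ := 0x60c087041c10108103040e18281
noncomputable def n33_9 : ℕ := 0xd00270054012012c00c0178010
noncomputable def n33_10 : ℕ := 0x358600004b300025880002469
noncomputable def n33_11 : ℕ := 0x6eed020000000042cd04
noncomputable def n33_12 : ℕ := 0xeede8477d50910
noncomputable def n33 : Net := .cons 56 n33_0 <| .cons 28 n33_1 <| .cons 14 n33_2 <| .cons 7 n33_3 <| .cons 4 n33_4 <| .cons 2 n33_5 <| .cons 1 n33_6 <| .cons 2 n33_7 <| .cons 4 n33_8 <| .cons 7 n33_9 <| .cons 14 n33_10 <| .cons 28 n33_11 <| .cons 56 n33_12 <| .nil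
noncomputable def La35 : List Net := n33 :: La34
theorem ga35 : Good 112 (H79.RepHS.ρ).range La35 :=
  Good.word (m := 7) (by norm_num) ga34 (w := [68,67,69,61,65,61,59,57,55,58,52,50,53,47]) (by decide +kernel)
noncomputable def Tn33 : H88.Tr := (.leaf (nat_lit 0) (nat_lit 0xfff80b7288180bab19a4c468080d0000fff1748c4273c40cc003b30382230000000313399bef3556dea4359201840000ff023b076846f164d5b8232d4cde0000f0fa643203ace3c0d1cc39da3e760000ccc3c8c73cbec606c9ac5a50e5ad0000aaa34d5ebf7268b2745da85188c6))
noncomputable def ln33 : Lt := ⟨Tn33, n33⟩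
theorem on33 : OK 112 (H79.RepHS.ρ).range ln33 := OK.of (m := 7) (by norm_num) (H := 128) ga35 (by decide +kernel)
noncomputable def n34_0 : ℕ := 0x12b36ecf8bbd48
noncomputable def n34_1 : ℕ := 0x34a9db400000000051c5a
noncomputable def n34_2 : ℕ := 0x1ad80000d54000104000009c0
noncomputable def n34_3 : ℕ := 0x9002001b001200c007001e8044
noncomputable def n34_4 : ℕ := 0x14080041008600101040600200
noncomputable def n34_5 : ℕ := 0x440102004800000408000000010
noncomputable def n34_6 : ℕ := 0x24408428508040040a150204a14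
noncomputable def n34_7 : ℕ := 0x408102220498300408812608800
noncomputable def n34_8 : ℕ := 0x6001800610006001c0030e04002
noncomputable def n34_9 : ℕ := 0xf0020018c01a00c0040010c074
noncomputable def n34_10 : ℕ := 0x1fdc0000bad0001b410000f81
noncomputable def n34_11 : ℕ := 0x3620015000000069577ea
noncomputable def n34_12 : ℕ := 0x12b6b08d9b945a
noncomputable def n34 : Net := .cons 56 n34_0 <| .cons 28 n34_1 <| .cons 14 n34_2 <| .cons 7 n34_3 <| .cons 4 n34_4 <| .cons 2 n34_5 <| .cons 1 n34_6 <| .cons 2 n34_7 <| .cons 4 n34_8 <| .cons 7 n34_9 <| .cons 14 n34_10 <| .cons 28 n34_11 <| .cons 56 n34_12 <| .nil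
noncomputable def La36 : List Net := n34 :: La35
theorem ga36 : Good 112 (H79.RepHS.ρ).range La36 :=
  Good.word (m := 7) (by norm_num) ga35 (w := [70,69,71,67,67,65,56,60,60,53]) (by decide +kernel)
noncomputable def Tn34 : H88.Tr := (.leaf (nat_lit 0) (nat_lit 0xfff4290d209034032d7184106fc90000fffb02b24b0b4a80d2a5e00890250000000e13991e6ad4a1940042f72ff60000ff0e8875c179f26e961a2680e9960000f0f8996146a5f7e2cd1c516812ee0000cccfeb8cd7c5f1c174828cc49a0b0000aaaa88cef5ee869aa78598225fb0))
noncomputable def ln34 : Lt := ⟨Tn34, n34⟩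
theorem on34 : OK 112 (H79.RepHS.ρ).range ln34 := OK.of (m := 7) (by norm_num) (H := 128) ga36 (by decide +kernel)
noncomputable def n35_0 : ℕ := 0x7cacd8c4a8b1d4
noncomputable def n35_1 : ℕ := 0x93c0bb000000005342ebc
noncomputable def n35_2 : ℕ := 0xa8800021c40002d7a0000fee
noncomputable def n35_3 : ℕ := 0x48000000800201a001e0198016
noncomputable def n35_4 : ℕ := 0x4181060a1018404000010800102
noncomputable def n35_5 : ℕ := 0x2400810004011004001000000100
noncomputable def n35_6 : ℕ := 0x28048152a4409102042042810a10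
noncomputable def n35_7 : ℕ := 0x404990244800020049900240982
noncomputable def n35_8 : ℕ := 0x418107020018700083850e10003
noncomputable def n35_9 : ℕ := 0x1e405d0080026016405b01c0060
noncomputable def n35_10 : ℕ := 0x122a00036cf000192f0000cbd
noncomputable def n35_11 : ℕ := 0xc3e31020000000500a686
noncomputable def n35_12 : ℕ := 0x7ca959cf627b02
noncomputable def n35 : Net := .cons 56 n35_0 <| .cons 28 n35_1 <| .cons 14 n35_2 <| .cons 7 n35_3 <| .cons 4 n35_4 <| .cons 2 n35_5 <| .cons 1 n35_6 <| .cons 2 n35_7 <| .cons 4 n35_8 <| .cons 7 n35_9 <| .cons 14 n35_10 <| .cons 28 n35_11 <| .cons 56 n35_12 <| .nil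
noncomputable def La37 : List Net := n35 :: La36
theorem ga37 : Good 112 (H79.RepHS.ρ).range La37 :=
  Good.word (m := 7) (by norm_num) ga36 (w := [73,70,66,64,68,61,59,62,56,52]) (by decide +kernel)
noncomputable def Tn35 : H88.Tr := (.leaf (nat_lit 0) (nat_lit 0xfff8b1922e1366484a020d4705a00000fff4142c416999a3909cd48008d40000000908edf26a6548d2d382a8bd690000ff0aa3156c5668d1adde52a8934c0000f0f0cf4177b87b4ae58c93f2202a0000ccc087fb00e5f780c96f68f823f10000aaa501f51a7f3a5733ab4f9c8032))
noncomputable def ln35 : Lt := ⟨Tn35, n35⟩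
theorem on35 : OK 112 (H79.RepHS.ρ).range ln35 := OK.of (m := 7) (by norm_num) (H := 128) ga37 (by decide +kernel)
noncomputable def n36_0 : ℕ := 0xeee71efc8e290e
noncomputable def n36_1 : ℕ := 0x34f2dbc0000000a0a3112
noncomputable def n36_2 : ℕ := 0x1ae20000e320001d600000286
noncomputable def n36_3 : ℕ := 0xb004c01a000e00800600190000
noncomputable def n36_4 : ℕ := 0x20c004061010204080060000282
noncomputable def n36_5 : ℕ := 0x8010000890200489020000012
noncomputable def n36_6 : ℕ := 0x2810211285088420448910240a11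
noncomputable def n36_7 : ℕ := 0x26040800400083204c9830404991
noncomputable def n36_8 : ℕ := 0x101830c143850018007080c101
noncomputable def n36_9 : ℕ := 0x4053010405a002803d018000c
noncomputable def n36_10 : ℕ := 0x28d80002c4800011610000284
noncomputable def n36_11 : ℕ := 0x10773520000000a0bd031
noncomputable def n36_12 : ℕ := 0xeeef3c034c8dee
noncomputable def n36 : Net := .cons 56 n36_0 <| .cons 28 n36_1 <| .cons 14 n36_2 <| .cons 7 n36_3 <| .cons 4 n36_4 <| .cons 2 n36_5 <| .cons 1 n36_6 <| .cons 2 n36_7 <| .cons 4 n36_8 <| .cons 7 n36_9 <| .cons 14 n36_10 <| .cons 28 n36_11 <| .cons 56 n36_12 <| .nil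
noncomputable def La38 : List Net := n36 :: La37
theorem ga38 : Good 112 (H79.RepHS.ρ).range La38 :=
  Good.word (m := 7) (by norm_num) ga37 (w := [74,74,72,75,66,70,70,61,64,61,64,56,59]) (by decide +kernel)
noncomputable def Tn36 : H88.Tr := (.leaf (nat_lit 0) (nat_lit 0xfff2264e9e0623830204d52223a40000fffe90950d789020650820c9d8430000000c3dea63039f90ce415048fc9d0000ff01dc61525d029dc4aff550d2170000f0fd6e5230f8bcb006b1a7c6b5140000ccc0fb35b7e3db9521222946ea2c0000aaa97b499cb53be783503c581c53))
noncomputable def ln36 : Lt := ⟨Tn36, n36⟩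
theorem on36 : OK 112 (H79.RepHS.ρ).range ln36 := OK.of (m := 7) (by norm_num) (H := 128) ga38 (by decide +kernel)
noncomputable def n37_0 : ℕ := 0x7b6ffba06182c
noncomputable def n37_1 : ℕ := 0x6126e5c00000000b2d552
noncomputable def n37_2 : ℕ := 0x3b6e0003b0a00006620002fda
noncomputable def n37_3 : ℕ := 0x38022013003600480640100034
noncomputable def n37_4 : ℕ := 0x408007041018000182060014206
noncomputable def n37_5 : ℕ := 0x2040000004000000000100400110
noncomputable def n37_6 : ℕ := 0x2044010284428028140100254a10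
noncomputable def n37_7 : ℕ := 0x264011202488010000192004c900
noncomputable def n37_8 : ℕ := 0x2101070a1c20406182060c0c006
noncomputable def n37_9 : ℕ := 0x13c019007807900e80630108000
noncomputable def n37_10 : ℕ := 0x33cf000196c000206300032de
noncomputable def n37_11 : ℕ := 0x67005f70000000eb665d4
noncomputable def n37_12 : ℕ := 0x7bd753badf5b0
noncomputable def n37 : Net := .cons 56 n37_0 <| .cons 28 n37_1 <| .cons 14 n37_2 <| .cons 7 n37_3 <| .cons 4 n37_4 <| .cons 2 n37_5 <| .cons 1 n37_6 <| .cons 2 n37_7 <| .cons 4 n37_8 <| .cons 7 n37_9 <| .cons 14 n37_10 <| .cons 28 n37_11 <| .cons 56 n37_12 <| .nil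
noncomputable def La39 : List Net := n37 :: La38
theorem ga39 : Good 112 (H79.RepHS.ρ).range La39 :=
  Good.word (m := 7) (by norm_num) ga38 (w := [69,71,73,64,62,58,60,59,54]) (by decide +kernel)
noncomputable def Tn37 : H88.Tr := (.leaf (nat_lit 0) (nat_lit 0xfff312cb90069af9c00041b127800000fff8c090052b60162b793849085a000000073a39ed9d38235545e1404a7c0000ff08047ff1705d468d88712c7e3c0000f0fd8a385e1871cdf9b2631614f00000ccc7c134af94761baa0bb175f7000000aaabe551e99bf7f85112544a340e))
noncomputable def ln37 : Lt := ⟨Tn37, n37⟩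
theorem on37 : OK 112 (H79.RepHS.ρ).range ln37 := OK.of (m := 7) (by norm_num) (H := 128) ga39 (by decide +kernel)
noncomputable def n38_0 : ℕ := 0x2936a0277c16a0
noncomputable def n38_1 : ℕ := 0x788c6d600000001cdbd10
noncomputable def n38_2 : ℕ := 0xf48000070e0001af200024d2
noncomputable def n38_3 : ℕ := 0x7804a014802800280240120004
noncomputable def n38_4 : ℕ := 0x80c20108041040c182800010201
noncomputable def n38_5 : ℕ := 0x2008002000080000008000000000
noncomputable def n38_6 : ℕ := 0x2044281081481102108010214a05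
noncomputable def n38_7 : ℕ := 0x20080020008901200c1022000803
noncomputable def n38_8 : ℕ := 0x80008500002840e00082041c101
noncomputable def n38_9 : ℕ := 0x7004e017003a006c02a00e403a
noncomputable def n38_10 : ℕ := 0x9680000c4f0001e410000862
noncomputable def n38_11 : ℕ := 0x51bea5300000000c517a6
noncomputable def n38_12 : ℕ := 0x29323f47342a96
noncomputable def n38 : Net := .cons 56 n38_0 <| .cons 28 n38_1 <| .cons 14 n38_2 <| .cons 7 n38_3 <| .cons 4 n38_4 <| .cons 2 n38_5 <| .cons 1 n38_6 <| .cons 2 n38_7 <| .cons 4 n38_8 <| .cons 7 n38_9 <| .cons 14 n38_10 <| .cons 28 n38_11 <| .cons 56 n38_12 <| .nil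
noncomputable def La40 : List Net := n38 :: La39
theorem ga40 : Good 112 (H79.RepHS.ρ).range La40 :=
  Good.word (m := 7) (by norm_num) ga39 (w := [75,70,74,69,58,63,57]) (by decide +kernel)
noncomputable def Tn38 : H88.Tr := (.leaf (nat_lit 0) (nat_lit 0xfff307c8361399330d0124094c0a0000fff90c354be4628a402092d082740000000e20dfac27d290bc9490b7730c0000ff00b2327d36fc5db68b249191640000f0f0a1c0d9ab5e94ed4df16825740000ccc0d6ae6a1858a47c76aa9de7520000aaa092eb6a6c8e9b87114a7a3bba))
noncomputable def ln38 : Lt := ⟨Tn38, n38⟩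
theorem on38 : OK 112 (H79.RepHS.ρ).range ln38 := OK.of (m := 7) (by norm_num) (H := 128) ga40 (by decide +kernel)
noncomputable def n39_0 : ℕ := 0xea8d2e006c32
noncomputable def n39_1 : ℕ := 0x54665c0000000073f9800
noncomputable def n39_2 : ℕ := 0x1ec0000384a000017400016c6
noncomputable def n39_3 : ℕ := 0x19006a001003800980500060008
noncomputable def n39_4 : ℕ := 0x800006080000102102800c10303
noncomputable def n39_5 : ℕ := 0x2200000004401000008012
noncomputable def n39_6 : ℕ := 0xa1001120508052840a010204211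
noncomputable def n39_7 : ℕ := 0x600010000480302440920240193
noncomputable def n39_8 : ℕ := 0xe04000081438104080020c10103
noncomputable def n39_9 : ℕ := 0x1d406a014003f006007e0060008
noncomputable def n39_10 : ℕ := 0x1ad0000306b00031840000d02
noncomputable def n39_11 : ℕ := 0x5402c450000000cffb914
noncomputable def n39_12 : ℕ := 0xee012485e632
noncomputable def n39 : Net := .cons 56 n39_0 <| .cons 28 n39_1 <| .cons 14 n39_2 <| .cons 7 n39_3 <| .cons 4 n39_4 <| .cons 2 n39_5 <| .cons 1 n39_6 <| .cons 2 n39_7 <| .cons 4 n39_8 <| .cons 7 n39_9 <| .cons 14 n39_10 <| .cons 28 n39_11 <| .cons 56 n39_12 <| .nil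
noncomputable def La41 : List Net := n39 :: La40
theorem ga41 : Good 112 (H79.RepHS.ρ).range La41 :=
  Good.word (m := 7) (by norm_num) ga40 (w := [68,67,70,65,60,64]) (by decide +kernel)
noncomputable def Tn39 : H88.Tr := (.leaf (nat_lit 0) (nat_lit 0xfff156923f068e8bb242828440200000fff52d49c060612109a010c3b7c400000000c3bdce5ab9141355e21a3be00000ff06f273f6e97130ba832f3430100000f0f861f67b0561bcc1483b5b18bc0000ccca54c2c41e43598fb39e18ebbc0000aaa6fb8aa6cb69cf69506091ca1e))
noncomputable def ln39 : Lt := ⟨Tn39, n39⟩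
theorem on39 : OK 112 (H79.RepHS.ρ).range ln39 := OK.of (m := 7) (by norm_num) (H := 128) ga41 (by decide +kernel)
noncomputable def n40_0 : ℕ := 0x4594c3fe98a862
noncomputable def n40_1 : ℕ := 0x1d1eb5e0000000353515e
noncomputable def n40_2 : ℕ := 0x301a0001290000084c0001572
noncomputable def n40_3 : ℕ := 0x1e004200a8060010001a0020044
noncomputable def n40_4 : ℕ := 0x302080018208140840014000
noncomputable def n40_5 : ℕ := 0x2040102240810204000122400010
noncomputable def n40_6 : ℕ := 0x2040084221088102142912214810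
noncomputable def n40_7 : ℕ := 0x4c803260890106048000604011
noncomputable def n40_8 : ℕ := 0x410002060400408140830418087
noncomputable def n40_9 : ℕ := 0x40060016c051002805c0144051
noncomputable def n40_10 : ℕ := 0x33390000a04000099e00001d3
noncomputable def n40_11 : ℕ := 0x5807e9700000003f1606f
noncomputable def n40_12 : ℕ := 0x4596b61c735240
noncomputable def n40 : Net := .cons 56 n40_0 <| .cons 28 n40_1 <| .cons 14 n40_2 <| .cons 7 n40_3 <| .cons 4 n40_4 <| .cons 2 n40_5 <| .cons 1 n40_6 <| .cons 2 n40_7 <| .cons 4 n40_8 <| .cons 7 n40_9 <| .cons 14 n40_10 <| .cons 28 n40_11 <| .cons 56 n40_12 <| .nil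
noncomputable def La42 : List Net := n40 :: La41
theorem ga42 : Good 112 (H79.RepHS.ρ).range La42 :=
  Good.word (m := 7) (by norm_num) ga41 (w := [82,80,80,82,78,75,78,68,71,73,62,66,62,66,60]) (by decide +kernel)
noncomputable def Tn40 : H88.Tr := (.leaf (nat_lit 0) (nat_lit 0xfff0a465b49a19644a94480240730000fffd080523414200a468b735b9090000000ecda09dc5adadf0d9752c00820000ff01c48a59b526b1caeefe8392500000f0fdb092da2c330cdfeb2138c5520000ccc8b9a50832467f34da5f01cfd60000aaa4e1f316b3f10b2665e5c5a643))
noncomputable def ln40 : Lt := ⟨Tn40, n40⟩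
theorem on40 : OK 112 (H79.RepHS.ρ).range ln40 := OK.of (m := 7) (by norm_num) (H := 128) ga42 (by decide +kernel)
noncomputable def n41_0 : ℕ := 0x1e151f10ff7d78
noncomputable def n41_1 : ℕ := 0xb81e11c0000000e658210
noncomputable def n41_2 : ℕ := 0xc220002cc40001eac0000042
noncomputable def n41_3 : ℕ := 0x806800a002a007804c0168000
noncomputable def n41_4 : ℕ := 0x808102040008504182000404200
noncomputable def n41_5 : ℕ := 0x900040001020080100448002
noncomputable def n41_6 : ℕ := 0x2048902240a142210a900844001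
noncomputable def n41_7 : ℕ := 0x200111040010006048100008800
noncomputable def n41_8 : ℕ := 0x8081010a1808604001800000281
noncomputable def n41_9 : ℕ := 0x1402000fc023002801f006803b
noncomputable def n41_10 : ℕ := 0x9a4000298400017330002618
noncomputable def n41_11 : ℕ := 0xb4073850000000a7bd3f0
noncomputable def n41_12 : ℕ := 0x1e1a2ee1727472
noncomputable def n41 : Net := .cons 56 n41_0 <| .cons 28 n41_1 <| .cons 14 n41_2 <| .cons 7 n41_3 <| .cons 4 n41_4 <| .cons 2 n41_5 <| .cons 1 n41_6 <| .cons 2 n41_7 <| .cons 4 n41_8 <| .cons 7 n41_9 <| .cons 14 n41_10 <| .cons 28 n41_11 <| .cons 56 n41_12 <| .nil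
noncomputable def La43 : List Net := n41 :: La42
theorem ga43 : Good 112 (H79.RepHS.ρ).range La43 :=
  Good.word (m := 7) (by norm_num) ga42 (w := [85,82,82,84,81,77,77,70,75,64]) (by decide +kernel)
noncomputable def Tn41 : H88.Tr := (.leaf (nat_lit 0) (nat_lit 0xfff8ad24131045622818ec4e0b600000fff010806ae5308dd49215d164090000000ec7617c798440bb8f0895a5aa0000ff03db0b54152fcc81ca7396aa520000f0f296db692c50d1a18ffa2c16710000ccca953db7a81ab5b60e23db08c60000aaa1adb7ce3fd8cc07034e39c948))
noncomputable def ln41 : Lt := ⟨Tn41, n41⟩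
theorem on41 : OK 112 (H79.RepHS.ρ).range ln41 := OK.of (m := 7) (by norm_num) (H := 128) ga43 (by decide +kernel)
noncomputable def n42_0 : ℕ := 0xec117aa8f25924
noncomputable def n42_1 : ℕ := 0x695deb0000000057420ee
noncomputable def n42_2 : ℕ := 0x25c000000a800017a200003c8
noncomputable def n42_3 : ℕ := 0x5000a007801a00540188050
noncomputable def n42_4 : ℕ := 0x2081000a1010408002020404005
noncomputable def n42_5 : ℕ := 0x810204000200081022008110
noncomputable def n42_6 : ℕ := 0x24081422400010a04a012804895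
noncomputable def n42_7 : ℕ := 0x640001064890300088802200110
noncomputable def n42_8 : ℕ := 0xc08006061010404003820004084
noncomputable def n42_9 : ℕ := 0x144004003c07101a803d01b8010
noncomputable def n42_10 : ℕ := 0x2583000220800006e20000777
noncomputable def n42_11 : ℕ := 0x45588e9000000056092b8
noncomputable def n42_12 : ℕ := 0xec187b049a9145
noncomputable def n42 : Net := .cons 56 n42_0 <| .cons 28 n42_1 <| .cons 14 n42_2 <| .cons 7 n42_3 <| .cons 4 n42_4 <| .cons 2 n42_5 <| .cons 1 n42_6 <| .cons 2 n42_7 <| .cons 4 n42_8 <| .cons 7 n42_9 <| .cons 14 n42_10 <| .cons 28 n42_11 <| .cons 56 n42_12 <| .nil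
noncomputable def La44 : List Net := n42 :: La43
theorem ga44 : Good 112 (H79.RepHS.ρ).range La44 :=
  Good.word (m := 7) (by norm_num) ga43 (w := [85,85,82,79,82,73,76,72,66,65]) (by decide +kernel)
noncomputable def Tn42 : H88.Tr := (.leaf (nat_lit 0) (nat_lit 0xfffd81808f9a80644c4fd83112000000fff26c4730e85a1a0080a156e8300000000b8fc904567f3296752e21e40a0000ff04c9e8b355e689a7056745d3110000f0f49436d6027ca30fbb3565d88a0000ccc3f97b883f98ac1ee2c504d4470000aaa69448b4b833fd3aec6b0b4ac9))
noncomputable def ln42 : Lt := ⟨Tn42, n42⟩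
theorem on42 : OK 112 (H79.RepHS.ρ).range ln42 := OK.of (m := 7) (by norm_num) (H := 128) ga44 (by decide +kernel)
noncomputable def n43_0 : ℕ := 0x602076d2a93318
noncomputable def n43_1 : ℕ := 0x3b468500000000001aca4
noncomputable def n43_2 : ℕ := 0xef00000a480002e18000112a
noncomputable def n43_3 : ℕ := 0x7000a000001c00a805001e002c
noncomputable def n43_4 : ℕ := 0x284080010006100020e0c001
noncomputable def n43_5 : ℕ := 0x900200010220000002000102
noncomputable def n43_6 : ℕ := 0x20548852000a0122040812850201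
noncomputable def n43_7 : ℕ := 0x498320048820604900004c112
noncomputable def n43_8 : ℕ := 0x800508181830a040800c1c185
noncomputable def n43_9 : ℕ := 0x50015001801e00a4073014006a
noncomputable def n43_10 : ℕ := 0x147b0001b4e0002c080001b0e
noncomputable def n43_11 : ℕ := 0x3b4ddc300000000c4adef
noncomputable def n43_12 : ℕ := 0x602252358c7b3a
noncomputable def n43 : Net := .cons 56 n43_0 <| .cons 28 n43_1 <| .cons 14 n43_2 <| .cons 7 n43_3 <| .cons 4 n43_4 <| .cons 2 n43_5 <| .cons 1 n43_6 <| .cons 2 n43_7 <| .cons 4 n43_8 <| .cons 7 n43_9 <| .cons 14 n43_10 <| .cons 28 n43_11 <| .cons 56 n43_12 <| .nil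
noncomputable def La45 : List Net := n43 :: La44
theorem ga45 : Good 112 (H79.RepHS.ρ).range La45 :=
  Good.word (m := 7) (by norm_num) ga44 (w := [87,89,89,86,83,84,79,77,78,72,70,73,67]) (by decide +kernel)
noncomputable def Tn43 : H88.Tr := (.leaf (nat_lit 0) (nat_lit 0xfff6ab58b002b443b032cc1142400000fff151040d67419c0bc131c98a800000000ec0cec79458f0096bc6f648c30000ff07c867ce31f477155c7200ad120000f0f8ca80d4357baec530d98c71f20000cccea18f1eb171837ea08de1ac2e0000aaaba94b7cfe069a95af51464928))
noncomputable def ln43 : Lt := ⟨Tn43, n43⟩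
theorem on43 : OK 112 (H79.RepHS.ρ).range ln43 := OK.of (m := 7) (by norm_num) (H := 128) ga45 (by decide +kernel)
noncomputable def n44_0 : ℕ := 0x4d2e7410c84800
noncomputable def n44_1 : ℕ := 0x2787d2200000003a2e250
noncomputable def n44_2 : ℕ := 0x2614000105400022a40000866
noncomputable def n44_3 : ℕ := 0x10803000a000801400200188010
noncomputable def n44_4 : ℕ := 0x1820000083820408006
noncomputable def n44_5 : ℕ := 0x2000002004000200008002400010
noncomputable def n44_6 : ℕ := 0x225001108402010000a942204011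
noncomputable def n44_7 : ℕ := 0x244c092004c01200488000400010
noncomputable def n44_8 : ℕ := 0x2180020018200000c3820008086
noncomputable def n44_9 : ℕ := 0x16401000a002801500210108030
noncomputable def n44_10 : ℕ := 0x2614000115400022a40001847
noncomputable def n44_11 : ℕ := 0x2787f2200000003a6e250
noncomputable def n44_12 : ℕ := 0x4d2e701ac83022
noncomputable def n44 : Net := .cons 56 n44_0 <| .cons 28 n44_1 <| .cons 14 n44_2 <| .cons 7 n44_3 <| .cons 4 n44_4 <| .cons 2 n44_5 <| .cons 1 n44_6 <| .cons 2 n44_7 <| .cons 4 n44_8 <| .cons 7 n44_9 <| .cons 14 n44_10 <| .cons 28 n44_11 <| .cons 56 n44_12 <| .nil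
noncomputable def La46 : List Net := n44 :: La45
theorem ga46 : Good 112 (H79.RepHS.ρ).range La46 :=
  Good.word (m := 7) (by norm_num) ga45 (w := [90,88,90,90,88,87,87,77,79,81,74,70,74]) (by decide +kernel)
noncomputable def Tn44 : H88.Tr := (.leaf (nat_lit 0) (nat_lit 0xfff7b627c95104c928241ae900000000fff249013c8ad93687d8800710a000000009eafc96f490ba5e52193812310000ff04b18ce1b0f8c93fc0c184f7330000f0f0f4b2f206b7e6b481b23cf2500000ccc4db4a5a9cc589d69d184da64f0000aaa6f97c22628e38b2af5a83d83a))
noncomputable def ln44 : Lt := ⟨Tn44, n44⟩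
theorem on44 : OK 112 (H79.RepHS.ρ).range ln44 := OK.of (m := 7) (by norm_num) (H := 128) ga46 (by decide +kernel)
noncomputable def n45_0 : ℕ := 0x4004b4f64a5180
noncomputable def n45_1 : ℕ := 0x1a04f280000000f1bd810
noncomputable def n45_2 : ℕ := 0x388000110000022d20001490
noncomputable def n45_3 : ℕ := 0x802a000000600d00440140024
noncomputable def n45_4 : ℕ := 0x6001820600183000004104
noncomputable def n45_5 : ℕ := 0x881004408100000802
noncomputable def n45_6 : ℕ := 0x4005001089002408940014804
noncomputable def n45_7 : ℕ := 0x20089300488120448090220c902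
noncomputable def n45_8 : ℕ := 0x40038600182060c0c0810e04100
noncomputable def n45_9 : ℕ := 0x2803e000800601c00440140066
noncomputable def n45_10 : ℕ := 0x388000190000022d20001491
noncomputable def n45_11 : ℕ := 0x1a04f280000000f1bfa12
noncomputable def n45_12 : ℕ := 0x4004b5f6ca5180
noncomputable def n45 : Net := .cons 56 n45_0 <| .cons 28 n45_1 <| .cons 14 n45_2 <| .cons 7 n45_3 <| .cons 4 n45_4 <| .cons 2 n45_5 <| .cons 1 n45_6 <| .cons 2 n45_7 <| .cons 4 n45_8 <| .cons 7 n45_9 <| .cons 14 n45_10 <| .cons 28 n45_11 <| .cons 56 n45_12 <| .nil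
noncomputable def La47 : List Net := n45 :: La46
theorem ga47 : Good 112 (H79.RepHS.ρ).range La47 :=
  Good.word (m := 7) (by norm_num) ga46 (w := [92,91,93,79,75,70]) (by decide +kernel)
noncomputable def Tn45 : H88.Tr := (.leaf (nat_lit 0) (nat_lit 0xfff2c84e2772084e4115d08920430000fff91091e880d1e1bc442f4002a100000008d7891a5efd8b60aaa4a728a20000ff02c235450e75279f8ba499d7820000f0fac37200bd72bbe9712268b9320000ccc9c39b1b1b46cd95735715850d0000aaa2bbad306222fdb293eb72a28a))
noncomputable def ln45 : Lt := ⟨Tn45, n45⟩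
theorem on45 : OK 112 (H79.RepHS.ρ).range ln45 := OK.of (m := 7) (by norm_num) (H := 128) ga47 (by decide +kernel)
noncomputable def n46_0 : ℕ := 0xdcac33fb5a6d24
noncomputable def n46_1 : ℕ := 0xcb765c0000000002c6420
noncomputable def n46_2 : ℕ := 0x14e00001fd0000176800006a8
noncomputable def n46_3 : ℕ := 0x150054004800001d0000015000a
noncomputable def n46_4 : ℕ := 0xc083820a18082000c0020400006
noncomputable def n46_5 : ℕ := 0x408000040010004080020008002
noncomputable def n46_6 : ℕ := 0x804280221008028440140210011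
noncomputable def n46_7 : ℕ := 0x2400083060c0020608802024c903
noncomputable def n46_8 : ℕ := 0xa001800e183820c040810a00003
noncomputable def n46_9 : ℕ := 0x1d807f0044028016000001c0006
noncomputable def n46_10 : ℕ := 0x5800000cf8000177f000057a
noncomputable def n46_11 : ℕ := 0x9bff5a8000000000df551
noncomputable def n46_12 : ℕ := 0xdca835935ab524
noncomputable def n46 : Net := .cons 56 n46_0 <| .cons 28 n46_1 <| .cons 14 n46_2 <| .cons 7 n46_3 <| .cons 4 n46_4 <| .cons 2 n46_5 <| .cons 1 n46_6 <| .cons 2 n46_7 <| .cons 4 n46_8 <| .cons 7 n46_9 <| .cons 14 n46_10 <| .cons 28 n46_11 <| .cons 56 n46_12 <| .nil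
noncomputable def La48 : List Net := n46 :: La47
theorem ga48 : Good 112 (H79.RepHS.ρ).range La48 :=
  Good.word (m := 7) (by norm_num) ga47 (w := [94,93,91,86,90,78,76,79,73]) (by decide +kernel)
noncomputable def Tn46 : H88.Tr := (.leaf (nat_lit 0) (nat_lit 0xfff2854c86959c2830a40c0709930000fff45080437a0bd90c58d2d0906000000001fe9e79871385ed068d9901a20000ff04a723e508d780a73427d9f4d10000f0f5e8e4f10574c25ded326a21f00000ccc0eb7693b6d0262e58ceba8c5c0000aaa2d5cbd36e420e63bf1b582b09))
noncomputable def ln46 : Lt := ⟨Tn46, n46⟩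
theorem on46 : OK 112 (H79.RepHS.ρ).range ln46 := OK.of (m := 7) (by norm_num) (H := 128) ga48 (by decide +kernel)
noncomputable def n47_0 : ℕ := 0x51bb07f8900000
noncomputable def n47_1 : ℕ := 0x5866770000000069071b0
noncomputable def n47_2 : ℕ := 0x200c0000ea800031320002008
noncomputable def n47_3 : ℕ := 0x8000800d000801800080140042
noncomputable def n47_4 : ℕ := 0xc00508100000008104
noncomputable def n47_5 : ℕ := 0x2000100200811220000020408100
noncomputable def n47_6 : ℕ := 0x2810084204409120402040810a15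
noncomputable def n47_7 : ℕ := 0x2040181220811220040020448100
noncomputable def n47_8 : ℕ := 0x8002001c00508101010208104
noncomputable def n47_9 : ℕ := 0xb000500d004a01880080140042
noncomputable def n47_10 : ℕ := 0x200c0001ea800039f20002008
noncomputable def n47_11 : ℕ := 0x5866770000000069071b0
noncomputable def n47_12 : ℕ := 0x51bb07f8900000
noncomputable def n47 : Net := .cons 56 n47_0 <| .cons 28 n47_1 <| .cons 14 n47_2 <| .cons 7 n47_3 <| .cons 4 n47_4 <| .cons 2 n47_5 <| .cons 1 n47_6 <| .cons 2 n47_7 <| .cons 4 n47_8 <| .cons 7 n47_9 <| .cons 14 n47_10 <| .cons 28 n47_11 <| .cons 56 n47_12 <| .nil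
noncomputable def La49 : List Net := n47 :: La48
theorem ga49 : Good 112 (H79.RepHS.ρ).range La49 :=
  Good.word (m := 7) (by norm_num) ga48 (w := [97,94,94,96,92,92,78,80,74]) (by decide +kernel)
noncomputable def Tn47 : H88.Tr := (.leaf (nat_lit 0) (nat_lit 0xfffccf4250c58e61f820501203200000fff210d42fb851b0074d2e4002810000000af30b1d1e738c48a3e5ff01800000ff01d7357b2ef70535862190e4320000f0fee491e37272cae061a294f1710000ccccc85559fc4c8f0e6a86e3a46e0000aaa791cea12c2ca2b0aebad7c9aa))
noncomputable def ln47 : Lt := ⟨Tn47, n47⟩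
theorem on47 : OK 112 (H79.RepHS.ρ).range ln47 := OK.of (m := 7) (by norm_num) (H := 128) ga49 (by decide +kernel)
noncomputable def n48_0 : ℕ := 0xbdbfc336b7d6
noncomputable def n48_1 : ℕ := 0x237a6a00000000e00bfb8
noncomputable def n48_2 : ℕ := 0x2098000161200004ec00032d0
noncomputable def n48_3 : ℕ := 0x10058019007200600640068020
noncomputable def n48_4 : ℕ := 0xc381000020002001060404086
noncomputable def n48_5 : ℕ := 0x10020001000000012
noncomputable def n48_6 : ℕ := 0x40a10005021122548810054211
noncomputable def n48_7 : ℕ := 0x20488020404180040c9012448800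
noncomputable def n48_8 : ℕ := 0x804303001820304001810a08201
noncomputable def n48_9 : ℕ := 0x11004e01a80530080077017c02d
noncomputable def n48_10 : ℕ := 0x2004000331800003af00019c2
noncomputable def n48_11 : ℕ := 0x23f11b000000008206dfb
noncomputable def n48_12 : ℕ := 0xb00d6e7e7a8d
noncomputable def n48 : Net := .cons 56 n48_0 <| .cons 28 n48_1 <| .cons 14 n48_2 <| .cons 7 n48_3 <| .cons 4 n48_4 <| .cons 2 n48_5 <| .cons 1 n48_6 <| .cons 2 n48_7 <| .cons 4 n48_8 <| .cons 7 n48_9 <| .cons 14 n48_10 <| .cons 28 n48_11 <| .cons 56 n48_12 <| .nil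
noncomputable def La50 : List Net := n48 :: La49
theorem ga50 : Good 112 (H79.RepHS.ρ).range La50 :=
  Good.word (m := 7) (by norm_num) ga49 (w := [98,96,94,94,88,82,78,77]) (by decide +kernel)
noncomputable def Tn48 : H88.Tr := (.leaf (nat_lit 0) (nat_lit 0xfff978b096a2b5810034c15182120000fff4060e28144a4c42c8b41adc6200000006a5a3239ca7a4c4af56e826d00000ff07b8a8ac44192633da6ae12f710000f0f8d02b8fcb785d618c46ac46b90000ccc67827e8b9c447260f93df0b250000aaa74245da72db8c9444c4edafc9))
noncomputable def ln48 : Lt := ⟨Tn48, n48⟩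
theorem on48 : OK 112 (H79.RepHS.ρ).range ln48 := OK.of (m := 7) (by norm_num) (H := 128) ga50 (by decide +kernel)
noncomputable def n49_0 : ℕ := 0x40ac7ebff03c6a
noncomputable def n49_1 : ℕ := 0x12132ba000000079afc00
noncomputable def n49_2 : ℕ := 0x134a000366000020320003600
noncomputable def n49_3 : ℕ := 0x100070009803600e802201c0000
noncomputable def n49_4 : ℕ := 0xc1000604103020e100040410002
noncomputable def n49_5 : ℕ := 0x2048012200000004000020008012
noncomputable def n49_6 : ℕ := 0x2244811205409422508142810091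
noncomputable def n49_7 : ℕ := 0x2048010044c800240c012000c100
noncomputable def n49_8 : ℕ := 0x1800304100060a000010c0c283
noncomputable def n49_9 : ℕ := 0x12c0580058021018802e01d8009
noncomputable def n49_10 : ℕ := 0x13c30003f42000227b0003382
noncomputable def n49_11 : ℕ := 0x52b78c2000000068b1ba2
noncomputable def n49_12 : ℕ := 0x40afbf08caeab1
noncomputable def n49 : Net := .cons 56 n49_0 <| .cons 28 n49_1 <| .cons 14 n49_2 <| .cons 7 n49_3 <| .cons 4 n49_4 <| .cons 2 n49_5 <| .cons 1 n49_6 <| .cons 2 n49_7 <| .cons 4 n49_8 <| .cons 7 n49_9 <| .cons 14 n49_10 <| .cons 28 n49_11 <| .cons 56 n49_12 <| .nil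
noncomputable def La51 : List Net := n49 :: La50
theorem ga51 : Good 112 (H79.RepHS.ρ).range La51 :=
  Good.word (m := 7) (by norm_num) ga50 (w := [98,101,99,94,93,95,87,88,91,83,84,78]) (by decide +kernel)
noncomputable def Tn49 : H88.Tr := (.leaf (nat_lit 0) (nat_lit 0xfff6102420aed4789742c009b1410000fff808d89750098312b556f084200000000e690ff0301ece05d90db673030000ff05bd5726eca857e99082b60f010000f0fef8910543caf7497dac0539180000ccc0b9da76a871fc207a4cd8a99e0000aaaf1b68a44cc78e38643baf898b))
noncomputable def ln49 : Lt := ⟨Tn49, n49⟩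
theorem on49 : OK 112 (H79.RepHS.ρ).range ln49 := OK.of (m := 7) (by norm_num) (H := 128) ga51 (by decide +kernel)
noncomputable def n50_0 : ℕ := 0xbd0c8fa1890784
noncomputable def n50_1 : ℕ := 0x757ab480000000af50c0a
noncomputable def n50_2 : ℕ := 0x32f800025720003f300003b58
noncomputable def n50_3 : ℕ := 0x190040002801a01a0070018001c
noncomputable def n50_4 : ℕ := 0x608204000838008080020214000
noncomputable def n50_5 : ℕ := 0x8000000010224488000000000
noncomputable def n50_6 : ℕ := 0x2044a050200a1122508902a10a00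
noncomputable def n50_7 : ℕ := 0x44c012224800024448832640080
noncomputable def n50_8 : ℕ := 0xc1810000000800e1c3850e0c080
noncomputable def n50_9 : ℕ := 0xcc05c002805b01a801401b001c
noncomputable def n50_10 : ℕ := 0x9ec000007000024dc0002f5b
noncomputable def n50_11 : ℕ := 0x507570a0000000efb291f
noncomputable def n50_12 : ℕ := 0xbd01b44e0c2ea6
noncomputable def n50 : Net := .cons 56 n50_0 <| .cons 28 n50_1 <| .cons 14 n50_2 <| .cons 7 n50_3 <| .cons 4 n50_4 <| .cons 2 n50_5 <| .cons 1 n50_6 <| .cons 2 n50_7 <| .cons 4 n50_8 <| .cons 7 n50_9 <| .cons 14 n50_10 <| .cons 28 n50_11 <| .cons 56 n50_12 <| .nil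
noncomputable def La52 : List Net := n50 :: La51
theorem ga52 : Good 112 (H79.RepHS.ρ).range La52 :=
  Good.word (m := 7) (by norm_num) ga51 (w := [103,101,102,102,99,96,94,98,91,91,93,81]) (by decide +kernel)
noncomputable def Tn50 : H88.Tr := (.leaf (nat_lit 0) (nat_lit 0xfff4688f34448206201be9d227000000fff809408d7a7d080c2c0601c8f80000000b824d408cf06ebec6bd5592680000ff0be5359a8216275c740d9a56a90000f0f4b26ba9b3b7175304bc8595210000ccc9833be1efda3406b8447bae050000aaa692e9363246f124b8cfed5a68))
noncomputable def ln50 : Lt := ⟨Tn50, n50⟩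
theorem on50 : OK 112 (H79.RepHS.ρ).range ln50 := OK.of (m := 7) (by norm_num) (H := 128) ga52 (by decide +kernel)
noncomputable def n51_0 : ℕ := 0xdbce3bd49093a
noncomputable def n51_1 : ℕ := 0xf33686000000009b53c6c
noncomputable def n51_2 : ℕ := 0x151a0000708000294c00004c6
noncomputable def n51_3 : ℕ := 0x68020006001e00900480050054
noncomputable def n51_4 : ℕ := 0x80028404182000018000000c082
noncomputable def n51_5 : ℕ := 0x40010000000200080120048110
noncomputable def n51_6 : ℕ := 0x2a542102004a0402040112844091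
noncomputable def n51_7 : ℕ := 0x2604091000c00224040802408110
noncomputable def n51_8 : ℕ := 0x2101840400101000c2070400106
noncomputable def n51_9 : ℕ := 0xe4064006806a019002d011005e
noncomputable def n51_10 : ℕ := 0x8fd000045d0002d9d00008f4
noncomputable def n51_11 : ℕ := 0xfaa03e700000009919c74
noncomputable def n51_12 : ℕ := 0xdb4a43d588a6a
noncomputable def n51 : Net := .cons 56 n51_0 <| .cons 28 n51_1 <| .cons 14 n51_2 <| .cons 7 n51_3 <| .cons 4 n51_4 <| .cons 2 n51_5 <| .cons 1 n51_6 <| .cons 2 n51_7 <| .cons 4 n51_8 <| .cons 7 n51_9 <| .cons 14 n51_10 <| .cons 28 n51_11 <| .cons 56 n51_12 <| .nil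
noncomputable def La53 : List Net := n51 :: La52
theorem ga53 : Good 112 (H79.RepHS.ρ).range La53 :=
  Good.word (m := 7) (by norm_num) ga52 (w := [105,105,103,104,96,100,98,95,90,95,89,86,89,82]) (by decide +kernel)
noncomputable def Tn51 : H88.Tr := (.leaf (nat_lit 0) (nat_lit 0xfff82d6ca2688180448af14ca0230000fff620c349c37228b17418805d0000000005c12ef126bcff0168cb1d51120000ff03c9169fb9d1c94340a4e31f130000f0fe5d99e5ac0cf1e0c3200e5fd00000cccd70863df6d9c6d4d8682a648d0000aaab8d082ed2b8f4a95d3780f29b))
noncomputable def ln51 : Lt := ⟨Tn51, n51⟩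
theorem on51 : OK 112 (H79.RepHS.ρ).range ln51 := OK.of (m := 7) (by norm_num) (H := 128) ga53 (by decide +kernel)
noncomputable def n52_0 : ℕ := 0xe41f8294328560
noncomputable def n52_1 : ℕ := 0x525c2c80000000f51887a
noncomputable def n52_2 : ℕ := 0x29f20002ea200009e40003bd0
noncomputable def n52_3 : ℕ := 0x1c8066010802800c001200a805a
noncomputable def n52_4 : ℕ := 0x4103000c003000c100820e10382
noncomputable def n52_5 : ℕ := 0x2000800000890004000020008900
noncomputable def n52_6 : ℕ := 0x20408040a10a110840a142a50881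
noncomputable def n52_7 : ℕ := 0x244000004000010640102240c100
noncomputable def n52_8 : ℕ := 0x41c3070e08004020c201021c102
noncomputable def n52_9 : ℕ := 0x4806b011c04801c0020002c053
noncomputable def n52_10 : ℕ := 0x187600024c60000b920003d10
noncomputable def n52_11 : ℕ := 0x52430300000000f4100ab
noncomputable def n52_12 : ℕ := 0xe41f62ee19ab61
noncomputable def n52 : Net := .cons 56 n52_0 <| .cons 28 n52_1 <| .cons 14 n52_2 <| .cons 7 n52_3 <| .cons 4 n52_4 <| .cons 2 n52_5 <| .cons 1 n52_6 <| .cons 2 n52_7 <| .cons 4 n52_8 <| .cons 7 n52_9 <| .cons 14 n52_10 <| .cons 28 n52_11 <| .cons 56 n52_12 <| .nil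
noncomputable def La54 : List Net := n52 :: La53
theorem ga54 : Good 112 (H79.RepHS.ρ).range La54 :=
  Good.word (m := 7) (by norm_num) ga53 (w := [104,107,105,101,102,100,96,96,90,86,90]) (by decide +kernel)
noncomputable def Tn52 : H88.Tr := (.leaf (nat_lit 0) (nat_lit 0xfff9080544dcc001934f52a960230000fff62378b12232aa24d04a55801000000003e5ae26d4024e8faa25f690530000ff0061d8ed70cbd63f1c954043e30000f0fc51b3624f89a2e5380cb4f6e20000ccc66a7c77ce0114ceb4741b272e0000aaafd26c4e649b637c5c008bb959))
noncomputable def ln52 : Lt := ⟨Tn52, n52⟩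
theorem on52 : OK 112 (H79.RepHS.ρ).range ln52 := OK.of (m := 7) (by norm_num) (H := 128) ga54 (by decide +kernel)
noncomputable def n53_0 : ℕ := 0x52b84e513219e8
noncomputable def n53_1 : ℕ := 0x3b117200000008d40272
noncomputable def n53_2 : ℕ := 0x26e80002d0c00025d20002756
noncomputable def n53_3 : ℕ := 0x1900520178044010804c01c0074
noncomputable def n53_4 : ℕ := 0xa10000001038400102000014206
noncomputable def n53_5 : ℕ := 0x40800000000000080022400800
noncomputable def n53_6 : ℕ := 0x84481502502140a102042250805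
noncomputable def n53_7 : ℕ := 0x20440020044193260c8132404882
noncomputable def n53_8 : ℕ := 0x20808206181850a102020a10186
noncomputable def n53_9 : ℕ := 0x405201ac000000802e004000f
noncomputable def n53_10 : ℕ := 0x320100031b900006830002f0e
noncomputable def n53_11 : ℕ := 0x4395c850000000a80a7e9
noncomputable def n53_12 : ℕ := 0x52b7317a8b5fba
noncomputable def n53 : Net := .cons 56 n53_0 <| .cons 28 n53_1 <| .cons 14 n53_2 <| .cons 7 n53_3 <| .cons 4 n53_4 <| .cons 2 n53_5 <| .cons 1 n53_6 <| .cons 2 n53_7 <| .cons 4 n53_8 <| .cons 7 n53_9 <| .cons 14 n53_10 <| .cons 28 n53_11 <| .cons 56 n53_12 <| .nil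
noncomputable def La55 : List Net := n53 :: La54
theorem ga55 : Good 112 (H79.RepHS.ρ).range La55 :=
  Good.word (m := 7) (by norm_num) ga54 (w := [106,108,106,102,101,102,98,97,93]) (by decide +kernel)
noncomputable def Tn53 : H88.Tr := (.leaf (nat_lit 0) (nat_lit 0xfffb68154265b06460a05d9842020000fff8b3c0311a4989876c202302d000000005462015ad57095f877b9aa4c30000ff0315935d8fd350b10ae94b69310000f0f383d4e6494747c1c793ccb1700000cccd2f547a165d1832861557f51e0000aaa663ff18d446ab1169f5c9708a))
noncomputable def ln53 : Lt := ⟨Tn53, n53⟩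
theorem on53 : OK 112 (H79.RepHS.ρ).range ln53 := OK.of (m := 7) (by norm_num) (H := 128) ga55 (by decide +kernel)
noncomputable def n54_0 : ℕ := 0x5695b329b1018
noncomputable def n54_1 : ℕ := 0xbf7dc1000000000417d40
noncomputable def n54_2 : ℕ := 0x20000029200016b00002a40
noncomputable def n54_3 : ℕ := 0x1200400120018009803200e000a
noncomputable def n54_4 : ℕ := 0x81818402001000000202040c001
noncomputable def n54_5 : ℕ := 0x440800000000000080000000002
noncomputable def n54_6 : ℕ := 0x254a00084480500502800054001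
noncomputable def n54_7 : ℕ := 0x64088120000030008193040c992
noncomputable def n54_8 : ℕ := 0xa08304060c10006002070c0c003
noncomputable def n54_9 : ℕ := 0x180460120038009803200e000a
noncomputable def n54_10 : ℕ := 0xfe6000029200016b00002a40
noncomputable def n54_11 : ℕ := 0xbf7dc1000000000417d40
noncomputable def n54_12 : ℕ := 0x5695b329b1018
noncomputable def n54 : Net := .cons 56 n54_0 <| .cons 28 n54_1 <| .cons 14 n54_2 <| .cons 7 n54_3 <| .cons 4 n54_4 <| .cons 2 n54_5 <| .cons 1 n54_6 <| .cons 2 n54_7 <| .cons 4 n54_8 <| .cons 7 n54_9 <| .cons 14 n54_10 <| .cons 28 n54_11 <| .cons 56 n54_12 <| .nil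
noncomputable def La56 : List Net := n54 :: La55
theorem ga56 : Good 112 (H79.RepHS.ρ).range La56 :=
  Good.word (m := 7) (by norm_num) ga55 (w := [108,110,106,101,101,101,90,95,88]) (by decide +kernel)
noncomputable def Tn54 : H88.Tr := (.leaf (nat_lit 0) (nat_lit 0xfff9a7812fb410246002389a20e10000fff14a040043e79b8945974982020000000ee8cf4098d0ff19f988a628620000ff0ac0234f9774619fc96400dfa30000f0f2ddf1c02f51c38522a5e178f10000ccc486d6a68155ed9c26e39ecc8e0000aaac9eebca660cf9a7095b72228a))
noncomputable def ln54 : Lt := ⟨Tn54, n54⟩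
theorem on54 : OK 112 (H79.RepHS.ρ).range ln54 := OK.of (m := 7) (by norm_num) (H := 128) ga56 (by decide +kernel)
noncomputable def n55_0 : ℕ := 0x60651dec3b4940
noncomputable def n55_1 : ℕ := 0x63941340000000015e4b4
noncomputable def n55_2 : ℕ := 0x3d0c00021580002bc400033e4
noncomputable def n55_3 : ℕ := 0xc0004017004200800200098008
noncomputable def n55_4 : ℕ := 0x614304000410008181000218001
noncomputable def n55_5 : ℕ := 0x400102
noncomputable def n55_6 : ℕ := 0x20140942014a0122400810214201
noncomputable def n55_7 : ℕ := 0x2448800244c08006040832200900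
noncomputable def n55_8 : ℕ := 0x6043020004104021c3010a18206
noncomputable def n55_9 : ℕ := 0x14002500780780080067013406e
noncomputable def n55_10 : ℕ := 0x25b60001c4a00029960000ee2
noncomputable def n55_11 : ℕ := 0x63f30bb00000000dc8f76
noncomputable def n55_12 : ℕ := 0x606b278bbdb913
noncomputable def n55 : Net := .cons 56 n55_0 <| .cons 28 n55_1 <| .cons 14 n55_2 <| .cons 7 n55_3 <| .cons 4 n55_4 <| .cons 2 n55_5 <| .cons 1 n55_6 <| .cons 2 n55_7 <| .cons 4 n55_8 <| .cons 7 n55_9 <| .cons 14 n55_10 <| .cons 28 n55_11 <| .cons 56 n55_12 <| .nil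
noncomputable def La57 : List Net := n55 :: La56
theorem ga57 : Good 112 (H79.RepHS.ρ).range La57 :=
  Good.word (m := 7) (by norm_num) ga56 (w := [110,113,108,104,109,102,102,92,95]) (by decide +kernel)
noncomputable def Tn55 : H88.Tr := (.leaf (nat_lit 0) (nat_lit 0xfff5d908e3648c3410a091a922030000fff326441c125681a5654ac480d00000000e469a568d28490d5e9b6f03930000ff0e9c25a14f11c807d7692fce410000f0f217d4fceb498e7710b02953e00000ccc272c593ac7565869e9b89b46c0000aaae907d36979947b9bc50957218))
noncomputable def ln55 : Lt := ⟨Tn55, n55⟩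
theorem on55 : OK 112 (H79.RepHS.ρ).range ln55 := OK.of (m := 7) (by norm_num) (H := 128) ga57 (by decide +kernel)
noncomputable def n56_0 : ℕ := 0xb2877b1af190cc
noncomputable def n56_1 : ℕ := 0x89a938c0000000767f1b8
noncomputable def n56_2 : ℕ := 0x9d00002dea00017900000b12
noncomputable def n56_3 : ℕ := 0x80320058058012002001e805c
noncomputable def n56_4 : ℕ := 0x808084080800204000000810102
noncomputable def n56_5 : ℕ := 0x100200801200000102000010
noncomputable def n56_6 : ℕ := 0xa40a00200409120000952844210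
noncomputable def n56_7 : ℕ := 0x2208001224009326001102004911
noncomputable def n56_8 : ℕ := 0x80828500000010a001070418382
noncomputable def n56_9 : ℕ := 0x10005301b405f0118048002801b
noncomputable def n56_10 : ℕ := 0x153000204c0000e8c0003b53
noncomputable def n56_11 : ℕ := 0xb9acfff0000000320d820
noncomputable def n56_12 : ℕ := 0xb28158379cb21c
noncomputable def n56 : Net := .cons 56 n56_0 <| .cons 28 n56_1 <| .cons 14 n56_2 <| .cons 7 n56_3 <| .cons 4 n56_4 <| .cons 2 n56_5 <| .cons 1 n56_6 <| .cons 2 n56_7 <| .cons 4 n56_8 <| .cons 7 n56_9 <| .cons 14 n56_10 <| .cons 28 n56_11 <| .cons 56 n56_12 <| .nil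
noncomputable def La58 : List Net := n56 :: La57
theorem ga58 : Good 112 (H79.RepHS.ρ).range La58 :=
  Good.word (m := 7) (by norm_num) ga57 (w := [112,112,111,107,110,102,101,94,99,97]) (by decide +kernel)
noncomputable def Tn56 : H88.Tr := (.leaf (nat_lit 0) (nat_lit 0xfff40cc508761681688e515e00a20000fff9030225e0e97e84013601b0130000000bc4675694b4f914bdc8a491610000ff0568c528185ae74f718ce1dd310000f0fad1f3e51d2360c96e052fd1300000cccffd4682f6472d405a8213e55d0000aaade7d1ff4c08bd62c592bb1208))
noncomputable def ln56 : Lt := ⟨Tn56, n56⟩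
theorem on56 : OK 112 (H79.RepHS.ρ).range ln56 := OK.of (m := 7) (by norm_num) (H := 128) ga58 (by decide +kernel)
noncomputable def n57_0 : ℕ := 0x286e3e6dda2c20
noncomputable def n57_1 : ℕ := 0x1d9a0e00000000a28ac70
noncomputable def n57_2 : ℕ := 0xe800013200002ba20000f80
noncomputable def n57_3 : ℕ := 0xd8036012006a015804000e0058
noncomputable def n57_4 : ℕ := 0x4041810008183820400006
noncomputable def n57_5 : ℕ := 0x800000800000081022008000
noncomputable def n57_6 : ℕ := 0x2214a150010a1002100912010881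
noncomputable def n57_7 : ℕ := 0x400800060c00006480802408083
noncomputable def n57_8 : ℕ := 0x4041040010380081c285041c004
noncomputable def n57_9 : ℕ := 0xe005e01a806e00d8072016007b
noncomputable def n57_10 : ℕ := 0x5e10001b2100027c60002e10
noncomputable def n57_11 : ℕ := 0x159cb5c0000000e60d441
noncomputable def n57_12 : ℕ := 0x286dbe5e82aca3
noncomputable def n57 : Net := .cons 56 n57_0 <| .cons 28 n57_1 <| .cons 14 n57_2 <| .cons 7 n57_3 <| .cons 4 n57_4 <| .cons 2 n57_5 <| .cons 1 n57_6 <| .cons 2 n57_7 <| .cons 4 n57_8 <| .cons 7 n57_9 <| .cons 14 n57_10 <| .cons 28 n57_11 <| .cons 56 n57_12 <| .nil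
noncomputable def La59 : List Net := n57 :: La58
theorem ga59 : Good 112 (H79.RepHS.ρ).range La59 :=
  Good.word (m := 7) (by norm_num) ga58 (w := [114,116,114,113,108,113,105,103,96,100,99,95]) (by decide +kernel)
noncomputable def Tn57 : H88.Tr := (.leaf (nat_lit 0) (nat_lit 0xfffc9cd4c42a000df8b0869860020000fff2432e2384c9c221c1694280e20000000657409b7c54bf110dd4f1b1810000ff03f5b94c4ad177860de48a86310000f0fa331aea0be6781f559aec21300000ccc3ee564fe07fc914d4d283542c0000aaaf826669db865fa629c3636a88))
noncomputable def ln57 : Lt := ⟨Tn57, n57⟩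
theorem on57 : OK 112 (H79.RepHS.ρ).range ln57 := OK.of (m := 7) (by norm_num) (H := 128) ga59 (by decide +kernel)
noncomputable def n58_0 : ℕ := 0xd0181f63275cbe
noncomputable def n58_1 : ℕ := 0x4e5546000000004f8a6e6
noncomputable def n58_2 : ℕ := 0x1ce60003ac200032e20001788
noncomputable def n58_3 : ℕ := 0x8005000e803a01200400030018
noncomputable def n58_4 : ℕ := 0xc000040e0c00402001000200200
noncomputable def n58_5 : ℕ := 0x100000800220008002000000
noncomputable def n58_6 : ℕ := 0x24088528040142a04a112a04094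
noncomputable def n58_7 : ℕ := 0x2044100200400106401820444812
noncomputable def n58_8 : ℕ := 0xc140800e0c00600003800814086
noncomputable def n58_9 : ℕ := 0x15805700e801800e406e0124050
noncomputable def n58_10 : ℕ := 0x2d7300032a20003be100014c0
noncomputable def n58_11 : ℕ := 0x4e5df3100000004888df0
noncomputable def n58_12 : ℕ := 0xd01299603f143c
noncomputable def n58 : Net := .cons 56 n58_0 <| .cons 28 n58_1 <| .cons 14 n58_2 <| .cons 7 n58_3 <| .cons 4 n58_4 <| .cons 2 n58_5 <| .cons 1 n58_6 <| .cons 2 n58_7 <| .cons 4 n58_8 <| .cons 7 n58_9 <| .cons 14 n58_10 <| .cons 28 n58_11 <| .cons 56 n58_12 <| .nil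
noncomputable def La60 : List Net := n58 :: La59
theorem ga60 : Good 112 (H79.RepHS.ρ).range La60 :=
  Good.word (m := 7) (by norm_num) ga59 (w := [112,115,112,104,107,107,102,101,96]) (by decide +kernel)
noncomputable def Tn58 : H88.Tr := (.leaf (nat_lit 0) (nat_lit 0xfff7049e1c01908f10b87a9218020000fff41a6020c6e96089428369c8d00000000bff287b374597308e843900e20000ff0827335e5271afa7210588f7c20000f0f22415d187176ae5d70d7f11620000ccce6f3c11420fd1cdfad681b50c0000aaaa5ceb487e86699e1046d770ea))
noncomputable def ln58 : Lt := ⟨Tn58, n58⟩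
theorem on58 : OK 112 (H79.RepHS.ρ).range ln58 := OK.of (m := 7) (by norm_num) (H := 128) ga60 (by decide +kernel)
noncomputable def n59_0 : ℕ := 0x4d88ba37d22024
noncomputable def n59_1 : ℕ := 0x8bced38000000061d8200
noncomputable def n59_2 : ℕ := 0x240800020a20003ac20001340
noncomputable def n59_3 : ℕ := 0x1c00040038038005003c0140070
noncomputable def n59_4 : ℕ := 0xa102040e04102040c2060a10202
noncomputable def n59_5 : ℕ := 0x2008800000000200000020000810
noncomputable def n59_6 : ℕ := 0x2010800024080102142942204810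
noncomputable def n59_7 : ℕ := 0x400810240800004048020604800
noncomputable def n59_8 : ℕ := 0x8180060e141010e0c0070004307
noncomputable def n59_9 : ℕ := 0x1c0007011c000016004c0144070
noncomputable def n59_10 : ℕ := 0x161900039ab000322300033c3
noncomputable def n59_11 : ℕ := 0xcfc29b90000000d3988c7
noncomputable def n59_12 : ℕ := 0x4d883a3bd0a825
noncomputable def n59 : Net := .cons 56 n59_0 <| .cons 28 n59_1 <| .cons 14 n59_2 <| .cons 7 n59_3 <| .cons 4 n59_4 <| .cons 2 n59_5 <| .cons 1 n59_6 <| .cons 2 n59_7 <| .cons 4 n59_8 <| .cons 7 n59_9 <| .cons 14 n59_10 <| .cons 28 n59_11 <| .cons 56 n59_12 <| .nil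
noncomputable def La61 : List Net := n59 :: La60
theorem ga61 : Good 112 (H79.RepHS.ρ).range La61 :=
  Good.word (m := 7) (by norm_num) ga60 (w := [121,119,120,118,117,117,117,107,111,106,100,105,103,99]) (by decide +kernel)
noncomputable def Tn59 : H88.Tr := (.leaf (nat_lit 0) (nat_lit 0xfff0c4ce8432a82e12a84cc342600000fffe291068204e59ed4e9100a08100000002c74c5b8556a7e6109e5c7ac00000ff09ce01cd99e3f60f3496a1ad020000f0f9180aed057586fbc1357748530000ccc037ce90ac75e589ebd4c0bc0f0000aaa5982676bb37e93a167cc46189))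
noncomputable def ln59 : Lt := ⟨Tn59, n59⟩
theorem on59 : OK 112 (H79.RepHS.ρ).range ln59 := OK.of (m := 7) (by norm_num) (H := 128) ga61 (by decide +kernel)
noncomputable def n60_0 : ℕ := 0xe3412022490bc0
noncomputable def n60_1 : ℕ := 0x17950b000000000c63980
noncomputable def n60_2 : ℕ := 0x38000048000012400002288
noncomputable def n60_3 : ℕ := 0x13002401c00420140058002001a
noncomputable def n60_4 : ℕ := 0xe00180080c10000180020000000
noncomputable def n60_5 : ℕ := 0x8000000080000400000008000
noncomputable def n60_6 : ℕ := 0x2a04a80084089020402100004201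
noncomputable def n60_7 : ℕ := 0x648180000808200480000008000
noncomputable def n60_8 : ℕ := 0x6083870a0c28008180060200180
noncomputable def n60_9 : ℕ := 0x1b004001c00420140059013001a
noncomputable def n60_10 : ℕ := 0x105e000248000013400002288
noncomputable def n60_11 : ℕ := 0x17950b000000000c63980
noncomputable def n60_12 : ℕ := 0xe3412023494bc0
noncomputable def n60 : Net := .cons 56 n60_0 <| .cons 28 n60_1 <| .cons 14 n60_2 <| .cons 7 n60_3 <| .cons 4 n60_4 <| .cons 2 n60_5 <| .cons 1 n60_6 <| .cons 2 n60_7 <| .cons 4 n60_8 <| .cons 7 n60_9 <| .cons 14 n60_10 <| .cons 28 n60_11 <| .cons 56 n60_12 <| .nil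
noncomputable def La62 : List Net := n60 :: La61
theorem ga62 : Good 112 (H79.RepHS.ρ).range La62 :=
  Good.word (m := 7) (by norm_num) ga61 (w := [123,120,120,122,116,116,115,109,112,102,106,102,106,101]) (by decide +kernel)
noncomputable def Tn60 : H88.Tr := (.leaf (nat_lit 0) (nat_lit 0xfffccb2ccfbb0061402c014940820000fff220d20094579e3ce33012014300000000c7c0366cf7f6e20cbe8171900000ff00cb158c43ed8a1c047edfafc00000f0fed0d9a009f0f84bc4f1eea0b10000ccc4f873beb1546535c09d83b70c0000aaa751ae9d38322ab0aefad28b38))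
noncomputable def ln60 : Lt := ⟨Tn60, n60⟩
theorem on60 : OK 112 (H79.RepHS.ρ).range ln60 := OK.of (m := 7) (by norm_num) (H := 128) ga62 (by decide +kernel)
noncomputable def n61_0 : ℕ := 0x3e3132f00ba100
noncomputable def n61_1 : ℕ := 0x568881800000000c37290
noncomputable def n61_2 : ℕ := 0x254000010c4000103a0000402
noncomputable def n61_3 : ℕ := 0x18800000b005e00a00000040074
noncomputable def n61_4 : ℕ := 0x100800c0018208000040010202
noncomputable def n61_5 : ℕ := 0x2040100200011020008100008010
noncomputable def n61_6 : ℕ := 0x2054084281089420448900010a91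
noncomputable def n61_7 : ℕ := 0x2040100200011024008120008181
noncomputable def n61_8 : ℕ := 0x2101800e0c38208102000210205
noncomputable def n61_9 : ℕ := 0x18800100f405e00a006400c0074
noncomputable def n61_10 : ℕ := 0x274000010c4000103a0000402
noncomputable def n61_11 : ℕ := 0x568881800000000c37290
noncomputable def n61_12 : ℕ := 0x3e3132f00ba100
noncomputable def n61 : Net := .cons 56 n61_0 <| .cons 28 n61_1 <| .cons 14 n61_2 <| .cons 7 n61_3 <| .cons 4 n61_4 <| .cons 2 n61_5 <| .cons 1 n61_6 <| .cons 2 n61_7 <| .cons 4 n61_8 <| .cons 7 n61_9 <| .cons 14 n61_10 <| .cons 28 n61_11 <| .cons 56 n61_12 <| .nil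
noncomputable def La63 : List Net := n61 :: La62
theorem ga63 : Good 112 (H79.RepHS.ρ).range La63 :=
  Good.word (m := 7) (by norm_num) ga62 (w := [122,124,124,117,118,111,114,111,114]) (by decide +kernel)
noncomputable def Tn61 : H88.Tr := (.leaf (nat_lit 0) (nat_lit 0xfff8c013005e8071bb1094cb48c10000fff70044e730778e66f24100022000000000cfd8bd487fc61028faee48820000ff03e9244e20f9374d0cfe89ad900000f0fedbf6a42178f8c1c12045d9930000ccc0f7e30e33ccd455f05d6a860d0000aaa3b709267422baa8a77fd6c909))
noncomputable def ln61 : Lt := ⟨Tn61, n61⟩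
theorem on61 : OK 112 (H79.RepHS.ρ).range ln61 := OK.of (m := 7) (by norm_num) (H := 128) ga63 (by decide +kernel)
noncomputable def n62_0 : ℕ := 0x2d3718956569d6
noncomputable def n62_1 : ℕ := 0x54a6bc00000000c4551f6
noncomputable def n62_2 : ℕ := 0xd140003f2200002a00000252
noncomputable def n62_3 : ℕ := 0x1a000601c001000280240080020
noncomputable def n62_4 : ℕ := 0xc10081081c10000182000a00000
noncomputable def n62_5 : ℕ := 0x408002004800004088102400010
noncomputable def n62_6 : ℕ := 0x28442042a4480008048912244011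
noncomputable def n62_7 : ℕ := 0x48190020881204400102400810
noncomputable def n62_8 : ℕ := 0xc142810604180001c0820a04002
noncomputable def n62_9 : ℕ := 0x108066003004000300350020066
noncomputable def n62_10 : ℕ := 0x1f5a000366800022b700018e1
noncomputable def n62_11 : ℕ := 0x7091cb80000000849f240
noncomputable def n62_12 : ℕ := 0x2d31b8ce216286
noncomputable def n62 : Net := .cons 56 n62_0 <| .cons 28 n62_1 <| .cons 14 n62_2 <| .cons 7 n62_3 <| .cons 4 n62_4 <| .cons 2 n62_5 <| .cons 1 n62_6 <| .cons 2 n62_7 <| .cons 4 n62_8 <| .cons 7 n62_9 <| .cons 14 n62_10 <| .cons 28 n62_11 <| .cons 56 n62_12 <| .nil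
noncomputable def La64 : List Net := n62 :: La63
theorem ga64 : Good 112 (H79.RepHS.ρ).range La64 :=
  Good.word (m := 7) (by norm_num) ga63 (w := [125,126,125,123,118,123,115,113,108,110,110]) (by decide +kernel)
noncomputable def Tn62 : H88.Tr := (.leaf (nat_lit 0) (nat_lit 0xfff28de08eb09007b88058050b510000fffd504c204703b8155e90e0c22000000000d6a6792cb7a20da0e7cb68610000ff07ff13f983d106271241b7e4020000f0f8e894f31f708ecd7b480c38e20000ccc483cfb811d481bceea0ccf58f0000aaa5398bf4f6fe88138b5b494988))
noncomputable def ln62 : Lt := ⟨Tn62, n62⟩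
theorem on62 : OK 112 (H79.RepHS.ρ).range ln62 := OK.of (m := 7) (by norm_num) (H := 128) ga64 (by decide +kernel)
noncomputable def n63_0 : ℕ := 0x8a5b2ca1010080
noncomputable def n63_1 : ℕ := 0x58489280000000ad34920
noncomputable def n63_2 : ℕ := 0x2098000042a0002d100000480
noncomputable def n63_3 : ℕ := 0x1c00120000000014002e0000012
noncomputable def n63_4 : ℕ := 0x810202000800408081840010100
noncomputable def n63_5 : ℕ := 0x440000000001004000100000800
noncomputable def n63_6 : ℕ := 0x25428108400900800a110010a91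
noncomputable def n63_7 : ℕ := 0x2440010000801224089920000800
noncomputable def n63_8 : ℕ := 0x810282020c004081c3060610100
noncomputable def n63_9 : ℕ := 0x1c0012004401001400010000012
noncomputable def n63_10 : ℕ := 0x2098000242a0002d100000490
noncomputable def n63_11 : ℕ := 0x5a08b2a0000000ad34920
noncomputable def n63_12 : ℕ := 0x8a5b2da1810080
noncomputable def n63 : Net := .cons 56 n63_0 <| .cons 28 n63_1 <| .cons 14 n63_2 <| .cons 7 n63_3 <| .cons 4 n63_4 <| .cons 2 n63_5 <| .cons 1 n63_6 <| .cons 2 n63_7 <| .cons 4 n63_8 <| .cons 7 n63_9 <| .cons 14 n63_10 <| .cons 28 n63_11 <| .cons 56 n63_12 <| .nil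
noncomputable def La65 : List Net := n63 :: La64
theorem ga65 : Good 112 (H79.RepHS.ρ).range La65 :=
  Good.word (m := 7) (by norm_num) ga64 (w := [129,126,126,128,125,123,124,115,117,110,112,108,112,106]) (by decide +kernel)
noncomputable def Tn63 : H88.Tr := (.leaf (nat_lit 0) (nat_lit 0xfffe246a75f134881825d0c002800000fff8c0148b8ecb6327c26502002100000001eff00864f3e6f2089ec913b00000ff0386b57e005da74f09aaf2cc820000f0f5fbfe5412f0f14043302699e30000cccd5f426aac54ec1647374acc5c0000aaac733907669e33caa79b4af00a))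
noncomputable def ln63 : Lt := ⟨Tn63, n63⟩
theorem on63 : OK 112 (H79.RepHS.ρ).range ln63 := OK.of (m := 7) (by norm_num) (H := 128) ga65 (by decide +kernel)
noncomputable def n64_0 : ℕ := 0x383f699a660a04
noncomputable def n64_1 : ℕ := 0x836dc8000000004363d52
noncomputable def n64_2 : ℕ := 0x32ec0000a840001a180003088
noncomputable def n64_3 : ℕ := 0x1f804c004000c00880020018024
noncomputable def n64_4 : ℕ := 0x5001000000102020010104
noncomputable def n64_5 : ℕ := 0x2408000040010024000100400000
noncomputable def n64_6 : ℕ := 0x2844285080020028542940810810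
noncomputable def n64_7 : ℕ := 0x24080820440103240c0100600801
noncomputable def n64_8 : ℕ := 0xe10280001800002102030a14384
noncomputable def n64_9 : ℕ := 0x1f8013006407c00880020090026
noncomputable def n64_10 : ℕ := 0x32ec0000a840001a180001f0e
noncomputable def n64_11 : ℕ := 0x836dc8800000004363d72
noncomputable def n64_12 : ℕ := 0x383f699e660a04
noncomputable def n64 : Net := .cons 56 n64_0 <| .cons 28 n64_1 <| .cons 14 n64_2 <| .cons 7 n64_3 <| .cons 4 n64_4 <| .cons 2 n64_5 <| .cons 1 n64_6 <| .cons 2 n64_7 <| .cons 4 n64_8 <| .cons 7 n64_9 <| .cons 14 n64_10 <| .cons 28 n64_11 <| .cons 56 n64_12 <| .nil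
noncomputable def La66 : List Net := n64 :: La65
theorem ga66 : Good 112 (H79.RepHS.ρ).range La66 :=
  Good.word (m := 7) (by norm_num) ga65 (w := [129,130,130,128,128,123,123,118,116,110,115,113]) (by decide +kernel)
noncomputable def Tn64 : H88.Tr := (.leaf (nat_lit 0) (nat_lit 0xfffc26d02589457a38006da800860000fff22183987426808768821fc0290000000f5366d6f29846a1518f340a8e0000ff0a5055caad39c849e8fb446c560000f0fc0729467e4bbcc3822b25df140000ccc7b79c3aa28b91dc88b514e3870000aaad3c6b781a5d838fe3d0e484a6))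
noncomputable def ln64 : Lt := ⟨Tn64, n64⟩
theorem on64 : OK 112 (H79.RepHS.ρ).range ln64 := OK.of (m := 7) (by norm_num) (H := 128) ga66 (by decide +kernel)
noncomputable def n65_0 : ℕ := 0xe3d9070a8a88c0
noncomputable def n65_1 : ℕ := 0x89155480000000bb99618
noncomputable def n65_2 : ℕ := 0x21e000103a000228e0001b0e
noncomputable def n65_3 : ℕ := 0x1e004201d002401700120018014
noncomputable def n65_4 : ℕ := 0xc00382080418600102000200006
noncomputable def n65_5 : ℕ := 0x800200011000001100008010
noncomputable def n65_6 : ℕ := 0xa008012a0489000142150a10810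
noncomputable def n65_7 : ℕ := 0x444980024810200049120404112
noncomputable def n65_8 : ℕ := 0x410384000018708141830200004
noncomputable def n65_9 : ℕ := 0xe4056019c0320140067000001e
noncomputable def n65_10 : ℕ := 0x22b900015af000222e0001d0c
noncomputable def n65_11 : ℕ := 0x6b0c5c00000000bf99618
noncomputable def n65_12 : ℕ := 0xe3df06288a88c8
noncomputable def n65 : Net := .cons 56 n65_0 <| .cons 28 n65_1 <| .cons 14 n65_2 <| .cons 7 n65_3 <| .cons 4 n65_4 <| .cons 2 n65_5 <| .cons 1 n65_6 <| .cons 2 n65_7 <| .cons 4 n65_8 <| .cons 7 n65_9 <| .cons 14 n65_10 <| .cons 28 n65_11 <| .cons 56 n65_12 <| .nil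
noncomputable def La67 : List Net := n65 :: La66
theorem ga67 : Good 112 (H79.RepHS.ρ).range La67 :=
  Good.word (m := 7) (by norm_num) ga66 (w := [129,124,128,120,123,112,116,112,116,110]) (by decide +kernel)
noncomputable def Tn65 : H88.Tr := (.leaf (nat_lit 0) (nat_lit 0xfff10a9a0c720ec3ed03a84018120000fff97403730df0301284b42280e0000000065385eb80fa57de29498e0a380000ff0469a9ec47cba1722111d1a7dc0000f0facce0816be82ffd3a50a333600000ccc6836a431bc3d76aa6822ed7d20000aaae3a6c3921af1a76e8bbf83082))
noncomputable def ln65 : Lt := ⟨Tn65, n65⟩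
theorem on65 : OK 112 (H79.RepHS.ρ).range ln65 := OK.of (m := 7) (by norm_num) (H := 128) ga67 (by decide +kernel)
noncomputable def n66_0 : ℕ := 0x3314b1ea5a14b8
noncomputable def n66_1 : ℕ := 0x6106d1800000006b9ac76
noncomputable def n66_2 : ℕ := 0x1b020000d340001a140003070
noncomputable def n66_3 : ℕ := 0xd0024006002c0060034000002c
noncomputable def n66_4 : ℕ := 0x100000e0020200180030404203
noncomputable def n66_5 : ℕ := 0x440002240000200000020440800
noncomputable def n66_6 : ℕ := 0x2400112204a1128400840844a10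
noncomputable def n66_7 : ℕ := 0x40800260c90202041010048802
noncomputable def n66_8 : ℕ := 0xc2820e0c18100180030804201
noncomputable def n66_9 : ℕ := 0xd0045016801b01e001901a8008
noncomputable def n66_10 : ℕ := 0x1340000018f000083e0001278
noncomputable def n66_11 : ℕ := 0x61107f100000002f1be5e
noncomputable def n66_12 : ℕ := 0x3315efb0b106a9
noncomputable def n66 : Net := .cons 56 n66_0 <| .cons 28 n66_1 <| .cons 14 n66_2 <| .cons 7 n66_3 <| .cons 4 n66_4 <| .cons 2 n66_5 <| .cons 1 n66_6 <| .cons 2 n66_7 <| .cons 4 n66_8 <| .cons 7 n66_9 <| .cons 14 n66_10 <| .cons 28 n66_11 <| .cons 56 n66_12 <| .nil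
noncomputable def La68 : List Net := n66 :: La67
theorem ga68 : Good 112 (H79.RepHS.ρ).range La68 :=
  Good.word (m := 7) (by norm_num) ga67 (w := [135,135,132,131,128,125,122,118,117,113]) (by decide +kernel)
noncomputable def Tn66 : H88.Tr := (.leaf (nat_lit 0) (nat_lit 0xfff2d603115010eb2e641ae910200000fff52ca4fe8fcd10c02ca10200800000000db36ccad1965d9ed2560602310000ff09e1e6c09ab8c06a8a3d70f7320000f0ff98944907a7ec63d8c228727a0000cccdeac13b98c16dc0331ba4d64f0000aaacec99e4409e39a27b9579a81b))
noncomputable def ln66 : Lt := ⟨Tn66, n66⟩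
theorem on66 : OK 112 (H79.RepHS.ρ).range ln66 := OK.of (m := 7) (by norm_num) (H := 128) ga68 (by decide +kernel)
noncomputable def n67_0 : ℕ := 0x81caafcabe56c4
noncomputable def n67_1 : ℕ := 0x50713a00000004a56382
noncomputable def n67_2 : ℕ := 0x26340000e9400009d400025aa
noncomputable def n67_3 : ℕ := 0x1b004a0148046006802001f803a
noncomputable def n67_4 : ℕ := 0x8043040e081060c0c3800410184
noncomputable def n67_5 : ℕ := 0x2008000200001000080000000800
noncomputable def n67_6 : ℕ := 0x200421020048150044a000a10885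
noncomputable def n67_7 : ℕ := 0x20401012604810240c9820440181
noncomputable def n67_8 : ℕ := 0x4043870c082010a1c1030800287
noncomputable def n67_9 : ℕ := 0x1a000a0148031001800e007801b
noncomputable def n67_10 : ℕ := 0x6340002ab80001dde0001e25
noncomputable def n67_11 : ℕ := 0x8544c3000000005a7db63
noncomputable def n67_12 : ℕ := 0x81c8eecd100c8a
noncomputable def n67 : Net := .cons 56 n67_0 <| .cons 28 n67_1 <| .cons 14 n67_2 <| .cons 7 n67_3 <| .cons 4 n67_4 <| .cons 2 n67_5 <| .cons 1 n67_6 <| .cons 2 n67_7 <| .cons 4 n67_8 <| .cons 7 n67_9 <| .cons 14 n67_10 <| .cons 28 n67_11 <| .cons 56 n67_12 <| .nil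
noncomputable def La69 : List Net := n67 :: La68
theorem ga69 : Good 112 (H79.RepHS.ρ).range La69 :=
  Good.word (m := 7) (by norm_num) ga68 (w := [137,137,134,131,128,133,122,122,124,127,121,118,121,115]) (by decide +kernel)
noncomputable def Tn67 : H88.Tr := (.leaf (nat_lit 0) (nat_lit 0xfff3812280a48ac8d2064ecc228e0000fff45859411b5c063185a030887400000000d70cc306626ae57395607cbb0000ff085826ea4514cc6e28e76dddd00000f0f8fdab6b3f6619c4704c941b400000ccc29539b129909b19b8d642ff5d0000aaa48ea0eb8f9b4f32ca0b175a39))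
noncomputable def ln67 : Lt := ⟨Tn67, n67⟩
theorem on67 : OK 112 (H79.RepHS.ρ).range ln67 := OK.of (m := 7) (by norm_num) (H := 128) ga69 (by decide +kernel)
noncomputable def n68_0 : ℕ := 0xa0b6a0a902d432
noncomputable def n68_1 : ℕ := 0x48d6cc80000000eb0b5c8
noncomputable def n68_2 : ℕ := 0x27b2000028600033ae0002408
noncomputable def n68_3 : ℕ := 0xc000c0098068005006a01f0004
noncomputable def n68_4 : ℕ := 0x2081000a00084060c2020800283
noncomputable def n68_5 : ℕ := 0x400012040010000000122000910
noncomputable def n68_6 : ℕ := 0x21021408048940a500112010891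
noncomputable def n68_7 : ℕ := 0x200c10302041120404800260c903
noncomputable def n68_8 : ℕ := 0xc083040400102041c2000a00386
noncomputable def n68_9 : ℕ := 0x2806800a005b00cc07900dc002
noncomputable def n68_10 : ℕ := 0x5a90002e2a00014bd00022d7
noncomputable def n68_11 : ℕ := 0x48e13ae0000000bc0b506
noncomputable def n68_12 : ℕ := 0xa0b9a59c50c6d3
noncomputable def n68 : Net := .cons 56 n68_0 <| .cons 28 n68_1 <| .cons 14 n68_2 <| .cons 7 n68_3 <| .cons 4 n68_4 <| .cons 2 n68_5 <| .cons 1 n68_6 <| .cons 2 n68_7 <| .cons 4 n68_8 <| .cons 7 n68_9 <| .cons 14 n68_10 <| .cons 28 n68_11 <| .cons 56 n68_12 <| .nil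
noncomputable def La70 : List Net := n68 :: La69
theorem ga70 : Good 112 (H79.RepHS.ρ).range La70 :=
  Good.word (m := 7) (by norm_num) ga69 (w := [137,139,139,136,133,130,135,125,129,127,128,121,122]) (by decide +kernel)
noncomputable def Tn68 : H88.Tr := (.leaf (nat_lit 0) (nat_lit 0xfffde8544050e56454102100a3d60000fffa123a0d2d080b03f452e4480400000002f18c1534035dbd681f4db0d90000ff0793c56583a1a722c31dae50da0000f0f6e48e333ae415a6ef08c84f320000ccce7f6d240a9b7cc36008bb3f440000aaa1baf3a36c95961fe95901350e))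
noncomputable def ln68 : Lt := ⟨Tn68, n68⟩
theorem on68 : OK 112 (H79.RepHS.ρ).range ln68 := OK.of (m := 7) (by norm_num) (H := 128) ga70 (by decide +kernel)
noncomputable def n69_0 : ℕ := 0x55a2821e530e00
noncomputable def n69_1 : ℕ := 0x472b580000000040d04f6
noncomputable def n69_2 : ℕ := 0x350800035c000002880003f3c
noncomputable def n69_3 : ℕ := 0x800e018000800800020140058
noncomputable def n69_4 : ℕ := 0x8100800c0800404000000000180
noncomputable def n69_5 : ℕ := 0x4000204001000000900
noncomputable def n69_6 : ℕ := 0xa00804024480408500810000881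
noncomputable def n69_7 : ℕ := 0x60c180200410224009100044111
noncomputable def n69_8 : ℕ := 0x8100810c1420504000000e08185
noncomputable def n69_9 : ℕ := 0x8800e01a00080084022016001b
noncomputable def n69_10 : ℕ := 0x340800034c0000028a0003f3c
noncomputable def n69_11 : ℕ := 0x432b4e8000000048d04f6
noncomputable def n69_12 : ℕ := 0x55a2821f530e04
noncomputable def n69 : Net := .cons 56 n69_0 <| .cons 28 n69_1 <| .cons 14 n69_2 <| .cons 7 n69_3 <| .cons 4 n69_4 <| .cons 2 n69_5 <| .cons 1 n69_6 <| .cons 2 n69_7 <| .cons 4 n69_8 <| .cons 7 n69_9 <| .cons 14 n69_10 <| .cons 28 n69_11 <| .cons 56 n69_12 <| .nil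
noncomputable def La71 : List Net := n69 :: La70
theorem ga71 : Good 112 (H79.RepHS.ρ).range La71 :=
  Good.word (m := 7) (by norm_num) ga70 (w := [141,138,140,137,132,137,126,130,122,122,124,118]) (by decide +kernel)
noncomputable def Tn69 : H88.Tr := (.leaf (nat_lit 0) (nat_lit 0xfffa880018e24816f2989357a4010000fff1e4da025533a1020224b808ae0000000635a58d05d3bd30bf15c6ca040000ff034f03ab1bd1516006de41d7a70000f0fe775203ba01bca597464a4d590000ccca1ecc2b71c46e24e866956a9f0000aaa3ca6899fd20fd5d6f0e8aa602))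
noncomputable def ln69 : Lt := ⟨Tn69, n69⟩
theorem on69 : OK 112 (H79.RepHS.ρ).range ln69 := OK.of (m := 7) (by norm_num) (H := 128) ga71 (by decide +kernel)
noncomputable def n70_0 : ℕ := 0x2710bb1ef5681c
noncomputable def n70_1 : ℕ := 0x940287c0000000e3e9682
noncomputable def n70_2 : ℕ := 0xca4000318e000217800007ce
noncomputable def n70_3 : ℕ := 0x1d801c00d8046009007400c0000
noncomputable def n70_4 : ℕ := 0x205000830000002070c18180
noncomputable def n70_5 : ℕ := 0x2400800000800220089002000102
noncomputable def n70_6 : ℕ := 0x22008052204a9120048942014094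
noncomputable def n70_7 : ℕ := 0x24400820200900040c1010000002
noncomputable def n70_8 : ℕ := 0xc043850e10203060c0000218182
noncomputable def n70_9 : ℕ := 0x1d804301cc04800f001d017400c
noncomputable def n70_10 : ℕ := 0x2600039090002ffa00033fa
noncomputable def n70_11 : ℕ := 0xb31b8e2000000073430a6
noncomputable def n70_12 : ℕ := 0x2718c1c1c76b90
noncomputable def n70 : Net := .cons 56 n70_0 <| .cons 28 n70_1 <| .cons 14 n70_2 <| .cons 7 n70_3 <| .cons 4 n70_4 <| .cons 2 n70_5 <| .cons 1 n70_6 <| .cons 2 n70_7 <| .cons 4 n70_8 <| .cons 7 n70_9 <| .cons 14 n70_10 <| .cons 28 n70_11 <| .cons 56 n70_12 <| .nil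
noncomputable def La72 : List Net := n70 :: La71
theorem ga72 : Good 112 (H79.RepHS.ρ).range La72 :=
  Good.word (m := 7) (by norm_num) ga71 (w := [139,135,135,133,131,129,132,126,120]) (by decide +kernel)
noncomputable def Tn70 : H88.Tr := (.leaf (nat_lit 0) (nat_lit 0xfff5500ae005c58c9d910d8819140000fff8abb00c5b0a4302048ad510e80000000f9ec8ad3e632b04a924638e520000ff086b1168b6f9ab2d0a641ce4b60000f0fb5e13c608703a5e13f21307fc0000ccc29750d53eb06e7cc61f4cb9280000aaaed29705f09d791941b7a73892))
noncomputable def ln70 : Lt := ⟨Tn70, n70⟩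
theorem on70 : OK 112 (H79.RepHS.ρ).range ln70 := OK.of (m := 7) (by norm_num) (H := 128) ga72 (by decide +kernel)
noncomputable def n71_0 : ℕ := 0x146f9832d53572
noncomputable def n71_1 : ℕ := 0x6d18b240000000eabf464
noncomputable def n71_2 : ℕ := 0x2da000016960003d5600010f0
noncomputable def n71_3 : ℕ := 0x160050010804a00c004a0028028
noncomputable def n71_4 : ℕ := 0x808301001420102082800c0c004
noncomputable def n71_5 : ℕ := 0x40002000011204481100000110
noncomputable def n71_6 : ℕ := 0x2a402010a5009122442100204090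
noncomputable def n71_7 : ℕ := 0x48102044c09206000912008082
noncomputable def n71_8 : ℕ := 0x1c200040c2800c1c2840808380
noncomputable def n71_9 : ℕ := 0xec04c011c052003c00a00b8068
noncomputable def n71_10 : ℕ := 0x28b8000339c00035330000a60
noncomputable def n71_11 : ℕ := 0x6d7d264000000023b8f48
noncomputable def n71_12 : ℕ := 0x146590a255edf2
noncomputable def n71 : Net := .cons 56 n71_0 <| .cons 28 n71_1 <| .cons 14 n71_2 <| .cons 7 n71_3 <| .cons 4 n71_4 <| .cons 2 n71_5 <| .cons 1 n71_6 <| .cons 2 n71_7 <| .cons 4 n71_8 <| .cons 7 n71_9 <| .cons 14 n71_10 <| .cons 28 n71_11 <| .cons 56 n71_12 <| .nil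
noncomputable def La73 : List Net := n71 :: La72
theorem ga73 : Good 112 (H79.RepHS.ρ).range La73 :=
  Good.word (m := 7) (by norm_num) ga72 (w := [136,136,130,133,124,129,124,122]) (by decide +kernel)
noncomputable def Tn71 : H88.Tr := (.leaf (nat_lit 0) (nat_lit 0xfff4528c4539cc08a18282e8b4140000fff9bc1301060266145404865aea0000000bc3b7808bb8cc82513f392e380000ff0c211dc86e39eea9e8631429d60000f0fa04f2ce01227af68ae6750f740000ccc6ca5a511b2b9f2e1e9f109dc20000aaab8b6a2c0d058f75e9a8bcfa90))
noncomputable def ln71 : Lt := ⟨Tn71, n71⟩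
theorem on71 : OK 112 (H79.RepHS.ρ).range ln71 := OK.of (m := 7) (by norm_num) (H := 128) ga73 (by decide +kernel)
noncomputable def n72_0 : ℕ := 0xaaa16454343800
noncomputable def n72_1 : ℕ := 0x37c5200000000863a2c8
noncomputable def n72_2 : ℕ := 0x13900001a0800002400003cc8
noncomputable def n72_3 : ℕ := 0xc000800c002a00400240108030
noncomputable def n72_4 : ℕ := 0x820400000040200002000c200
noncomputable def n72_5 : ℕ := 0x110240080004000002040000
noncomputable def n72_6 : ℕ := 0x400902200a1502000012054010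
noncomputable def n72_7 : ℕ := 0x8910240080304000902440800
noncomputable def n72_8 : ℕ := 0xc18205000c0840200002020c204
noncomputable def n72_9 : ℕ := 0x1d000000e402b00540240108030
noncomputable def n72_10 : ℕ := 0x139000036a900023480003cc8
noncomputable def n72_11 : ℕ := 0x17c12a0000000863a2c8
noncomputable def n72_12 : ℕ := 0xaaa16454347800
noncomputable def n72 : Net := .cons 56 n72_0 <| .cons 28 n72_1 <| .cons 14 n72_2 <| .cons 7 n72_3 <| .cons 4 n72_4 <| .cons 2 n72_5 <| .cons 1 n72_6 <| .cons 2 n72_7 <| .cons 4 n72_8 <| .cons 7 n72_9 <| .cons 14 n72_10 <| .cons 28 n72_11 <| .cons 56 n72_12 <| .nil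
noncomputable def La74 : List Net := n72 :: La73
theorem ga74 : Good 112 (H79.RepHS.ρ).range La74 :=
  Good.word (m := 7) (by norm_num) ga73 (w := [132,136,136,126,131,125]) (by decide +kernel)
noncomputable def Tn72 : H88.Tr := (.leaf (nat_lit 0) (nat_lit 0xfff74f1a40124baaa5080a0870940000fff290b3a38d04554287c4701c0000000005dbad05b4774a527177840a980000ff08592dea75f49c3d00e50dad140000f0f97440c9c1627a74f0ecf4c8f40000ccc0da42757dbc7a3a9c12aafcc00000aaa68aec8daf822e35ca6893bc3a))
noncomputable def ln72 : Lt := ⟨Tn72, n72⟩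
theorem on72 : OK 112 (H79.RepHS.ρ).range ln72 := OK.of (m := 7) (by norm_num) (H := 128) ga74 (by decide +kernel)
noncomputable def n73_0 : ℕ := 0x3e66317c742604
noncomputable def n73_1 : ℕ := 0x433cf2e0000000eeb2a60
noncomputable def n73_2 : ℕ := 0x2550000368400015440002934
noncomputable def n73_3 : ℕ := 0x1e8016014800c00c00080040018
noncomputable def n73_4 : ℕ := 0x10201081c20208142000618080
noncomputable def n73_5 : ℕ := 0x408110040810220008000000800
noncomputable def n73_6 : ℕ := 0x810095021009420148910240a04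
noncomputable def n73_7 : ℕ := 0x4c9132004091264c1900404882
noncomputable def n73_8 : ℕ := 0x2083870c102070c0c1830210200
noncomputable def n73_9 : ℕ := 0x8000101b005d0178008008803c
noncomputable def n73_10 : ℕ := 0x320700012bd0002dab0002d36
noncomputable def n73_11 : ℕ := 0x675d1bc0000000ee3baf0
noncomputable def n73_12 : ℕ := 0x3e6b218ed16e9c
noncomputable def n73 : Net := .cons 56 n73_0 <| .cons 28 n73_1 <| .cons 14 n73_2 <| .cons 7 n73_3 <| .cons 4 n73_4 <| .cons 2 n73_5 <| .cons 1 n73_6 <| .cons 2 n73_7 <| .cons 4 n73_8 <| .cons 7 n73_9 <| .cons 14 n73_10 <| .cons 28 n73_11 <| .cons 56 n73_12 <| .nil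
noncomputable def La75 : List Net := n73 :: La74
theorem ga75 : Good 112 (H79.RepHS.ρ).range La75 :=
  Good.word (m := 7) (by norm_num) ga74 (w := [141,144,144,139,134,137,131]) (by decide +kernel)
noncomputable def Tn73 : H88.Tr := (.leaf (nat_lit 0) (nat_lit 0xfff75801512780169a510c1ee8100000fff2a4b82c905449f5a40a4017080000000878ee2e35f6be40e824a5aa820000ff08effb890697172813c0e9d6060000f0fc99fc1687097a0ba1b69556640000ccc8fb9b975a06d578c43a1708bc0000aaae771f44acd1d0783975b20f48))
noncomputable def ln73 : Lt := ⟨Tn73, n73⟩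
theorem on73 : OK 112 (H79.RepHS.ρ).range ln73 := OK.of (m := 7) (by norm_num) (H := 128) ga75 (by decide +kernel)
noncomputable def n74_0 : ℕ := 0x4e5290631c6874
noncomputable def n74_1 : ℕ := 0x5b214440000000f052888
noncomputable def n74_2 : ℕ := 0x42a00033f800033580001288
noncomputable def n74_3 : ℕ := 0x1100040098026000802c00f0008
noncomputable def n74_4 : ℕ := 0x21c00100181000c000000400282
noncomputable def n74_5 : ℕ := 0x48002000800020088000008010
noncomputable def n74_6 : ℕ := 0x204408420440812004a010244294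
noncomputable def n74_7 : ℕ := 0x440190220480104088120444192
noncomputable def n74_8 : ℕ := 0xa182000e1c0030c080030014000
noncomputable def n74_9 : ℕ := 0x13001b000c00500f807d0058016
noncomputable def n74_10 : ℕ := 0xa5000107d0001b6800017e0
noncomputable def n74_11 : ℕ := 0x1b6446a000000071d2c0a
noncomputable def n74_12 : ℕ := 0x4e5b5340f1b8b8
noncomputable def n74 : Net := .cons 56 n74_0 <| .cons 28 n74_1 <| .cons 14 n74_2 <| .cons 7 n74_3 <| .cons 4 n74_4 <| .cons 2 n74_5 <| .cons 1 n74_6 <| .cons 2 n74_7 <| .cons 4 n74_8 <| .cons 7 n74_9 <| .cons 14 n74_10 <| .cons 28 n74_11 <| .cons 56 n74_12 <| .nil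
noncomputable def La76 : List Net := n74 :: La75
theorem ga76 : Good 112 (H79.RepHS.ρ).range La76 :=
  Good.word (m := 7) (by norm_num) ga75 (w := [142,144,146,137,141,139,140,135,130,134,129]) (by decide +kernel)
noncomputable def Tn74 : H88.Tr := (.leaf (nat_lit 0) (nat_lit 0xfff5328745088f46a22b80ca04440000fff8d050aa37502901b401a9622a0000000383b5292faae0bf486930a2f20000ff0e007f98da6dac875a13323cc80000f0fbc5d03ea07478f20aa2770ed40000ccc5681cb826ff99296dba1c057c0000aaa3096dcd21f1e54331af87de60))
noncomputable def ln74 : Lt := ⟨Tn74, n74⟩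
theorem on74 : OK 112 (H79.RepHS.ρ).range ln74 := OK.of (m := 7) (by norm_num) (H := 128) ga76 (by decide +kernel)
noncomputable def n75_0 : ℕ := 0x62049d22bea000
noncomputable def n75_1 : ℕ := 0x236d42000000003da3984
noncomputable def n75_2 : ℕ := 0x85000031500001a520001684
noncomputable def n75_3 : ℕ := 0x2000a01b807c00900500100014
noncomputable def n75_4 : ℕ := 0x208001001030400141060800100
noncomputable def n75_5 : ℕ := 0x400910040080000408100008000
noncomputable def n75_6 : ℕ := 0x2240a10281089020548110010090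
noncomputable def n75_7 : ℕ := 0x400913260080300408810208802
noncomputable def n75_8 : ℕ := 0x2083810e1c30400141010c00104
noncomputable def n75_9 : ℕ := 0x2000a01b807c00900500120014
noncomputable def n75_10 : ℕ := 0x85000031500001e520001684
noncomputable def n75_11 : ℕ := 0x236d42000000003db3984
noncomputable def n75_12 : ℕ := 0x62049d22bea000
noncomputable def n75 : Net := .cons 56 n75_0 <| .cons 28 n75_1 <| .cons 14 n75_2 <| .cons 7 n75_3 <| .cons 4 n75_4 <| .cons 2 n75_5 <| .cons 1 n75_6 <| .cons 2 n75_7 <| .cons 4 n75_8 <| .cons 7 n75_9 <| .cons 14 n75_10 <| .cons 28 n75_11 <| .cons 56 n75_12 <| .nil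
noncomputable def La77 : List Net := n75 :: La76
theorem ga77 : Good 112 (H79.RepHS.ρ).range La77 :=
  Good.word (m := 7) (by norm_num) ga76 (w := [149,149,149,142,134,137,135,131]) (by decide +kernel)
noncomputable def Tn75 : H88.Tr := (.leaf (nat_lit 0) (nat_lit 0xfff535b6067b87210010640c29a00000fffc4a08400558b6c504333394540000000a5bf863b8ebd31dc888f420600000ff0256297e909e07ec699c194fb00000f0fab39380d426dace21c5f755a00000ccc402c4efc81fabe117dbe648e20000aaaac7878932c9e18089fe921efe))
noncomputable def ln75 : Lt := ⟨Tn75, n75⟩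
theorem on75 : OK 112 (H79.RepHS.ρ).range ln75 := OK.of (m := 7) (by norm_num) (H := 128) ga77 (by decide +kernel)
noncomputable def n76_0 : ℕ := 0x89015924720000
noncomputable def n76_1 : ℕ := 0x6a908e000000002009788
noncomputable def n76_2 : ℕ := 0x1220000099800002a000011c8
noncomputable def n76_3 : ℕ := 0x1400320170040008002a010005c
noncomputable def n76_4 : ℕ := 0x800084001000500040840004080
noncomputable def n76_5 : ℕ := 0x2000100000000004080120440100
noncomputable def n76_6 : ℕ := 0x2000890001001002048110254880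
noncomputable def n76_7 : ℕ := 0x2244103044010304081120440112
noncomputable def n76_8 : ℕ := 0x808084021000502080840404280
noncomputable def n76_9 : ℕ := 0x140036017004000f403a010005c
noncomputable def n76_10 : ℕ := 0x1220000099800002a000011c8
noncomputable def n76_11 : ℕ := 0x6a909e800000002009788
noncomputable def n76_12 : ℕ := 0x89015924724000
noncomputable def n76 : Net := .cons 56 n76_0 <| .cons 28 n76_1 <| .cons 14 n76_2 <| .cons 7 n76_3 <| .cons 4 n76_4 <| .cons 2 n76_5 <| .cons 1 n76_6 <| .cons 2 n76_7 <| .cons 4 n76_8 <| .cons 7 n76_9 <| .cons 14 n76_10 <| .cons 28 n76_11 <| .cons 56 n76_12 <| .nil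
noncomputable def La78 : List Net := n76 :: La77
theorem ga78 : Good 112 (H79.RepHS.ρ).range La78 :=
  Good.word (m := 7) (by norm_num) ga77 (w := [148,146,150,144,140,136,139,133]) (by decide +kernel)
noncomputable def Tn76 : H88.Tr := (.leaf (nat_lit 0) (nat_lit 0xfff714cde5b3e18801800540401e0000fffab31209003c36c27f02268280000000098e1ba80d47adcd98a9bb940a0000ff0d2e544868855a1798730f3f960000f0f90156ced5487b61296091deee0000ccc08573f9edb45e28151fcdf0420000aaaac1670c83b3ebb7322d8f28b8))
noncomputable def ln76 : Lt := ⟨Tn76, n76⟩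
theorem on76 : OK 112 (H79.RepHS.ρ).range ln76 := OK.of (m := 7) (by norm_num) (H := 128) ga78 (by decide +kernel)
noncomputable def n77_0 : ℕ := 0xa3804d642c1488
noncomputable def n77_1 : ℕ := 0x723004000000005021604
noncomputable def n77_2 : ℕ := 0x1a74000270000005020000228
noncomputable def n77_3 : ℕ := 0x1600520140040008002401a000c
noncomputable def n77_4 : ℕ := 0x18303061800400042000000180
noncomputable def n77_5 : ℕ := 0x2040000040800000000100000000
noncomputable def n77_6 : ℕ := 0x2840290225000000402950000290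
noncomputable def n77_7 : ℕ := 0x204c003040808304081900440802
noncomputable def n77_8 : ℕ := 0x218303061800400042000a08180
noncomputable def n77_9 : ℕ := 0x1600520140070008003401a003c
noncomputable def n77_10 : ℕ := 0x1a74000270000005020000228
noncomputable def n77_11 : ℕ := 0x723004000000005031604
noncomputable def n77_12 : ℕ := 0xa3804d642c1488
noncomputable def n77 : Net := .cons 56 n77_0 <| .cons 28 n77_1 <| .cons 14 n77_2 <| .cons 7 n77_3 <| .cons 4 n77_4 <| .cons 2 n77_5 <| .cons 1 n77_6 <| .cons 2 n77_7 <| .cons 4 n77_8 <| .cons 7 n77_9 <| .cons 14 n77_10 <| .cons 28 n77_11 <| .cons 56 n77_12 <| .nil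
noncomputable def La79 : List Net := n77 :: La78
theorem ga79 : Good 112 (H79.RepHS.ρ).range La79 :=
  Good.word (m := 7) (by norm_num) ga78 (w := [150,148,152,142,146,141,136,135]) (by decide +kernel)
noncomputable def Tn77 : H88.Tr := (.leaf (nat_lit 0) (nat_lit 0xfff2b613535251a2a4904b0a08820000fff701cc008d449d42465471b0180000000d9a3927b90d18bee921c2b60a0000ff09a8df7e18a4444888bb457b9a0000f0fd95d0d2cca871e921229bf2e20000cccd8184cc701fe9e61c5dc4eec60000aaa6e1e1afa3936c8003f7da3aa8))
noncomputable def ln77 : Lt := ⟨Tn77, n77⟩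
theorem on77 : OK 112 (H79.RepHS.ρ).range ln77 := OK.of (m := 7) (by norm_num) (H := 128) ga79 (by decide +kernel)
noncomputable def n78_0 : ℕ := 0xa5a78c0690a808
noncomputable def n78_1 : ℕ := 0x80028b00000000cd40c98
noncomputable def n78_2 : ℕ := 0x21b8000092800015200001208
noncomputable def n78_3 : ℕ := 0xa0004012804401d00780090018
noncomputable def n78_4 : ℕ := 0x8100010a0800402180040000305
noncomputable def n78_5 : ℕ := 0x8100000010024400020400810
noncomputable def n78_6 : ℕ := 0x20102142a0021522400140210810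
noncomputable def n78_7 : ℕ := 0x608802064810024449020400913
noncomputable def n78_8 : ℕ := 0x8140010a0808702180040008287
noncomputable def n78_9 : ℕ := 0xa000a012804401d007d0090036
noncomputable def n78_10 : ℕ := 0x21b8000092800015200001208
noncomputable def n78_11 : ℕ := 0x810b8b00000000cd40c98
noncomputable def n78_12 : ℕ := 0xa5a78c0690a808
noncomputable def n78 : Net := .cons 56 n78_0 <| .cons 28 n78_1 <| .cons 14 n78_2 <| .cons 7 n78_3 <| .cons 4 n78_4 <| .cons 2 n78_5 <| .cons 1 n78_6 <| .cons 2 n78_7 <| .cons 4 n78_8 <| .cons 7 n78_9 <| .cons 14 n78_10 <| .cons 28 n78_11 <| .cons 56 n78_12 <| .nil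
noncomputable def La80 : List Net := n78 :: La79
theorem ga80 : Good 112 (H79.RepHS.ρ).range La80 :=
  Good.word (m := 7) (by norm_num) ga79 (w := [152,155,155,145,138,142,138,142]) (by decide +kernel)
noncomputable def Tn78 : H88.Tr := (.leaf (nat_lit 0) (nat_lit 0xfff152a7016f0784ab032c1018500000fff12950de10707254546a50a0280000000e73a36c086a36a46901e9aef20000ff0601f9eb90d7a55e2b846462d40000f0fad4f004e0ec7dfd72558072c80000ccc4b03ce44c5dc168e51adc7f780000aaa6515f9622a12f0a89f7da3a6a))
noncomputable def ln78 : Lt := ⟨Tn78, n78⟩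
theorem on78 : OK 112 (H79.RepHS.ρ).range ln78 := OK.of (m := 7) (by norm_num) (H := 128) ga80 (by decide +kernel)
noncomputable def n79_0 : ℕ := 0xa6e1f3ededd90c
noncomputable def n79_1 : ℕ := 0xad2d6c600000000a76df4
noncomputable def n79_2 : ℕ := 0x1c4e00014820000a200003ce8
noncomputable def n79_3 : ℕ := 0x180002010000600e8060003001c
noncomputable def n79_4 : ℕ := 0x4140030204100021c3010000002
noncomputable def n79_5 : ℕ := 0x8002004811000088122000800
noncomputable def n79_6 : ℕ := 0x20401120442140204a112804810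
noncomputable def n79_7 : ℕ := 0x40c012040819206048920008012
noncomputable def n79_8 : ℕ := 0x404002041c1020a00302
noncomputable def n79_9 : ℕ := 0x340100140020009c06f0030018
noncomputable def n79_10 : ℕ := 0x16bd00010020000c3a0002ccc
noncomputable def n79_11 : ℕ := 0x89652a700000004a776f8
noncomputable def n79_12 : ℕ := 0xa6e15b61cdcbe8
noncomputable def n79 : Net := .cons 56 n79_0 <| .cons 28 n79_1 <| .cons 14 n79_2 <| .cons 7 n79_3 <| .cons 4 n79_4 <| .cons 2 n79_5 <| .cons 1 n79_6 <| .cons 2 n79_7 <| .cons 4 n79_8 <| .cons 7 n79_9 <| .cons 14 n79_10 <| .cons 28 n79_11 <| .cons 56 n79_12 <| .nil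
noncomputable def La81 : List Net := n79 :: La80
theorem ga81 : Good 112 (H79.RepHS.ρ).range La81 :=
  Good.word (m := 7) (by norm_num) ga80 (w := [153,155,152,146,151,144,142,145]) (by decide +kernel)
noncomputable def Tn79 : H88.Tr := (.leaf (nat_lit 0) (nat_lit 0xfff2720d593047222c39116820a40000fffe1190a0859a58c3c6048ec2100000000408c7185fd1deb6b220b324fa0000ff0106f5d79918649d53f0b62e0c0000f0f56db07363312357802866b6be0000ccc4eed2f79f62ca573c1d8809880000aaaf47d1b172ceea308bae361960))
noncomputable def ln79 : Lt := ⟨Tn79, n79⟩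
theorem on79 : OK 112 (H79.RepHS.ρ).range ln79 := OK.of (m := 7) (by norm_num) (H := 128) ga81 (by decide +kernel)
noncomputable def n80_0 : ℕ := 0x65c617cb462526
noncomputable def n80_1 : ℕ := 0x5ab3e5000000002ed1880
noncomputable def n80_2 : ℕ := 0x26020002950000050c0001b48
noncomputable def n80_3 : ℕ := 0x58008000801c014000c0000000
noncomputable def n80_4 : ℕ := 0xe00201080010100142050810101
noncomputable def n80_5 : ℕ := 0x408110040000004081120400002
noncomputable def n80_6 : ℕ := 0x224409008042100204a112210001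
noncomputable def n80_7 : ℕ := 0x6489130400912040c102020c182
noncomputable def n80_8 : ℕ := 0x83810c0c10400182050e00103
noncomputable def n80_9 : ℕ := 0x2c00d00c801f0104023001002c
noncomputable def n80_10 : ℕ := 0x2065000317200003800003b04
noncomputable def n80_11 : ℕ := 0x3bbb3ed0000000a4d57d8
noncomputable def n80_12 : ℕ := 0x65c3264f55d328
noncomputable def n80 : Net := .cons 56 n80_0 <| .cons 28 n80_1 <| .cons 14 n80_2 <| .cons 7 n80_3 <| .cons 4 n80_4 <| .cons 2 n80_5 <| .cons 1 n80_6 <| .cons 2 n80_7 <| .cons 4 n80_8 <| .cons 7 n80_9 <| .cons 14 n80_10 <| .cons 28 n80_11 <| .cons 56 n80_12 <| .nil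
noncomputable def La82 : List Net := n80 :: La81
theorem ga82 : Good 112 (H79.RepHS.ρ).range La82 :=
  Good.word (m := 7) (by norm_num) ga81 (w := [157,155,158,152,151,144,146,142,146,141]) (by decide +kernel)
noncomputable def Tn80 : H88.Tr := (.leaf (nat_lit 0) (nat_lit 0xfffd10c0d501c202d060f3d24c420000fff0a312eae6016b028c006931380000000be3b02c2f8e608d02df35e9840000ff0e817f08d65941f419e61e6c8c0000f0fbc41729248d9591fbb52255f00000cccd4d9cb8224fa92845be5d165e0000aaa30bbf55a475cc4b0087cfdd60))
noncomputable def ln80 : Lt := ⟨Tn80, n80⟩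
theorem on80 : OK 112 (H79.RepHS.ρ).range ln80 := OK.of (m := 7) (by norm_num) (H := 128) ga82 (by decide +kernel)
noncomputable def n81_0 : ℕ := 0x4f90042689a878
noncomputable def n81_1 : ℕ := 0xea2415600000004e1e040
noncomputable def n81_2 : ℕ := 0x946000242a0002e740000902
noncomputable def n81_3 : ℕ := 0x1c8042006003a01a0000004801c
noncomputable def n81_4 : ℕ := 0x1c2020000202041c2000a10182
noncomputable def n81_5 : ℕ := 0x2040000200880200400020008000
noncomputable def n81_6 : ℕ := 0x2054a852a108840a448040810294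
noncomputable def n81_7 : ℕ := 0x2040101260000026489010608982
noncomputable def n81_8 : ℕ := 0x808602183010e043810a1c100
noncomputable def n81_9 : ℕ := 0x5805401cc01e00a80150068000
noncomputable def n81_10 : ℕ := 0x10ee00020bc00036f80002d78
noncomputable def n81_11 : ℕ := 0xe5bf2760000000fe187fc
noncomputable def n81_12 : ℕ := 0x4f907c66a72c9a
noncomputable def n81 : Net := .cons 56 n81_0 <| .cons 28 n81_1 <| .cons 14 n81_2 <| .cons 7 n81_3 <| .cons 4 n81_4 <| .cons 2 n81_5 <| .cons 1 n81_6 <| .cons 2 n81_7 <| .cons 4 n81_8 <| .cons 7 n81_9 <| .cons 14 n81_10 <| .cons 28 n81_11 <| .cons 56 n81_12 <| .nil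
noncomputable def La83 : List Net := n81 :: La82
theorem ga83 : Good 112 (H79.RepHS.ρ).range La83 :=
  Good.word (m := 7) (by norm_num) ga82 (w := [156,160,158,150,152,155,146,148,144,148]) (by decide +kernel)
noncomputable def Tn81 : H88.Tr := (.leaf (nat_lit 0) (nat_lit 0xfff220990c20ac1eec01b40635580000fff199242715d049020e69b04aa000000001c48eda4758d2b25082aabfba0000ff00b354996b6da0489a5ae27b1e0000f0fcbfacd99f54054268944694d60000ccc4187a768d4d9c8d4d1eeb45b20000aaa7923a63526b8cf6a2b875b292))
noncomputable def ln81 : Lt := ⟨Tn81, n81⟩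
theorem on81 : OK 112 (H79.RepHS.ρ).range ln81 := OK.of (m := 7) (by norm_num) (H := 128) ga83 (by decide +kernel)
noncomputable def n82_0 : ℕ := 0xea3c0af4039b0
noncomputable def n82_1 : ℕ := 0x2c084700000000473fbee
noncomputable def n82_2 : ℕ := 0x291800024040002450000011e
noncomputable def n82_3 : ℕ := 0x4006800d804000c006e008805c
noncomputable def n82_4 : ℕ := 0xc1000e100010a181860800103
noncomputable def n82_5 : ℕ := 0x8100004080000000020408110
noncomputable def n82_6 : ℕ := 0x2440810844a8102102942804215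
noncomputable def n82_7 : ℕ := 0x2008801064890306489910044190
noncomputable def n82_8 : ℕ := 0x83820c180810800183081c183
noncomputable def n82_9 : ℕ := 0x406200ec04c00c402801c0048
noncomputable def n82_10 : ℕ := 0x291900013f800031870003108
noncomputable def n82_11 : ℕ := 0x2aa08ac0000000a639456
noncomputable def n82_12 : ℕ := 0xeaa894d134150
noncomputable def n82 : Net := .cons 56 n82_0 <| .cons 28 n82_1 <| .cons 14 n82_2 <| .cons 7 n82_3 <| .cons 4 n82_4 <| .cons 2 n82_5 <| .cons 1 n82_6 <| .cons 2 n82_7 <| .cons 4 n82_8 <| .cons 7 n82_9 <| .cons 14 n82_10 <| .cons 28 n82_11 <| .cons 56 n82_12 <| .nil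
noncomputable def La84 : List Net := n82 :: La83
theorem ga84 : Good 112 (H79.RepHS.ρ).range La84 :=
  Good.word (m := 7) (by norm_num) ga83 (w := [162,162,152,154,152,146,149]) (by decide +kernel)
noncomputable def Tn82 : H88.Tr := (.leaf (nat_lit 0) (nat_lit 0xfff8317dcb028443b2029a4064280000fff44a5040917b740da560200b94000000023c0a0c7dcb32398367d97c2a0000ff072ea4857b598ac4cab321e2b80000f0fadaa0ba3b70134861cbf495aa0000cccd27429d0bc2d5dbf421ae472a0000aaaf8a86cc0cee44ea98cad569dc))
noncomputable def ln82 : Lt := ⟨Tn82, n82⟩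
theorem on82 : OK 112 (H79.RepHS.ρ).range ln82 := OK.of (m := 7) (by norm_num) (H := 128) ga84 (by decide +kernel)
noncomputable def n83_0 : ℕ := 0x90f0b7805f7f08
noncomputable def n83_1 : ℕ := 0x3a05f7a00000009941040
noncomputable def n83_2 : ℕ := 0x3b5a0002e1000033460001b74
noncomputable def n83_3 : ℕ := 0x108032007006200180200130054
noncomputable def n83_4 : ℕ := 0xa10000000000304003060018007
noncomputable def n83_5 : ℕ := 0x40100240810020000000040012
noncomputable def n83_6 : ℕ := 0x204488428440942200a942a44091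
noncomputable def n83_7 : ℕ := 0x608080004401324400802040093
noncomputable def n83_8 : ℕ := 0xc0418100140050a043860018303
noncomputable def n83_9 : ℕ := 0xec03201a0040010c02201e8038
noncomputable def n83_10 : ℕ := 0x33df0003a240002b140000834
noncomputable def n83_11 : ℕ := 0xba5a8ef0000000da47e6c
noncomputable def n83_12 : ℕ := 0x90fbd52b74aa52
noncomputable def n83 : Net := .cons 56 n83_0 <| .cons 28 n83_1 <| .cons 14 n83_2 <| .cons 7 n83_3 <| .cons 4 n83_4 <| .cons 2 n83_5 <| .cons 1 n83_6 <| .cons 2 n83_7 <| .cons 4 n83_8 <| .cons 7 n83_9 <| .cons 14 n83_10 <| .cons 28 n83_11 <| .cons 56 n83_12 <| .nil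
noncomputable def La85 : List Net := n83 :: La84
theorem ga85 : Good 112 (H79.RepHS.ρ).range La85 :=
  Good.word (m := 7) (by norm_num) ga84 (w := [163,164,164,159,155,150,152,148,152,147]) (by decide +kernel)
noncomputable def Tn83 : H88.Tr := (.leaf (nat_lit 0) (nat_lit 0xfff1922a4c3281122d82233926520000fffe4dc74ac9420d907441041028000000039f8882e56e9a8643528ee3960000ff065cd1000647f8ff301e41ef720000f0f99ccd05c63461c1f992be8e580000cccf23b7935613b4ca260bbe84b20000aaa5ca55773d279dc04821e52fd4))
noncomputable def ln83 : Lt := ⟨Tn83, n83⟩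
theorem on83 : OK 112 (H79.RepHS.ρ).range ln83 := OK.of (m := 7) (by norm_num) (H := 128) ga85 (by decide +kernel)
noncomputable def n84_0 : ℕ := 0x7b4439a5b97908
noncomputable def n84_1 : ℕ := 0xe8a3dd2000000063bb028
noncomputable def n84_2 : ℕ := 0xd9a00000640003b400003f62
noncomputable def n84_3 : ℕ := 0x807800c004000780420188040
noncomputable def n84_4 : ℕ := 0x1438400000030810184020c002
noncomputable def n84_5 : ℕ := 0x2040081200009020400002
noncomputable def n84_6 : ℕ := 0x2442010840a910a008840240094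
noncomputable def n84_7 : ℕ := 0xc18104401130440811024c182
noncomputable def n84_8 : ℕ := 0x618382020c0820010007020c006
noncomputable def n84_9 : ℕ := 0xa007d005405f007807b0030048
noncomputable def n84_10 : ℕ := 0x2d4200007240000b4d0003c5c
noncomputable def n84_11 : ℕ := 0xf9ee4820000000632662c
noncomputable def n84_12 : ℕ := 0x7b40786d95b950
noncomputable def n84 : Net := .cons 56 n84_0 <| .cons 28 n84_1 <| .cons 14 n84_2 <| .cons 7 n84_3 <| .cons 4 n84_4 <| .cons 2 n84_5 <| .cons 1 n84_6 <| .cons 2 n84_7 <| .cons 4 n84_8 <| .cons 7 n84_9 <| .cons 14 n84_10 <| .cons 28 n84_11 <| .cons 56 n84_12 <| .nil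
noncomputable def La86 : List Net := n84 :: La85
theorem ga86 : Good 112 (H79.RepHS.ρ).range La86 :=
  Good.word (m := 7) (by norm_num) ga85 (w := [162,166,164,161,159,160,152,154,150,154,149]) (by decide +kernel)
noncomputable def Tn84 : H88.Tr := (.leaf (nat_lit 0) (nat_lit 0xfff216b30654d62389027a4407000000fff129104da12870160d252168ec0000000d52c6439b6246f529c2c8ed2a0000ff0f15684aa7cb8c1fe8c87431c20000f0f6b72899cb2213517317f4f4820000ccc2a240ed79b3a1ab6cc1af372a0000aaa0264eb9e6c734a48872c5fade))
noncomputable def ln84 : Lt := ⟨Tn84, n84⟩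
theorem on84 : OK 112 (H79.RepHS.ρ).range ln84 := OK.of (m := 7) (by norm_num) (H := 128) ga86 (by decide +kernel)
noncomputable def n85_0 : ℕ := 0x846bc914e80c9c
noncomputable def n85_1 : ℕ := 0xc1400cc000000042bf808
noncomputable def n85_2 : ℕ := 0x208400014f80000060000137a
noncomputable def n85_3 : ℕ := 0xe8050011005800f00620028028
noncomputable def n85_4 : ℕ := 0x218003081000104101020a04103
noncomputable def n85_5 : ℕ := 0x40802000011000000022000010
noncomputable def n85_6 : ℕ := 0x240a010a500900a408112004094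
noncomputable def n85_7 : ℕ := 0x444010060001304408112648013
noncomputable def n85_8 : ℕ := 0x200201041c08404181070614301
noncomputable def n85_9 : ℕ := 0xec060003405300e002c00e003c
noncomputable def n85_10 : ℕ := 0x20c4000346f0000a6800027e8
noncomputable def n85_11 : ℕ := 0x4540111000000003b4822
noncomputable def n85_12 : ℕ := 0x846ba814f84c96
noncomputable def n85 : Net := .cons 56 n85_0 <| .cons 28 n85_1 <| .cons 14 n85_2 <| .cons 7 n85_3 <| .cons 4 n85_4 <| .cons 2 n85_5 <| .cons 1 n85_6 <| .cons 2 n85_7 <| .cons 4 n85_8 <| .cons 7 n85_9 <| .cons 14 n85_10 <| .cons 28 n85_11 <| .cons 56 n85_12 <| .nil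
noncomputable def La87 : List Net := n85 :: La86
theorem ga87 : Good 112 (H79.RepHS.ρ).range La87 :=
  Good.word (m := 7) (by norm_num) ga86 (w := [169,169,169,160,160,152,155,151]) (by decide +kernel)
noncomputable def Tn85 : H88.Tr := (.leaf (nat_lit 0) (nat_lit 0xfff43e134b075a2c0882202e68a00000fffa81b814d88033a71df00090c00000000eeb8fa2b5645780f81c82ad240000ff03a9a9eec4cfc66e2a031e07440000f0f5a6c165ccac1355e315b7f4080000ccc62ac0f87491ae793c1de4d8e60000aaa14b42bda6e72ba39bb3a70912))
noncomputable def ln85 : Lt := ⟨Tn85, n85⟩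
theorem on85 : OK 112 (H79.RepHS.ρ).range ln85 := OK.of (m := 7) (by norm_num) (H := 128) ga87 (by decide +kernel)
noncomputable def n86_0 : ℕ := 0xb432e02d372800
noncomputable def n86_1 : ℕ := 0x2a70c200000004aa7848
noncomputable def n86_2 : ℕ := 0x2da80001e00000006a00025a0
noncomputable def n86_3 : ℕ := 0xa001400c002200000180050000
noncomputable def n86_4 : ℕ := 0x400001001020004000040a00103
noncomputable def n86_5 : ℕ := 0x2008110000010000400000400102
noncomputable def n86_6 : ℕ := 0x2004090005409102402000200201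
noncomputable def n86_7 : ℕ := 0x2408113200c90000488012400881
noncomputable def n86_8 : ℕ := 0x400301001020004040870e1c383
noncomputable def n86_9 : ℕ := 0xa401500c0062000004900d803c
noncomputable def n86_10 : ℕ := 0x29290001e00000006a00025a0
noncomputable def n86_11 : ℕ := 0x2b70c200000004aa7848
noncomputable def n86_12 : ℕ := 0xb432e02d372800
noncomputable def n86 : Net := .cons 56 n86_0 <| .cons 28 n86_1 <| .cons 14 n86_2 <| .cons 7 n86_3 <| .cons 4 n86_4 <| .cons 2 n86_5 <| .cons 1 n86_6 <| .cons 2 n86_7 <| .cons 4 n86_8 <| .cons 7 n86_9 <| .cons 14 n86_10 <| .cons 28 n86_11 <| .cons 56 n86_12 <| .nil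
noncomputable def La88 : List Net := n86 :: La87
theorem ga88 : Good 112 (H79.RepHS.ρ).range La88 :=
  Good.word (m := 7) (by norm_num) ga87 (w := [165,160,163,154,158,157,152]) (by decide +kernel)
noncomputable def Tn86 : H88.Tr := (.leaf (nat_lit 0) (nat_lit 0xfffa6386e206c19ea20811102c8c0000fffe045918592c2120b5062bc850000000004bd8baf1be829e616dc6a20c0000ff057d974e217c484600e70f76b40000f0f452574be0a0fc41f274f1f30c0000ccc9c2737d1c5cd26a8e4bfcc6040000aaaf36ff930a6a620ce8b19e034e))
noncomputable def ln86 : Lt := ⟨Tn86, n86⟩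
theorem on86 : OK 112 (H79.RepHS.ρ).range ln86 := OK.of (m := 7) (by norm_num) (H := 128) ga88 (by decide +kernel)
noncomputable def n87_0 : ℕ := 0xb9c0942413492
noncomputable def n87_1 : ℕ := 0xfe72c00000000066100b0
noncomputable def n87_2 : ℕ := 0x1db80001cda00010180002350
noncomputable def n87_3 : ℕ := 0x1680180080040010005800c0010
noncomputable def n87_4 : ℕ := 0xc100040c0c00204100800008205
noncomputable def n87_5 : ℕ := 0x40900004000004000020000100
noncomputable def n87_6 : ℕ := 0x2854a05025400102000812840204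
noncomputable def n87_7 : ℕ := 0x24400012440000000c1930000181
noncomputable def n87_8 : ℕ := 0x8080800c0400606040000400387
noncomputable def n87_9 : ℕ := 0x1fc02e0000041016c04200c006a
noncomputable def n87_10 : ℕ := 0x6c0001cda000150a0000660
noncomputable def n87_11 : ℕ := 0xfce297100000006611a28
noncomputable def n87_12 : ℕ := 0xb94090667c400
noncomputable def n87 : Net := .cons 56 n87_0 <| .cons 28 n87_1 <| .cons 14 n87_2 <| .cons 7 n87_3 <| .cons 4 n87_4 <| .cons 2 n87_5 <| .cons 1 n87_6 <| .cons 2 n87_7 <| .cons 4 n87_8 <| .cons 7 n87_9 <| .cons 14 n87_10 <| .cons 28 n87_11 <| .cons 56 n87_12 <| .nil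
noncomputable def La89 : List Net := n87 :: La88
theorem ga89 : Good 112 (H79.RepHS.ρ).range La89 :=
  Good.word (m := 7) (by norm_num) ga88 (w := [171,172,172,167,162,167,156,161,159]) (by decide +kernel)
noncomputable def Tn87 : H88.Tr := (.leaf (nat_lit 0) (nat_lit 0xfff5463a360315cb8a20240a66020000fffa918709004635f08dd340911000000003bfe9cb2d29aa5e614e9180120000ff0604e158edd31836fb327a2c920000f0f94ce05fc5707e4841b3e5cc680000cccb8786a9e4c07d3d6c2c8d66c60000aaa1b2246fbef5cd31b11986ad30))
noncomputable def ln87 : Lt := ⟨Tn87, n87⟩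
theorem on87 : OK 112 (H79.RepHS.ρ).range ln87 := OK.of (m := 7) (by norm_num) (H := 128) ga89 (by decide +kernel)
noncomputable def n88_0 : ℕ := 0xbc7570f40d07ac
noncomputable def n88_1 : ℕ := 0xd88312c00000002375670
noncomputable def n88_2 : ℕ := 0x2d88000208a00010a80000210
noncomputable def n88_3 : ℕ := 0x1b00080130072010004001c8000
noncomputable def n88_4 : ℕ := 0x804185081430000183850800100
noncomputable def n88_5 : ℕ := 0x2008100000000020400020000000
noncomputable def n88_6 : ℕ := 0x2044081081408520402910804000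
noncomputable def n88_7 : ℕ := 0x448003220c81000000832000102
noncomputable def n88_8 : ℕ := 0xa141870a1030002182870008082
noncomputable def n88_9 : ℕ := 0x134056002803f01800620148022
noncomputable def n88_10 : ℕ := 0xb90000cca00008e80003790
noncomputable def n88_11 : ℕ := 0x40f92ca00000002375662
noncomputable def n88_12 : ℕ := 0xbc719bfd07b6a6
noncomputable def n88 : Net := .cons 56 n88_0 <| .cons 28 n88_1 <| .cons 14 n88_2 <| .cons 7 n88_3 <| .cons 4 n88_4 <| .cons 2 n88_5 <| .cons 1 n88_6 <| .cons 2 n88_7 <| .cons 4 n88_8 <| .cons 7 n88_9 <| .cons 14 n88_10 <| .cons 28 n88_11 <| .cons 56 n88_12 <| .nil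
noncomputable def La90 : List Net := n88 :: La89
theorem ga90 : Good 112 (H79.RepHS.ρ).range La90 :=
  Good.word (m := 7) (by norm_num) ga89 (w := [175,175,175,169,165,158,162,161]) (by decide +kernel)
noncomputable def Tn88 : H88.Tr := (.leaf (nat_lit 0) (nat_lit 0xfff340f30e9b0b908a18b800b0500000fff01e0889c0240b45c535530f2800000005cbd8d2152ec2f2ab44b83b880000ff0a121f575dc62a1bb8405e57940000f0fa7cfaf278607bc03a0bb8c6200000ccce14cb91f0be13382e96c5f1ca0000aaac5d83f3a7c0860498adb3bd96))
noncomputable def ln88 : Lt := ⟨Tn88, n88⟩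
theorem on88 : OK 112 (H79.RepHS.ρ).range ln88 := OK.of (m := 7) (by norm_num) (H := 128) ga90 (by decide +kernel)
noncomputable def n89_0 : ℕ := 0xd3c821486d1c1a
noncomputable def n89_1 : ℕ := 0x9a9fc64000000061c3b86
noncomputable def n89_2 : ℕ := 0x38a00000d1800000e00001938
noncomputable def n89_3 : ℕ := 0x1b00100048074000801a0018056
noncomputable def n89_4 : ℕ := 0x4102060e102820800304080c085
noncomputable def n89_5 : ℕ := 0x8000040001000080020000000
noncomputable def n89_6 : ℕ := 0x2040012244a112204a042204205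
noncomputable def n89_7 : ℕ := 0x220c803060409220081130608803
noncomputable def n89_8 : ℕ := 0x61c08608141830e043040004285
noncomputable def n89_9 : ℕ := 0xa005001a007c009005c005805c
noncomputable def n89_10 : ℕ := 0x2a6000004d100001cb00015bc
noncomputable def n89_11 : ℕ := 0xa5f467000000041faa0e
noncomputable def n89_12 : ℕ := 0xd3cb2324703c8a
noncomputable def n89 : Net := .cons 56 n89_0 <| .cons 28 n89_1 <| .cons 14 n89_2 <| .cons 7 n89_3 <| .cons 4 n89_4 <| .cons 2 n89_5 <| .cons 1 n89_6 <| .cons 2 n89_7 <| .cons 4 n89_8 <| .cons 7 n89_9 <| .cons 14 n89_10 <| .cons 28 n89_11 <| .cons 56 n89_12 <| .nil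
noncomputable def La91 : List Net := n89 :: La90
theorem ga91 : Good 112 (H79.RepHS.ρ).range La91 :=
  Good.word (m := 7) (by norm_num) ga90 (w := [174,176,166,171]) (by decide +kernel)
noncomputable def Tn89 : H88.Tr := (.leaf (nat_lit 0) (nat_lit 0xfff07012e8238302caa2b905305c0000fffc0bcb52c0641c144d036a21020000000afb1d1dd15725be23448d80a80000ff07f8c99f285e760428a811cd7a0000f0fa38dd14c430d1c3d8fa9fd8480000ccc5c59f21a5149a7466299fd78c0000aaaf2ef8491b308f1e3019db18f6))
noncomputable def ln89 : Lt := ⟨Tn89, n89⟩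
theorem on89 : OK 112 (H79.RepHS.ρ).range ln89 := OK.of (m := 7) (by norm_num) (H := 128) ga91 (by decide +kernel)
noncomputable def n90_0 : ℕ := 0xf346bed9dabe00
noncomputable def n90_1 : ℕ := 0x333d2a000000000bb1bb2
noncomputable def n90_2 : ℕ := 0x2f420002b1c000304c0003cc8
noncomputable def n90_3 : ℕ := 0x2004401b004000800660000064
noncomputable def n90_4 : ℕ := 0xa0018706082040c082830400203
noncomputable def n90_5 : ℕ := 0x2000100000000220409020000010
noncomputable def n90_6 : ℕ := 0x22042012a5088422508910a00014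
noncomputable def n90_7 : ℕ := 0x40c083240c08320441820440913
noncomputable def n90_8 : ℕ := 0xe04386000c20500002830610301
noncomputable def n90_9 : ℕ := 0x30014009c061019807e004004c
noncomputable def n90_10 : ℕ := 0x3bca000124e00030c500000d4
noncomputable def n90_11 : ℕ := 0x207c10a00000000b9b2bc
noncomputable def n90_12 : ℕ := 0xf34b57f0e3bf9c
noncomputable def n90 : Net := .cons 56 n90_0 <| .cons 28 n90_1 <| .cons 14 n90_2 <| .cons 7 n90_3 <| .cons 4 n90_4 <| .cons 2 n90_5 <| .cons 1 n90_6 <| .cons 2 n90_7 <| .cons 4 n90_8 <| .cons 7 n90_9 <| .cons 14 n90_10 <| .cons 28 n90_11 <| .cons 56 n90_12 <| .nil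
noncomputable def La92 : List Net := n90 :: La91
theorem ga92 : Good 112 (H79.RepHS.ρ).range La92 :=
  Good.word (m := 7) (by norm_num) ga91 (w := [177,175,179,164,166,166,161]) (by decide +kernel)
noncomputable def Tn90 : H88.Tr := (.leaf (nat_lit 0) (nat_lit 0xfff416b9418300464912346c08be0000fff2c0431adce031820deb0a31000000000a59beb87df4ed2152119428520000ff07487c592845fe87300a52e7f80000f0fc14f65e4017b1d87943f5e0320000ccc79006cfbd185ef0964dbce5140000aaadf16e8eaf85638e91b8a1806e))
noncomputable def ln90 : Lt := ⟨Tn90, n90⟩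
theorem on90 : OK 112 (H79.RepHS.ρ).range ln90 := OK.of (m := 7) (by norm_num) (H := 128) ga92 (by decide +kernel)
noncomputable def n91_0 : ℕ := 0xaf89e129331240
noncomputable def n91_1 : ℕ := 0x6184c4000000005b0bc4
noncomputable def n91_2 : ℕ := 0x1db80001c80000052400028a4
noncomputable def n91_3 : ℕ := 0x40044007000801900480040020
noncomputable def n91_4 : ℕ := 0x8000020a1800200000000c00006
noncomputable def n91_5 : ℕ := 0x408110004001024008120008110
noncomputable def n91_6 : ℕ := 0x2250211205029028008140a50210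
noncomputable def n91_7 : ℕ := 0x204110064081224009120008112
noncomputable def n91_8 : ℕ := 0x4142860a1800200080060c00086
noncomputable def n91_9 : ℕ := 0x1bc002007000801b00490040026
noncomputable def n91_10 : ℕ := 0x1ff80001c80000052400028a4
noncomputable def n91_11 : ℕ := 0x6184c4000000005b0bd4
noncomputable def n91_12 : ℕ := 0xaf89e129331240
noncomputable def n91 : Net := .cons 56 n91_0 <| .cons 28 n91_1 <| .cons 14 n91_2 <| .cons 7 n91_3 <| .cons 4 n91_4 <| .cons 2 n91_5 <| .cons 1 n91_6 <| .cons 2 n91_7 <| .cons 4 n91_8 <| .cons 7 n91_9 <| .cons 14 n91_10 <| .cons 28 n91_11 <| .cons 56 n91_12 <| .nil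
noncomputable def La93 : List Net := n91 :: La92
theorem ga93 : Good 112 (H79.RepHS.ρ).range La93 :=
  Good.word (m := 7) (by norm_num) ga92 (w := [178,181,178,174,170,174,169,167,162]) (by decide +kernel)
noncomputable def Tn91 : H88.Tr := (.leaf (nat_lit 0) (nat_lit 0xfff250ce4a6ac2c28a030a09303a0000fffd0630d08151d175b4253202400000000d16cc2725b7348268a1e6b2f20000ff034eb1ae00bf006c9a6b48deb60000f0ff9bd302401439fb53d3f0c0aa0000cccf125c8f5802c84d0dfcd7df600000aaa4f63bfd3b8c652b0157e01a62))
noncomputable def ln91 : Lt := ⟨Tn91, n91⟩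
theorem on91 : OK 112 (H79.RepHS.ρ).range ln91 := OK.of (m := 7) (by norm_num) (H := 128) ga93 (by decide +kernel)
noncomputable def n92_0 : ℕ := 0x31664302c1204
noncomputable def n92_1 : ℕ := 0xe454000000000022811c
noncomputable def n92_2 : ℕ := 0x36920003358000032800005e0
noncomputable def n92_3 : ℕ := 0x120016012007401e000c0108028
noncomputable def n92_4 : ℕ := 0x200040010400101040000004
noncomputable def n92_5 : ℕ := 0x2000000200000000000000008000
noncomputable def n92_6 : ℕ := 0x20100802a0001008408152210804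
noncomputable def n92_7 : ℕ := 0x2240803200010300041000048110
noncomputable def n92_8 : ℕ := 0x200040430404103070000006
noncomputable def n92_9 : ℕ := 0x128016012007401e000c0128028
noncomputable def n92_10 : ℕ := 0x3692000335800003a800005e0
noncomputable def n92_11 : ℕ := 0xe454000000000022811c
noncomputable def n92_12 : ℕ := 0x31664302c9204
noncomputable def n92 : Net := .cons 56 n92_0 <| .cons 28 n92_1 <| .cons 14 n92_2 <| .cons 7 n92_3 <| .cons 4 n92_4 <| .cons 2 n92_5 <| .cons 1 n92_6 <| .cons 2 n92_7 <| .cons 4 n92_8 <| .cons 7 n92_9 <| .cons 14 n92_10 <| .cons 28 n92_11 <| .cons 56 n92_12 <| .nil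
noncomputable def La94 : List Net := n92 :: La93
theorem ga94 : Good 112 (H79.RepHS.ρ).range La94 :=
  Good.word (m := 7) (by norm_num) ga93 (w := [178,178,182,182,177,174,173,166,170,165]) (by decide +kernel)
noncomputable def Tn92 : H88.Tr := (.leaf (nat_lit 0) (nat_lit 0xfff0d687016a478292283824881e0000fff709182205b4fe44c4402317800000000fd6cbc609817887f187dc12180000ff02c798cf859a01666b3e526e8c0000f0fc9cb0c0e5a075cc49b1c5e47e0000ccc6f4543cc9b1ac78a5baeccac00000aaadbb166eb28f4c096814e8afb8))
noncomputable def ln92 : Lt := ⟨Tn92, n92⟩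
theorem on92 : OK 112 (H79.RepHS.ρ).range ln92 := OK.of (m := 7) (by norm_num) (H := 128) ga94 (by decide +kernel)
noncomputable def n93_0 : ℕ := 0x8220c2a8230010
noncomputable def n93_1 : ℕ := 0x245b70000000006667600
noncomputable def n93_2 : ℕ := 0x24080000e2000019580002b10
noncomputable def n93_3 : ℕ := 0x2800000e004000500300090050
noncomputable def n93_4 : ℕ := 0x40000000100800a00307
noncomputable def n93_5 : ℕ := 0x90004008002048000
noncomputable def n93_6 : ℕ := 0x2108840a408912800a902850201
noncomputable def n93_7 : ℕ := 0x2000010000890004409822248103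
noncomputable def n93_8 : ℕ := 0x4000040000700100840a04307
noncomputable def n93_9 : ℕ := 0x2000200e00400050030009003a
noncomputable def n93_10 : ℕ := 0x258a0000e2000019d80000710
noncomputable def n93_11 : ℕ := 0xa45b70800000006667600
noncomputable def n93_12 : ℕ := 0x8220c2a8230010
noncomputable def n93 : Net := .cons 56 n93_0 <| .cons 28 n93_1 <| .cons 14 n93_2 <| .cons 7 n93_3 <| .cons 4 n93_4 <| .cons 2 n93_5 <| .cons 1 n93_6 <| .cons 2 n93_7 <| .cons 4 n93_8 <| .cons 7 n93_9 <| .cons 14 n93_10 <| .cons 28 n93_11 <| .cons 56 n93_12 <| .nil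
noncomputable def La95 : List Net := n93 :: La94
theorem ga95 : Good 112 (H79.RepHS.ρ).range La95 :=
  Good.word (m := 7) (by norm_num) ga94 (w := [185,183,179,177,175,178,170,172,172,166]) (by decide +kernel)
noncomputable def Tn93 : H88.Tr := (.leaf (nat_lit 0) (nat_lit 0xfff41db696eac50a22c8200b28000000fffbc0412c115410dc56c930901a00000003b5914bada8f92600dfb22e120000ff075769d88019a9ce39b66e61180000f0f91ad3d2502a59f6b939b2c2e00000cccf898da5d81989eb64aa954ea60000aaa0eaefe3b32d8c896a8de2a8d0))
noncomputable def ln93 : Lt := ⟨Tn93, n93⟩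
theorem on93 : OK 112 (H79.RepHS.ρ).range ln93 := OK.of (m := 7) (by norm_num) (H := 128) ga95 (by decide +kernel)
noncomputable def n94_0 : ℕ := 0x478c04b41a0490
noncomputable def n94_1 : ℕ := 0x4ea42b000000003250540
noncomputable def n94_2 : ℕ := 0x2320002c3400014820001604
noncomputable def n94_3 : ℕ := 0x28002006c00900280040024
noncomputable def n94_4 : ℕ := 0x404200081c00600040020c08304
noncomputable def n94_5 : ℕ := 0x48802040801000080022000802
noncomputable def n94_6 : ℕ := 0x244804080401008042112040814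
noncomputable def n94_7 : ℕ := 0x48800060489200088832400882
noncomputable def n94_8 : ℕ := 0x4041020e00386020c1020c18304
noncomputable def n94_9 : ℕ := 0x802f01ec04c00900250040024
noncomputable def n94_10 : ℕ := 0x23200028d40001482000160c
noncomputable def n94_11 : ℕ := 0x4e277bc00000003250540
noncomputable def n94_12 : ℕ := 0x478c04b41a0490
noncomputable def n94 : Net := .cons 56 n94_0 <| .cons 28 n94_1 <| .cons 14 n94_2 <| .cons 7 n94_3 <| .cons 4 n94_4 <| .cons 2 n94_5 <| .cons 1 n94_6 <| .cons 2 n94_7 <| .cons 4 n94_8 <| .cons 7 n94_9 <| .cons 14 n94_10 <| .cons 28 n94_11 <| .cons 56 n94_12 <| .nil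
noncomputable def La96 : List Net := n94 :: La95
theorem ga96 : Good 112 (H79.RepHS.ρ).range La96 :=
  Good.word (m := 7) (by norm_num) ga95 (w := [185,186,186,178,181,170,174,168]) (by decide +kernel)
noncomputable def Tn94 : H88.Tr := (.leaf (nat_lit 0) (nat_lit 0xfff5c29b0d5316448d012419040e0000fffe31248089659b52958304b10000000002ab9d61b47b9fa128c8b0a6920000ff02b067ec188b27c8faac74688e0000f0f0d89440d08af3db5075aef6e40000ccc69158bef818ea6e05bab17e420000aaa0b419cb22cee90f89dfdca938))
noncomputable def ln94 : Lt := ⟨Tn94, n94⟩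
theorem on94 : OK 112 (H79.RepHS.ρ).range ln94 := OK.of (m := 7) (by norm_num) (H := 128) ga96 (by decide +kernel)
noncomputable def n95_0 : ℕ := 0xe591a129a81a00
noncomputable def n95_1 : ℕ := 0x860142400000003417000
noncomputable def n95_2 : ℕ := 0x1c72000211000023820000a00
noncomputable def n95_3 : ℕ := 0x120042012003400000280148060
noncomputable def n95_4 : ℕ := 0x40c00300002800c002000400005
noncomputable def n95_5 : ℕ := 0x900000000020080002040800
noncomputable def n95_6 : ℕ := 0x214a10204080428100152240805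
noncomputable def n95_7 : ℕ := 0x2040902000818020089002040883
noncomputable def n95_8 : ℕ := 0x40c38700102830e002000404005
noncomputable def n95_9 : ℕ := 0x12804201e003400180280148060
noncomputable def n95_10 : ℕ := 0x1c72000211000023820000a00
noncomputable def n95_11 : ℕ := 0x860142400000003417000
noncomputable def n95_12 : ℕ := 0xe591a129aa1a00
noncomputable def n95 : Net := .cons 56 n95_0 <| .cons 28 n95_1 <| .cons 14 n95_2 <| .cons 7 n95_3 <| .cons 4 n95_4 <| .cons 2 n95_5 <| .cons 1 n95_6 <| .cons 2 n95_7 <| .cons 4 n95_8 <| .cons 7 n95_9 <| .cons 14 n95_10 <| .cons 28 n95_11 <| .cons 56 n95_12 <| .nil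
noncomputable def La97 : List Net := n95 :: La96
theorem ga97 : Good 112 (H79.RepHS.ρ).range La97 :=
  Good.word (m := 7) (by norm_num) ga96 (w := [186,188,178,180,183,174,176,170]) (by decide +kernel)
noncomputable def Tn95 : H88.Tr := (.leaf (nat_lit 0) (nat_lit 0xfff13178197394ad94802d0a20800000fffbce84040c665361275a010a020000000efa766e90d03e89f980ccba000000ff0602bd70bccbac69c934724f820000f0f03ff5d544405ce861e5f1d0e80000ccc6c6caac4851add4e4fbd446b40000aaa4aeabcf028d6ba70b17da12d2))
noncomputable def ln95 : Lt := ⟨Tn95, n95⟩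
theorem on95 : OK 112 (H79.RepHS.ρ).range ln95 := OK.of (m := 7) (by norm_num) (H := 128) ga97 (by decide +kernel)
noncomputable def n96_0 : ℕ := 0xcc05b577a15580
noncomputable def n96_1 : ℕ := 0xcc70f0a0000000c36612c
noncomputable def n96_2 : ℕ := 0x3140000104000020100002810
noncomputable def n96_3 : ℕ := 0xa00100090068004007000c0004
noncomputable def n96_4 : ℕ := 0x284000000408002860804200
noncomputable def n96_5 : ℕ := 0x2000801000000020008810
noncomputable def n96_6 : ℕ := 0x800201001001028002840004890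
noncomputable def n96_7 : ℕ := 0x812000811000401920248811
noncomputable def n96_8 : ℕ := 0x18384040020408003840c04200
noncomputable def n96_9 : ℕ := 0xa80120194069004001201d4014
noncomputable def n96_10 : ℕ := 0x205200018c100020190002c10
noncomputable def n96_11 : ℕ := 0xcc70f0a0000000c36612c
noncomputable def n96_12 : ℕ := 0xcc05b577a15580
noncomputable def n96 : Net := .cons 56 n96_0 <| .cons 28 n96_1 <| .cons 14 n96_2 <| .cons 7 n96_3 <| .cons 4 n96_4 <| .cons 2 n96_5 <| .cons 1 n96_6 <| .cons 2 n96_7 <| .cons 4 n96_8 <| .cons 7 n96_9 <| .cons 14 n96_10 <| .cons 28 n96_11 <| .cons 56 n96_12 <| .nil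
noncomputable def La98 : List Net := n96 :: La97
theorem ga98 : Good 112 (H79.RepHS.ρ).range La98 :=
  Good.word (m := 7) (by norm_num) ga97 (w := [194,192,194,194,194,190,188,180,184,179,174,178,173]) (by decide +kernel)
noncomputable def Tn96 : H88.Tr := (.leaf (nat_lit 0) (nat_lit 0xfff36f55a176800c43314c8004240000fff614825c8074c39e08163529400000000973040adffde340d4b178252c0000ff0d720ee10bbad4bda1b1a099850000f0f070f23378fdb89132a21cf8b40000ccc9d11b0b9b44ccaf5bd64fc4840000aaa63a2033a3611de898f6d2cd6f))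
noncomputable def ln96 : Lt := ⟨Tn96, n96⟩
theorem on96 : OK 112 (H79.RepHS.ρ).range ln96 := OK.of (m := 7) (by norm_num) (H := 128) ga98 (by decide +kernel)
noncomputable def n97_0 : ℕ := 0x6c4858d1808100
noncomputable def n97_1 : ℕ := 0xc8ed1200000000f8dac40
noncomputable def n97_2 : ℕ := 0x1a2200010b400016580000d80
noncomputable def n97_3 : ℕ := 0x12000a01a800001400140080020
noncomputable def n97_4 : ℕ := 0x181000400200180070e00104
noncomputable def n97_5 : ℕ := 0x100000800004400000008000
noncomputable def n97_6 : ℕ := 0x80489000448100240a852a04080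
noncomputable def n97_7 : ℕ := 0x40102000800124480130608001
noncomputable def n97_8 : ℕ := 0x4003810e04002001c1870e10104
noncomputable def n97_9 : ℕ := 0x12000a01a804801400140080028
noncomputable def n97_10 : ℕ := 0x1a2200010b400036580000d80
noncomputable def n97_11 : ℕ := 0xc8ed1200000000f8dae40
noncomputable def n97_12 : ℕ := 0x6c4858d1808100
noncomputable def n97 : Net := .cons 56 n97_0 <| .cons 28 n97_1 <| .cons 14 n97_2 <| .cons 7 n97_3 <| .cons 4 n97_4 <| .cons 2 n97_5 <| .cons 1 n97_6 <| .cons 2 n97_7 <| .cons 4 n97_8 <| .cons 7 n97_9 <| .cons 14 n97_10 <| .cons 28 n97_11 <| .cons 56 n97_12 <| .nil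
noncomputable def La99 : List Net := n97 :: La98
theorem ga99 : Good 112 (H79.RepHS.ρ).range La99 :=
  Good.word (m := 7) (by norm_num) ga98 (w := [195,196,196,194,194,193,193,193,183,184,187,178,178,180,174]) (by decide +kernel)
noncomputable def Tn97 : H88.Tr := (.leaf (nat_lit 0) (nat_lit 0xfffda57de642c94c0880148d00800000fffd4202113c2681c31283908f49000000029dc79ffcb420dc82e54c64280000ff00af1a6b2437aa6fe87f1638000000f0f2c033ea6962ac9099e97f1b380000cccbdebf543d0ef2a089564ba1050000aaaae2923647e0f1ee28bca9ee22))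
noncomputable def ln97 : Lt := ⟨Tn97, n97⟩
theorem on97 : OK 112 (H79.RepHS.ρ).range ln97 := OK.of (m := 7) (by norm_num) (H := 128) ga99 (by decide +kernel)
noncomputable def LS : List Lt := [ln0, ln1, ln2, ln3, ln4, ln5, ln6, ln7, ln8, ln9, ln10, ln11, ln12, ln13, ln14, ln15, ln16, ln17, ln18, ln19, ln20, ln21, ln22, ln23, ln24, ln25, ln26, ln27, ln28, ln29, ln30, ln31, ln32, ln33, ln34, ln35, ln36, ln37, ln38, ln39, ln40, ln41, ln42, ln43, ln44, ln45, ln46, ln47, ln48, ln49, ln50, ln51, ln52, ln53, ln54, ln55, ln56, ln57, ln58, ln59, ln60, ln61, ln62, ln63, ln64, ln65, ln66, ln67, ln68, ln69, ln70, ln71, ln72, ln73, ln74, ln75, ln76, ln77, ln78, ln79, ln80, ln81, ln82, ln83, ln84, ln85, ln86, ln87, ln88, ln89, ln90, ln91, ln92, ln93, ln94, ln95, ln96, ln97]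
theorem hLS : AOK 112 (H79.RepHS.ρ).range LS :=
  (AOK.cons on0 (AOK.cons on1 (AOK.cons on2 (AOK.cons on3 (AOK.cons on4 (AOK.cons on5 (AOK.cons on6 (AOK.cons on7 (AOK.cons on8 (AOK.cons on9 (AOK.cons on10 (AOK.cons on11 (AOK.cons on12 (AOK.cons on13 (AOK.cons on14 (AOK.cons on15 (AOK.cons on16 (AOK.cons on17 (AOK.cons on18 (AOK.cons on19 (AOK.cons on20 (AOK.cons on21 (AOK.cons on22 (AOK.cons on23 (AOK.cons on24 (AOK.cons on25 (AOK.cons on26 (AOK.cons on27 (AOK.cons on28 (AOK.cons on29 (AOK.cons on30 (AOK.cons on31 (AOK.cons on32 (AOK.cons on33 (AOK.cons on34 (AOK.cons on35 (AOK.cons on36 (AOK.cons on37 (AOK.cons on38 (AOK.cons on39 (AOK.cons on40 (AOK.cons on41 (AOK.cons on42 (AOK.cons on43 (AOK.cons on44 (AOK.cons on45 (AOK.cons on46 (AOK.cons on47 (AOK.cons on48 (AOK.cons on49 (AOK.cons on50 (AOK.cons on51 (AOK.cons on52 (AOK.cons on53 (AOK.cons on54 (AOK.cons on55 (AOK.cons on56 (AOK.cons on57 (AOK.cons on58 (AOK.cons on59 (AOK.cons on60 (AOK.cons on61 (AOK.cons on62 (AOK.cons on63 (AOK.cons on64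 (AOK.cons on65 (AOK.cons on66 (AOK.cons on67 (AOK.cons on68 (AOK.cons on69 (AOK.cons on70 (AOK.cons on71 (AOK.cons on72 (AOK.cons on73 (AOK.cons on74 (AOK.cons on75 (AOK.cons on76 (AOK.cons on77 (AOK.cons on78 (AOK.cons on79 (AOK.cons on80 (AOK.cons on81 (AOK.cons on82 (AOK.cons on83 (AOK.cons on84 (AOK.cons on85 (AOK.cons on86 (AOK.cons on87 (AOK.cons on88 (AOK.cons on89 (AOK.cons on90 (AOK.cons on91 (AOK.cons on92 (AOK.cons on93 (AOK.cons on94 (AOK.cons on95 (AOK.cons on96 (AOK.cons on97 AOK.nil))))))))))))))))))))))))))))))))))))))))))))))))))))))))))))))))))))))))))))))))))))))))))))))))))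
theorem fin0 : Finite (↥Cfsg.Spor.HS) := Nat.finite_of_card_ne_zero (by rw [H79.RepHS.card]; norm_num)
instance finB : Finite (H79.RepHS.ρ).range := by
  have := fin0
  exact finite_range _
theorem cardB : Nat.card (H79.RepHS.ρ).range = 44352000 := by rw [card_range (H79.RepHS.inj), H79.RepHS.card]
end H80.KFHS
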