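import Cfsg.Agent.H80.KFHSB
set_option maxRecDepth 1000000
set_option Elab.async false
namespace H80.KFHS
open H71 H81 H88 H80.KF H43.KF
theorem clT_0 : allZ (clsB 112 LS [3,8,2,1,0] mT MT) (mapApp [] (prods [AT1, AT2]) []) [[2],
  [],
  [],
  [0,21,19,19,17,16,21,13,15],
  [0,7,19,18,17,19,16],
  [],
  [],
  [0,23,7,20,7,15,16,12,18,19],
  [0,19,19,20,18,16,15,16,16,12,17],
  [],
  [],
  [0,23,21,20,7,16,16,13,12],
  [0,18,17,16,19,13,19,12],
  [],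
  [],
  [0,23,21,20,19,16,17,21,14],
  [0,22,18,23,23,15,21,18,14,13],
  [],
  [0,23,23,21,18,19,22,16,19],
  [0,19,22,16,16,18,12,17,18],
  [],
  [],
  [0,7,7,23,18,17,16,15,13,12,13],
  [],
  [],
  [0,23,7,20,17,12,17,18],
  [],
  [],
  [0,23,21,19,19,16,16,19,14,18,15],
  [0,7,19,15,16,21,12,18],
  [],
  [0,7,22,18,18,17,16,15,12,15,12],
  [],
  [0,7,23,7,22,19,19,17,14,14],
  [],
  [],
  [0,23,23,21,7,19,15,13,15],
  [0,21,18,16,19,20,12,17,16],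
  [],
  [0,19,17,16,21,12,14,16],
  [],
  [0,7,23,23,20,15,17,14],
  [],
  [],
  [0,20,7,15,21,18,12,17,13,18],
  [0,22,22,19,7,16,18,12,19,15],
  [],
  [0,23,7,19,18,19,16,22,12,12],
  [],
  [0,22,18,23,23,15,21,12,15],
  [0,22,22,15,18,15,12,19,17],
  [],
  [],
  [0,21,19,7,17,21,17,14,13],
  [0,7,7,7,16,18,15,12,14],
  [],
  [0,23,7,22,7,12,19],
  [],
  [],
  [0,21,19,18,20,16,15,13,14,19],
  [0,7,23,16,20,15,12,19,19],
  [],
  [],
  [0,7,16,18,14,16,16]] = true := by decide +kernel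
theorem clT_1 : allZ (clsB 112 LS [3,8,2,1,0] mT MT) (mapApp [33] (prods [AT1, AT2]) []) [[1,7,23,7,16,15,17,12,15,15],
  [0,7,22,16,15,19,12,14],
  [0,23,22,23,18,18,15,21,15,13,15],
  [1,7,22,16,17,21,12,14,12],
  [1,21,19,16,12,12,17,14],
  [0,18,12,17,15],
  [0,22,22,19,7,16,16,22,12,18],
  [1,19,7,23,16,22,15,13,15],
  [],
  [],
  [],
  [],
  [],
  [],
  [],
  [],
  [],
  [],
  [],
  [],
  [],
  [],
  [],
  [],
  [],
  [],
  [],
  [],
  [],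
  [],
  [],
  [],
  [],
  [],
  [],
  [],
  [],
  [],
  [],
  [],
  [],
  [],
  [],
  [],
  [],
  [],
  [],
  [],
  [0,22,23,7,18,19,18,12,15,15],
  [1,7,20,20,16,20,15,12,15],
  [1,21,7,22,18,17,14,12,16],
  [0,23,23,16,15,16,14],
  [0,18,7,17,18,13,19,15],
  [1,23,7,23,21,7,18,15,15,16,12],
  [1,21,20,23,18,16,19,13,15],
  [0,7,19,7,18,16,16,19,13,12,13],
  [],
  [],
  [],
  [],
  [],
  [],
  [],
  []] = true := by decide +kernel
theorem clT_2 : allZ (clsB 112 LS [3,8,2,1,0] mT MT) (mapApp [32] (prods [AT1, AT2]) []) [[],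
  [],
  [],
  [],
  [],
  [],
  [],
  [],
  [],
  [],
  [],
  [],
  [],
  [],
  [],
  [],
  [],
  [],
  [],
  [],
  [],
  [],
  [],
  [],
  [],
  [],
  [],
  [],
  [],
  [],
  [],
  [],
  [],
  [],
  [],
  [],
  [],
  [],
  [],
  [],
  [],
  [],
  [],
  [],
  [],
  [],
  [],
  [],
  [],
  [],
  [],
  [],
  [],
  [],
  [],
  [],
  [],
  [],
  [],
  [],
  [],
  [],
  [],
  []] = true := by decide +kernel
theorem clT_3 : allZ (clsB 112 LS [3,8,2,1,0] mT MT) (mapApp [31] (prods [AT1, AT2]) []) [[],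
  [],
  [],
  [],
  [1,23,7,7,7,18,7,19,17,12,14],
  [],
  [],
  [1,20,23,15,19,17,12,17,13,18],
  [],
  [],
  [],
  [],
  [],
  [],
  [],
  [],
  [],
  [],
  [1,18,7,15,19,19,12,12,19],
  [],
  [],
  [],
  [1,23,22,20,20,17,14,12,13],
  [],
  [],
  [],
  [],
  [],
  [1,7,23,23,18,15,15,17,12,13],
  [],
  [],
  [1,19,19,22,15,16,15],
  [],
  [],
  [],
  [],
  [],
  [],
  [],
  [],
  [],
  [],
  [],
  [],
  [],
  [],
  [],
  [],
  [],
  [],
  [1,23,23,7,16,18,22,14,12,14],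
  [],
  [],
  [],
  [1,22,22,15,16,21,14,13],
  [],
  [],
  [],
  [],
  [],
  [],
  [],
  [],
  []] = true := by decide +kernel
theorem clT_4 : allZ (clsB 112 LS [3,8,2,1,0] mT MT) (mapApp [32,33] (prods [AT1, AT2]) []) [[],
  [],
  [],
  [],
  [],
  [],
  [],
  [],
  [],
  [],
  [1,19,7,18,15,12,13,16],
  [],
  [],
  [],
  [1,21,19,19,7,15,15,13,17,13],
  [],
  [],
  [],
  [],
  [],
  [],
  [],
  [],
  [],
  [],
  [],
  [],
  [],
  [],
  [],
  [],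
  [],
  [],
  [],
  [],
  [],
  [1,22,18,19,7,17,14,12,13],
  [],
  [],
  [1,7,22,22,18,18,13,12],
  [],
  [],
  [],
  [],
  [1,23,21,18,18,15,13,19,15],
  [],
  [],
  [1,7,16,16,20,14,16,18],
  [],
  [],
  [],
  [],
  [],
  [],
  [],
  [],
  [],
  [],
  [1,23,21,19,19,7,17,19,16,13],
  [],
  [],
  [],
  [1,22,22,23,19,20,19,12,12,19],
  []] = true := by decide +kernel
theorem clT_5 : allZ (clsB 112 LS [3,8,2,1,0] mT MT) (mapApp [31,33] (prods [AT1, AT2]) []) [[0,22,18,19,18,16,18,18,13,19],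
  [1,7,22,7,20,17,19,18,13,19],
  [],
  [0,23,23,18,7,16,19,12,14,12],
  [],
  [1,19,7,16,20,12,14,12],
  [],
  [],
  [],
  [],
  [],
  [],
  [],
  [],
  [],
  [],
  [],
  [],
  [0,7,19,15,18,20,14,18],
  [],
  [1,23,22,23,20,15,15,12,15,14],
  [],
  [0,23,7,22,22,19,17,13,12,13],
  [1,7,7,7,20,17,21,13,18,15],
  [],
  [],
  [1,7,19,18,17,15,15,14,18],
  [],
  [0,22,20,23,16,15,17,13,17],
  [],
  [1,7,22,23,7,17,21,14,18],
  [0,7,18,19,19,16,17,15,14,14,17],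
  [],
  [],
  [],
  [],
  [],
  [],
  [],
  [],
  [],
  [],
  [],
  [],
  [],
  [],
  [],
  [],
  [1,7,7,19,18,17,15,15],
  [0,23,22,16,19,20,14,12,14],
  [],
  [1,23,22,23,20,15,17,13,12,12],
  [],
  [0,7,19,7,21,16,18,12,15],
  [],
  [],
  [],
  [],
  [],
  [],
  [],
  [],
  [],
  []] = true := by decide +kernel
theorem clT_6 : allZ (clsB 112 LS [3,8,2,1,0] mT MT) (mapApp [33,32] (prods [AT1, AT2]) []) [[],
  [],
  [],
  [],
  [],
  [],
  [],
  [],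
  [],
  [1,7,23,7,20,20,12,19,15],
  [],
  [],
  [],
  [1,23,19,7,22,17,19,16,13,19],
  [],
  [],
  [],
  [],
  [],
  [],
  [],
  [],
  [],
  [],
  [],
  [],
  [],
  [],
  [],
  [],
  [],
  [],
  [],
  [1,22,22,15,19,20,13,14,17],
  [],
  [],
  [],
  [1,21,19,19,20,14,13],
  [],
  [],
  [],
  [1,23,21,19,21,17,18,14,13],
  [],
  [],
  [],
  [1,7,7,23,16,16,17,13,15,15],
  [],
  [],
  [],
  [],
  [],
  [],
  [],
  [],
  [],
  [],
  [],
  [1,22,22,7,18,23,17,12,13,15],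
  [],
  [],
  [],
  [1,7,18,19,20,15,19,12,19],
  [],
  []] = true := by decide +kernel
theorem clT_7 : allZ (clsB 112 LS [3,8,2,1,0] mT MT) (mapApp [31,32] (prods [AT1, AT2]) []) [[],
  [],
  [],
  [],
  [],
  [],
  [],
  [],
  [],
  [],
  [],
  [],
  [],
  [],
  [],
  [],
  [],
  [],
  [],
  [],
  [],
  [],
  [],
  [],
  [],
  [],
  [],
  [],
  [],
  [],
  [],
  [],
  [],
  [],
  [],
  [],
  [],
  [],
  [],
  [],
  [],
  [],
  [],
  [],
  [],
  [],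
  [],
  [],
  [],
  [],
  [],
  [],
  [],
  [],
  [],
  [],
  [],
  [],
  [],
  [],
  [],
  [],
  [],
  []] = true := by decide +kernel
end H80.KFHS
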