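import Cfsg.Agent.H80.KFHeL0
set_option maxRecDepth 1000000
set_option Elab.async false
namespace H80.KFHe
open H71 H81 H88 H80.KF H43.KF
noncomputable def D0_0 : ℕ := 0x3ffffffffffffffffffffffffffffffffffffffffffffffffffffffffffffffffffffffffffffffffffffffffffffffffffffffffffffffffffffffffffffffffffffffffffffffffffffffffffffffffffffffffffffffffffffffffffffffffffffffffffffffffffffffffffffffffffffffffffffffffffffffffffffffffffffffffffffffffffffffffffffffffffffffffffffffffffffffffffffffffffffffffffffffffffffffffffffffffffffffffffffffffffffffffffffffffffffffffffffffffffffffffffffffffffffffffffffffffffffffffffffffffffffffffffffffffffffffffffffffffffffffffffffffffffffffffffffffffff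
noncomputable def S0_0 : H88.Tr := (.node (nat_lit 1280) (.node (nat_lit 640) (.node (nat_lit 256) (.node (nat_lit 128) (.leaf (nat_lit 0) (nat_lit 0xf9d28883735be46cd307eb32c49a61b4ec6fe7f3c6ef7bba59f64f46e7b7a9a8f888a117dbf6f899e1566fb97d07bae4))
 (.leaf (nat_lit 128) (nat_lit 0xb3e035868de82c24a1c4cde9df20a02591efe6cd7c1e6f606ff7a09ef6b74a79b37565f58ac3345ae7ca2de3ece3d0c9)))
 (.node (nat_lit 384) (.leaf (nat_lit 256) (nat_lit 0xbaa1ad16e70db029b9905cfc72250c70c4b0592e703f7943c9eebf8fc6b9edea62bdc918da45b034a8df554695bffe6e))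
 (.node (nat_lit 512) (.leaf (nat_lit 384) (nat_lit 0x3af1648ea11b355c51040914886604f4087d62a2938f8c2952b2f37f7eeb2ff20781cb512d9f81c4cbb5d0c71088916e))
 (.leaf (nat_lit 512) (nat_lit 0xfaeaad951aaa8f6b1682e3ab50e932958e4302bef9760a8ce3477d2b0fe59f43c9d8cbfb5342799ae13efe6d19f7e13d)))))
 (.node (nat_lit 896) (.node (nat_lit 768) (.leaf (nat_lit 640) (nat_lit 0x4905e551e98c074f455f1f2ac7a3a78ca92539e8a86fb746f8c95f88e56393ef09e73a5bff4bd469c8c4ae6cc83b33e8))
 (.leaf (nat_lit 768) (nat_lit 0x5821e4d54c7b1d405312b9985f2fd9b28b0621496241eb4dc3949313beaa11647957445a0cd388252e80e39af311f4e2)))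
 (.node (nat_lit 1024) (.leaf (nat_lit 896) (nat_lit 0xf2d618c7a5dacb38447417fb36fa0bdce598620ac06cf70a6cfbe28041a700970a56b04427ce3c9ff00c7de62a354c2a))
 (.node (nat_lit 1152) (.leaf (nat_lit 1024) (nat_lit 0xc11b7231f9c99f78fb209b9f502bd53f6c11bc54049a242237505d49f5c67916bfefba43d43da41280b94166c5f8a6e9))
 (.leaf (nat_lit 1152) (nat_lit 0xba7ade820475daa0bba27b02c2412a86a13359a88281d7712f9c4be66d0a22bd3a9f58bd7df160b30779ca5f7bc725bf))))))
 (.node (nat_lit 1920) (.node (nat_lit 1536) (.node (nat_lit 1408) (.leaf (nat_lit 1280) (nat_lit 0xdd89086b1138346dd0ddf48e675126705d0567c141a5b7ec19fba96cd906847ae6ff08b00564b2f006be0b45d54f8d2f))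
 (.leaf (nat_lit 1408) (nat_lit 0x518ade74ad2b22d9582756681b7faf88d31ec9938526dd13ac4a5f0e74627573a6e463d18aa8fc92878802334636c865)))
 (.node (nat_lit 1664) (.leaf (nat_lit 1536) (nat_lit 0x6c58a6d83d16e1f84cf93560d027e5b6b4ca254919c0478fe49c00ed9b98fc3507c4f576ba346453521b77dc7ee1f297))
 (.node (nat_lit 1792) (.leaf (nat_lit 1664) (nat_lit 0x1a1632574ea60010e70c2c03d079e02ab88b73683de82e55a8c0e8d79db2d1d8a3446f9dca1198ccefd05017b731bf68))
 (.leaf (nat_lit 1792) (nat_lit 0x4756337593d86abf8deeac7c97cad8b5bdf3da4becb216e108f74ad883deb0e1e7c0dbbdc8f12912a8bff5bf19980c96)))))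
 (.node (nat_lit 2176) (.node (nat_lit 2048) (.leaf (nat_lit 1920) (nat_lit 0xa8bc2271cde1f874d34bdce95f39435a1dd14bf8314f6c4f0267618c7c5538accc1143e9c82e16b4b2b41696040f0495))
 (.leaf (nat_lit 2048) (nat_lit 0xb4000000000000000000000000000000ab000000000000000000000000000003b8)))
 (.leaf (nat_lit 0) (nat_lit 0)))))
noncomputable def v0_0 : Lv := ⟨(nat_lit 0), D0_0, 2058, wd LS [18,20,17,16,19,21,22,15], [2,3,7,0,4,5,3,1,2,0,6,7,5,0,0], S0_0, true, (nat_lit 0), (nat_lit 0), 0, 0, 0, []⟩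
noncomputable def D0_1 : ℕ := 0x3fffffffffffffffffffffffffffffffffffffffffffffffffffffffffffffffffffffffffffffffffffffffffffffffffffffffffffffffffffffffffffffffffffffffffffffffffffffffffffffffffffffffffffffffffffffffffffffffffffffffffffffffffffffffffffffffffffffffffffffffffffffffffffffffffffffffffffffffffffffffffffffffffffffffffffffffffffffffffffffffffffffffffffffffffffc000000000000000000000000000000000000000000000000000000000000000000000000000000000000000000000000000000000000000000000000000000000000000000000000000000000000000000000000000000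
noncomputable def S0_1 : H88.Tr := (.node (nat_lit 1280) (.node (nat_lit 640) (.leaf (nat_lit 0) (nat_lit 0))
 (.node (nat_lit 896) (.node (nat_lit 768) (.leaf (nat_lit 640) (nat_lit 0xd014e210c080000108000000000000006af5809689988301a00000000000000038e7513451556b80c800000000000000))
 (.leaf (nat_lit 768) (nat_lit 0x13df2d36abdf79d07bfda86e1f553b0bf40499154608a25df4af3556a23cd6b1992c50a9adc30d42dce516a3639303f3)))
 (.node (nat_lit 1024) (.leaf (nat_lit 896) (nat_lit 0x321200921d0a251acddea0d59d909bb68a8b0aa3c0c7209572c5d1ad1e65c56d8b6cddcce3c50f4fbf074c01eebba6e1))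
 (.node (nat_lit 1152) (.leaf (nat_lit 1024) (nat_lit 0x6738089d410a12183509b02689004db47031c4085dd6e7a0961c9293105cd7b617259b6b3572fd63ade684e474d8f0a4))
 (.leaf (nat_lit 1152) (nat_lit 0x29245f8251aa3f4975079b5981049aa0f84b5d49927c2bb31c8837b9c606ebecb4431980f2f424877272eeb94cc36779))))))
 (.node (nat_lit 1920) (.node (nat_lit 1536) (.node (nat_lit 1408) (.leaf (nat_lit 1280) (nat_lit 0x40d20ab9c1134121036619a00e3b198bfda9146302229ac9573d0193e7f400b23473d36b4ea580d605fc768010dddd4c))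
 (.leaf (nat_lit 1408) (nat_lit 0xe939d269101ba49a75a08478dae40a06f77a5ad448b39862e227c25e01d6e0b2d698dab97163586f3da941134d908ab7)))
 (.node (nat_lit 1664) (.leaf (nat_lit 1536) (nat_lit 0x75320189b11df8127a4dc0b23467f6c5a611a1d7f9bf9f000fddeb116b8baf94e04b3a9f574cb7451fab9bf6cafed5fc))
 (.node (nat_lit 1792) (.leaf (nat_lit 1664) (nat_lit 0x3f39c1f3f5c9ea01fcbe919000b2918864cc2fc819276528f5526ca28ba86de516446d4bfbd26bafb0825c3a215c3890))
 (.leaf (nat_lit 1792) (nat_lit 0xaa3f575b870dc3b0f8a339e31deaabed73e3dea22472d02d5f3aee091fe816eb0ccb8510b4f9e87f8e035b6b598a8b8d)))))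
 (.node (nat_lit 2176) (.node (nat_lit 2048) (.leaf (nat_lit 1920) (nat_lit 0x5f2fba0f44cdbb6f01bbae8cc839ca60ac6aa711ed963674bc587816117833664af362e255fc28e0ba8dcf4c809ed5df))
 (.leaf (nat_lit 2048) (nat_lit 0x3a90000000000000000000000000000037a000000000000000000000000000000b4)))
 (.leaf (nat_lit 0) (nat_lit 0)))))
noncomputable def v0_1 : Lv := ⟨(nat_lit 698), D0_1, 1360, wd LS [20,18,21,19,22,23,7,8], [0,1,3,0,2,4,1,7,0,4,3,2,1,0], S0_1, true, (nat_lit 0), (nat_lit 0), 0, 0, 0, []⟩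
noncomputable def D0_2 : ℕ := 0x3fffffffffffffffffffffffffffffffffffffffffffffffffffffffffffffffffffffffffffffffffffffffffc0000000000000000000000000000000000000000000000000000000000000000000000000000000000000000000000000000000000000000000000000000000000000000000000000000000000000000000000000000000000000000000000000000000000000000000000000000000000000000000000000000000000000000000000000000000000000000000000000000000000000000000000000000000000000000000000
noncomputable def S0_2 : H88.Tr := (.node (nat_lit 1280) (.leaf (nat_lit 0) (nat_lit 0))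
 (.node (nat_lit 1920) (.node (nat_lit 1536) (.node (nat_lit 1408) (.leaf (nat_lit 1280) (nat_lit 0x40100290004000000000000000000000a6a9ec00100af4544000000000000000a80a2800ee3503d1c000000000000000))
 (.leaf (nat_lit 1408) (nat_lit 0x9b010800010028200020911608200101246e309a946b5398340d66a150c2d0a2042262427a59d693f0d72a60520d1c84)))
 (.node (nat_lit 1664) (.leaf (nat_lit 1536) (nat_lit 0x21103221000404800420009912053260044144c481c8280f121d570444c8050c8622c54a9d21e32c4a42f62640884591))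
 (.node (nat_lit 1792) (.leaf (nat_lit 1664) (nat_lit 0xc01820900000000000000000000000002c04152500000000000000000000000013c6d120))
 (.leaf (nat_lit 1792) (nat_lit 0)))))
 (.leaf (nat_lit 0) (nat_lit 0))))
noncomputable def v0_2 : Lv := ⟨(nat_lit 1338), D0_2, 360, wd LS [21,22,23,7,8], [0,1,2,0,4,2,1,0,2,4,2,0], S0_2, true, (nat_lit 0), (nat_lit 0), 0, 0, 0, []⟩
noncomputable def D0_3 : ℕ := 0x1e000
noncomputable def S0_3 : H88.Tr := (.node (nat_lit 1280) (.node (nat_lit 640) (.node (nat_lit 256) (.node (nat_lit 128) (.leaf (nat_lit 0) (nat_lit 0xc000))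
 (.leaf (nat_lit 128) (nat_lit 0)))
 (.leaf (nat_lit 0) (nat_lit 0)))
 (.leaf (nat_lit 0) (nat_lit 0)))
 (.leaf (nat_lit 0) (nat_lit 0)))
noncomputable def v0_3 : Lv := ⟨(nat_lit 13), D0_3, 4, wd LS [7,8], [0,1], S0_3, true, (nat_lit 0), (nat_lit 0), 0, 0, 0, []⟩
noncomputable def L0 : List Lv := [v0_0, v0_1, v0_2, v0_3]
theorem lok0 : LOK 2560 (H71.He.ρ).range L0 :=
  (LOK.cons (hLS.wd (w := [18,20,17,16,19,21,22,15]) (by decide +kernel))
  (LOK.cons (hLS.wd (w := [20,18,21,19,22,23,7,8]) (by decide +kernel))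
  (LOK.cons (hLS.wd (w := [21,22,23,7,8]) (by decide +kernel))
  (LOK.cons (hLS.wd (w := [7,8]) (by decide +kernel))
  LOK.nil))))
theorem lb0_0 : lbLv 12 2560 v0_0 [v0_1, v0_2, v0_3] = true := by decide +kernel
theorem lb0_1 : lbLv 12 2560 v0_1 [v0_2, v0_3] = true := by decide +kernel
theorem lb0_2 : lbLv 12 2560 v0_2 [v0_3] = true := by decide +kernel
theorem lb0_3 : lbLv 12 2560 v0_3 [] = true := by decide +kernel
theorem lb0 : LB 12 2560 L0 := ⟨lb0_0, ⟨lb0_1, ⟨lb0_2, ⟨lb0_3, trivial⟩⟩⟩⟩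
theorem ch0 : Ch 2560 L0 (H71.He.ρ).range := lb_exact L0 _ lok0 lb0 (by rw [cardB]; decide +kernel)
theorem base : IsBase 2560 (H71.He.ρ).range [13,1338,698,0] := ch0.isBase
theorem hB : (H71.He.ρ).range ≤ supp 2560 :=
  (eq_of_lb (B' := (H71.He.ρ).range ⊓ supp 2560) inf_le_left (fun v hv a ha => (lok0 v hv a ha).mono ⟨(lok0 v hv a ha).2.1, (lok0 v hv a ha).supp⟩) lb0
    (by rw [cardB]; decide +kernel)).ge.trans inf_le_right
def AT0 : Sl := ⟨[34,33,32,31,30,29,28,27,26,25], [[],
  [34],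
  [33],
  [32],
  [33,34],
  [32,34],
  [34,33],
  [32,33]], [[(1, []), (0, [29,30,31,26,28]), (6, []), (5, [27,25]), (7, [29,30,31,26,28]), (3, [29,30,31,26,27,28,25]), (2, [29,30,31,26,27,28]), (4, [27])],
  [(2, []), (4, []), (0, [29,30,31,28]), (7, [30,31]), (1, [29,28]), (6, [30,31,25]), (5, [29,30,31,28]), (3, [29,28,25])],
  [(3, []), (5, []), (7, []), (0, []), (6, []), (1, []), (4, []), (2, [])],
  [(0, [31]), (1, [29,30,26,28]), (2, [29,30,28,25]), (3, [30,27,25]), (4, [30,26,25]), (5, [29,31,26,27,28,25]), (6, [31,26,27]), (7, [29,31,27,28])],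
  [(0, [30]), (1, [29,31,26,28]), (2, [29,31,28]), (3, [31,27,25]), (4, [31,26]), (5, [29,30,26,27,28,25]), (6, [30,26,27,25]), (7, [29,30,27,28,25])],
  [(0, [29]), (1, [26,28]), (2, [29,27]), (3, [29,27,25]), (4, [26,27,28]), (5, [26,27,28,25]), (6, [26,28]), (7, [29])],
  [(0, [28]), (1, [29,30,31,26]), (2, [27,28]), (3, [27,28,25]), (4, [29,30,31,26,27]), (5, [29,30,31,26,27,25]), (6, [29,30,31,26]), (7, [28])],
  [(0, [27]), (1, [27]), (2, [27,25]), (3, [27]), (4, [27,25]), (5, [27]), (6, [27,25]), (7, [27,25])],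
  [(0, [26]), (1, [30,31,26,25]), (2, [26,27]), (3, [26]), (4, [30,31,26,27,25]), (5, [30,31,26,25]), (6, [30,31,26,27,25]), (7, [26,27])],
  [(0, [25]), (1, [25]), (2, [25]), (3, [25]), (4, [25]), (5, [25]), (6, [25]), (7, [25])]]⟩
theorem rAT0 : relP LS [13,1338,698,0] (schR AT0) = true := by decide +kernel
def AT1 : Sl := ⟨[31,30,29,28,27,26,25], [[],
  [31],
  [30],
  [29],
  [30,31],
  [29,31],
  [29,30],
  [29,30,31]], [[(1, []), (0, []), (4, [25]), (5, [25]), (2, [25]), (3, [25]), (7, []), (6, [])],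
  [(2, []), (4, []), (0, [25]), (6, []), (1, [25]), (7, []), (3, [25]), (5, [25])],
  [(3, []), (5, []), (6, []), (0, [25]), (7, []), (1, [25]), (2, [25]), (4, [25])],
  [(0, [28]), (1, [28]), (2, [28,25]), (3, [28]), (4, [28,25]), (5, [28]), (6, [28,25]), (7, [28,25])],
  [(0, [27]), (1, [27,25]), (2, [27,25]), (3, [27]), (4, [27]), (5, [27,25]), (6, [27,25]), (7, [27])],
  [(0, [26]), (1, [26]), (2, [26]), (3, [26]), (4, [26]), (5, [26]), (6, [26]), (7, [26])],
  [(0, [25]), (1, [25]), (2, [25]), (3, [25]), (4, [25]), (5, [25]), (6, [25]), (7, [25])]]⟩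
theorem rAT1 : relP LS [13,1338,698,0] (schR AT1) = true := by decide +kernel
def AT2 : Sl := ⟨[28,27,26,25], [[],
  [28],
  [27],
  [26],
  [27,28],
  [26,28],
  [26,27],
  [26,27,28]], [[(1, []), (0, [25]), (4, []), (5, [25]), (2, [25]), (3, []), (7, [25]), (6, [])],
  [(2, []), (4, []), (0, []), (6, []), (1, []), (7, []), (3, []), (5, [])],
  [(3, []), (5, []), (6, []), (0, [25]), (7, []), (1, [25]), (2, [25]), (4, [25])],
  [(0, [25]), (1, [25]), (2, [25]), (3, [25]), (4, [25]), (5, [25]), (6, [25]), (7, [25])]]⟩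
theorem rAT2 : relP LS [13,1338,698,0] (schR AT2) = true := by decide +kernel
def AT3 : Sl := ⟨[25], [[],
  [25]], [[(1, []), (0, [])]]⟩
theorem rAT3 : relP LS [13,1338,698,0] (schR AT3) = true := by decide +kernel
def CT : List Sl := [AT0, AT1, AT2, AT3]
theorem rCT : ∀ e ∈ CT.flatMap schR, evw (vL LS) e.1 = evw (vL LS) e.2 :=
  (List.forall_mem_append.2 ⟨of_relP base hLS rAT0, (List.forall_mem_append.2 ⟨of_relP base hLS rAT1, (List.forall_mem_append.2 ⟨of_relP base hLS rAT2, (List.forall_mem_append.2 ⟨of_relP base hLS rAT3, fun _ h => absurd h List.not_mem_nil⟩)⟩)⟩)⟩)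
theorem oCT : schOK CT = true := by decide +kernel
def ST : List ℕ := [34,33,32,31,30,29,28,27,26,25]
def PT : List (ℕ × List ℕ) := [(95, [31,33,27,27,33])]
theorem knT : ∀ l ∈ slpS PT ST, vL LS l ∈ (gen (vL LS) ST) :=
  slp_mem base hLS _ (fun _ h => mem_gen _ h) (by decide +kernel)
theorem leT : (gen (vL LS) ST) ≤ (H71.He.ρ).range := gen_le_of hLS (by decide +kernel)
instance finT : Finite (gen (vL LS) ST) := Finite.of_injective _ (Subgroup.inclusion_injective leT)
noncomputable def DT_0 : ℕ := 0x280d2000006ad2031a5010000054888006a80008c1900700241000842a008a04c260060084ca48200c94198148008a008002a0b062a381136802908000e10a8131e0150c04400cdfc6b0200c231061a9140950c1c04820900d86d80a06020570886ed1c00c20001002c020231574c010013004265082d1c00298023100aa4220006244440040200490205d5041400101038422e08589232041001818407c401a04005640c4454201450a34000041231087702280807c003082558a00128084040c032000038c0202140000005088170000c0088a814021000002fa00c00980482dd2415686458063108ab78911e58f13aa231800018000000018590508040240188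
noncomputable def ST_0 : H88.Tr := (.leaf (nat_lit 0) (nat_lit 0))
noncomputable def vT_0 : Lv := ⟨(nat_lit 3), DT_0, 512, wd LS [26,33,34,28,32,27,25,30,29,31], [0,1,2,3,4,5,6,8,0,2], ST_0, true, (nat_lit 0), (nat_lit 0), 0, 0, 0, []⟩
noncomputable def DT_1 : ℕ := 0x200000000000000000000000000000000000000000000000000000000000000000000000000000000000000000000001
noncomputable def ST_1 : H88.Tr := (.leaf (nat_lit 0) (nat_lit 0))
noncomputable def vT_1 : Lv := ⟨(nat_lit 0), DT_1, 2, wd LS [95], [0], ST_1, true, (nat_lit 0), (nat_lit 0), 0, 0, 0, []⟩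
noncomputable def LT : List Lv := [vT_0, vT_1]
theorem lokT : LOK 2560 (gen (vL LS) ST) LT :=
  (LOK.cons (hLS.wdK knT (w := [26,33,34,28,32,27,25,30,29,31]) (by decide +kernel))
  (LOK.cons (hLS.wdK knT (w := [95]) (by decide +kernel))
  LOK.nil))
theorem lbT_0 : lbLv 12 2560 vT_0 [vT_1] = true := by decide +kernel
theorem lbT_1 : lbLv 12 2560 vT_1 [] = true := by decide +kernel
theorem lbT : LB 12 2560 LT := ⟨lbT_0, ⟨lbT_1, trivial⟩⟩
theorem lowT : 1024 ≤ Nat.card (gen (vL LS) ST) := (by decide +kernel : 1024 ≤ prodN LT).trans (lb_le _ _ lokT lbT)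
theorem cardT : Nat.card (gen (vL LS) ST) = 2 ^ 10 := card_gen_eq rCT oCT (by decide +kernel) lowT
def R0 : List (List ℕ × List ℕ) := [([24], [])]
theorem rR0 : ∀ e ∈ R0, evw (vL LS) e.1 = evw (vL LS) e.2 := of_relP base hLS (by decide +kernel)
theorem v1 : vL LS 24 = 1 := by simpa using rR0 ([24], []) (by decide)
def mT : Md := ([], [], 24)
def MT : List Md := [([], [], 25), ([], [], 57)]
def SKa : List ℕ := [35,36,25,26,27,28,29,30,31,37]
def PKa : List (ℕ × List ℕ) := [(38, [35,31,37,36,37,31,27,36]), (39, [35,36,28,29,37,36,26,35,28]), (40, [36,35,29,37,31,28,36]), (41, [36,26,25,37,37,30,25]), (42, [36,35,37,36,28,27,27,26]), (43, [42,41,41,26]), (44, [27,27,26,27]), (45, [43,43,27]), (46, [31,44]), (47, [25,45,31,31])]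
theorem knKa : ∀ l ∈ slpS PKa SKa, vL LS l ∈ (gen (vL LS) SKa) :=
  slp_mem base hLS _ (fun _ h => mem_gen _ h) (by decide +kernel)
theorem leKa : (gen (vL LS) SKa) ≤ (H71.He.ρ).range := gen_le_of hLS (by decide +kernel)
instance finKa : Finite (gen (vL LS) SKa) := Finite.of_injective _ (Subgroup.inclusion_injective leKa)
noncomputable def DKa_0 : ℕ := 0x2badf3e7587af79b3e7e55f8fdf6cdb4ffaf3befddfa8fffb57babe62b558b87da74d606e7cff927ccff9bf15b04ff4fbf97adf96bb3ab1f6cb2b2da86e71ad9f5f9f77de5ff8effc7b468fcebf3e1ef96fd79efee6cb89d4de7dd3f0fe29dfcbbfefbc24ea7f8f3f3f934ef3d7df5f66df25726fab7dbd89ab86fb990fb6fb52c63554ffe6c776ed7b95fd4ff5e633163b7e2fd9ddbe7afe9b75b9873fd5b7b0766566bf56dfe3bf7daf71f16df331b97f0bed9887eb6fae3d7db14f3cdbdfded5f28e8ffac57bf3d9e51f8fbfb5f61cfcf9cbf9d49edebabf6fbb4cdedd76cedfe4b76effd806f18febfdbf1e7af1baa6f99ac75fb4fd1b9bdf97f9d773acf7cf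
noncomputable def SKa_0 : H88.Tr := (.leaf (nat_lit 0) (nat_lit 0))
noncomputable def vKa_0 : Lv := ⟨(nat_lit 0), DKa_0, 1344, wd LS [37,35,36,30,27,31,29,28,26,25], [0,1,2,3,4,6,9,0,1,5,0,1,0], SKa_0, true, (nat_lit 0), (nat_lit 0), 0, 0, 0, []⟩
noncomputable def DKa_1 : ℕ := 0x200080c009001800000080400140a00082
noncomputable def SKa_1 : H88.Tr := (.leaf (nat_lit 0) (nat_lit 0))
noncomputable def vKa_1 : Lv := ⟨(nat_lit 1), DKa_1, 16, wd LS [40,38,39], [0,1,2,0,1], SKa_1, true, (nat_lit 0), (nat_lit 0), 0, 0, 0, []⟩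
noncomputable def LKa : List Lv := [vKa_0, vKa_1]
theorem lokKa : LOK 2560 (gen (vL LS) SKa) LKa :=
  (LOK.cons (hLS.wdK knKa (w := [37,35,36,30,27,31,29,28,26,25]) (by decide +kernel))
  (LOK.cons (hLS.wdK knKa (w := [40,38,39]) (by decide +kernel))
  LOK.nil))
theorem lbKa_0 : lbLv 12 2560 vKa_0 [vKa_1] = true := by decide +kernel
theorem lbKa_1 : lbLv 12 2560 vKa_1 [] = true := by decide +kernel
theorem lbKa : LB 12 2560 LKa := ⟨lbKa_0, ⟨lbKa_1, trivial⟩⟩
theorem lowKa : 21504 ≤ Nat.card (gen (vL LS) SKa) := (by decide +kernel : 21504 ≤ prodN LKa).trans (lb_le _ _ lokKa lbKa)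
noncomputable def Oa : ℕ := 0x3fffffffffffffdffffffdffffffffbfffffffffffffbfffff7fffffef7fffbffffeffffffffffffdfffffffffdfffeffffffffffffffffffffffffffefffefffffbffffeffffffffffffefdffffffffffffffffff7fffbfffffffffdfffdffffffffffffffffffffffffffffdfffff7fffffffffffffffffffffffffbff7fffffffffffffffffffffffffffff7ffffffffffffffffff7ffffffdfffffffffffffff7fffffffffffffffffffffffffffffffffdffffff7fffffffffffbffffffffffffffffeffffffdffffffffffffefffffffffdffffffffffffffffdffffefeffffffffffffffffffffffffffffffffffffffffffffff7fffffffffffffbfffff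
theorem hOa : ∀ y, Oa.testBit y = true ↔ ∃ w ∈ [[25]], evw (vL LS) w y ≠ y :=
  of_movIs (m := 12) (by norm_num) hLS (by decide +kernel)
def Ra : List (List ℕ × List ℕ) := [([35,25], [25,35]),
  ([36,25], [25,36]),
  ([25,25], [25,25]),
  ([26,25], [25,26]),
  ([27,25], [25,27]),
  ([28,25], [25,28]),
  ([29,25], [25,29]),
  ([30,25], [25,30]),
  ([31,25], [25,31]),
  ([37,25], [25,37])]
theorem rRa : ∀ e ∈ Ra, evw (vL LS) e.1 = evw (vL LS) e.2 := of_relP base hLS (by decide +kernel)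
def CPa3_0 : Sl := ⟨[35], [[],
  [35],
  [35,35]], [[(1, []), (2, []), (0, [])]]⟩
theorem rCPa3_0 : relP LS [13,1338,698,0] (schR CPa3_0) = true := by decide +kernel
def CPa3 : List Sl := [CPa3_0]
theorem rCPa3 : ∀ e ∈ CPa3.flatMap schR, evw (vL LS) e.1 = evw (vL LS) e.2 :=
  (List.forall_mem_append.2 ⟨of_relP base hLS rCPa3_0, fun _ h => absurd h List.not_mem_nil⟩)
theorem oCPa3 : schOK CPa3 = true := by decide +kernel
def SPa3 : List ℕ := [35]
def PPa3 : List (ℕ × List ℕ) := []
theorem knPa3 : ∀ l ∈ slpS PPa3 SPa3, vL LS l ∈ (gen (vL LS) SPa3) :=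
  slp_mem base hLS _ (fun _ h => mem_gen _ h) (by decide +kernel)
theorem lePa3 : (gen (vL LS) SPa3) ≤ (H71.He.ρ).range := gen_le_of hLS (by decide +kernel)
instance finPa3 : Finite (gen (vL LS) SPa3) := Finite.of_injective _ (Subgroup.inclusion_injective lePa3)
noncomputable def DPa3_0 : ℕ := 0x10000000000000000000000000000000000000000000000000000000000100000000000000000000000000000000000000000000000000000000000000000000000000000000001
noncomputable def SPa3_0 : H88.Tr := (.leaf (nat_lit 0) (nat_lit 0))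
noncomputable def vPa3_0 : Lv := ⟨(nat_lit 0), DPa3_0, 3, wd LS [35], [0,0], SPa3_0, true, (nat_lit 0), (nat_lit 0), 0, 0, 0, []⟩
noncomputable def LPa3 : List Lv := [vPa3_0]
theorem lokPa3 : LOK 2560 (gen (vL LS) SPa3) LPa3 :=
  (LOK.cons (hLS.wdK knPa3 (w := [35]) (by decide +kernel))
  LOK.nil)
theorem lbPa3_0 : lbLv 12 2560 vPa3_0 [] = true := by decide +kernel
theorem lbPa3 : LB 12 2560 LPa3 := ⟨lbPa3_0, trivial⟩
theorem lowPa3 : 3 ≤ Nat.card (gen (vL LS) SPa3) := (by decide +kernel : 3 ≤ prodN LPa3).trans (lb_le _ _ lokPa3 lbPa3)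
theorem cardPa3 : Nat.card (gen (vL LS) (topS CPa3)) = 3 ^ 1 := card_gen_eq rCPa3 oCPa3 (by decide +kernel) lowPa3
def CPa7_0 : Sl := ⟨[36], [[],
  [36],
  [36,36],
  [36,36,36],
  [36,36,36,36],
  [36,36,36,36,36],
  [36,36,36,36,36,36]], [[(1, []), (2, []), (3, []), (4, []), (5, []), (6, []), (0, [])]]⟩
theorem rCPa7_0 : relP LS [13,1338,698,0] (schR CPa7_0) = true := by decide +kernel
def CPa7 : List Sl := [CPa7_0]
theorem rCPa7 : ∀ e ∈ CPa7.flatMap schR, evw (vL LS) e.1 = evw (vL LS) e.2 :=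
  (List.forall_mem_append.2 ⟨of_relP base hLS rCPa7_0, fun _ h => absurd h List.not_mem_nil⟩)
theorem oCPa7 : schOK CPa7 = true := by decide +kernel
def SPa7 : List ℕ := [36]
def PPa7 : List (ℕ × List ℕ) := []
theorem knPa7 : ∀ l ∈ slpS PPa7 SPa7, vL LS l ∈ (gen (vL LS) SPa7) :=
  slp_mem base hLS _ (fun _ h => mem_gen _ h) (by decide +kernel)
theorem lePa7 : (gen (vL LS) SPa7) ≤ (H71.He.ρ).range := gen_le_of hLS (by decide +kernel)
instance finPa7 : Finite (gen (vL LS) SPa7) := Finite.of_injective _ (Subgroup.inclusion_injective lePa7)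
noncomputable def DPa7_0 : ℕ := 0x10000000000000000200000000000000000000000000000000000000000000000000000000000000000000000000000000001000000000000000000000000000000000000000000000000000000000000000000000000000080000000000000000000000000000000000004000000000000000000000000000000000000000000000000000000020000000000000000000000000000000000000000000000000000000000000000000000000000000000000000000000000000000000000000000000000000000000000000000000000000000000000000000000000000000000000000000000000000000000000000000000000000000001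
noncomputable def SPa7_0 : H88.Tr := (.leaf (nat_lit 0) (nat_lit 0))
noncomputable def vPa7_0 : Lv := ⟨(nat_lit 0), DPa7_0, 7, wd LS [36], [0,0,0,0,0,0], SPa7_0, true, (nat_lit 0), (nat_lit 0), 0, 0, 0, []⟩
noncomputable def LPa7 : List Lv := [vPa7_0]
theorem lokPa7 : LOK 2560 (gen (vL LS) SPa7) LPa7 :=
  (LOK.cons (hLS.wdK knPa7 (w := [36]) (by decide +kernel))
  LOK.nil)
theorem lbPa7_0 : lbLv 12 2560 vPa7_0 [] = true := by decide +kernel
theorem lbPa7 : LB 12 2560 LPa7 := ⟨lbPa7_0, trivial⟩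
theorem lowPa7 : 7 ≤ Nat.card (gen (vL LS) SPa7) := (by decide +kernel : 7 ≤ prodN LPa7).trans (lb_le _ _ lokPa7 lbPa7)
theorem cardPa7 : Nat.card (gen (vL LS) (topS CPa7)) = 7 ^ 1 := card_gen_eq rCPa7 oCPa7 (by decide +kernel) lowPa7
def SQa : List ℕ := [31,30,29,28,27,26,25]
def PQa : List (ℕ × List ℕ) := []
theorem knQa : ∀ l ∈ slpS PQa SQa, vL LS l ∈ (gen (vL LS) SQa) :=
  slp_mem base hLS _ (fun _ h => mem_gen _ h) (by decide +kernel)
theorem leQa : (gen (vL LS) SQa) ≤ (H71.He.ρ).range := gen_le_of hLS (by decide +kernel)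
instance finQa : Finite (gen (vL LS) SQa) := Finite.of_injective _ (Subgroup.inclusion_injective leQa)
def Rna : List (List ℕ × List ℕ) := [([35,31], [31,26,27,35]),
  ([35,30], [30,26,27,35]),
  ([35,29], [29,31,26,28,35]),
  ([35,28], [27,28,25,35]),
  ([35,27], [29,30,31,26,28,25,35]),
  ([35,26], [31,28,25,35]),
  ([35,25], [25,35]),
  ([36,31], [29,30,28,36]),
  ([36,30], [29,27,36]),
  ([36,29], [28,36]),
  ([36,28], [29,30,26,27,28,25,36]),
  ([36,27], [29,30,31,26,28,25,36]),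
  ([36,26], [27,28,25,36]),
  ([36,25], [25,36]),
  ([25,31], [31,25]),
  ([25,30], [30,25]),
  ([25,29], [29,25]),
  ([25,28], [28,25]),
  ([25,27], [27,25]),
  ([25,26], [26,25]),
  ([25,25], [25,25]),
  ([26,31], [31,26]),
  ([26,30], [30,26]),
  ([26,29], [29,26]),
  ([26,28], [28,25,26]),
  ([26,27], [27,26]),
  ([26,26], [26,26]),
  ([26,25], [25,26]),
  ([27,31], [31,25,27]),
  ([27,30], [30,25,27]),
  ([27,29], [29,27]),
  ([27,28], [28,27]),
  ([27,27], [27,27]),
  ([27,26], [26,27]),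
  ([27,25], [25,27]),
  ([28,31], [31,28]),
  ([28,30], [30,25,28]),
  ([28,29], [29,28]),
  ([28,28], [28,28]),
  ([28,27], [27,28]),
  ([28,26], [26,25,28]),
  ([28,25], [25,28]),
  ([29,31], [31,25,29]),
  ([29,30], [30,29]),
  ([29,29], [29,29]),
  ([29,28], [28,29]),
  ([29,27], [27,29]),
  ([29,26], [26,29]),
  ([29,25], [25,29]),
  ([30,31], [31,25,30]),
  ([30,30], [30,30]),
  ([30,29], [29,30]),
  ([30,28], [28,25,30]),
  ([30,27], [27,25,30]),
  ([30,26], [26,30]),
  ([30,25], [25,30]),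
  ([31,31], [31,31]),
  ([31,30], [30,25,31]),
  ([31,29], [29,25,31]),
  ([31,28], [28,31]),
  ([31,27], [27,25,31]),
  ([31,26], [26,31]),
  ([31,25], [25,31]),
  ([37,31], [29,30,31,28,37]),
  ([37,30], [31,28,37]),
  ([37,29], [29,31,27,37]),
  ([37,28], [31,26,28,37]),
  ([37,27], [29,30,31,26,27,28,25,37]),
  ([37,26], [29,30,27,28,25,37]),
  ([37,25], [25,37])]
theorem rRna : ∀ e ∈ Rna, evw (vL LS) e.1 = evw (vL LS) e.2 := of_relP base hLS (by decide +kernel)
theorem nrma : (gen (vL LS) SKa) ≤ Subgroup.normalizer (gen (vL LS) SQa : Set (Equiv.Perm ℕ)) := gen_le_norm rRna (by decide +kernel)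
def SKb : List ℕ := [59,58,60,61,57,62]
def PKb : List (ℕ × List ℕ) := [(63, [59,60,58,58,57,60,62,57]), (64, [58,60,60,58,59,62,60]), (65, [59,61,59,61,61]), (66, [60,60,60,62,60,60]), (67, [61,60,61,58,61]), (68, [62,67,67,66,66,66,67]), (69, [62,67,62,67,66,67]), (70, [62,67,66,67,67,62,66,57,66,62,67,66]), (71, [57,70,70,68]), (72, [57,69]), (73, [70,57]), (74, [72,73]), (75, [72,72,73,73])]
theorem knKb : ∀ l ∈ slpS PKb SKb, vL LS l ∈ (gen (vL LS) SKb) :=
  slp_mem base hLS _ (fun _ h => mem_gen _ h) (by decide +kernel)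
theorem leKb : (gen (vL LS) SKb) ≤ (H71.He.ρ).range := gen_le_of hLS (by decide +kernel)
instance finKb : Finite (gen (vL LS) SKb) := Finite.of_injective _ (Subgroup.inclusion_injective leKb)
noncomputable def DKb_0 : ℕ := 0x2e48580600892ec3c3477001033e10089bac5a42eb005321188edb7040730881e2fc55c36c1c88a98c1e006d47b5f5af500aa8f4775079637b00084516c16aba7b6074109681cc23f6c0969cd8341d0093116284150010960e4278129042960f2092eac6ad41abd8410889e37570022600b226c4663ddb40e3820020900c490a5c4e1808184512e43162fc0005482039f02d56c603c9b0198eecc9aa79dab929c4001e1e394d0cd0666a35e41b6e33a3217586cac53ce23219b5fc9a2fc10b5a6dcbae04248d31c842510e50182a3f3761d395d7ac52458329697e7a6cb3c907e22430a081060e8d23454d46420a11e07aab190c81b191802858d90508148a501cb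
noncomputable def SKb_0 : H88.Tr := (.leaf (nat_lit 0) (nat_lit 0))
noncomputable def vKb_0 : Lv := ⟨(nat_lit 0), DKb_0, 840, wd LS [60,63,61,64,58,59,62,57], [0,2,4,5,6,7,0,3,1,2,5,0,0], SKb_0, true, (nat_lit 0), (nat_lit 0), 0, 0, 0, []⟩
noncomputable def DKb_1 : ℕ := 0x2602600100911c00900d000001c604200000000012000000012081010400001c000a04002241440000000008000000000011000000028000010010080c1040000009000004021c000c4060020022002c0a0d51400122008000014048004130004411015000402508760008080694000a4d4102900020910040c000623300008000040207182010048101002224000201000001800004c4000110000004000220b4202086a2000080114000000000000000000000000000000000000000000000000000000000000000000000000000000000000000000000000000000000000000000000000000000000000000000000000000000000000000000000000000000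
noncomputable def SKb_1 : H88.Tr := (.leaf (nat_lit 0) (nat_lit 0))
noncomputable def vKb_1 : Lv := ⟨(nat_lit 698), DKb_1, 192, wd LS [64,65,63], [0,1,2,0,1,0,2,1,0,2,0], SKb_1, true, (nat_lit 0), (nat_lit 0), 0, 0, 0, []⟩
noncomputable def LKb : List Lv := [vKb_0, vKb_1]
theorem lokKb : LOK 2560 (gen (vL LS) SKb) LKb :=
  (LOK.cons (hLS.wdK knKb (w := [60,63,61,64,58,59,62,57]) (by decide +kernel))
  (LOK.cons (hLS.wdK knKb (w := [64,65,63]) (by decide +kernel))
  LOK.nil))
theorem lbKb_0 : lbLv 12 2560 vKb_0 [vKb_1] = true := by decide +kernel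
theorem lbKb_1 : lbLv 12 2560 vKb_1 [] = true := by decide +kernel
theorem lbKb : LB 12 2560 LKb := ⟨lbKb_0, ⟨lbKb_1, trivial⟩⟩
theorem lowKb : 161280 ≤ Nat.card (gen (vL LS) SKb) := (by decide +kernel : 161280 ≤ prodN LKb).trans (lb_le _ _ lokKb lbKb)
noncomputable def Ob : ℕ := 0x3ffffff7fdffffffffff7ffdffffffbcffbfdbfffffeffffbdffffff6b77fb9ffeffffffffffffefdeff5fffffb5ffefffffffff7fffffffffff9bfffefffefb7bfbff7dfffdeefffffff7fcffff7fffffffffdfff7fff9fdffefffedfeedfffbfffffc7fff7fffffffefdfffdfffff7efffffffffffffffffdfefbff6ff7ffffefedd6fff5dffffffffffdfff7ffd3bfffffffff7fbffffffffdffbfffffbfbeff67fffffffffdffffbf7ef3bffffbbfffdffdffffff3feffffffffbfffffffffdfefffff8ffffffffdffff7bff7fffffffffffffdffdfb7bfffffffdfffdcfeffffdffeff7efffffffffffffefbffffffffdfefffffffb79fffbffbdfffefd7ff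
theorem hOb : ∀ y, Ob.testBit y = true ↔ ∃ w ∈ [[57]], evw (vL LS) w y ≠ y :=
  of_movIs (m := 12) (by norm_num) hLS (by decide +kernel)
def Rb : List (List ℕ × List ℕ) := [([59,57], [57,59]),
  ([58,57], [57,58]),
  ([60,57], [57,60]),
  ([61,57], [57,61]),
  ([57,57], [57,57]),
  ([62,57], [57,62])]
theorem rRb : ∀ e ∈ Rb, evw (vL LS) e.1 = evw (vL LS) e.2 := of_relP base hLS (by decide +kernel)
def CPb3_0 : Sl := ⟨[59,58], [[],
  [59],
  [58],
  [59,59],
  [58,59],
  [58,58],
  [58,59,59],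
  [58,58,59],
  [58,58,59,59]], [[(1, []), (3, []), (4, []), (0, []), (6, []), (7, []), (2, []), (8, []), (5, [])],
  [(2, []), (4, []), (5, []), (6, []), (7, []), (0, []), (8, []), (1, []), (3, [])]]⟩
theorem rCPb3_0 : relP LS [13,1338,698,0] (schR CPb3_0) = true := by decide +kernel
def CPb3 : List Sl := [CPb3_0]
theorem rCPb3 : ∀ e ∈ CPb3.flatMap schR, evw (vL LS) e.1 = evw (vL LS) e.2 :=
  (List.forall_mem_append.2 ⟨of_relP base hLS rCPb3_0, fun _ h => absurd h List.not_mem_nil⟩)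
theorem oCPb3 : schOK CPb3 = true := by decide +kernel
def SPb3 : List ℕ := [59,58]
def PPb3 : List (ℕ × List ℕ) := []
theorem knPb3 : ∀ l ∈ slpS PPb3 SPb3, vL LS l ∈ (gen (vL LS) SPb3) :=
  slp_mem base hLS _ (fun _ h => mem_gen _ h) (by decide +kernel)
theorem lePb3 : (gen (vL LS) SPb3) ≤ (H71.He.ρ).range := gen_le_of hLS (by decide +kernel)
instance finPb3 : Finite (gen (vL LS) SPb3) := Finite.of_injective _ (Subgroup.inclusion_injective lePb3)
noncomputable def DPb3_0 : ℕ := 0x1080000000000000100000000000000021800000000000040000000010000000000000000000000000000000000000000000000000000000000000000000000000000001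
noncomputable def SPb3_0 : H88.Tr := (.leaf (nat_lit 0) (nat_lit 0))
noncomputable def vPb3_0 : Lv := ⟨(nat_lit 0), DPb3_0, 9, wd LS [58,59], [0,1,0,1], SPb3_0, true, (nat_lit 0), (nat_lit 0), 0, 0, 0, []⟩
noncomputable def LPb3 : List Lv := [vPb3_0]
theorem lokPb3 : LOK 2560 (gen (vL LS) SPb3) LPb3 :=
  (LOK.cons (hLS.wdK knPb3 (w := [58,59]) (by decide +kernel))
  LOK.nil)
theorem lbPb3_0 : lbLv 12 2560 vPb3_0 [] = true := by decide +kernel
theorem lbPb3 : LB 12 2560 LPb3 := ⟨lbPb3_0, trivial⟩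
theorem lowPb3 : 9 ≤ Nat.card (gen (vL LS) SPb3) := (by decide +kernel : 9 ≤ prodN LPb3).trans (lb_le _ _ lokPb3 lbPb3)
theorem cardPb3 : Nat.card (gen (vL LS) (topS CPb3)) = 3 ^ 2 := card_gen_eq rCPb3 oCPb3 (by decide +kernel) lowPb3
def CPb5_0 : Sl := ⟨[60], [[],
  [60],
  [60,60],
  [60,60,60],
  [60,60,60,60]], [[(1, []), (2, []), (3, []), (4, []), (0, [])]]⟩
theorem rCPb5_0 : relP LS [13,1338,698,0] (schR CPb5_0) = true := by decide +kernel
def CPb5 : List Sl := [CPb5_0]
theorem rCPb5 : ∀ e ∈ CPb5.flatMap schR, evw (vL LS) e.1 = evw (vL LS) e.2 :=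
  (List.forall_mem_append.2 ⟨of_relP base hLS rCPb5_0, fun _ h => absurd h List.not_mem_nil⟩)
theorem oCPb5 : schOK CPb5 = true := by decide +kernel
def SPb5 : List ℕ := [60]
def PPb5 : List (ℕ × List ℕ) := []
theorem knPb5 : ∀ l ∈ slpS PPb5 SPb5, vL LS l ∈ (gen (vL LS) SPb5) :=
  slp_mem base hLS _ (fun _ h => mem_gen _ h) (by decide +kernel)
theorem lePb5 : (gen (vL LS) SPb5) ≤ (H71.He.ρ).range := gen_le_of hLS (by decide +kernel)
instance finPb5 : Finite (gen (vL LS) SPb5) := Finite.of_injective _ (Subgroup.inclusion_injective lePb5)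
noncomputable def DPb5_0 : ℕ := 0x400000800000000000000000000000000000000000000000000000000000000000000000000000000000002000000000000000000000000000000000000000000000000000000000000000000000000000000200000000000000000000000000000000000000000000000000000000000000000000000000000000000000000000000000000000000000000000000000000000000000000000000000000000000000000000000000000000000000000000000000000000000000001
noncomputable def SPb5_0 : H88.Tr := (.leaf (nat_lit 0) (nat_lit 0))
noncomputable def vPb5_0 : Lv := ⟨(nat_lit 0), DPb5_0, 5, wd LS [60], [0,0,0,0], SPb5_0, true, (nat_lit 0), (nat_lit 0), 0, 0, 0, []⟩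
noncomputable def LPb5 : List Lv := [vPb5_0]
theorem lokPb5 : LOK 2560 (gen (vL LS) SPb5) LPb5 :=
  (LOK.cons (hLS.wdK knPb5 (w := [60]) (by decide +kernel))
  LOK.nil)
theorem lbPb5_0 : lbLv 12 2560 vPb5_0 [] = true := by decide +kernel
theorem lbPb5 : LB 12 2560 LPb5 := ⟨lbPb5_0, trivial⟩
theorem lowPb5 : 5 ≤ Nat.card (gen (vL LS) SPb5) := (by decide +kernel : 5 ≤ prodN LPb5).trans (lb_le _ _ lokPb5 lbPb5)
theorem cardPb5 : Nat.card (gen (vL LS) (topS CPb5)) = 5 ^ 1 := card_gen_eq rCPb5 oCPb5 (by decide +kernel) lowPb5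
def CPb7_0 : Sl := ⟨[61], [[],
  [61],
  [61,61],
  [61,61,61],
  [61,61,61,61],
  [61,61,61,61,61],
  [61,61,61,61,61,61]], [[(1, []), (2, []), (3, []), (4, []), (5, []), (6, []), (0, [])]]⟩
theorem rCPb7_0 : relP LS [13,1338,698,0] (schR CPb7_0) = true := by decide +kernel
def CPb7 : List Sl := [CPb7_0]
theorem rCPb7 : ∀ e ∈ CPb7.flatMap schR, evw (vL LS) e.1 = evw (vL LS) e.2 :=
  (List.forall_mem_append.2 ⟨of_relP base hLS rCPb7_0, fun _ h => absurd h List.not_mem_nil⟩)
theorem oCPb7 : schOK CPb7 = true := by decide +kernel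
def SPb7 : List ℕ := [61]
def PPb7 : List (ℕ × List ℕ) := []
theorem knPb7 : ∀ l ∈ slpS PPb7 SPb7, vL LS l ∈ (gen (vL LS) SPb7) :=
  slp_mem base hLS _ (fun _ h => mem_gen _ h) (by decide +kernel)
theorem lePb7 : (gen (vL LS) SPb7) ≤ (H71.He.ρ).range := gen_le_of hLS (by decide +kernel)
instance finPb7 : Finite (gen (vL LS) SPb7) := Finite.of_injective _ (Subgroup.inclusion_injective lePb7)
noncomputable def DPb7_0 : ℕ := 0x100000000000000000000000000000000000000008000000000000000000000000000010000000000000000000000000000000000000000000000000000000000000000000000000000000000000000000000000000000000000000000000000000000000000000000000000000000000000000000000000000000000000000000000000000000000000000000000000000200000000000000000000000000000000000000000000000000000000000000000000000000000000000000000000000000000000000000000000000000000000000000000000000000000001000000000000000002000000000000000000000000000000001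
noncomputable def SPb7_0 : H88.Tr := (.leaf (nat_lit 0) (nat_lit 0))
noncomputable def vPb7_0 : Lv := ⟨(nat_lit 0), DPb7_0, 7, wd LS [61], [0,0,0,0,0,0], SPb7_0, true, (nat_lit 0), (nat_lit 0), 0, 0, 0, []⟩
noncomputable def LPb7 : List Lv := [vPb7_0]
theorem lokPb7 : LOK 2560 (gen (vL LS) SPb7) LPb7 :=
  (LOK.cons (hLS.wdK knPb7 (w := [61]) (by decide +kernel))
  LOK.nil)
theorem lbPb7_0 : lbLv 12 2560 vPb7_0 [] = true := by decide +kernel
theorem lbPb7 : LB 12 2560 LPb7 := ⟨lbPb7_0, trivial⟩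
theorem lowPb7 : 7 ≤ Nat.card (gen (vL LS) SPb7) := (by decide +kernel : 7 ≤ prodN LPb7).trans (lb_le _ _ lokPb7 lbPb7)
theorem cardPb7 : Nat.card (gen (vL LS) (topS CPb7)) = 7 ^ 1 := card_gen_eq rCPb7 oCPb7 (by decide +kernel) lowPb7
end H80.KFHe
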