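import Cfsg.Agent.H80.KFHeB
set_option maxRecDepth 1000000
set_option Elab.async false
namespace H80.KFHe
open H71 H81 H88 H80.KF H43.KF
theorem clT_0 : allZ (clsB 2560 LS [13,1338,698,0] mT MT) (mapApp [] (prods [AT1, AT2, AT3]) []) [[2],
  [0,21,23,22,22,19,20,20,15,15,20,21],
  [],
  [],
  [0,8,20,20,8,22,23,15,20,21],
  [0,7,22,21,20,7,20,20,17,17,18,17],
  [],
  [],
  [],
  [],
  [],
  [],
  [],
  [],
  [],
  [],
  [1,23,18,20,21,7,15,15,17,18],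
  [1,21,22,19,21,7,17,17,18,18,16],
  [],
  [],
  [],
  [],
  [],
  [],
  [0,7,23,22,22,7,20,19,16,22,18,20],
  [0,7,22,18,18,20,17,20,16,20,18],
  [],
  [],
  [1,7,21,8,21,18,20,17,22,22,17],
  [1,23,8,22,22,20,18,22,20,15,19],
  [1,20,20,19,19,15,22,19,22],
  [1,7,22,22,8,21,15,17,19,19],
  [],
  [],
  [],
  [],
  [1,8,21,8,21,8,18,19,8,20,17,19],
  [1,23,21,18,19,7,16,15,16,15],
  [1,7,21,21,23,22,20,23,16,15,22,17],
  [1,21,8,21,21,20,22,19,23,17,15,18],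
  [0,23,8,22,22,19,8,17,17,19],
  [0,21,23,8,20,22,8,20,15,20,20,19],
  [],
  [],
  [],
  [],
  [1,21,8,21,21,19,7,16,16,22,21],
  [1,7,20,21,19,17,15,15,19,15],
  [],
  [],
  [1,23,7,21,8,20,23,20,16,22,18],
  [1,8,23,23,8,22,18,21,7,17,18,20,19],
  [],
  [],
  [0,21,21,20,21,22,19,16,15,21],
  [0,21,22,7,22,18,7,22,16,21,21,19],
  [0,22,7,22,22,20,20,18,19,18],
  [0,8,21,22,7,18,21,20,18,15,18],
  [1,8,20,20,20,23,23,17,16,18,18,15],
  [1,8,21,7,20,7,21,8,17,15,19],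
  [0,8,23,8,22,19,23,19,19,15,19],
  [0,23,23,22,20,7,18,22,16,15,21],
  [1,8,21,23,21,23,20,17,18,15,19],
  [1,23,21,22,7,20,19,15,16,20,20],
  [0,8,20,18,23,7,17,17,19,16,20],
  [0,8,23,23,7,18,22,8,17,22,20,19],
  [0,23,23,7,18,20,18,15,20,19,19],
  [0,8,22,21,21,20,23,22,16,22,22,21],
  [1,7,23,7,8,20,7,23,21,17,22,21],
  [1,7,8,21,19,8,22,21,17,17,22,17],
  [],
  [],
  [0,7,22,19,19,19,17,22,17,17,21],
  [0,8,23,7,20,20,19,18,19,15,17,21],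
  [1,7,8,21,20,20,8,18,16,15,18,15],
  [1,7,23,7,8,19,22,7,22,15,17,18,16],
  [],
  [],
  [1,20,21,18,17,20,22,17,17],
  [1,23,7,8,18,20,8,23,16,16,20,17],
  [0,22,8,18,20,8,18,17,16,19,16],
  [0,8,21,21,22,21,8,19,8,19,17,17,22],
  [],
  [],
  [],
  [],
  [],
  [],
  [1,7,22,7,8,23,19,17,16,18,22],
  [1,22,21,7,20,7,19,16,21,16,19],
  [],
  [],
  [1,23,21,22,7,18,21,18,16,18,22,22],
  [1,8,21,8,20,22,19,22,15,19,22,17],
  [1,20,20,21,18,18,17,22,21,21,22],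
  [1,21,21,22,20,19,19,17,18,16,19],
  [0,8,20,19,20,7,21,17,20,20,18],
  [0,7,8,21,8,20,22,20,17,21,20],
  [1,7,21,23,20,22,17,15,22,18,16],
  [1,7,21,23,18,18,22,15,17,15,16],
  [],
  [],
  [],
  [],
  [],
  [],
  [1,23,21,8,21,20,22,21,17,15,17],
  [1,23,21,21,20,7,21,23,17,18,18],
  [1,7,22,8,22,18,7,22,15],
  [1,8,21,19,7,19,19,17,15,15,22],
  [],
  [],
  [1,8,21,23,20,7,22,17,21,16,18,19],
  [1,7,8,22,21,21,19,23,19,23,16,15],
  [1,21,21,8,20,20,8,17,19,16,16],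
  [1,8,22,7,23,20,23,7,21,17,20,19],
  [1,22,8,23,22,18,18,16,20,16],
  [1,7,23,23,7,20,18,22,7,15],
  [],
  [],
  [0,20,18,19,23,15,15,17],
  [0,21,7,23,19,7,19,7,16,20],
  [0,22,7,21,23,8,20,15,18,22,19],
  [0,21,8,23,23,20,19,18,19,8,17,19],
  [],
  [],
  [0,23,7,8,21,20,23,20,23,16,20,16],
  [0,7,23,21,7,20,20,16,22,17,18]] = true := by decide +kernel
theorem clT_1 : allZ (clsB 2560 LS [13,1338,698,0] mT MT) (mapApp [34] (prods [AT1, AT2, AT3]) []) [[],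
  [],
  [0,7,8,21,23,21,19,22,8,16,21,18,22],
  [0,21,23,19,18,21,23,17,20,21,15],
  [],
  [],
  [],
  [],
  [1,8,22,7,18,18,20,21,16,17,20,18,19],
  [0,22,7,21,23,20,22,17,20,21,18,15],
  [],
  [],
  [],
  [],
  [],
  [],
  [0,21,21,23,7,19,8,23,16,18,20],
  [0,7,22,7,22,18,22,19,18,16,16],
  [],
  [],
  [],
  [],
  [],
  [],
  [],
  [],
  [],
  [],
  [],
  [],
  [],
  [],
  [0,22,22,20,20,21,7,18,17,20,16],
  [0,7,23,18,19,22,8,17,19,21,16,17],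
  [],
  [],
  [],
  [],
  [],
  [],
  [],
  [],
  [],
  [],
  [],
  [],
  [],
  [],
  [],
  [],
  [],
  [],
  [],
  [],
  [0,19,8,18,15,19,19,15],
  [0,22,22,19,20,23,18,17,17,19,18],
  [],
  [],
  [],
  [],
  [1,7,21,8,23,18,8,17,22,15,21],
  [0,8,21,8,22,21,7,18,16,16,22,22],
  [],
  [],
  [],
  [],
  [0,21,21,23,22,20,19,22,20,17,15],
  [0,21,20,20,22,21,15,20,22,16],
  [],
  [],
  [],
  [],
  [1,22,22,23,19,22,22,16,18,21,17],
  [0,22,22,18,20,18,20,15,20,18,21],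
  [],
  [],
  [],
  [],
  [],
  [],
  [],
  [],
  [],
  [],
  [],
  [],
  [],
  [],
  [],
  [],
  [0,23,20,20,21,7,17,15,21,22,21],
  [0,22,22,7,19,22,23,23,17,21,21,15],
  [],
  [],
  [],
  [],
  [],
  [],
  [],
  [],
  [],
  [],
  [],
  [],
  [],
  [],
  [0,8,23,7,21,23,19,20,22,15,17,19],
  [0,8,21,22,23,20,20,18,7,20,15,21],
  [],
  [],
  [],
  [],
  [],
  [],
  [],
  [],
  [],
  [],
  [0,21,21,8,22,23,19,15,20,22],
  [0,18,22,23,22,17,17,16,17,16],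
  [],
  [],
  [],
  [],
  [1,21,8,21,20,22,19,16,17,21,21],
  [0,22,21,8,18,18,23,20,17,22,15,16],
  [],
  []] = true := by decide +kernel
theorem clT_2 : allZ (clsB 2560 LS [13,1338,698,0] mT MT) (mapApp [33] (prods [AT1, AT2, AT3]) []) [[],
  [],
  [],
  [],
  [],
  [],
  [],
  [],
  [],
  [],
  [],
  [],
  [],
  [],
  [],
  [],
  [],
  [],
  [],
  [],
  [],
  [],
  [],
  [],
  [],
  [],
  [1,23,8,20,20,8,22,7,17,22,15,20,19],
  [0,22,7,21,20,7,23,18,20,16,16,21,17],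
  [],
  [],
  [1,21,7,8,20,7,23,15,18,17,20],
  [0,23,21,22,21,20,18,21,17,21,20,15],
  [0,7,21,7,20,19,22,8,17,17,22],
  [0,22,21,20,20,23,17,19,19,20,20],
  [],
  [],
  [0,18,7,21,7,15,16,16,16],
  [0,7,21,7,21,21,19,17,16,17,15],
  [],
  [],
  [],
  [],
  [0,23,21,22,18,18,22,18,15],
  [0,7,23,21,22,19,15,16,15,16],
  [],
  [],
  [0,7,21,8,21,21,22,20,21,17,17,22,17],
  [0,21,7,22,18,21,22,17,20,20],
  [],
  [],
  [],
  [],
  [],
  [],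
  [],
  [],
  [],
  [],
  [],
  [],
  [],
  [],
  [],
  [],
  [],
  [],
  [],
  [],
  [],
  [],
  [],
  [],
  [],
  [],
  [],
  [],
  [],
  [],
  [],
  [],
  [],
  [],
  [0,7,23,20,7,19,21,15,15,20,22],
  [0,8,22,21,18,7,21,17,15,19],
  [],
  [],
  [0,7,21,18,20,7,20,17,18,18,17],
  [0,23,21,22,22,18,22,22,22,17,15,16,16],
  [0,21,22,7,22,18,21,18,19,16,16,20],
  [0,7,8,23,22,8,21,19,19,17,15,17],
  [],
  [],
  [0,8,21,23,23,22,19,19,16,18,20,20],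
  [0,21,8,21,20,19,18,8,17,19,17,20],
  [],
  [],
  [],
  [],
  [],
  [],
  [],
  [],
  [0,21,7,21,18,21,22,8,17,20,19,18,21],
  [1,21,21,21,19,22,23,23,16,20,20],
  [],
  [],
  [],
  [],
  [1,22,22,8,21,20,18,21,22,16,15,17],
  [0,21,21,21,20,23,18,7,17,18,22,22],
  [],
  [],
  [],
  [],
  [],
  [],
  [],
  [],
  [],
  [],
  [],
  [],
  [],
  [],
  [],
  [],
  [],
  []] = true := by decide +kernel
theorem clT_3 : allZ (clsB 2560 LS [13,1338,698,0] mT MT) (mapApp [32] (prods [AT1, AT2, AT3]) []) [[1,21,22,21,7,21,20,20,19,17,22,22,18],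
  [0,7,8,21,22,21,22,18,22,20,21,17],
  [],
  [],
  [0,8,22,19,8,21,20,17,20,17,21,18],
  [1,23,21,23,20,21,22,8,17,20,15,19],
  [],
  [],
  [],
  [],
  [],
  [],
  [],
  [],
  [],
  [],
  [],
  [],
  [],
  [],
  [],
  [],
  [],
  [],
  [],
  [],
  [],
  [],
  [],
  [],
  [],
  [],
  [],
  [],
  [],
  [],
  [],
  [],
  [],
  [],
  [],
  [],
  [],
  [],
  [],
  [],
  [],
  [],
  [],
  [],
  [0,7,8,22,7,23,22,20,18,16,18,17],
  [0,23,22,8,21,20,20,8,22,16,21,22,16],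
  [],
  [],
  [],
  [],
  [0,8,21,21,19,22,18,15,16,16,16],
  [0,7,21,7,20,18,21,22,17,20,18,22],
  [0,21,7,18,19,20,17,20,22,16,22],
  [0,8,23,19,21,23,18,16,22,20,21],
  [],
  [],
  [0,7,23,21,19,8,19,16,19,15,22],
  [0,22,21,22,19,23,18,8,17,15,19],
  [1,22,22,20,19,23,23,16,15,19,17],
  [0,7,21,22,23,21,18,18,23,15,20,19],
  [],
  [],
  [1,21,8,21,19,7,21,22,16,20,16],
  [0,7,8,23,8,22,22,20,18,18,15,18,16],
  [],
  [],
  [],
  [],
  [],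
  [],
  [],
  [],
  [],
  [],
  [],
  [],
  [],
  [],
  [],
  [],
  [],
  [],
  [],
  [],
  [],
  [],
  [],
  [],
  [],
  [],
  [],
  [],
  [],
  [],
  [],
  [],
  [],
  [],
  [],
  [],
  [],
  [],
  [],
  [],
  [],
  [],
  [],
  [],
  [0,22,21,21,21,18,18,21,18,15,20,17],
  [0,20,23,20,18,15,17,15],
  [],
  [],
  [],
  [],
  [0,7,21,21,8,22,18,19,17,19,22,21],
  [0,7,21,23,21,8,20,22,17,21,15],
  [0,21,23,18,19,20,7,16,19,17],
  [0,21,21,22,8,23,18,18,19,21,17,22,18],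
  [],
  [],
  [0,7,23,20,21,21,7,16,16,21],
  [0,23,23,8,22,19,8,19,16,16,19,19]] = true := by decide +kernel
theorem clT_4 : allZ (clsB 2560 LS [13,1338,698,0] mT MT) (mapApp [33,34] (prods [AT1, AT2, AT3]) []) [[],
  [],
  [],
  [],
  [],
  [],
  [],
  [],
  [],
  [],
  [],
  [],
  [],
  [],
  [],
  [],
  [],
  [],
  [],
  [],
  [],
  [],
  [],
  [],
  [],
  [],
  [],
  [],
  [],
  [],
  [],
  [],
  [],
  [],
  [],
  [],
  [],
  [],
  [],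
  [],
  [],
  [],
  [],
  [],
  [],
  [],
  [],
  [],
  [],
  [],
  [],
  [],
  [],
  [],
  [],
  [],
  [],
  [],
  [],
  [],
  [],
  [],
  [],
  [],
  [],
  [],
  [],
  [],
  [],
  [],
  [],
  [],
  [],
  [],
  [],
  [],
  [],
  [],
  [],
  [],
  [],
  [],
  [],
  [],
  [],
  [],
  [],
  [],
  [],
  [],
  [],
  [],
  [],
  [],
  [],
  [],
  [],
  [],
  [],
  [],
  [],
  [],
  [],
  [],
  [],
  [],
  [],
  [],
  [],
  [],
  [],
  [],
  [],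
  [],
  [],
  [],
  [],
  [],
  [],
  [],
  [],
  [],
  [],
  [],
  [],
  [],
  [],
  []] = true := by decide +kernel
theorem clT_5 : allZ (clsB 2560 LS [13,1338,698,0] mT MT) (mapApp [32,34] (prods [AT1, AT2, AT3]) []) [[],
  [],
  [1,7,22,22,7,23,18,18,19,17,16,18,15],
  [0,22,7,23,18,23,18,8,15,19,16,17],
  [],
  [],
  [],
  [],
  [0,8,23,21,21,20,18,21,21,20,16,16],
  [0,21,7,8,22,20,20,8,22,19,17,17,22],
  [],
  [],
  [],
  [],
  [],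
  [],
  [],
  [],
  [],
  [],
  [],
  [],
  [],
  [],
  [],
  [],
  [],
  [],
  [0,7,8,19,19,8,23,15,18,15],
  [0,8,23,20,7,23,18,15,22,22],
  [],
  [],
  [],
  [],
  [],
  [],
  [],
  [],
  [],
  [],
  [],
  [],
  [],
  [],
  [0,21,21,7,20,21,19,22,17,16,20,20],
  [0,7,21,22,7,23,19,22,17,17,17],
  [],
  [],
  [],
  [],
  [],
  [],
  [],
  [],
  [0,7,22,22,20,7,18,18,20,17,15,19,21],
  [0,7,22,21,7,20,18,7,15,15,17,16],
  [],
  [],
  [],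
  [],
  [0,21,8,20,20,18,17,18,18,22],
  [1,22,22,22,21,18,18,22,23,15,19,21],
  [],
  [],
  [],
  [],
  [1,8,22,19,23,20,22,17,19,21,20],
  [0,7,22,21,22,7,19,20,15,18,18,17],
  [],
  [],
  [],
  [],
  [0,22,8,22,21,8,19,20,20,22,17,15],
  [0,22,21,20,7,21,18,17,21,17,18],
  [],
  [],
  [],
  [],
  [],
  [],
  [],
  [],
  [0,22,8,22,8,23,19,20,21,17,16,17],
  [0,7,8,23,20,18,7,22,16,20,16,15],
  [],
  [],
  [],
  [],
  [],
  [],
  [],
  [],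
  [],
  [],
  [],
  [],
  [],
  [],
  [0,21,23,7,8,21,19,8,21,21,17,15,19],
  [0,22,7,8,23,20,20,18,21,15,19,20],
  [],
  [],
  [],
  [],
  [],
  [],
  [],
  [],
  [],
  [],
  [],
  [],
  [],
  [],
  [],
  [],
  [],
  [],
  [0,8,22,7,20,19,19,19,17,17,19,17],
  [0,21,23,8,20,7,23,22,17,22,21],
  [],
  [],
  [],
  [],
  [0,22,22,22,19,18,23,7,16,19,15,22],
  [1,8,21,21,20,20,18,21,17,16,15,21,22],
  [],
  []] = true := by decide +kernel
theorem clT_6 : allZ (clsB 2560 LS [13,1338,698,0] mT MT) (mapApp [34,33] (prods [AT1, AT2, AT3]) []) [[],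
  [],
  [],
  [],
  [],
  [],
  [],
  [],
  [],
  [],
  [],
  [],
  [],
  [],
  [],
  [],
  [],
  [],
  [],
  [],
  [],
  [],
  [],
  [],
  [],
  [],
  [],
  [],
  [],
  [],
  [],
  [],
  [],
  [],
  [],
  [],
  [],
  [],
  [],
  [],
  [],
  [],
  [],
  [],
  [],
  [],
  [],
  [],
  [],
  [],
  [],
  [],
  [],
  [],
  [],
  [],
  [],
  [],
  [],
  [],
  [],
  [],
  [],
  [],
  [],
  [],
  [],
  [],
  [],
  [],
  [],
  [],
  [],
  [],
  [],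
  [],
  [],
  [],
  [],
  [],
  [],
  [],
  [],
  [],
  [],
  [],
  [],
  [],
  [],
  [],
  [],
  [],
  [],
  [],
  [],
  [],
  [],
  [],
  [],
  [],
  [],
  [],
  [],
  [],
  [],
  [],
  [],
  [],
  [],
  [],
  [],
  [],
  [],
  [],
  [],
  [],
  [],
  [],
  [],
  [],
  [],
  [],
  [],
  [],
  [],
  [],
  [],
  []] = true := by decide +kernel
theorem clT_7 : allZ (clsB 2560 LS [13,1338,698,0] mT MT) (mapApp [32,33] (prods [AT1, AT2, AT3]) []) [[],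
  [],
  [],
  [],
  [],
  [],
  [],
  [],
  [],
  [],
  [],
  [],
  [],
  [],
  [],
  [],
  [],
  [],
  [],
  [],
  [],
  [],
  [0,8,21,8,22,20,20,19,17,19,21,16],
  [0,7,22,7,23,19,18,18,16,19,18,19],
  [],
  [],
  [0,21,23,23,19,8,19,16,20,20,17],
  [0,21,7,8,22,22,19,23,20,17,18,16],
  [0,22,22,22,23,19,22,18,7,15,22,17],
  [0,8,22,8,23,22,19,17,22,16,19],
  [0,21,7,18,22,22,22,16,21,15,18],
  [0,22,8,22,19,23,22,16,15,19,20],
  [],
  [],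
  [],
  [],
  [],
  [],
  [],
  [],
  [],
  [],
  [0,7,19,20,7,16,17,19,22],
  [1,7,21,8,19,23,18,8,17,20,16],
  [],
  [],
  [0,8,22,7,19,21,8,20,16,19,19,17],
  [1,22,20,7,18,19,17,21,22,21,15],
  [],
  [],
  [],
  [],
  [],
  [],
  [],
  [],
  [],
  [],
  [],
  [],
  [],
  [],
  [],
  [],
  [],
  [],
  [],
  [],
  [],
  [],
  [],
  [],
  [],
  [],
  [],
  [],
  [],
  [],
  [],
  [],
  [],
  [],
  [],
  [],
  [],
  [],
  [0,23,22,7,19,21,8,17,21,19,16],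
  [0,7,8,21,22,7,23,15,18,17],
  [],
  [],
  [0,22,22,7,19,19,7,16,21,17,21,17],
  [0,8,23,22,22,19,19,8,16,15,19],
  [0,8,20,19,19,22,7,17,22,15],
  [0,7,23,22,23,19,23,21,15],
  [0,7,8,22,22,22,23,19,17,15,15,17],
  [0,8,21,21,7,22,19,20,20,19,16,18,19],
  [],
  [],
  [],
  [],
  [],
  [],
  [1,7,8,22,8,20,20,19,8,15,22,19,17],
  [0,22,18,7,18,22,16,17,16,20],
  [],
  [],
  [],
  [],
  [0,21,21,23,20,19,22,20,16,18,17],
  [1,8,23,21,18,20,19,15,18,17,20],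
  [],
  [],
  [],
  [],
  [],
  [],
  [],
  [],
  [],
  [],
  [],
  [],
  [],
  [],
  [],
  [],
  [],
  []] = true := by decide +kernel
end H80.KFHe
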