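import Cfsg.Agent.H80.KFSuzL0
set_option maxRecDepth 1000000
set_option Elab.async false
namespace H80.KFSuz
open H71 H81 H88 H80.KF H43.KF
noncomputable def D0_0 : ℕ := 0x3fffffffffffffffffffffffffffffffffffffffffffffffffffffffffffffffffffffffffffffffffffffffffffffffffffffffffffffffffffffffffffffffffffffffffffffffffffffffffffffffffffffffffffffffffffffffffffffffffffffffffffffffffffffffffffffffffffffffffffffffffffffffffffffffffffffffffffffffffffffffffffffffffffffffffffffffffffffffffffffffffffffffffffffffffffffffffffffffffffffffffffffffffffffffffffffffffffffffffffffffffffffffffffffffffffffffffffffffffffffffffffff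
noncomputable def S0_0 : H88.Tr := (.node (nat_lit 896) (.node (nat_lit 384) (.node (nat_lit 128) (.leaf (nat_lit 0) (nat_lit 0xdf2f5591d2ac08fa695483e0d9cd952868171aa3d3db544e5045df2038ba16b81c3780cf501f70e17576d6865bd342dc))
 (.node (nat_lit 256) (.leaf (nat_lit 128) (nat_lit 0x68e705d050d57b1266febf5ad5f8c6f85b3d1f2f66b6681e5f3ae9d4ab8d72476ae15a099dfaae2c5416f60d115686ff))
 (.leaf (nat_lit 256) (nat_lit 0x969cacd9f97431a5d92c02f475d7141927aae9c289df9db91f6ccc4117e191c80d7e20468ee277fae357ce1d07dc605a))))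
 (.node (nat_lit 640) (.node (nat_lit 512) (.leaf (nat_lit 384) (nat_lit 0x98c83d04002a92de6eac4348435dda28adfa6f9c75ae137f13e45dec9226c228f2215cc4f51782551e5c63fd0dbc2e3c))
 (.leaf (nat_lit 512) (nat_lit 0x71b235454f1936f017ecef1ac5f21f9956b0c840c8290be7b1f48b9facf38fe830bad7f5670c847c76bef28f96040362)))
 (.node (nat_lit 768) (.leaf (nat_lit 640) (nat_lit 0x18c9b4d2432a4398f1176f6bedcd5040227f2937ae502d696c2c1413eb422848c8c69940d79b04732acddc3ec7959862))
 (.leaf (nat_lit 768) (nat_lit 0x12bd2f7499ca785916af992ee864400d758f90e88ac7111df79e1846a68f83a62ea69b17723886ea72e685480540d2c3)))))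
 (.node (nat_lit 1280) (.node (nat_lit 1024) (.leaf (nat_lit 896) (nat_lit 0xe589c76c6ddb19a83b09296097a5d92493d6a7c34122b36d40e9441bd990b8c669ee1bb7f3e203ad3ac0fffe742fb43d))
 (.node (nat_lit 1152) (.leaf (nat_lit 1024) (nat_lit 0xd10941c2661ca5dc9bf5a73d0f4c3578264f6fec93fd66ee2ef08dda7d06c65a0a0f9dc070ff27957bbd6c037932757a))
 (.leaf (nat_lit 1152) (nat_lit 0x3f50fd564862fd5d02b89bda97ead357697e662510f9ed35bb5b8fd1e2681a0ce0da805d034565940ad9d3483a505442))))
 (.node (nat_lit 1536) (.node (nat_lit 1408) (.leaf (nat_lit 1280) (nat_lit 0x3aad7678f1d200fe7715078db8e165cbf2f55fabad742fb7e6ffc160d91eaa1e51de01a6b50395e1418a40bb370d89b6))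
 (.leaf (nat_lit 1408) (nat_lit 0x9e7b8b4e1b77431ee6f0e49cbd9c38126d25603519241c28f70c6092e45045be712175ad230b022ba280a7424dcb637d)))
 (.node (nat_lit 1664) (.leaf (nat_lit 1536) (nat_lit 0x4fa44a179888337d6472836252fa65d5f4d499f8eb1bdb29ccb43ad3db48dde122dfe19d1df7d66456ae5025be329af7))
 (.leaf (nat_lit 1664) (nat_lit 0x222deace79a69b0cbcad6945ed6d22000d23fa5a1b5c3702d2c9bc971566bc00239b066778c4be286dfc877ea521ae))))))
noncomputable def v0_0 : Lv := ⟨(nat_lit 0), D0_0, 1782, wd LS [17,23,22,18,16,20,19,21], [0,3,4,0,1,5,6,3,7,4,2,6,1,0], S0_0, true, (nat_lit 0), (nat_lit 0), 0, 0, 0, []⟩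
noncomputable def D0_1 : ℕ := 0x3ffffffffffffffffffffffffffffffffffffffffffffffffffffffffffffffffffffffffffffffffffffffffffffffffffffffffffffffffffffffffffffffffffffffffffffffffffffffffffffffffffffffffffffffffffffffffffffffffffffffffffffffffffffffffffffffffffffffffffffffffffffffffffffffffffffffffffffffffffffffffffffffffffffffffffffffffffffffffffffffffffffffffffffffffffffe00000000000000000000000000000000000000000000000000000000000000000000000000000000000000000000000000000000
noncomputable def S0_1 : H88.Tr := (.node (nat_lit 896) (.node (nat_lit 384) (.leaf (nat_lit 0) (nat_lit 0))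
 (.node (nat_lit 640) (.node (nat_lit 512) (.leaf (nat_lit 384) (nat_lit 0x247546711733f7d0cd6741f400000000ecda657fd6062d1bb1c4f12000000000f81f494693d0f3757d993eb800000000))
 (.leaf (nat_lit 512) (nat_lit 0x3fb7280a178fe9b809be11eb50e7f2fb2cb4d125bc648b848b99b71923eedb85b5d87e5cceb9e1fea7c2c71480347abb)))
 (.node (nat_lit 768) (.leaf (nat_lit 640) (nat_lit 0x7e7f7bed124ec9ed8ead18e98438a2d5fc65a868088a8ee2839f449a2be5e502ea02733a582b0564313829a426f128b0))
 (.leaf (nat_lit 768) (nat_lit 0x9aa225ca9c0485a7ffa7231fa319849e0899ccfa7da545d290e297ef1ef137c0360e728667ea758811d56a5129cf5f32)))))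
 (.node (nat_lit 1280) (.node (nat_lit 1024) (.leaf (nat_lit 896) (nat_lit 0xefa02417ce046428af7f0808f70d220a7472849c5e7b8be52ace156e280a9fef9370bcead77f79028bb177069bc9c6d0))
 (.node (nat_lit 1152) (.leaf (nat_lit 1024) (nat_lit 0x9070a4b2da36620370945be5c07ff4e095175761751e40136a06a473a72a4951640e3e32c0a9692e2bd0a965c1a1570d))
 (.leaf (nat_lit 1152) (nat_lit 0xc9f1a40f50aad7a95e98aec027355e60226fa254345834a427f04fbf4125a539be6bd08df4f2cdd1ad14775fc2a1ec25))))
 (.node (nat_lit 1536) (.node (nat_lit 1408) (.leaf (nat_lit 1280) (nat_lit 0x91818d5794107b17af7829c54a304913ab686c527a827a7eddc50edaf8e683df25a7873349e0379a3e2e1fdf06cf876e))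
 (.leaf (nat_lit 1408) (nat_lit 0xdfc98d6bd64c5956d6d84984e0d96728d112991a70de53e80d8671168044ef3d05dc4622712f0cb3ad17a02cc44449b8)))
 (.node (nat_lit 1664) (.leaf (nat_lit 1536) (nat_lit 0x6b537e84a33d0a9ecba118a16539febbdc386113fc706abd5e690cd400ddbce92d2d5664e7993fbf1d284eaaf4e02b16))
 (.leaf (nat_lit 1664) (nat_lit 0x395355bca16685be7bf7e84955013800031621e599c7190fd506f99b307c00003aba8eb0ef96cf2f39ddf7dab64c0b))))))
noncomputable def v0_1 : Lv := ⟨(nat_lit 417), D0_1, 1365, wd LS [22,21,25,23,26,19,20,24], [1,5,6,0,1,2,3,4,6,1,0,7,4,0], S0_1, true, (nat_lit 0), (nat_lit 0), 0, 0, 0, []⟩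
noncomputable def D0_2 : ℕ := 0x3ffffffffffffffffffffffffffffffffffffffffffffffffffffffffffffffffffffffffffffffffffffffffffffffffffffff8fff03fffffc7ff8e001f8fc01c0ff81c7e07fd6dc01fffff038e3ffc0fffff8ffffffe38038e38007ffffd8fff1f81c71ffffffff1ffe3f0001ffe3fe3f1ffe07007fde9c0000000003fffc0003fffcffffc0fff1c7ffffc7fff1f81c703fe380381c7fc71ffd67ffffffffffffffffffffffff000000000000000000000000000000000000000000000000000000000000000000000000000000000000000000000000000000000000000
noncomputable def S0_2 : H88.Tr := (.node (nat_lit 896) (.node (nat_lit 384) (.leaf (nat_lit 0) (nat_lit 0))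
 (.node (nat_lit 640) (.node (nat_lit 512) (.leaf (nat_lit 384) (nat_lit 0x604ac0c32980a78000000000000000001684081c96654059800000000000000050450eb971434acfa000000000000000))
 (.leaf (nat_lit 512) (nat_lit 0x1410014200281011040185064000204000402c2180100062430a4000976cdd1810003d8280201014401265258f67938)))
 (.node (nat_lit 768) (.leaf (nat_lit 640) (nat_lit 0x800010e888ec80040f182c848029400000000c1101012402300003390c422617000025374272880e880056d1a80a4414))
 (.leaf (nat_lit 768) (nat_lit 0x30415062001000b0810000000000110f00200081600005014080000000002a100fe06094405005d148c00000000032c0)))))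
 (.node (nat_lit 1280) (.node (nat_lit 1024) (.leaf (nat_lit 896) (nat_lit 0x41508804110038f7910ea0110000c4202e811008602bc0002a004c2e0001218870f170140131b83ce311a01d0000e30))
 (.node (nat_lit 1152) (.leaf (nat_lit 1024) (nat_lit 0x2009e6408442841018008000000342344800098d08253a482002041800649500d40d58e68939d73218008818002e8b65))
 (.leaf (nat_lit 1152) (nat_lit 0xc0080048000004c048800863e400862f0000040000760011244016180303001000100d08006e004905c0125aa5008227))))
 (.node (nat_lit 1536) (.node (nat_lit 1408) (.leaf (nat_lit 1280) (nat_lit 0x8c25324e901000141847410a0000080831088431408f6022660082f4860016833bcdca897060c0284a7243f70600090c))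
 (.leaf (nat_lit 1408) (nat_lit 0x48881cc8140e48044803121240bc0900a7120207c8f1a421b6fc08288543e2f20c2c214199e7f30d03e36907c70a387e)))
 (.node (nat_lit 1664) (.leaf (nat_lit 1536) (nat_lit 0x41321511b08ca18016ee629b04a07095260522c80c605c65e10099407908846906d6511dca3e56fbd993401b753eaf5))
 (.leaf (nat_lit 1664) (nat_lit 0x1111959c2000332a18861601b56c02002aee282015c348556008e182029000000c98fc04dc3b00b6ea204a4f259906))))))
noncomputable def v0_2 : Lv := ⟨(nat_lit 444), D0_2, 1024, wd LS [24,22,26,23,25,27], [0,1,3,0,2,4,1,3,5,0,3,2,3], S0_2, true, (nat_lit 0), (nat_lit 0), 0, 0, 0, []⟩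
noncomputable def D0_3 : ℕ := 0x1f8000038000fc0000e00e001c0000000000000000007e001c0ff8fc7fc0e00e070001c00380000000000000001c0000e380001f80071c0000000e00000000000000000000007000000000fc0000000038000000000000000000000000000000038e00038038000000000000000000000000000000000000000000000000000ffffc0fff1c01f8fc7000000000000000000000000000000000000000000e07038038000000000000000000000000000000000000000000000000000000000000000000000000000000000000000000000000000000000000000000
noncomputable def S0_3 : H88.Tr := (.node (nat_lit 896) (.node (nat_lit 384) (.leaf (nat_lit 0) (nat_lit 0))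
 (.node (nat_lit 640) (.node (nat_lit 512) (.leaf (nat_lit 384) (nat_lit 0xc0602001000000000000000000000000200008000000000000000000000))
 (.leaf (nat_lit 512) (nat_lit 0)))
 (.node (nat_lit 768) (.leaf (nat_lit 640) (nat_lit 0x2b4c0b5f100058205000000000000001d4300020040180d0200000))
 (.leaf (nat_lit 768) (nat_lit 0)))))
 (.node (nat_lit 1280) (.node (nat_lit 1024) (.leaf (nat_lit 896) (nat_lit 0x8000028008000000000000000000000304000100300000000000))
 (.node (nat_lit 1152) (.leaf (nat_lit 1024) (nat_lit 0x2800000000000000000000000000000050000000002000000000000000000000))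
 (.leaf (nat_lit 1152) (nat_lit 0x3000000000))))
 (.node (nat_lit 1536) (.node (nat_lit 1408) (.leaf (nat_lit 1280) (nat_lit 0x4000020000006800114000000040000000000c000001000060000000008))
 (.leaf (nat_lit 1408) (nat_lit 0x602080000203000100020000000000009c4540c0080000008001000000000000)))
 (.node (nat_lit 1664) (.leaf (nat_lit 1536) (nat_lit 0x100000000000000000004600100a6000000000000000000000000800040588))
 (.leaf (nat_lit 1664) (nat_lit 0x1f8000030000b00000800800000000000000000000000400002000))))))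
noncomputable def v0_3 : Lv := ⟨(nat_lit 459), D0_3, 180, wd LS [27,25,26], [0,1,2,0,1,2,0,1,2,0,2], S0_3, true, (nat_lit 0), (nat_lit 0), 0, 0, 0, []⟩
noncomputable def L0 : List Lv := [v0_0, v0_1, v0_2, v0_3]
theorem lok0 : LOK 1792 (H71.Suz.ρ).range L0 :=
  (LOK.cons (hLS.wd (w := [17,23,22,18,16,20,19,21]) (by decide +kernel))
  (LOK.cons (hLS.wd (w := [22,21,25,23,26,19,20,24]) (by decide +kernel))
  (LOK.cons (hLS.wd (w := [24,22,26,23,25,27]) (by decide +kernel))
  (LOK.cons (hLS.wd (w := [27,25,26]) (by decide +kernel))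
  LOK.nil))))
theorem lb0_0 : lbLv 11 1792 v0_0 [v0_1, v0_2, v0_3] = true := by decide +kernel
theorem lb0_1 : lbLv 11 1792 v0_1 [v0_2, v0_3] = true := by decide +kernel
theorem lb0_2 : lbLv 11 1792 v0_2 [v0_3] = true := by decide +kernel
theorem lb0_3 : lbLv 11 1792 v0_3 [] = true := by decide +kernel
theorem lb0 : LB 11 1792 L0 := ⟨lb0_0, ⟨lb0_1, ⟨lb0_2, ⟨lb0_3, trivial⟩⟩⟩⟩
theorem ch0 : Ch 1792 L0 (H71.Suz.ρ).range := lb_exact L0 _ lok0 lb0 (by rw [cardB]; decide +kernel)
theorem base : IsBase 1792 (H71.Suz.ρ).range [459,444,417,0] := ch0.isBase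
theorem hB : (H71.Suz.ρ).range ≤ supp 1792 :=
  (eq_of_lb (B' := (H71.Suz.ρ).range ⊓ supp 1792) inf_le_left (fun v hv a ha => (lok0 v hv a ha).mono ⟨(lok0 v hv a ha).2.1, (lok0 v hv a ha).supp⟩) lb0
    (by rw [cardB]; decide +kernel)).ge.trans inf_le_right
def AT0 : Sl := ⟨[41,40,39,38,37,36,35,34,33,32,31,30,29], [[],
  [41],
  [40],
  [39],
  [38],
  [40,41],
  [39,41],
  [38,41],
  [41,40],
  [39,40],
  [38,40],
  [38,39],
  [39,40,41],
  [38,39,41],
  [39,41,40],
  [38,39,40]], [[(1, []), (0, [36,30]), (8, []), (6, [37,37,30]), (7, [37,37,29]), (10, [36,30]), (3, [33,36,30,33,29]), (4, [33,36,33,29]), (2, [36,30,29]), (14, [30,29]), (5, [29]), (13, [30,29]), (15, [37,37,29]), (11, [36,29]), (9, [36]), (12, [33,36,33])],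
  [(2, []), (5, []), (0, [37,37]), (9, [37,37,37,29]), (10, [37,37]), (1, [37,37]), (12, [33,36,37,30,31,33,29]), (8, [37,37]), (7, []), (3, [37,37,37,29]), (4, []), (15, [37,29]), (6, [33,36,37,30,31,33,29]), (14, [37,37,37]), (13, [37,37,37]), (11, [37,29])],
  [(3, []), (6, []), (9, []), (0, [37,37,30,29]), (11, [36]), (12, []), (1, [37,37,30,29]), (13, [36]), (14, []), (2, [30]), (15, [33,36,30,33,29]), (4, [33,36,33,29]), (5, [30]), (7, [33,36,33,29]), (8, [30]), (10, [33,36,33])],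
  [(4, []), (7, []), (10, []), (11, []), (0, [37,37]), (8, []), (13, []), (1, [37,37]), (5, [37,37]), (15, []), (2, [37,37]), (3, [37,37]), (14, [33,36,30,33,29]), (6, [37,37]), (12, [36]), (9, [37,37])],
  [(0, [37]), (1, [36,37,29]), (2, [37,37,37]), (3, [37,29]), (4, [37,37,37]), (5, [33,36,37,30,31,33]), (6, [36,37]), (7, [33,36,37,30,31,33]), (8, [36,37,29]), (9, [37,37,37,29]), (10, [37]), (11, [37,37,37,29]), (12, [33,36,37,30,31,33,29]), (13, [33,36,37,30,31,33,29]), (14, [36,37]), (15, [37,29])],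
  [(0, [36]), (1, [36]), (2, [33,36,30,33,29]), (3, [36]), (4, [36]), (5, [33,36,30,33,29]), (6, [36]), (7, [36]), (8, [33,36,30,33,29]), (9, [33,36,30,33,29]), (10, [33,36,30,33,29]), (11, [36]), (12, [33,36,30,33,29]), (13, [36]), (14, [33,36,30,33,29]), (15, [33,36,30,33,29])],
  [(0, [35]), (1, [37,37,31,32,29]), (2, [37,37,30,31,33]), (3, [34,30,32,33]), (4, [37,37,32,29]), (5, [37,37,30,33,29]), (6, [37,37,30,32]), (7, [34,30,32,33,29]), (8, [35,30,32,33,29]), (9, [37,37,30,33,29]), (10, [34,29]), (11, [37,37,30,31,32]), (12, [31,33,29]), (13, [35,29]), (14, [35,31,32,33]), (15, [34,30,31])],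
  [(0, [34]), (1, [35,30,32,33]), (2, [37,37,32,29]), (3, [35,31,32,33,29]), (4, [37,37,30,31,33,29]), (5, [34,30,32,33,29]), (6, [34,30,31,29]), (7, [37,37,30,33]), (8, [37,37,31,32,29]), (9, [37,37,30,32]), (10, [35]), (11, [37,37,30,31,33,29]), (12, [34,32,33,29]), (13, [37,37,30,33]), (14, [37,37,30,31,32]), (15, [35])],
  [(0, [33]), (1, [37,37,30,31,33]), (2, [34,32,33]), (3, [33]), (4, [34,30,31,29]), (5, [37,37,32,29]), (6, [37,37,30,31,33]), (7, [34,29]), (8, [35,29]), (9, [34,32,33]), (10, [37,37,30,31,32]), (11, [35,30,32,33]), (12, [37,37,32,29]), (13, [35,31,32,33]), (14, [35,29]), (15, [37,37,31,32,29])],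
  [(0, [32]), (1, [35,31]), (2, [35,30,31,32,33,29]), (3, [30,31,32,29]), (4, [34,30,31,32,33,29]), (5, [34,31]), (6, [34,30,31,32,33,29]), (7, [31,32,29]), (8, [30,33,29]), (9, [35,32,33]), (10, [30,31,33]), (11, [35,31]), (12, [35,30,31,32,33]), (13, [30,32]), (14, [30,31,33]), (15, [30,33,29])],
  [(0, [31]), (1, [37,37,30,31]), (2, [37,37,31]), (3, [31]), (4, [37,37,31,29]), (5, [30,31]), (6, [37,37,30,31]), (7, [30,31,29]), (8, [37,37,30,31,29]), (9, [37,37,31]), (10, [31,29]), (11, [37,37,31,29]), (12, [30,31]), (13, [30,31,29]), (14, [37,37,30,31,29]), (15, [31,29])],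
  [(0, [30]), (1, [30]), (2, [37,37,30,29]), (3, [30]), (4, [30]), (5, [37,37,30,29]), (6, [30]), (7, [30]), (8, [37,37,30,29]), (9, [37,37,30,29]), (10, [37,37,30,29]), (11, [30]), (12, [37,37,30,29]), (13, [30]), (14, [37,37,30,29]), (15, [37,37,30,29])],
  [(0, [29]), (1, [29]), (2, [29]), (3, [29]), (4, [29]), (5, [29]), (6, [29]), (7, [29]), (8, [29]), (9, [29]), (10, [29]), (11, [29]), (12, [29]), (13, [29]), (14, [29]), (15, [29])]]⟩
theorem rAT0 : relP LS [459,444,417,0] (schR AT0) = true := by decide +kernel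
def AT1 : Sl := ⟨[37,36,35,34,33,32,31,30,29], [[],
  [37],
  [36],
  [35],
  [34],
  [37,37],
  [36,37],
  [35,37],
  [34,37],
  [35,36],
  [33,36],
  [36,34],
  [37,37,37],
  [35,36,37],
  [33,36,37],
  [36,34,37]], [[(1, []), (5, []), (6, []), (8, [30,32,33,29]), (7, [30,32,33]), (12, []), (10, [30,33,29]), (3, [31,29]), (4, [31]), (15, [32,33]), (14, [31]), (13, [32,33]), (0, []), (9, [31,29]), (2, [30,31,33]), (11, [31])],
  [(2, []), (6, []), (0, []), (9, [30]), (11, []), (10, [30,33,29]), (1, []), (13, [30]), (15, []), (3, [30]), (5, [30,33]), (4, []), (14, [30,31,33,29]), (7, [30]), (12, [30,31,33]), (8, [])],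
  [(3, []), (7, []), (9, []), (0, []), (5, [30,31,32,33]), (4, [30,31,32,33]), (13, []), (1, []), (12, [30,31,32,33,29]), (2, []), (11, [30,31,32]), (10, [30,31,32,29]), (8, [30,31,32,33,29]), (6, []), (15, [30,32]), (14, [30,32,29])],
  [(4, []), (8, []), (9, [30,31,32,33,29]), (5, [30,31,32,33]), (0, []), (3, [30,31,32,33]), (13, [30,31,32,33]), (12, [30,31,32,33,29]), (1, []), (2, [30,31,32,33,29]), (11, [33]), (10, [33]), (7, [30,31,32,33,29]), (6, [30,31,32,33]), (15, [31,33]), (14, [31,33])],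
  [(0, [33]), (1, [31,33]), (10, []), (3, [33,29]), (4, [33,29]), (5, [33,29]), (14, []), (7, [31,33,29]), (8, [31,33,29]), (11, [30,31,32,29]), (2, []), (9, [30,31,32]), (12, [31,33,29]), (15, [30,32,29]), (6, []), (13, [30,32])],
  [(0, [32]), (1, [31,32,29]), (2, [30,32]), (3, [32]), (4, [32,29]), (5, [32,29]), (6, [30,31,32,29]), (7, [31,32,29]), (8, [31,32]), (9, [30,32]), (10, [30,32,29]), (11, [30,32]), (12, [31,32]), (13, [30,31,32,29]), (14, [30,31,32]), (15, [30,31,32,29])],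
  [(0, [31]), (1, [31]), (2, [31]), (3, [31]), (4, [31]), (5, [31]), (6, [31]), (7, [31]), (8, [31]), (9, [31]), (10, [31,29]), (11, [31]), (12, [31]), (13, [31]), (14, [31,29]), (15, [31])],
  [(0, [30]), (1, [30]), (2, [30]), (3, [30]), (4, [30,29]), (5, [30]), (6, [30]), (7, [30]), (8, [30,29]), (9, [30]), (10, [30,29]), (11, [30,29]), (12, [30]), (13, [30]), (14, [30,29]), (15, [30,29])],
  [(0, [29]), (1, [29]), (2, [29]), (3, [29]), (4, [29]), (5, [29]), (6, [29]), (7, [29]), (8, [29]), (9, [29]), (10, [29]), (11, [29]), (12, [29]), (13, [29]), (14, [29]), (15, [29])]]⟩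
theorem rAT1 : relP LS [459,444,417,0] (schR AT1) = true := by decide +kernel
def AT2 : Sl := ⟨[33,32,31,30,29], [[],
  [33],
  [32],
  [31],
  [30],
  [32,33],
  [31,33],
  [30,33],
  [31,32],
  [30,32],
  [30,31],
  [31,32,33],
  [30,32,33],
  [30,31,33],
  [30,31,32],
  [30,31,32,33]], [[(1, []), (0, []), (5, [29]), (6, [29]), (7, [29]), (2, [29]), (3, [29]), (4, [29]), (11, []), (12, []), (13, []), (8, []), (9, []), (10, []), (15, [29]), (14, [29])],
  [(2, []), (5, []), (0, [29]), (8, [29]), (9, []), (1, [29]), (11, [29]), (12, []), (3, []), (4, [29]), (14, [29]), (6, []), (7, [29]), (15, [29]), (10, []), (13, [])],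
  [(3, []), (6, []), (8, []), (0, [29]), (10, []), (11, []), (1, [29]), (13, []), (2, [29]), (14, []), (4, [29]), (5, [29]), (15, []), (7, [29]), (9, [29]), (12, [29])],
  [(4, []), (7, []), (9, []), (10, []), (0, []), (12, []), (13, []), (1, []), (14, []), (2, []), (3, []), (15, []), (5, []), (6, []), (8, []), (11, [])],
  [(0, [29]), (1, [29]), (2, [29]), (3, [29]), (4, [29]), (5, [29]), (6, [29]), (7, [29]), (8, [29]), (9, [29]), (10, [29]), (11, [29]), (12, [29]), (13, [29]), (14, [29]), (15, [29])]]⟩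
theorem rAT2 : relP LS [459,444,417,0] (schR AT2) = true := by decide +kernel
def AT3 : Sl := ⟨[29], [[],
  [29]], [[(1, []), (0, [])]]⟩
theorem rAT3 : relP LS [459,444,417,0] (schR AT3) = true := by decide +kernel
def CT : List Sl := [AT0, AT1, AT2, AT3]
theorem rCT : ∀ e ∈ CT.flatMap schR, evw (vL LS) e.1 = evw (vL LS) e.2 :=
  (List.forall_mem_append.2 ⟨of_relP base hLS rAT0, (List.forall_mem_append.2 ⟨of_relP base hLS rAT1, (List.forall_mem_append.2 ⟨of_relP base hLS rAT2, (List.forall_mem_append.2 ⟨of_relP base hLS rAT3, fun _ h => absurd h List.not_mem_nil⟩)⟩)⟩)⟩)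
theorem oCT : schOK CT = true := by decide +kernel
def ST : List ℕ := [41,40,39,38,37,36,35,34,33,32,31,30,29]
def PT : List (ℕ × List ℕ) := [(107, [36,33,41,35,37,37,37,35]), (108, [36,34,30,39,36])]
theorem knT : ∀ l ∈ slpS PT ST, vL LS l ∈ (gen (vL LS) ST) :=
  slp_mem base hLS _ (fun _ h => mem_gen _ h) (by decide +kernel)
theorem leT : (gen (vL LS) ST) ≤ (H71.Suz.ρ).range := gen_le_of hLS (by decide +kernel)
instance finT : Finite (gen (vL LS) ST) := Finite.of_injective _ (Subgroup.inclusion_injective leT)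
noncomputable def DT_0 : ℕ := 0x27b9dfa9d5f8e53edbcba0f259f8dca376329b521e6456e9f15763eb6ddd9f2fdf2f4f637e84ff0570b8c49ebd656cba8b78fc9ab72f9717d8f1e5f9f7a88a4e31cf7d56f0bef179ea64ed252808dacfe66c53d6d45591c3bb336a394fbedef3fbcb5e37d8787a48d391d89db369e4fae99ab1ccb291f9c277c7aa1c5678d64ee8e6677379d5fb4913669f55bbd7ce14875ade48ddfd5c4b7c0d3f51f63de53617ffadd2b66dc63b36351aa2adbd1fb78f5ecd1d3cbbec4b4f3d999f7d5f3dad581678ead7fa2d2522d7d9438cfbd78c617a552f96181778f59695b97bedcb
noncomputable def ST_0 : H88.Tr := (.leaf (nat_lit 0) (nat_lit 0))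
noncomputable def vT_0 : Lv := ⟨(nat_lit 0), DT_0, 1024, wd LS [33,38,34,40,41,30,32,31,36,29,37,39,35], [1,2,3,4,5,6,8,9,0,7,4,0], ST_0, true, (nat_lit 0), (nat_lit 0), 0, 0, 0, []⟩
noncomputable def DT_1 : ℕ := 0x2000000100c0000000000140001000002
noncomputable def ST_1 : H88.Tr := (.leaf (nat_lit 0) (nat_lit 0))
noncomputable def vT_1 : Lv := ⟨(nat_lit 1), DT_1, 8, wd LS [108,107,33], [0,1,2], ST_1, true, (nat_lit 0), (nat_lit 0), 0, 0, 0, []⟩
noncomputable def LT : List Lv := [vT_0, vT_1]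
theorem lokT : LOK 1792 (gen (vL LS) ST) LT :=
  (LOK.cons (hLS.wdK knT (w := [33,38,34,40,41,30,32,31,36,29,37,39,35]) (by decide +kernel))
  (LOK.cons (hLS.wdK knT (w := [108,107,33]) (by decide +kernel))
  LOK.nil))
theorem lbT_0 : lbLv 11 1792 vT_0 [vT_1] = true := by decide +kernel
theorem lbT_1 : lbLv 11 1792 vT_1 [] = true := by decide +kernel
theorem lbT : LB 11 1792 LT := ⟨lbT_0, ⟨lbT_1, trivial⟩⟩
theorem lowT : 8192 ≤ Nat.card (gen (vL LS) ST) := (by decide +kernel : 8192 ≤ prodN LT).trans (lb_le _ _ lokT lbT)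
theorem cardT : Nat.card (gen (vL LS) ST) = 2 ^ 13 := card_gen_eq rCT oCT (by decide +kernel) lowT
def R0 : List (List ℕ × List ℕ) := [([28], [])]
theorem rR0 : ∀ e ∈ R0, evw (vL LS) e.1 = evw (vL LS) e.2 := of_relP base hLS (by decide +kernel)
theorem v1 : vL LS 28 = 1 := by simpa using rR0 ([28], []) (by decide)
def mT : Md := ([], [], 28)
def MT : List Md := [([], [], 29), ([], [], 81)]
def SKa : List ℕ := [45,44,43,42,46,29,30,31,32,33,34,35]
def PKa : List (ℕ × List ℕ) := [(47, [44,46,42,45,46]), (48, [43,43,31,33,44,33,46,31]), (49, [48,47,48,48,48,47,33,48,48]), (50, [45,33,46,42,29]), (51, [44,44,29,33,42]), (52, [50,50,51,50,50,33,51]), (53, [50,50,50,50,51,29,50]), (54, [50,50,51,50,50,50,51,51]), (55, [50,50,51,50,51,33,51,50,51]), (56, [33,52,55]), (57, [33,53,52]), (58, [33,53,54,54]), (59, [58,57]), (60, [59,56,56]), (61, [60,60])]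
theorem knKa : ∀ l ∈ slpS PKa SKa, vL LS l ∈ (gen (vL LS) SKa) :=
  slp_mem base hLS _ (fun _ h => mem_gen _ h) (by decide +kernel)
theorem leKa : (gen (vL LS) SKa) ≤ (H71.Suz.ρ).range := gen_le_of hLS (by decide +kernel)
instance finKa : Finite (gen (vL LS) SKa) := Finite.of_injective _ (Subgroup.inclusion_injective leKa)
noncomputable def DKa_0 : ℕ := 0x3ffffffffffdffffdfdffffffffbfffffffffbf7ffffffffffffffffffffffeffffffff3ffdfffffffffefffffffffbffffffeffffffffffffffffffffecffff7ffffff7ffffffffffffffffffffffdffffdfffffffffff7fffffeffffffffffffffffffdb7ffbfffffffffffffffffffffbfffdfffbfffefffffbfffffbfffffffffffffffffffbffeffffffffffffffffffefffffdfffffffdff7ffffffff7fffffffffeffefff7fffffe7fdffffffffffffffffbfffffffffffffff7ffffffff7ffeffffffffff7d7ffffffffffffffffffffffdffffeffffffffffffff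
noncomputable def SKa_0 : H88.Tr := (.leaf (nat_lit 0) (nat_lit 0))
noncomputable def vKa_0 : Lv := ⟨(nat_lit 0), DKa_0, 1728, wd LS [45,46,43,42,32,34,33,31,35,44,30,29], [0,1,2,3,4,8,5,0,1,2,11,7,0,0], SKa_0, true, (nat_lit 0), (nat_lit 0), 0, 0, 0, []⟩
noncomputable def DKa_1 : ℕ := 0x2f61fe46e40da0155f9f1c5d46790d37400f409607dd6830f8c2609f1c5fb5aff1066d709bcc500503512d18383ba036800ebcf0c70697f1a03ee586e0ac1b586ff75c778418a36dc5198f006c4ed8c161950f80c001a0f0970626eaded8b8e4b8e0329f1b679b140c3d86dcc072499be2ea2861bd83027085f728784b9362c3ec4345b3c313e0e30066dda1e02d8de57ecba0c7157d38b5302dc261bdb50b75c44da88b3af8260b70e89600000000000000000000000000000000000000000000000000000000000000000000000000000000000000000000000000000000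
noncomputable def SKa_1 : H88.Tr := (.leaf (nat_lit 0) (nat_lit 0))
noncomputable def vKa_1 : Lv := ⟨(nat_lit 417), DKa_1, 640, wd LS [47,48,49,33], [0,1,3,0,2,1,0,2,0,1,2,0,1,2,0], SKa_1, true, (nat_lit 0), (nat_lit 0), 0, 0, 0, []⟩
noncomputable def DKa_2 : ℕ := 0x40000082
noncomputable def SKa_2 : H88.Tr := (.leaf (nat_lit 0) (nat_lit 0))
noncomputable def vKa_2 : Lv := ⟨(nat_lit 1), DKa_2, 3, wd LS [49], [0,0], SKa_2, true, (nat_lit 0), (nat_lit 0), 0, 0, 0, []⟩
noncomputable def LKa : List Lv := [vKa_0, vKa_1, vKa_2]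
theorem lokKa : LOK 1792 (gen (vL LS) SKa) LKa :=
  (LOK.cons (hLS.wdK knKa (w := [45,46,43,42,32,34,33,31,35,44,30,29]) (by decide +kernel))
  (LOK.cons (hLS.wdK knKa (w := [47,48,49,33]) (by decide +kernel))
  (LOK.cons (hLS.wdK knKa (w := [49]) (by decide +kernel))
  LOK.nil)))
theorem lbKa_0 : lbLv 11 1792 vKa_0 [vKa_1, vKa_2] = true := by decide +kernel
theorem lbKa_1 : lbLv 11 1792 vKa_1 [vKa_2] = true := by decide +kernel
theorem lbKa_2 : lbLv 11 1792 vKa_2 [] = true := by decide +kernel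
theorem lbKa : LB 11 1792 LKa := ⟨lbKa_0, ⟨lbKa_1, ⟨lbKa_2, trivial⟩⟩⟩
theorem lowKa : 3317760 ≤ Nat.card (gen (vL LS) SKa) := (by decide +kernel : 3317760 ≤ prodN LKa).trans (lb_le _ _ lokKa lbKa)
noncomputable def Oa : ℕ := 0x3ffffffffffdffffdfdffffffffbfffffffffbf7ffffffffffffffffffffffeffffffff3ffdfffffffffefffffffffbffffffeffffffffffffffffffffecffff7ffffff7ffffffffffffffffffffffdffffdfffffffffff7fffffeffffffffffffffffffdb7ffbfffffffffffffffffffffbfffdfffbfffefffffbfffffbfffffffffffffffffffbffeffffffffffffffffffefffffdfffffffdff7ffffffff7fffffffffeffefff7fffffe7fdffffffffffffffffbfffffffffffffff7ffffffff7ffeffffffffff7d7ffffffffffffffffffffffdffffeffffffffffffff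
theorem hOa : ∀ y, Oa.testBit y = true ↔ ∃ w ∈ [[29]], evw (vL LS) w y ≠ y :=
  of_movIs (m := 11) (by norm_num) hLS (by decide +kernel)
def Ra : List (List ℕ × List ℕ) := [([45,29], [29,45]),
  ([44,29], [29,44]),
  ([43,29], [29,43]),
  ([42,29], [29,42]),
  ([46,29], [29,46]),
  ([29,29], [29,29]),
  ([30,29], [29,30]),
  ([31,29], [29,31]),
  ([32,29], [29,32]),
  ([33,29], [29,33]),
  ([34,29], [29,34]),
  ([35,29], [29,35])]
theorem rRa : ∀ e ∈ Ra, evw (vL LS) e.1 = evw (vL LS) e.2 := of_relP base hLS (by decide +kernel)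
def CPa3_0 : Sl := ⟨[45,44,43,42], [[],
  [45],
  [44],
  [45,45],
  [44,45],
  [44,44],
  [44,45,45],
  [44,44,45],
  [44,44,45,45]], [[(1, []), (3, []), (4, [42,42,43,43]), (0, []), (6, [43]), (7, [42,43]), (2, [42]), (8, [43,43]), (5, [42,42])],
  [(2, []), (4, []), (5, []), (6, []), (7, []), (0, []), (8, []), (1, []), (3, [])],
  [(0, [43]), (1, [42]), (2, [43]), (3, [42,42,43,43]), (4, [42]), (5, [43]), (6, [42,42,43,43]), (7, [42]), (8, [42,42,43,43])],
  [(0, [42]), (1, [42,42,43,43]), (2, [42]), (3, [43]), (4, [42,42,43,43]), (5, [42]), (6, [43]), (7, [42,42,43,43]), (8, [43])]]⟩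
theorem rCPa3_0 : relP LS [459,444,417,0] (schR CPa3_0) = true := by decide +kernel
def CPa3_1 : Sl := ⟨[43,42], [[],
  [43],
  [42],
  [43,43],
  [42,43],
  [42,42],
  [42,43,43],
  [42,42,43],
  [42,42,43,43]], [[(1, []), (3, []), (4, []), (0, []), (6, []), (7, []), (2, []), (8, []), (5, [])],
  [(2, []), (4, []), (5, []), (6, []), (7, []), (0, []), (8, []), (1, []), (3, [])]]⟩
theorem rCPa3_1 : relP LS [459,444,417,0] (schR CPa3_1) = true := by decide +kernel
def CPa3 : List Sl := [CPa3_0, CPa3_1]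
theorem rCPa3 : ∀ e ∈ CPa3.flatMap schR, evw (vL LS) e.1 = evw (vL LS) e.2 :=
  (List.forall_mem_append.2 ⟨of_relP base hLS rCPa3_0, (List.forall_mem_append.2 ⟨of_relP base hLS rCPa3_1, fun _ h => absurd h List.not_mem_nil⟩)⟩)
theorem oCPa3 : schOK CPa3 = true := by decide +kernel
def SPa3 : List ℕ := [45,44,43,42]
def PPa3 : List (ℕ × List ℕ) := []
theorem knPa3 : ∀ l ∈ slpS PPa3 SPa3, vL LS l ∈ (gen (vL LS) SPa3) :=
  slp_mem base hLS _ (fun _ h => mem_gen _ h) (by decide +kernel)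
theorem lePa3 : (gen (vL LS) SPa3) ≤ (H71.Suz.ρ).range := gen_le_of hLS (by decide +kernel)
instance finPa3 : Finite (gen (vL LS) SPa3) := Finite.of_injective _ (Subgroup.inclusion_injective lePa3)
noncomputable def DPa3_0 : ℕ := 0x2001000000000000000000400000001080000000000005080000000800000200000000101008810000000002400000000208002000000004000000002000000000000000040000080200000000000001001000800000000000000048010040000000080000200040000000000100000020000000600010001000000042020020000000040800001000000000000800000005400020000000000000040000008080006000000008000000200000020000000002040000000201000100004000000800000c000000802000080000000082000000900000200000000008002001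
noncomputable def SPa3_0 : H88.Tr := (.leaf (nat_lit 0) (nat_lit 0))
noncomputable def vPa3_0 : Lv := ⟨(nat_lit 0), DPa3_0, 81, wd LS [42,43,45,44], [0,1,2,3,2,3,1,0], SPa3_0, true, (nat_lit 0), (nat_lit 0), 0, 0, 0, []⟩
noncomputable def LPa3 : List Lv := [vPa3_0]
theorem lokPa3 : LOK 1792 (gen (vL LS) SPa3) LPa3 :=
  (LOK.cons (hLS.wdK knPa3 (w := [42,43,45,44]) (by decide +kernel))
  LOK.nil)
theorem lbPa3_0 : lbLv 11 1792 vPa3_0 [] = true := by decide +kernel
theorem lbPa3 : LB 11 1792 LPa3 := ⟨lbPa3_0, trivial⟩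
theorem lowPa3 : 81 ≤ Nat.card (gen (vL LS) SPa3) := (by decide +kernel : 81 ≤ prodN LPa3).trans (lb_le _ _ lokPa3 lbPa3)
theorem cardPa3 : Nat.card (gen (vL LS) (topS CPa3)) = 3 ^ 4 := card_gen_eq rCPa3 oCPa3 (by decide +kernel) lowPa3
def CPa5_0 : Sl := ⟨[46], [[],
  [46],
  [46,46],
  [46,46,46],
  [46,46,46,46]], [[(1, []), (2, []), (3, []), (4, []), (0, [])]]⟩
theorem rCPa5_0 : relP LS [459,444,417,0] (schR CPa5_0) = true := by decide +kernel
def CPa5 : List Sl := [CPa5_0]
theorem rCPa5 : ∀ e ∈ CPa5.flatMap schR, evw (vL LS) e.1 = evw (vL LS) e.2 :=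
  (List.forall_mem_append.2 ⟨of_relP base hLS rCPa5_0, fun _ h => absurd h List.not_mem_nil⟩)
theorem oCPa5 : schOK CPa5 = true := by decide +kernel
def SPa5 : List ℕ := [46]
def PPa5 : List (ℕ × List ℕ) := []
theorem knPa5 : ∀ l ∈ slpS PPa5 SPa5, vL LS l ∈ (gen (vL LS) SPa5) :=
  slp_mem base hLS _ (fun _ h => mem_gen _ h) (by decide +kernel)
theorem lePa5 : (gen (vL LS) SPa5) ≤ (H71.Suz.ρ).range := gen_le_of hLS (by decide +kernel)
instance finPa5 : Finite (gen (vL LS) SPa5) := Finite.of_injective _ (Subgroup.inclusion_injective lePa5)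
noncomputable def DPa5_0 : ℕ := 0x2000000000000000000000000000000000000000000000000000000000000000000020000000000000000000000000000000000000000000000000002000080000000000000000000000000000000000000000000000000000000000000000000000000000000000000000000000000000000000000000000000000000000000000000000000000000000001
noncomputable def SPa5_0 : H88.Tr := (.leaf (nat_lit 0) (nat_lit 0))
noncomputable def vPa5_0 : Lv := ⟨(nat_lit 0), DPa5_0, 5, wd LS [46], [0,0,0,0], SPa5_0, true, (nat_lit 0), (nat_lit 0), 0, 0, 0, []⟩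
noncomputable def LPa5 : List Lv := [vPa5_0]
theorem lokPa5 : LOK 1792 (gen (vL LS) SPa5) LPa5 :=
  (LOK.cons (hLS.wdK knPa5 (w := [46]) (by decide +kernel))
  LOK.nil)
theorem lbPa5_0 : lbLv 11 1792 vPa5_0 [] = true := by decide +kernel
theorem lbPa5 : LB 11 1792 LPa5 := ⟨lbPa5_0, trivial⟩
theorem lowPa5 : 5 ≤ Nat.card (gen (vL LS) SPa5) := (by decide +kernel : 5 ≤ prodN LPa5).trans (lb_le _ _ lokPa5 lbPa5)
theorem cardPa5 : Nat.card (gen (vL LS) (topS CPa5)) = 5 ^ 1 := card_gen_eq rCPa5 oCPa5 (by decide +kernel) lowPa5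
def SQa : List ℕ := [35,34,33,32,31,30,29]
def PQa : List (ℕ × List ℕ) := []
theorem knQa : ∀ l ∈ slpS PQa SQa, vL LS l ∈ (gen (vL LS) SQa) :=
  slp_mem base hLS _ (fun _ h => mem_gen _ h) (by decide +kernel)
theorem leQa : (gen (vL LS) SQa) ≤ (H71.Suz.ρ).range := gen_le_of hLS (by decide +kernel)
instance finQa : Finite (gen (vL LS) SQa) := Finite.of_injective _ (Subgroup.inclusion_injective leQa)
def Rna : List (List ℕ × List ℕ) := [([45,35], [33,31,29,45]),
  ([45,34], [34,31,32,29,45]),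
  ([45,33], [33,30,31,32,45]),
  ([45,32], [33,35,30,31,32,29,45]),
  ([45,31], [30,31,45]),
  ([45,30], [33,34,35,31,32,45]),
  ([45,29], [29,45]),
  ([44,35], [35,30,44]),
  ([44,34], [33,35,30,44]),
  ([44,33], [33,34,35,29,44]),
  ([44,32], [30,31,32,29,44]),
  ([44,31], [35,32,29,44]),
  ([44,30], [35,29,44]),
  ([44,29], [29,44]),
  ([43,35], [33,43]),
  ([43,34], [35,30,43]),
  ([43,33], [33,34,35,30,43]),
  ([43,32], [34,30,31,32,29,43]),
  ([43,31], [33,30,32,29,43]),
  ([43,30], [34,35,29,43]),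
  ([43,29], [29,43]),
  ([42,35], [35,30,42]),
  ([42,34], [33,35,30,42]),
  ([42,33], [33,34,35,29,42]),
  ([42,32], [35,30,32,29,42]),
  ([42,31], [30,31,42]),
  ([42,30], [35,29,42]),
  ([42,29], [29,42]),
  ([46,35], [33,34,35,46]),
  ([46,34], [33,32,29,46]),
  ([46,33], [33,35,30,29,46]),
  ([46,32], [33,34,31,29,46]),
  ([46,31], [33,34,35,30,32,29,46]),
  ([46,30], [30,46]),
  ([46,29], [29,46]),
  ([29,35], [35,29]),
  ([29,34], [34,29]),
  ([29,33], [33,29]),
  ([29,32], [32,29]),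
  ([29,31], [31,29]),
  ([29,30], [30,29]),
  ([29,29], [29,29]),
  ([30,35], [35,30]),
  ([30,34], [34,29,30]),
  ([30,33], [33,29,30]),
  ([30,32], [32,30]),
  ([30,31], [31,30]),
  ([30,30], [30,30]),
  ([30,29], [29,30]),
  ([31,35], [35,31]),
  ([31,34], [34,31]),
  ([31,33], [33,29,31]),
  ([31,32], [32,29,31]),
  ([31,31], [31,31]),
  ([31,30], [30,31]),
  ([31,29], [29,31]),
  ([32,35], [35,32]),
  ([32,34], [34,29,32]),
  ([32,33], [33,29,32]),
  ([32,32], [32,32]),
  ([32,31], [31,29,32]),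
  ([32,30], [30,32]),
  ([32,29], [29,32]),
  ([33,35], [35,29,33]),
  ([33,34], [34,29,33]),
  ([33,33], [33,33]),
  ([33,32], [32,29,33]),
  ([33,31], [31,29,33]),
  ([33,30], [30,29,33]),
  ([33,29], [29,33]),
  ([34,35], [35,34]),
  ([34,34], [34,34]),
  ([34,33], [33,29,34]),
  ([34,32], [32,29,34]),
  ([34,31], [31,34]),
  ([34,30], [30,29,34]),
  ([34,29], [29,34]),
  ([35,35], [35,35]),
  ([35,34], [34,35]),
  ([35,33], [33,29,35]),
  ([35,32], [32,35]),
  ([35,31], [31,35]),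
  ([35,30], [30,35]),
  ([35,29], [29,35])]
theorem rRna : ∀ e ∈ Rna, evw (vL LS) e.1 = evw (vL LS) e.2 := of_relP base hLS (by decide +kernel)
theorem nrma : (gen (vL LS) SKa) ≤ Subgroup.normalizer (gen (vL LS) SQa : Set (Equiv.Perm ℕ)) := gen_le_norm rRna (by decide +kernel)
def SKb : List ℕ := [83,82,84,85,81,86,87]
def PKb : List (ℕ × List ℕ) := [(88, [83,83,82,85,87,82,83,85,82,81,82]), (89, [83,85,84,84,86,84]), (90, [83,83,82,81,84,82]), (91, [85,84,87,83,87,82]), (92, [83,83,87,81,87,81,84,84,85]), (93, [92,92,91,86,92]), (94, [91,91,93,93,93]), (95, [91,93,91,93,86,91,81,91])]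
theorem knKb : ∀ l ∈ slpS PKb SKb, vL LS l ∈ (gen (vL LS) SKb) :=
  slp_mem base hLS _ (fun _ h => mem_gen _ h) (by decide +kernel)
theorem leKb : (gen (vL LS) SKb) ≤ (H71.Suz.ρ).range := gen_le_of hLS (by decide +kernel)
instance finKb : Finite (gen (vL LS) SKb) := Finite.of_injective _ (Subgroup.inclusion_injective leKb)
noncomputable def DKb_0 : ℕ := 0x12fb6fffdff5defffbd5b770bff8760bffd87f060e7bfff0f73bb02d773b7f6ffaffd7b1fe1d2edf7fbfc6e3ed57ff3e9dfd761ff6ff92b7f7b79b7ff5c40cfb5ebefffdf047ae3feff35ad6b6877fd45e3debdfe8f70dc3fffffe386fdee7ffffffd03fdc733bffb4fbff2befa3e1ddfffe3afdf17b7fdcf76b26f0bec0dfef9fbf671d77b5f1c065fbefff77cffb85d9b9f6bb75fdf923bcdf27fbf755bef7fb6fffe2e6f8efee1ffefa0179bcabffbf6ee3fddd1ee63eb77efa7f9dff3bfbfd77bb7bdf7fbf1bcf87fb8f92edb7e3d7fdfffcecded9f038efc7dafbed7f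
noncomputable def SKb_0 : H88.Tr := (.leaf (nat_lit 0) (nat_lit 0))
noncomputable def vKb_0 : Lv := ⟨(nat_lit 0), DKb_0, 1260, wd LS [87,88,85,82,84,83,86,81], [0,2,3,4,5,6,7,1,2,5,3,0,1], SKb_0, true, (nat_lit 0), (nat_lit 0), 0, 0, 0, []⟩
noncomputable def DKb_1 : ℕ := 0x519082cc040e0090c014422a0508a007896b2a92052239304f7332114880598a0028b28012a934642c12884000a0454ac9a914
noncomputable def SKb_1 : H88.Tr := (.leaf (nat_lit 0) (nat_lit 0))
noncomputable def vKb_1 : Lv := ⟨(nat_lit 2), DKb_1, 128, wd LS [89,88,90], [0,1,2,0,1,2,0,1,2,0,0], SKb_1, true, (nat_lit 0), (nat_lit 0), 0, 0, 0, []⟩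
noncomputable def LKb : List Lv := [vKb_0, vKb_1]
theorem lokKb : LOK 1792 (gen (vL LS) SKb) LKb :=
  (LOK.cons (hLS.wdK knKb (w := [87,88,85,82,84,83,86,81]) (by decide +kernel))
  (LOK.cons (hLS.wdK knKb (w := [89,88,90]) (by decide +kernel))
  LOK.nil))
theorem lbKb_0 : lbLv 11 1792 vKb_0 [vKb_1] = true := by decide +kernel
theorem lbKb_1 : lbLv 11 1792 vKb_1 [] = true := by decide +kernel
theorem lbKb : LB 11 1792 LKb := ⟨lbKb_0, ⟨lbKb_1, trivial⟩⟩
theorem lowKb : 161280 ≤ Nat.card (gen (vL LS) SKb) := (by decide +kernel : 161280 ≤ prodN LKb).trans (lb_le _ _ lokKb lbKb)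
noncomputable def Ob : ℕ := 0x3ffffffffffffffffffffffbfffcfebfffffffff9ffffffbfffffbffffffffffffffffffffdfffffffffd7fffffffffffffffefffffffffffffffffffffc9ffffffffffff5ffffffffffffffffffffffffffffffffff9fd7ffffffff7ffffffffffffffffe7ffffffffffffffffffffffffefffffffffffffffffffdfffffffffffffffffffffffbffffffffffffffdffffffffffffffffbfffffffffffffffffffffff3ffffffff7ffffff7fffffffffffffffffffffe7fffffffffffffffffffffffffffffff7fffdfffdffffffffffffffffffffffffdffffdfffffffff
theorem hOb : ∀ y, Ob.testBit y = true ↔ ∃ w ∈ [[81]], evw (vL LS) w y ≠ y :=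
  of_movIs (m := 11) (by norm_num) hLS (by decide +kernel)
def Rb : List (List ℕ × List ℕ) := [([83,81], [81,83]),
  ([82,81], [81,82]),
  ([84,81], [81,84]),
  ([85,81], [81,85]),
  ([81,81], [81,81]),
  ([86,81], [81,86]),
  ([87,81], [81,87])]
theorem rRb : ∀ e ∈ Rb, evw (vL LS) e.1 = evw (vL LS) e.2 := of_relP base hLS (by decide +kernel)
def CPb3_0 : Sl := ⟨[83,82], [[],
  [83],
  [82],
  [83,83],
  [82,83],
  [82,82],
  [82,83,83],
  [82,82,83],
  [82,82,83,83]], [[(1, []), (3, []), (4, []), (0, []), (6, []), (7, []), (2, []), (8, []), (5, [])],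
  [(2, []), (4, []), (5, []), (6, []), (7, []), (0, []), (8, []), (1, []), (3, [])]]⟩
theorem rCPb3_0 : relP LS [459,444,417,0] (schR CPb3_0) = true := by decide +kernel
def CPb3 : List Sl := [CPb3_0]
theorem rCPb3 : ∀ e ∈ CPb3.flatMap schR, evw (vL LS) e.1 = evw (vL LS) e.2 :=
  (List.forall_mem_append.2 ⟨of_relP base hLS rCPb3_0, fun _ h => absurd h List.not_mem_nil⟩)
theorem oCPb3 : schOK CPb3 = true := by decide +kernel
def SPb3 : List ℕ := [83,82]
def PPb3 : List (ℕ × List ℕ) := []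
theorem knPb3 : ∀ l ∈ slpS PPb3 SPb3, vL LS l ∈ (gen (vL LS) SPb3) :=
  slp_mem base hLS _ (fun _ h => mem_gen _ h) (by decide +kernel)
theorem lePb3 : (gen (vL LS) SPb3) ≤ (H71.Suz.ρ).range := gen_le_of hLS (by decide +kernel)
instance finPb3 : Finite (gen (vL LS) SPb3) := Finite.of_injective _ (Subgroup.inclusion_injective lePb3)
noncomputable def DPb3_0 : ℕ := 0x8000000000000000000000000000000000000000000000000000000000000000000000000000000000000000000000000000000000000010000000000000000000100000000000000000000000000000000000000000000000000000000000000800000000000000000080000000000000000000000000000000000000000000000000000000000000000000000000000000400000000000000000000200000000000000000000000000004000000000000000000000000000000000000000000000000000000000000000001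
noncomputable def SPb3_0 : H88.Tr := (.leaf (nat_lit 0) (nat_lit 0))
noncomputable def vPb3_0 : Lv := ⟨(nat_lit 0), DPb3_0, 9, wd LS [82,83], [0,1,0,1], SPb3_0, true, (nat_lit 0), (nat_lit 0), 0, 0, 0, []⟩
noncomputable def LPb3 : List Lv := [vPb3_0]
theorem lokPb3 : LOK 1792 (gen (vL LS) SPb3) LPb3 :=
  (LOK.cons (hLS.wdK knPb3 (w := [82,83]) (by decide +kernel))
  LOK.nil)
theorem lbPb3_0 : lbLv 11 1792 vPb3_0 [] = true := by decide +kernel
theorem lbPb3 : LB 11 1792 LPb3 := ⟨lbPb3_0, trivial⟩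
theorem lowPb3 : 9 ≤ Nat.card (gen (vL LS) SPb3) := (by decide +kernel : 9 ≤ prodN LPb3).trans (lb_le _ _ lokPb3 lbPb3)
theorem cardPb3 : Nat.card (gen (vL LS) (topS CPb3)) = 3 ^ 2 := card_gen_eq rCPb3 oCPb3 (by decide +kernel) lowPb3
def CPb5_0 : Sl := ⟨[84], [[],
  [84],
  [84,84],
  [84,84,84],
  [84,84,84,84]], [[(1, []), (2, []), (3, []), (4, []), (0, [])]]⟩
theorem rCPb5_0 : relP LS [459,444,417,0] (schR CPb5_0) = true := by decide +kernel
def CPb5 : List Sl := [CPb5_0]
theorem rCPb5 : ∀ e ∈ CPb5.flatMap schR, evw (vL LS) e.1 = evw (vL LS) e.2 :=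
  (List.forall_mem_append.2 ⟨of_relP base hLS rCPb5_0, fun _ h => absurd h List.not_mem_nil⟩)
theorem oCPb5 : schOK CPb5 = true := by decide +kernel
def SPb5 : List ℕ := [84]
def PPb5 : List (ℕ × List ℕ) := []
theorem knPb5 : ∀ l ∈ slpS PPb5 SPb5, vL LS l ∈ (gen (vL LS) SPb5) :=
  slp_mem base hLS _ (fun _ h => mem_gen _ h) (by decide +kernel)
theorem lePb5 : (gen (vL LS) SPb5) ≤ (H71.Suz.ρ).range := gen_le_of hLS (by decide +kernel)
instance finPb5 : Finite (gen (vL LS) SPb5) := Finite.of_injective _ (Subgroup.inclusion_injective lePb5)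
noncomputable def DPb5_0 : ℕ := 0x800000000000000000000040000000000000000000000000000000000000000000000000000000000000000000000000000000000000000000000000000000000000000000000000000000000000000000000000000000000000000000000004000000000000000200000000000000000000000000000000000000000000000000000000000000000000001
noncomputable def SPb5_0 : H88.Tr := (.leaf (nat_lit 0) (nat_lit 0))
noncomputable def vPb5_0 : Lv := ⟨(nat_lit 0), DPb5_0, 5, wd LS [84], [0,0,0,0], SPb5_0, true, (nat_lit 0), (nat_lit 0), 0, 0, 0, []⟩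
noncomputable def LPb5 : List Lv := [vPb5_0]
theorem lokPb5 : LOK 1792 (gen (vL LS) SPb5) LPb5 :=
  (LOK.cons (hLS.wdK knPb5 (w := [84]) (by decide +kernel))
  LOK.nil)
theorem lbPb5_0 : lbLv 11 1792 vPb5_0 [] = true := by decide +kernel
theorem lbPb5 : LB 11 1792 LPb5 := ⟨lbPb5_0, trivial⟩
theorem lowPb5 : 5 ≤ Nat.card (gen (vL LS) SPb5) := (by decide +kernel : 5 ≤ prodN LPb5).trans (lb_le _ _ lokPb5 lbPb5)
theorem cardPb5 : Nat.card (gen (vL LS) (topS CPb5)) = 5 ^ 1 := card_gen_eq rCPb5 oCPb5 (by decide +kernel) lowPb5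
def CPb7_0 : Sl := ⟨[85], [[],
  [85],
  [85,85],
  [85,85,85],
  [85,85,85,85],
  [85,85,85,85,85],
  [85,85,85,85,85,85]], [[(1, []), (2, []), (3, []), (4, []), (5, []), (6, []), (0, [])]]⟩
theorem rCPb7_0 : relP LS [459,444,417,0] (schR CPb7_0) = true := by decide +kernel
def CPb7 : List Sl := [CPb7_0]
theorem rCPb7 : ∀ e ∈ CPb7.flatMap schR, evw (vL LS) e.1 = evw (vL LS) e.2 :=
  (List.forall_mem_append.2 ⟨of_relP base hLS rCPb7_0, fun _ h => absurd h List.not_mem_nil⟩)
theorem oCPb7 : schOK CPb7 = true := by decide +kernel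
def SPb7 : List ℕ := [85]
def PPb7 : List (ℕ × List ℕ) := []
theorem knPb7 : ∀ l ∈ slpS PPb7 SPb7, vL LS l ∈ (gen (vL LS) SPb7) :=
  slp_mem base hLS _ (fun _ h => mem_gen _ h) (by decide +kernel)
theorem lePb7 : (gen (vL LS) SPb7) ≤ (H71.Suz.ρ).range := gen_le_of hLS (by decide +kernel)
instance finPb7 : Finite (gen (vL LS) SPb7) := Finite.of_injective _ (Subgroup.inclusion_injective lePb7)
noncomputable def DPb7_0 : ℕ := 0x80000000000000000000000000000008000000000000000000000000000000000000010000000000000000000000000004000000000000000000000000000000000000000000000000000000000000000000000000000000000000000000000000000000000000000000000080000000000000000000000080000000000000000000000000000000000001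
noncomputable def SPb7_0 : H88.Tr := (.leaf (nat_lit 0) (nat_lit 0))
noncomputable def vPb7_0 : Lv := ⟨(nat_lit 0), DPb7_0, 7, wd LS [85], [0,0,0,0,0,0], SPb7_0, true, (nat_lit 0), (nat_lit 0), 0, 0, 0, []⟩
noncomputable def LPb7 : List Lv := [vPb7_0]
theorem lokPb7 : LOK 1792 (gen (vL LS) SPb7) LPb7 :=
  (LOK.cons (hLS.wdK knPb7 (w := [85]) (by decide +kernel))
  LOK.nil)
theorem lbPb7_0 : lbLv 11 1792 vPb7_0 [] = true := by decide +kernel
theorem lbPb7 : LB 11 1792 LPb7 := ⟨lbPb7_0, trivial⟩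
theorem lowPb7 : 7 ≤ Nat.card (gen (vL LS) SPb7) := (by decide +kernel : 7 ≤ prodN LPb7).trans (lb_le _ _ lokPb7 lbPb7)
theorem cardPb7 : Nat.card (gen (vL LS) (topS CPb7)) = 7 ^ 1 := card_gen_eq rCPb7 oCPb7 (by decide +kernel) lowPb7
end H80.KFSuz
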