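import Cfsg.Agent.H80.KFSuzB
set_option maxRecDepth 1000000
set_option Elab.async false
namespace H80.KFSuz
open H71 H81 H88 H80.KF H43.KF
theorem clT_0 : allZ (clsB 1792 LS [459,444,417,0] mT MT) (mapApp [] (prods [AT1, AT2, AT3]) []) [[2],
  [0,27,26,25,22,22,22,24,20,18,21,23,17],
  [0,25,27,25,27,27,23,25,26,23,20,25,25,25,18,17,18],
  [0,25,25,27,22,22,27,19,26,24,25,17,16],
  [],
  [],
  [],
  [],
  [0,26,25,25,26,27,23,26,26,27,21,21,24,25,18,17,22],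
  [0,27,26,26,26,22,19,26,20,19,18,23,18,17,18],
  [0,26,27,25,27,24,23,22,27,20,22,21,22,17,21],
  [0,27,25,25,25,22,22,24,20,20,19,17,21,21,17],
  [0,25,22,27,26,24,23,20,21,22,19,18,20,19,17],
  [0,27,27,25,27,25,24,25,27,23,20,24,17,19,16,18],
  [],
  [],
  [],
  [],
  [],
  [],
  [],
  [],
  [],
  [],
  [],
  [],
  [],
  [],
  [],
  [],
  [0,25,27,25,27,22,25,27,22,19,20,16,23,20,21],
  [0,27,27,26,22,24,25,25,27,16,18,19,19],
  [],
  [],
  [],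
  [],
  [],
  [],
  [],
  [],
  [],
  [],
  [],
  [],
  [],
  [],
  [],
  [],
  [],
  [],
  [],
  [],
  [],
  [],
  [],
  [],
  [],
  [],
  [],
  [],
  [],
  [],
  [],
  [],
  [0,27,27,26,25,22,27,26,24,19,19,19,18,19,21,23],
  [0,26,27,26,25,22,24,27,21,19,23,25,18,17,16,19],
  [],
  [],
  [],
  [],
  [],
  [],
  [0,27,25,26,26,22,24,27,20,25,19,23,17,23,17,19,18],
  [0,27,25,25,22,22,27,26,21,25,21,18,23],
  [],
  [],
  [],
  [],
  [],
  [],
  [],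
  [],
  [],
  [],
  [],
  [],
  [],
  [],
  [],
  [],
  [],
  [],
  [],
  [],
  [],
  [],
  [0,27,25,25,24,26,22,22,20,21,23,24,18,23,19,21],
  [0,26,24,25,22,21,23,24,17,17,23,18,18],
  [],
  [],
  [],
  [],
  [],
  [],
  [0,27,27,26,25,25,22,21,25,24,21,18,19,16,17],
  [0,22,24,27,22,19,21,25,19,18,16,22,22],
  [],
  [],
  [],
  [],
  [0,27,25,26,22,23,24,27,20,22,22,18,23,19,21],
  [0,22,26,22,21,19,25,24,16,23,22,16],
  [],
  [],
  [],
  [],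
  [],
  [],
  [0,25,27,27,26,23,22,26,23,19,19,21,18,20,19,17],
  [0,25,26,27,25,23,27,25,21,24,17,16,17],
  [0,27,25,25,23,24,21,20,17,18,20,23,23],
  [0,26,27,25,23,25,26,20,21,25,26,17,23,19,16],
  [0,26,27,22,23,23,23,19,20,24,24,17,22,16,22],
  [0,26,25,27,23,27,23,27,19,25,20,17,23,17,22],
  [],
  [],
  [],
  [],
  [0,26,22,26,25,20,21,22,22,17,21,21,17],
  [0,27,25,25,22,25,20,20,24,25,16,17,21,20],
  [],
  [],
  [0,27,26,26,26,23,27,27,20,25,22,21,16,17,16,18],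
  [0,26,23,24,23,26,24,19,20,26,17,19,21,18,21],
  [],
  [],
  [],
  [],
  [0,26,27,24,22,24,19,23,26,19,17,23,23,16,23],
  [0,26,25,27,26,27,23,24,19,26,17,22,20,21],
  [],
  [],
  [],
  [],
  [0,26,27,26,27,25,24,23,20,23,26,18,19,21,19],
  [0,27,26,25,27,24,26,26,27,21,22,21,24,17,23],
  [],
  [],
  [0,27,26,27,25,24,24,23,19,17,18,17,21,21],
  [0,27,24,27,24,27,23,19,23,25,22,17,23,16,17],
  [],
  [],
  [0,26,27,27,23,24,21,21,20,26,18,17,20,18],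
  [0,26,22,27,24,25,23,19,23,21,21,17,18,23],
  [],
  [],
  [],
  [],
  [],
  [],
  [0,23,27,24,27,21,22,25,19,18,16,22,17],
  [0,25,25,25,22,27,27,24,19,23,23,24,16,16,21],
  [],
  [],
  [0,27,26,22,23,25,26,24,21,22,26,18,18,18,20],
  [0,27,25,23,24,23,22,21,24,25,19,16,21,23,16],
  [],
  [],
  [0,22,22,27,23,23,19,22,23,19,16,20,21,17],
  [0,24,23,27,27,24,20,20,24,17,19,19,16],
  [0,26,27,26,25,23,22,27,22,21,23,25,17,16],
  [0,25,24,22,24,23,21,21,19,25,16,23,23,19],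
  [],
  [],
  [0,27,24,23,24,24,26,19,25,24,21,16,16,23],
  [0,25,26,27,26,23,27,23,19,19,16,22,21],
  [0,27,27,26,24,27,26,24,19,23,24,19,17],
  [0,27,25,25,27,24,26,20,21,21,26,17,22,22],
  [0,25,27,26,27,22,27,22,22,19,20,17,20,23],
  [0,27,24,21,24,19,20,17,16,20,18],
  [],
  [],
  [],
  [],
  [],
  [],
  [0,25,25,26,26,23,24,24,19,26,26,26,16,17,17],
  [0,25,22,21,22,20,26,26,16,22,22,22,22],
  [0,25,25,22,25,20,21,21,23,16,19,19,21],
  [0,27,26,27,23,21,26,26,22,17,22,17,16,16],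
  [0,25,27,26,25,22,22,23,22,20,20,26,17,21,19,17],
  [0,27,24,27,22,22,27,19,25,20,17,16,21],
  [],
  [],
  [],
  [],
  [],
  [],
  [],
  [],
  [],
  [],
  [1,22,27,22,25,22,21,19,22,19,24,16,22,22],
  [1,26,24,26,22,25,25,21,21,19,22,17,23,19,19],
  [],
  [],
  [],
  [],
  [],
  [],
  [],
  [],
  [],
  [],
  [],
  [],
  [],
  [],
  [],
  [],
  [],
  [],
  [1,25,26,27,23,26,24,25,21,22,22,24,17,18],
  [1,24,27,23,26,24,19,24,21,22,18,17,18,16],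
  [],
  [],
  [],
  [],
  [1,26,24,27,23,26,19,21,24,17,19,21,18],
  [1,25,25,26,27,25,23,24,23,25,19,22,19,20,18,16],
  [],
  [],
  [],
  [],
  [],
  [],
  [],
  [],
  [1,26,23,26,24,23,21,23,20,24,16,19,21,20],
  [1,26,26,24,22,22,27,19,26,26,16,19,16,17],
  [1,25,25,27,23,19,22,23,26,17,18,23,18,19],
  [1,25,23,27,22,23,26,19,26,19,17,18,18,21],
  [1,27,26,26,22,26,27,25,23,21,22,25,26,17,20],
  [1,27,25,26,22,27,24,25,19,20,25,25,18,21,17],
  [],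
  [],
  [],
  [],
  [],
  [],
  [1,26,27,26,26,24,22,24,25,21,25,21,17,22,19],
  [1,25,23,26,24,26,19,21,23,23,18,19,19,20],
  [1,26,22,27,25,25,21,22,25,19,16,20,20,17],
  [1,25,25,27,25,22,26,26,27,19,22,16,22,19,21],
  [],
  [],
  [],
  [],
  [1,25,25,23,22,24,25,21,24,23,22,17,18,22],
  [1,25,27,26,26,24,24,23,23,19,20,23,21,17,19],
  [1,25,26,26,22,27,23,24,21,23,19,16,18,22,23],
  [1,27,26,22,23,23,23,21,23,24,23,18,23,19,20],
  [],
  [],
  [],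
  [],
  [],
  [],
  [1,26,24,26,23,23,27,19,23,22,18,23,20,20],
  [1,27,25,23,24,23,23,19,21,21,23,18,22,21],
  [1,25,24,26,25,21,22,19,25,18,22,17],
  [1,25,25,26,24,27,22,21,25,20,24,16,20,17,17],
  [1,25,26,23,26,19,19,23,16,20,21,17],
  [1,27,26,24,25,26,27,20,23,26,22,17,20,16,16],
  [],
  [],
  [],
  [],
  [],
  [],
  [],
  [],
  [1,27,25,27,27,23,22,27,24,19,22,22,16,22,20],
  [1,26,27,27,26,24,26,24,21,23,25,18,20,21,21],
  [],
  [],
  [],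
  [],
  [],
  [],
  [],
  [],
  [],
  [],
  [],
  [],
  [],
  [],
  [],
  [],
  [],
  [],
  [],
  [],
  [],
  [],
  [],
  [],
  [],
  [],
  [],
  [],
  [],
  [],
  [],
  [],
  [],
  [],
  [],
  [],
  [],
  [],
  [0,25,25,24,26,23,27,20,19,17,17,18],
  [0,26,26,24,23,22,24,21,19,20,17,20,21,17],
  [],
  [],
  [],
  [],
  [],
  [],
  [],
  [],
  [],
  [],
  [0,25,25,26,26,26,26,24,23,21,26,19,16,18,20,22],
  [0,25,25,26,23,22,22,19,21,20,17,16,19,19],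
  [],
  [],
  [],
  [],
  [],
  [],
  [],
  [],
  [],
  [],
  [],
  [],
  [],
  [],
  [],
  [],
  [],
  [],
  [],
  [],
  [],
  [],
  [],
  [],
  [],
  [],
  [],
  [],
  [],
  [],
  [],
  [],
  [],
  [],
  [],
  [],
  [],
  [],
  [],
  [],
  [],
  [],
  [],
  [],
  [],
  [],
  [],
  [],
  [],
  [],
  [],
  [],
  [],
  [],
  [],
  [],
  [],
  [],
  [],
  [],
  [],
  [],
  [],
  [],
  [],
  [],
  [],
  [],
  [],
  [],
  [],
  [],
  [],
  [],
  [],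
  [],
  [],
  [],
  [],
  [],
  [],
  [],
  [],
  [],
  [1,26,25,26,24,27,22,24,20,22,17,18,19,16,18],
  [1,27,26,25,24,27,19,23,20,18,16,20,21],
  [],
  [],
  [],
  [],
  [],
  [],
  [],
  [],
  [],
  [],
  [1,25,27,24,27,23,26,19,19,26,17,17,19,20],
  [1,26,23,27,25,23,20,21,19,26,17,17,18,16,22],
  [1,25,27,22,24,22,27,22,19,20,22,25,16,17,22],
  [1,25,26,22,25,20,21,19,22,16,16,20,17],
  [],
  [],
  [],
  [],
  [],
  [],
  [],
  [],
  [1,27,25,24,26,24,26,21,24,19,18,16,23,18],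
  [1,26,27,27,23,27,25,23,20,22,25,17,21,17,18],
  [],
  [],
  [],
  [],
  [],
  [],
  [1,25,26,26,24,25,23,20,21,23,17,16,21,18],
  [1,25,25,27,25,25,23,24,19,21,19,26,16,20,18,22],
  [],
  [],
  [],
  [],
  [],
  [],
  [],
  [],
  [],
  [],
  [],
  [],
  [],
  [],
  [],
  [],
  [],
  [],
  [],
  [],
  [],
  [],
  [1,26,27,27,24,22,26,21,19,25,25,23,18,19],
  [1,27,25,22,22,25,22,21,23,20,23,18,18,16,21],
  [],
  [],
  [],
  [],
  [1,25,26,27,23,24,21,19,24,21,18,20,17,17],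
  [1,26,22,25,24,26,21,23,21,20,23,18,17,23,21],
  [],
  [],
  [],
  [],
  [],
  [],
  [],
  [],
  [1,27,27,25,25,25,23,27,26,24,21,23,24,24,17,17,19],
  [1,25,24,23,27,23,24,21,26,24,24,26,16,17,23,16],
  [1,25,25,24,24,25,21,22,19,26,18,18,16,21,17],
  [1,26,25,27,26,27,23,26,21,21,21,19,16,18,20],
  [],
  [],
  [],
  [],
  [],
  [],
  [],
  [],
  [],
  [],
  [1,26,26,26,24,25,25,21,21,19,17,16,19,22],
  [1,27,27,26,22,26,22,19,25,20,20,16,22],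
  [],
  [],
  [],
  []] = true := by decide +kernel
theorem clT_1 : allZ (clsB 1792 LS [459,444,417,0] mT MT) (mapApp [41] (prods [AT1, AT2, AT3]) []) [[],
  [],
  [],
  [],
  [],
  [],
  [],
  [],
  [],
  [],
  [],
  [],
  [],
  [],
  [],
  [],
  [],
  [],
  [],
  [],
  [],
  [],
  [],
  [],
  [],
  [],
  [],
  [],
  [],
  [],
  [],
  [],
  [],
  [],
  [1,25,27,25,24,24,27,23,25,19,16,18,17,20],
  [1,27,27,25,25,24,23,24,22,21,21,20,16,17,20,22],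
  [],
  [],
  [1,25,27,26,24,25,23,21,20,24,24,17,22,22,19],
  [1,27,26,27,22,21,22,22,25,26,17,22,23,20],
  [],
  [],
  [],
  [],
  [],
  [],
  [],
  [],
  [],
  [],
  [],
  [],
  [1,25,24,23,26,24,19,20,21,18,17,18,16],
  [1,25,27,24,25,23,21,25,19,19,17,17,20,22,19],
  [],
  [],
  [],
  [],
  [],
  [],
  [],
  [],
  [],
  [],
  [],
  [],
  [],
  [],
  [],
  [],
  [],
  [],
  [],
  [],
  [],
  [],
  [],
  [],
  [],
  [],
  [],
  [],
  [],
  [],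
  [],
  [],
  [],
  [],
  [],
  [],
  [],
  [],
  [],
  [],
  [],
  [],
  [],
  [],
  [],
  [],
  [],
  [],
  [],
  [],
  [],
  [],
  [],
  [],
  [],
  [],
  [],
  [],
  [],
  [],
  [],
  [],
  [],
  [],
  [],
  [],
  [],
  [],
  [],
  [],
  [],
  [],
  [],
  [],
  [],
  [],
  [],
  [],
  [],
  [],
  [],
  [],
  [],
  [],
  [],
  [],
  [],
  [],
  [],
  [],
  [],
  [],
  [],
  [],
  [],
  [],
  [],
  [],
  [],
  [],
  [],
  [],
  [],
  [],
  [],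
  [],
  [],
  [],
  [],
  [],
  [],
  [],
  [],
  [],
  [],
  [],
  [],
  [],
  [],
  [],
  [],
  [],
  [],
  [],
  [],
  [],
  [],
  [],
  [],
  [],
  [],
  [],
  [],
  [],
  [],
  [],
  [],
  [],
  [],
  [],
  [],
  [],
  [],
  [],
  [1,25,25,24,23,27,25,26,21,26,24,24,18,18,18,17],
  [1,26,27,22,27,22,23,24,19,20,23,25,16,16,16],
  [],
  [],
  [],
  [],
  [1,25,26,23,22,26,19,19,25,22,18,21,17,18],
  [1,25,25,25,24,26,25,27,26,19,22,19,17,20,16,23],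
  [],
  [],
  [],
  [],
  [],
  [],
  [1,26,25,26,24,27,25,27,21,17,17,17,20],
  [1,22,22,23,21,22,26,22,24,17,17,20,20,16],
  [],
  [],
  [],
  [],
  [],
  [],
  [],
  [],
  [],
  [],
  [],
  [],
  [],
  [],
  [1,25,25,27,24,25,26,23,19,22,23,17,19,21,19],
  [1,25,25,25,21,22,25,25,21,17,21,18,22,18],
  [],
  [],
  [],
  [],
  [],
  [],
  [],
  [],
  [],
  [],
  [],
  [],
  [1,26,24,27,22,24,27,19,22,19,16,22,19,21],
  [1,27,26,25,22,27,27,24,19,20,22,17,21,20,22],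
  [],
  [],
  [1,27,26,26,26,23,25,26,21,26,23,26,18,16,20],
  [1,25,27,22,22,25,27,20,25,19,23,18,23,23,20],
  [],
  [],
  [],
  [],
  [],
  [],
  [],
  [],
  [1,25,25,22,25,26,22,19,26,26,26,18,16,23,18],
  [1,27,25,27,27,22,24,27,22,22,20,20,25,17,19,21,19],
  [],
  [],
  [],
  [],
  [],
  [],
  [],
  [],
  [],
  [],
  [1,27,25,26,27,22,24,22,19,21,23,21,16,19,17],
  [1,25,26,26,24,25,25,22,21,25,25,20,18],
  [],
  [],
  [],
  [],
  [],
  [],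
  [],
  [],
  [],
  [],
  [],
  [],
  [1,26,26,26,23,26,25,23,21,21,19,23,16,21,23],
  [1,26,27,25,23,22,23,27,19,21,22,24,17,19,21,23],
  [],
  [],
  [],
  [],
  [],
  [],
  [],
  [],
  [],
  [],
  [],
  [],
  [],
  [],
  [],
  [],
  [],
  [],
  [],
  [],
  [],
  [],
  [],
  [],
  [],
  [],
  [],
  [],
  [],
  [],
  [],
  [],
  [],
  [],
  [],
  [],
  [],
  [],
  [],
  [],
  [],
  [],
  [],
  [],
  [],
  [],
  [],
  [],
  [],
  [],
  [],
  [],
  [],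
  [],
  [],
  [],
  [],
  [],
  [],
  [],
  [],
  [],
  [],
  [],
  [],
  [],
  [],
  [],
  [],
  [],
  [],
  [],
  [],
  [],
  [],
  [],
  [],
  [],
  [],
  [],
  [],
  [],
  [],
  [],
  [],
  [],
  [],
  [],
  [],
  [],
  [],
  [],
  [],
  [],
  [],
  [],
  [],
  [],
  [],
  [],
  [],
  [],
  [],
  [],
  [],
  [],
  [1,26,26,26,22,23,24,21,26,23,24,17,23,20,17,23],
  [1,25,27,26,27,23,24,27,22,21,21,20,25,16,22,19],
  [],
  [],
  [],
  [],
  [],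
  [],
  [1,27,26,25,24,22,23,23,25,21,26,22,16,22,18,19],
  [1,25,22,24,22,23,20,20,25,21,18,19,16,20],
  [],
  [],
  [],
  [],
  [1,26,22,22,24,24,19,23,20,17,23,19,16,20],
  [1,27,27,25,23,25,21,22,21,24,23,17,23,20],
  [],
  [],
  [],
  [],
  [],
  [],
  [],
  [],
  [],
  [],
  [],
  [],
  [],
  [],
  [1,27,25,27,22,27,20,22,22,17,18,20,23],
  [1,27,26,25,27,24,19,25,26,26,17,17,23,23,17],
  [],
  [],
  [],
  [],
  [1,25,27,23,26,21,26,25,20,22,18,19,19,21,22],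
  [1,27,27,25,26,26,24,22,26,23,20,17,22,22,22,20],
  [],
  [],
  [],
  [],
  [],
  [],
  [1,27,24,26,25,24,23,21,19,24,20,21,18,16,18],
  [1,26,26,22,22,25,27,19,22,19,19,16,18,18,18],
  [],
  [],
  [],
  [],
  [],
  [],
  [],
  [],
  [],
  [],
  [],
  [],
  [1,25,25,27,24,22,19,25,24,25,18,18,20],
  [1,27,27,22,26,22,24,19,19,20,25,17,21,17,22],
  [1,26,25,24,26,23,23,27,19,24,17,23,17],
  [1,25,24,22,22,27,20,24,20,22,16,19,23],
  [],
  [],
  [],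
  [],
  [],
  [],
  [],
  [],
  [],
  [],
  [1,26,25,22,25,25,27,21,21,19,26,17,22,20,16,20],
  [1,25,26,26,24,22,26,26,20,21,26,19,16,21,19],
  [],
  [],
  [],
  [],
  [],
  [],
  [],
  [],
  [],
  [],
  [],
  [],
  [],
  [],
  [],
  [],
  [],
  [],
  [],
  [],
  [],
  [],
  [],
  [],
  [],
  [],
  [],
  [],
  [1,27,22,26,26,19,25,23,20,17,17,17,23],
  [1,24,26,24,25,25,20,25,21,26,17,18,21,19,19],
  [],
  [],
  [],
  [],
  [],
  [],
  [1,26,26,26,24,24,27,26,21,22,26,18,18,22],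
  [1,25,25,27,22,26,25,25,19,19,26,17,19,17,18],
  [],
  [],
  [],
  [],
  [1,26,25,27,24,22,22,21,24,17,23,17,19,17],
  [1,26,26,24,26,25,26,24,20,20,23,25,18,22,19],
  [],
  [],
  [],
  []] = true := by decide +kernel
theorem clT_2 : allZ (clsB 1792 LS [459,444,417,0] mT MT) (mapApp [40] (prods [AT1, AT2, AT3]) []) [[],
  [],
  [],
  [],
  [],
  [],
  [],
  [],
  [],
  [],
  [0,25,27,22,26,27,24,19,21,19,20,16,22,16,17],
  [0,26,26,26,22,27,26,20,21,21,17,20,17,20,20],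
  [],
  [],
  [],
  [],
  [],
  [],
  [],
  [],
  [],
  [],
  [],
  [],
  [],
  [],
  [],
  [],
  [],
  [],
  [],
  [],
  [],
  [],
  [],
  [],
  [],
  [],
  [],
  [],
  [],
  [],
  [],
  [],
  [],
  [],
  [],
  [],
  [],
  [],
  [],
  [],
  [],
  [],
  [],
  [],
  [],
  [],
  [],
  [],
  [],
  [],
  [0,25,27,24,22,25,19,24,21,25,18,19,17,22],
  [0,27,27,26,26,24,22,23,26,20,21,20,17,17,23,21],
  [1,25,22,22,24,24,25,21,22,23,26,17,22,22,22],
  [1,25,26,27,26,24,22,23,27,20,23,26,25],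
  [],
  [],
  [],
  [],
  [],
  [],
  [],
  [],
  [],
  [],
  [],
  [],
  [],
  [],
  [],
  [],
  [],
  [],
  [1,25,25,22,24,22,19,23,18,19,19],
  [1,26,27,25,22,22,27,26,21,22,19,20,18,23,23,21],
  [],
  [],
  [],
  [],
  [],
  [],
  [],
  [],
  [1,25,25,27,22,23,24,27,20,20,25,17,17,16,21,20],
  [1,26,25,26,23,24,24,24,21,23,20,17,17,22,17],
  [],
  [],
  [],
  [],
  [],
  [],
  [],
  [],
  [],
  [],
  [],
  [],
  [],
  [],
  [],
  [],
  [],
  [],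
  [],
  [],
  [],
  [],
  [],
  [],
  [],
  [],
  [],
  [],
  [0,25,25,22,22,25,23,21,23,20,21,17,17,19,17],
  [0,24,25,24,27,21,23,19,21,20,17,21,16,23],
  [],
  [],
  [],
  [],
  [0,25,25,27,27,26,22,24,20,22,20,18,17,16],
  [0,27,27,26,24,22,26,27,21,25,19,16,18,20],
  [],
  [],
  [],
  [],
  [],
  [],
  [],
  [],
  [],
  [],
  [],
  [],
  [],
  [],
  [],
  [],
  [],
  [],
  [],
  [],
  [],
  [],
  [],
  [],
  [],
  [],
  [],
  [],
  [],
  [],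
  [],
  [],
  [],
  [],
  [],
  [],
  [],
  [],
  [0,26,25,25,27,21,23,23,18,18,18],
  [0,26,25,24,22,20,20,17,18,21,17,16],
  [],
  [],
  [],
  [],
  [],
  [],
  [],
  [],
  [],
  [],
  [],
  [],
  [],
  [],
  [],
  [],
  [],
  [],
  [],
  [],
  [1,26,25,25,22,26,25,25,21,19,24,20,19,16,16,17],
  [1,25,25,27,25,22,23,21,23,22,23,23,18,18,23,21],
  [],
  [],
  [],
  [],
  [],
  [],
  [],
  [],
  [1,24,23,26,27,19,21,22,18,20,22,16],
  [1,25,27,26,25,23,24,25,25,21,21,20,19,17,23],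
  [],
  [],
  [],
  [],
  [],
  [],
  [],
  [],
  [1,22,27,23,26,21,22,21,19,16,17,21,21],
  [1,27,26,24,20,20,24,20,16,22,18,19],
  [],
  [],
  [],
  [],
  [],
  [],
  [],
  [],
  [],
  [],
  [],
  [],
  [],
  [],
  [0,25,26,24,22,25,25,21,23,25,21,24,17,19,17],
  [0,26,25,22,23,24,24,21,22,21,16,19,19],
  [],
  [],
  [],
  [],
  [],
  [],
  [],
  [],
  [],
  [],
  [],
  [],
  [],
  [],
  [],
  [],
  [],
  [],
  [],
  [],
  [],
  [],
  [],
  [],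
  [],
  [],
  [],
  [],
  [],
  [],
  [],
  [],
  [],
  [],
  [],
  [],
  [],
  [],
  [],
  [],
  [],
  [],
  [],
  [],
  [],
  [],
  [],
  [],
  [],
  [],
  [],
  [],
  [0,27,22,26,27,23,27,21,24,26,21,17,20,17],
  [0,27,27,25,25,23,22,26,22,20,22,16,21,19,23],
  [],
  [],
  [],
  [],
  [],
  [],
  [1,26,27,22,25,27,26,25,20,24,25,17,20,18],
  [1,27,27,23,22,25,24,21,23,20,21,17,16,17,21],
  [1,27,22,23,26,21,19,22,24,17,18,19,23],
  [1,25,26,27,27,22,25,20,24,24,17,16,19,22,19],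
  [],
  [],
  [],
  [],
  [],
  [],
  [],
  [],
  [],
  [],
  [],
  [],
  [],
  [],
  [],
  [],
  [],
  [],
  [],
  [],
  [1,26,25,22,23,24,25,21,25,22,20,18,17,21],
  [1,27,27,26,27,22,22,22,25,19,26,24,17,17,21,16],
  [],
  [],
  [],
  [],
  [],
  [],
  [],
  [],
  [],
  [],
  [],
  [],
  [],
  [],
  [],
  [],
  [1,25,27,25,23,24,24,26,21,25,20,24,22,17,21,23],
  [1,27,27,26,24,23,25,26,21,22,19,26,17,21,22],
  [1,26,25,25,27,25,22,24,24,27,19,26,24,18,16],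
  [1,26,25,26,22,22,25,26,21,25,22,25,16,19,19],
  [1,26,26,22,24,26,25,20,26,22,17,19,20,19],
  [1,27,27,26,24,24,24,22,25,21,26,17,18,22],
  [],
  [],
  [],
  [],
  [],
  [],
  [],
  [],
  [],
  [],
  [],
  [],
  [],
  [],
  [],
  [],
  [],
  [],
  [],
  [],
  [],
  [],
  [],
  [],
  [],
  [],
  [1,26,27,22,22,22,19,20,21,26,18,21,16,16],
  [1,27,25,25,22,23,25,26,20,23,24,18,17,20,18],
  [],
  [],
  [1,26,25,26,26,22,24,26,25,19,19,17,23,23],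
  [1,25,23,26,24,19,22,23,26,17,22,18,20],
  [1,27,25,26,24,27,23,21,23,22,18,21,17,19],
  [1,25,26,22,23,23,20,19,19,26,17,19,17],
  [],
  [],
  [],
  [],
  [],
  [],
  [],
  [],
  [],
  [],
  [],
  [],
  [],
  [],
  [],
  [],
  [],
  [],
  [],
  [],
  [],
  [],
  [],
  [],
  [],
  [],
  [],
  [],
  [],
  [],
  [],
  [],
  [],
  [],
  [],
  [],
  [],
  [],
  [],
  [],
  [],
  [],
  [0,26,25,23,24,25,22,21,25,20,26,17,21,22,23],
  [0,26,25,24,22,25,27,19,23,19,25,17,18,16,21,16],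
  [],
  [],
  [1,27,26,27,27,23,24,27,27,20,26,23,18,23,16],
  [1,26,27,24,24,26,23,24,21,19,25,22,17,17,18,20],
  [],
  [],
  [],
  [],
  [],
  [],
  [],
  [],
  [],
  [],
  [],
  [],
  [],
  [],
  [],
  [],
  [],
  [],
  [],
  [],
  [],
  [],
  [1,25,27,23,27,23,22,21,20,24,25,17,20,23,22],
  [1,22,24,27,25,19,25,22,20,17,17,17,17,20],
  [1,25,27,25,24,25,26,22,20,25,24,21,16,21,16],
  [1,25,25,27,26,24,23,24,23,21,26,23,23,18,16,23],
  [],
  [],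
  [],
  [],
  [1,25,25,27,26,27,24,25,27,21,23,24,21,16,19,18],
  [1,27,27,25,24,22,27,24,21,25,22,20,25,18],
  [],
  [],
  [],
  [],
  [],
  [],
  [],
  [],
  [],
  [],
  [],
  [],
  [],
  [],
  [],
  [],
  [],
  [],
  [],
  [],
  [],
  [],
  [1,25,25,25,24,25,26,24,22,19,26,22,17,19,22],
  [1,27,26,27,27,22,23,27,22,21,25,21,23,17,19],
  [1,27,25,24,25,23,26,20,20,25,17,18,19,20],
  [1,25,27,27,26,24,24,23,23,19,20,16,20,16,16],
  [],
  [],
  [],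
  [],
  [],
  [],
  [],
  [],
  [],
  [],
  [],
  [],
  [],
  [],
  [],
  [],
  [1,26,24,27,26,24,20,22,26,22,17,16,18,20],
  [1,26,27,26,27,24,22,22,21,17,18,19,16],
  [1,27,26,27,24,27,24,27,19,24,24,18,23,22,23],
  [1,26,26,26,26,24,22,27,22,20,26,24,22,16,23],
  [1,27,26,27,22,24,22,23,21,22,21,16,18,17],
  [1,27,26,24,24,22,24,19,17,17,19,18,19],
  [],
  [],
  [],
  [],
  [],
  [],
  [],
  [],
  [],
  [],
  [],
  []] = true := by decide +kernel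
theorem clT_3 : allZ (clsB 1792 LS [459,444,417,0] mT MT) (mapApp [39] (prods [AT1, AT2, AT3]) []) [[],
  [],
  [],
  [],
  [],
  [],
  [],
  [],
  [],
  [],
  [],
  [],
  [],
  [],
  [],
  [],
  [],
  [],
  [],
  [],
  [],
  [],
  [],
  [],
  [],
  [],
  [],
  [],
  [],
  [],
  [],
  [],
  [],
  [],
  [],
  [],
  [1,27,25,27,24,25,27,23,20,19,25,20,18,18,16],
  [1,27,27,25,25,25,24,19,25,21,20,17,22,19,17,21],
  [],
  [],
  [],
  [],
  [],
  [],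
  [],
  [],
  [],
  [],
  [1,24,26,24,26,22,19,21,21,19,17,21,22,17],
  [1,27,26,27,25,27,22,20,25,21,18,17,18,16],
  [1,27,24,24,23,22,21,21,24,26,18,18,23,16],
  [1,25,22,26,22,25,20,26,26,17,20,21,16],
  [],
  [],
  [],
  [],
  [],
  [],
  [],
  [],
  [1,25,24,26,26,27,25,21,25,22,16,19,16],
  [1,27,26,23,26,25,21,19,20,19,17,22,22,18],
  [],
  [],
  [],
  [],
  [],
  [],
  [],
  [],
  [],
  [],
  [],
  [],
  [],
  [],
  [],
  [],
  [1,25,27,23,24,25,22,21,20,24,23,17,21,22,19],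
  [1,25,27,26,27,26,22,23,22,23,23,17,23,22,22,16],
  [],
  [],
  [],
  [],
  [],
  [],
  [],
  [],
  [],
  [],
  [1,27,25,26,23,26,25,23,19,19,18,16,22,23],
  [1,25,27,24,27,25,25,19,23,26,17,23,23,21],
  [],
  [],
  [],
  [],
  [],
  [],
  [],
  [],
  [1,25,27,23,25,23,19,23,25,25,16,16,22],
  [1,26,26,26,26,22,21,20,21,18,17,17,20],
  [],
  [],
  [],
  [],
  [1,27,25,26,23,22,27,24,20,20,24,19,16,16],
  [1,26,25,25,26,26,22,22,27,26,21,21,18,17,23,21],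
  [],
  [],
  [],
  [],
  [1,27,24,25,26,27,20,23,25,16,20,19,16],
  [1,27,26,24,27,23,27,26,21,19,25,26,18,19,16,20],
  [1,26,23,27,22,24,21,24,16,22,20],
  [1,25,27,26,24,26,23,21,22,20,22,17,18,23,18],
  [],
  [],
  [],
  [],
  [],
  [],
  [],
  [],
  [1,25,25,24,26,25,27,19,20,23,26,17,20,20,23],
  [1,27,25,27,25,24,27,26,19,23,26,22,16,16,23],
  [1,26,26,22,22,23,24,19,25,25,20,17,17,16,21],
  [1,26,27,25,24,24,25,23,20,22,19,23,17,19,21],
  [],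
  [],
  [1,27,25,25,24,26,26,26,20,23,24,20,18],
  [1,26,26,26,22,27,27,24,20,19,26,21,17,16,21],
  [],
  [],
  [1,27,25,25,25,22,21,20,22,26,26,18,18,21,23],
  [1,24,26,26,23,21,21,22,19,26,18,22,20,23,20],
  [1,26,27,25,26,24,24,22,24,21,26,26,21,16,21],
  [1,26,25,25,27,22,21,20,24,25,26,17,20],
  [],
  [],
  [1,24,26,23,23,27,21,25,22,19,17,23,18,16,21],
  [1,26,25,25,22,27,27,24,19,21,24,18,18,20,19],
  [1,25,27,24,25,25,19,20,25,17,22,16,19,19],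
  [1,26,24,24,24,27,22,21,19,19,26,17,23,19,20],
  [],
  [],
  [],
  [],
  [],
  [],
  [],
  [],
  [],
  [],
  [1,27,27,25,27,25,25,22,27,21,23,19,16,20,17],
  [1,27,26,26,26,24,23,27,27,24,19,25,20,26,17,18,18],
  [],
  [],
  [],
  [],
  [],
  [],
  [],
  [],
  [],
  [],
  [],
  [],
  [],
  [],
  [],
  [],
  [],
  [],
  [],
  [],
  [],
  [],
  [],
  [],
  [],
  [],
  [],
  [],
  [],
  [],
  [],
  [],
  [],
  [],
  [],
  [],
  [],
  [],
  [],
  [],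
  [],
  [],
  [],
  [],
  [],
  [],
  [],
  [],
  [],
  [],
  [],
  [],
  [],
  [],
  [],
  [],
  [],
  [],
  [],
  [],
  [],
  [],
  [],
  [],
  [],
  [],
  [],
  [],
  [],
  [],
  [],
  [],
  [1,26,27,24,25,22,23,21,20,19,18,23,16,23],
  [1,25,27,26,27,22,24,22,23,27,20,26,18,16,21,17],
  [],
  [],
  [],
  [],
  [],
  [],
  [],
  [],
  [],
  [],
  [1,24,27,22,22,27,20,21,22,23,18,19,20,21],
  [1,26,27,24,22,23,23,25,21,21,16,16,23,22],
  [1,27,25,27,24,24,24,23,25,20,20,17,20,16,16],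
  [1,25,27,25,27,24,25,23,21,19,20,21,26,16,16],
  [],
  [],
  [],
  [],
  [],
  [],
  [],
  [],
  [1,27,26,24,27,27,24,22,20,19,22,17,19,16,22,18],
  [1,23,27,22,25,22,21,20,21,16,16,19,17],
  [],
  [],
  [],
  [],
  [1,27,25,27,25,24,26,24,26,20,19,23,16,16,18,23],
  [1,25,25,24,24,24,27,20,25,24,19,17,22,21],
  [],
  [],
  [],
  [],
  [],
  [],
  [],
  [],
  [1,27,27,25,22,27,23,27,20,22,24,16,19,22,18],
  [1,24,24,22,23,20,25,21,26,17,21,18,20],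
  [1,26,25,25,26,24,22,24,22,23,20,25,22,20,18,21],
  [1,25,27,23,25,26,20,19,19,24,17,19,21,18],
  [],
  [],
  [],
  [],
  [],
  [],
  [],
  [],
  [],
  [],
  [1,26,25,26,24,24,19,22,19,23,17,19,17,21],
  [1,26,25,22,27,22,21,22,21,18,19,18],
  [],
  [],
  [],
  [],
  [],
  [],
  [],
  [],
  [1,26,25,26,21,22,21,20,26,17,22,20,22,21],
  [1,26,23,24,23,22,26,21,26,18,22,17],
  [],
  [],
  [],
  [],
  [],
  [],
  [],
  [],
  [],
  [],
  [1,26,27,26,25,24,27,22,27,17,23,20,16,23],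
  [1,27,27,25,24,27,27,19,25,21,23,17,16,17],
  [1,27,25,27,24,23,22,25,20,19,20,17,19,20,16],
  [1,27,27,26,24,26,21,23,23,26,17,23,16,20],
  [],
  [],
  [],
  [],
  [],
  [],
  [],
  [],
  [1,25,27,25,22,26,25,27,24,21,19,22,16,16,20,18],
  [1,26,24,25,24,27,24,21,23,26,24,18,20,19],
  [],
  [],
  [],
  [],
  [],
  [],
  [],
  [],
  [],
  [],
  [1,26,27,27,24,26,26,24,22,21,19,21,17,23,19],
  [1,27,22,24,25,25,20,20,24,21,16,20,19,16],
  [],
  [],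
  [],
  [],
  [],
  [],
  [],
  [],
  [],
  [],
  [1,26,24,25,24,26,23,21,26,23,21,17,17,18],
  [1,27,27,25,26,26,23,24,21,24,25,26,16,23,20],
  [],
  [],
  [],
  [],
  [],
  [],
  [],
  [],
  [],
  [],
  [],
  [],
  [1,26,25,26,24,26,27,26,21,23,25,18,19,18,16],
  [1,25,25,23,27,25,19,25,22,21,17,23,21,23],
  [],
  [],
  [],
  [],
  [],
  [],
  [],
  [],
  [1,26,26,22,27,25,25,21,23,20,21,17,17,16,18],
  [1,25,27,26,25,22,22,25,20,19,19,26,18,23,19],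
  [1,27,25,27,22,27,23,22,19,20,24,17,22,20,16,23],
  [1,27,27,26,26,26,24,22,23,27,19,25,23,17],
  [],
  [],
  [],
  [],
  [],
  [],
  [],
  [],
  [],
  [],
  [1,27,24,25,23,25,21,26,22,22,17,19,22,17,21],
  [1,27,25,25,24,24,25,26,19,21,22,25,17,17,19,17],
  [],
  [],
  [],
  [],
  [],
  [],
  [],
  [],
  [],
  [],
  [],
  [],
  [],
  [],
  [],
  [],
  [],
  [],
  [],
  [],
  [],
  [],
  [],
  [],
  [],
  [],
  [],
  [],
  [],
  [],
  [],
  [],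
  [],
  [],
  [],
  [],
  [1,26,26,24,24,26,23,23,21,21,20,23,16,17,20],
  [1,25,27,24,24,20,25,24,19,16,17,21,22],
  [],
  [],
  [1,25,27,24,25,27,25,24,21,25,19,26,17,23,23,19,18],
  [1,25,22,21,25,21,21,25,17,19,19],
  [],
  [],
  [1,26,25,26,24,23,24,23,20,25,17,17,16,16,22],
  [1,26,23,22,24,23,21,22,20,17,23,23,19,18],
  [],
  [],
  [],
  [],
  [],
  [],
  [1,26,25,26,26,24,24,22,26,19,19,26,20,16,20,18],
  [1,25,27,22,24,24,20,20,23,25,17,18,17,21],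
  [1,24,26,25,27,22,20,26,23,21,18,23,18,17],
  [1,26,27,27,24,22,25,19,24,25,18,23,17,17],
  [],
  [],
  [],
  [],
  [],
  [],
  [],
  [],
  [1,25,27,22,25,24,23,19,22,24,24,19,17,20,18],
  [1,25,27,25,27,22,23,22,21,25,25,16,23,20],
  [],
  [],
  [],
  [],
  [],
  [],
  [],
  [],
  [],
  [],
  [],
  [],
  [],
  [],
  [],
  [],
  [],
  [],
  [],
  [],
  [],
  [],
  [],
  [],
  [],
  [],
  [],
  [],
  [],
  [],
  [],
  [],
  [],
  [],
  [],
  [],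
  [1,25,27,26,24,23,27,24,20,25,22,19,18,17,17],
  [1,27,26,26,26,24,25,19,21,22,16,23],
  [],
  [],
  [],
  [],
  [],
  [],
  [1,27,25,26,27,27,23,24,19,25,19,21,17,18,19],
  [1,25,24,23,25,26,27,21,24,23,22,16,16,18],
  [1,26,25,26,24,26,26,21,21,19,17,17,23,20,22],
  [1,26,26,24,24,22,22,27,20,22,19,23,18,23,18],
  [1,25,27,23,24,27,19,21,26,19,16,21,23,16],
  [1,27,25,27,27,24,23,23,21,21,21,16,22,22,20],
  [],
  [],
  [],
  [],
  [],
  [],
  [],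
  [],
  [1,25,27,25,25,22,26,26,21,24,20,19,16,21,17],
  [1,27,26,23,27,23,23,19,19,24,16,21,17],
  [1,25,25,23,26,20,26,24,17,19,22,17],
  [1,26,27,25,27,24,23,23,25,20,19,24,17,20,23],
  [],
  [],
  [],
  []] = true := by decide +kernel
theorem clT_4 : allZ (clsB 1792 LS [459,444,417,0] mT MT) (mapApp [38] (prods [AT1, AT2, AT3]) []) [[],
  [],
  [],
  [],
  [],
  [],
  [1,23,27,24,26,21,25,22,22,26,18,20,18],
  [1,26,26,23,24,19,22,21,25,18,21,23,21],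
  [],
  [],
  [],
  [],
  [],
  [],
  [],
  [],
  [],
  [],
  [],
  [],
  [1,27,26,25,24,27,21,21,19,26,16,20,21,23],
  [1,26,22,27,25,23,20,25,26,22,17,23,19,16],
  [],
  [],
  [],
  [],
  [],
  [],
  [],
  [],
  [1,27,25,24,26,23,27,21,22,26,24,18,20,20,16],
  [1,27,22,23,24,21,23,26,24,17,18,16,17],
  [],
  [],
  [],
  [],
  [],
  [],
  [1,25,27,22,22,24,27,23,20,24,19,18,19],
  [1,25,25,22,26,23,25,24,21,22,25,19,18,20,23,16],
  [],
  [],
  [],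
  [],
  [],
  [],
  [],
  [],
  [],
  [],
  [],
  [],
  [1,24,24,24,27,24,21,22,22,24,21,16,22,18,23],
  [1,27,24,23,26,24,23,21,26,19,19,18,23,17],
  [1,25,25,27,25,27,23,24,26,21,24,22,18,16,20,18],
  [1,22,22,24,24,21,21,17,16,19,20],
  [],
  [],
  [],
  [],
  [],
  [],
  [],
  [],
  [],
  [],
  [],
  [],
  [],
  [],
  [1,27,26,23,27,22,19,21,23,21,20,18,20,17,18],
  [1,24,27,24,25,21,19,20,24,16,16,23,23],
  [],
  [],
  [1,25,25,24,24,21,25,21,16,23,18,21],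
  [1,26,27,26,24,22,24,22,19,22,17,19,20],
  [],
  [],
  [],
  [],
  [],
  [],
  [],
  [],
  [1,27,27,24,25,25,24,19,19,23,22,17,17,17,18,16],
  [1,26,27,27,24,25,25,21,20,21,17,21,23,17],
  [],
  [],
  [],
  [],
  [],
  [],
  [],
  [],
  [],
  [],
  [],
  [],
  [],
  [],
  [],
  [],
  [],
  [],
  [],
  [],
  [],
  [],
  [],
  [],
  [],
  [],
  [1,25,25,27,23,27,24,25,21,25,25,20,17,17,23],
  [1,26,25,25,26,22,26,21,24,21,19,17,23,23,20,22],
  [],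
  [],
  [],
  [],
  [],
  [],
  [],
  [],
  [1,24,25,27,26,21,22,26,26,17,22,18],
  [1,26,24,26,26,22,27,19,20,23,17,18,23,18,19],
  [1,25,27,25,25,24,25,24,23,20,23,23,16,17,17],
  [1,26,26,23,22,24,23,21,20,17,18,22,21],
  [],
  [],
  [],
  [],
  [1,25,27,23,25,26,23,21,21,19,26,17,17],
  [1,26,27,26,26,23,22,22,21,19,16,16,23,19],
  [1,27,25,27,25,25,22,24,25,24,21,26,24,17],
  [1,27,24,22,26,23,19,26,25,26,17,20,18,16,19],
  [],
  [],
  [],
  [],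
  [],
  [],
  [],
  [],
  [1,25,25,27,24,24,27,19,24,24,17,22,16,22],
  [1,26,26,22,22,25,23,21,24,25,26,17,16,20],
  [],
  [],
  [],
  [],
  [],
  [],
  [],
  [],
  [],
  [],
  [],
  [],
  [],
  [],
  [],
  [],
  [],
  [],
  [],
  [],
  [],
  [],
  [1,26,27,25,22,19,22,23,17,16,21,17,19],
  [1,26,26,24,23,24,19,22,22,26,18,21],
  [],
  [],
  [],
  [],
  [],
  [],
  [],
  [],
  [],
  [],
  [],
  [],
  [1,23,27,24,25,21,24,20,22,18,20,20,16,17],
  [1,25,22,23,23,20,25,23,18,20,17,18],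
  [],
  [],
  [],
  [],
  [],
  [],
  [],
  [],
  [1,24,22,24,26,27,19,21,20,24,26,17,23,17,20],
  [1,26,27,22,27,25,24,21,24,19,22,18,20,16,22],
  [],
  [],
  [],
  [],
  [],
  [],
  [1,27,25,27,25,24,23,24,23,20,22,26,18,23,22,21],
  [1,25,25,24,26,22,25,21,22,24,25,18,17,17,16],
  [],
  [],
  [],
  [],
  [],
  [],
  [],
  [],
  [],
  [],
  [],
  [],
  [1,27,27,26,23,22,26,23,21,22,19,25,18,21,20],
  [1,26,25,25,22,22,21,21,22,23,17,16,16,21],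
  [],
  [],
  [1,27,26,27,24,23,24,24,26,20,26,21,18,21,20],
  [1,22,26,27,25,23,21,23,24,26,17,17,18,21],
  [],
  [],
  [],
  [],
  [],
  [],
  [],
  [],
  [],
  [],
  [],
  [],
  [],
  [],
  [],
  [],
  [],
  [],
  [1,27,26,27,27,25,24,26,26,21,22,26,24,22,16,23],
  [1,26,27,26,27,24,26,27,23,21,22,26,20,17,23],
  [],
  [],
  [1,26,24,22,25,26,19,20,25,22,18,22,21,21],
  [1,25,25,25,23,26,26,22,20,22,22,18,22,23,17],
  [],
  [],
  [],
  [],
  [],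
  [],
  [],
  [],
  [],
  [],
  [1,27,27,24,24,22,21,20,20,20,25,17,17,20,18],
  [1,25,24,25,24,24,19,22,20,17,18,20,22],
  [],
  [],
  [],
  [],
  [1,27,24,24,23,23,24,21,24,19,16,20,18,19],
  [1,27,26,25,27,23,22,21,21,21,23,24,18,17,21],
  [],
  [],
  [],
  [],
  [],
  [],
  [],
  [],
  [],
  [],
  [1,27,22,24,22,24,24,21,20,21,23,16,18,20,23],
  [1,27,27,24,24,22,24,22,20,20,25,17,23,18,21],
  [],
  [],
  [1,27,27,24,23,23,23,23,19,20,19,17,22],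
  [1,23,22,24,25,20,26,24,16,23,23,21],
  [],
  [],
  [],
  [],
  [],
  [],
  [],
  [],
  [],
  [],
  [],
  [],
  [],
  [],
  [1,25,27,26,23,22,22,21,21,19,23,18,21,18,16],
  [1,27,25,26,22,24,23,23,19,20,20,18,19,22],
  [],
  [],
  [],
  [],
  [],
  [],
  [],
  [],
  [],
  [],
  [],
  [],
  [1,26,27,27,22,25,25,27,21,25,23,16,19,21,21],
  [1,26,25,25,27,25,19,24,21,26,17,20,20,16],
  [],
  [],
  [],
  [],
  [],
  [],
  [],
  [],
  [],
  [],
  [1,25,26,22,26,26,23,20,19,22,25,18,21,17],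
  [1,25,25,26,23,26,26,25,21,21,21,18,16,16],
  [],
  [],
  [],
  [],
  [],
  [],
  [],
  [],
  [],
  [],
  [],
  [],
  [],
  [],
  [1,25,25,23,26,25,23,20,26,24,22,16,20,22],
  [1,26,25,23,24,24,22,20,21,25,18,17,21,17],
  [],
  [],
  [],
  [],
  [1,27,22,24,25,25,21,21,20,19,19,17,18,20],
  [1,25,22,24,24,26,25,21,24,20,21,16,16,19],
  [],
  [],
  [],
  [],
  [],
  [],
  [1,25,25,26,22,22,24,24,21,26,22,25,17,21,23],
  [1,24,24,24,26,24,26,20,22,18,21,16,19],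
  [],
  [],
  [],
  [],
  [],
  [],
  [1,25,25,24,23,25,24,21,25,20,16,18,20],
  [1,26,25,24,23,25,19,21,20,24,26,17,18,18,23],
  [],
  [],
  [],
  [],
  [],
  [],
  [],
  [],
  [],
  [],
  [1,25,26,27,24,26,24,25,20,19,18,23,17,22],
  [1,26,27,26,24,22,24,26,21,25,24,19,16,21,17],
  [1,26,24,27,25,24,19,24,25,18,23,18,17,18],
  [1,27,27,25,24,25,20,20,19,25,17,16,16,21],
  [],
  [],
  [],
  [],
  [],
  [],
  [],
  [],
  [],
  [],
  [],
  [],
  [],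
  [],
  [],
  [],
  [],
  [],
  [],
  [],
  [1,25,26,26,24,27,21,21,22,19,25,18,22,17,21],
  [1,27,23,24,25,23,25,19,24,21,26,16,18,21],
  [],
  [],
  [],
  [],
  [],
  [],
  [],
  [],
  [],
  [],
  [],
  [],
  [1,26,25,24,24,24,26,26,19,20,18,16,16,16],
  [1,26,25,27,24,22,25,25,20,25,19,18,17],
  [1,26,26,26,23,26,24,26,20,24,16,21,17,20],
  [1,24,27,24,25,21,21,19,19,17,23,20,17,21],
  [],
  [],
  [],
  [],
  [],
  [],
  [],
  [],
  [],
  [],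
  [],
  [],
  [],
  [],
  [],
  [],
  [],
  [],
  [],
  [],
  [],
  [],
  [1,25,26,24,26,27,25,21,25,25,17,16,20,18],
  [1,27,24,27,23,27,26,19,26,24,25,17,22,19,23],
  [1,27,25,27,27,26,23,24,24,26,16,21,17],
  [1,25,26,27,23,25,21,21,19,22,16,22,18],
  [],
  [],
  [],
  [],
  [],
  [],
  [],
  [],
  [],
  [],
  [1,27,26,26,22,25,25,25,20,20,23,18,20,21,22],
  [1,25,27,27,24,22,22,21,20,24,20,17,17,19,23],
  [],
  [],
  [],
  [],
  [1,27,27,26,24,26,24,24,19,20,24,24,17,22,23],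
  [1,22,24,22,26,21,26,22,22,18,17,21,23],
  [],
  [],
  [],
  [],
  [],
  [],
  [],
  [],
  [],
  [],
  [1,26,24,27,22,22,21,24,19,24,23,18,21,23,21],
  [1,27,25,27,27,24,26,22,21,25,17,18,16],
  [1,26,27,25,26,26,24,24,24,27,22,21,22,21,19,20,16],
  [1,27,26,27,23,25,19,21,19,20,16,20,17],
  [],
  [],
  [],
  [],
  [],
  [],
  [],
  [],
  [],
  [],
  [],
  [],
  [],
  [],
  [],
  [],
  [1,26,25,24,23,27,22,25,19,20,22,18,17,23,21,21],
  [1,27,26,26,26,22,23,22,21,26,18,23,17,23],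
  [],
  [],
  [],
  [],
  [],
  [],
  [],
  [],
  [],
  [],
  [1,26,25,27,27,26,24,27,23,27,20,17,20,22,22],
  [1,25,24,27,25,27,20,23,25,19,17,20,16,22],
  [],
  [],
  [],
  [],
  [],
  [],
  [],
  [],
  [],
  [],
  [],
  [],
  [1,26,25,26,24,26,26,24,19,25,24,24,17,19,21,20],
  [1,27,27,26,25,24,22,23,24,20,20,24,18,20,17],
  [],
  []] = true := by decide +kernel
theorem clT_5 : allZ (clsB 1792 LS [459,444,417,0] mT MT) (mapApp [40,41] (prods [AT1, AT2, AT3]) []) [[],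
  [],
  [],
  [],
  [],
  [],
  [],
  [],
  [],
  [],
  [],
  [],
  [],
  [],
  [],
  [],
  [],
  [],
  [],
  [],
  [],
  [],
  [],
  [],
  [],
  [],
  [],
  [],
  [],
  [],
  [],
  [],
  [],
  [],
  [],
  [],
  [],
  [],
  [],
  [],
  [],
  [],
  [],
  [],
  [],
  [],
  [],
  [],
  [],
  [],
  [],
  [],
  [],
  [],
  [],
  [],
  [],
  [],
  [],
  [],
  [],
  [],
  [],
  [],
  [],
  [],
  [],
  [],
  [],
  [],
  [],
  [],
  [],
  [],
  [],
  [],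
  [],
  [],
  [],
  [],
  [],
  [],
  [],
  [],
  [],
  [],
  [],
  [],
  [],
  [],
  [],
  [],
  [],
  [],
  [],
  [],
  [],
  [],
  [],
  [],
  [],
  [],
  [],
  [],
  [],
  [],
  [],
  [],
  [],
  [],
  [],
  [],
  [],
  [],
  [],
  [],
  [],
  [],
  [],
  [],
  [],
  [],
  [],
  [],
  [],
  [],
  [],
  [],
  [],
  [],
  [],
  [],
  [],
  [],
  [],
  [],
  [],
  [],
  [],
  [],
  [],
  [],
  [],
  [],
  [],
  [],
  [],
  [],
  [],
  [],
  [],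
  [],
  [],
  [],
  [],
  [],
  [],
  [],
  [],
  [],
  [],
  [],
  [],
  [],
  [],
  [],
  [],
  [],
  [],
  [],
  [],
  [],
  [],
  [],
  [],
  [],
  [],
  [],
  [],
  [],
  [],
  [],
  [],
  [],
  [],
  [],
  [],
  [],
  [],
  [],
  [],
  [],
  [],
  [],
  [],
  [],
  [],
  [],
  [],
  [],
  [],
  [],
  [],
  [],
  [],
  [],
  [],
  [],
  [],
  [],
  [],
  [],
  [],
  [],
  [],
  [],
  [],
  [],
  [],
  [],
  [],
  [],
  [],
  [],
  [],
  [],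
  [],
  [],
  [],
  [],
  [],
  [],
  [],
  [],
  [],
  [],
  [],
  [],
  [],
  [],
  [],
  [],
  [],
  [],
  [],
  [],
  [],
  [],
  [],
  [],
  [],
  [],
  [],
  [],
  [],
  [],
  [],
  [],
  [],
  [],
  [],
  [],
  [],
  [],
  [],
  [],
  [],
  [],
  [],
  [],
  [],
  [],
  [],
  [],
  [],
  [],
  [],
  [],
  [],
  [],
  [],
  [],
  [],
  [],
  [],
  [],
  [],
  [],
  [],
  [],
  [],
  [],
  [],
  [],
  [],
  [],
  [],
  [],
  [],
  [],
  [],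
  [],
  [],
  [],
  [],
  [],
  [],
  [],
  [],
  [],
  [],
  [],
  [],
  [],
  [],
  [],
  [],
  [],
  [],
  [],
  [],
  [],
  [],
  [],
  [],
  [],
  [],
  [],
  [],
  [],
  [],
  [],
  [],
  [],
  [],
  [],
  [],
  [],
  [],
  [],
  [],
  [],
  [],
  [],
  [],
  [],
  [],
  [],
  [],
  [],
  [],
  [],
  [],
  [],
  [],
  [],
  [],
  [],
  [],
  [],
  [],
  [],
  [],
  [],
  [],
  [],
  [],
  [],
  [],
  [],
  [],
  [],
  [],
  [],
  [],
  [],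
  [],
  [],
  [],
  [],
  [],
  [],
  [],
  [],
  [],
  [],
  [],
  [],
  [],
  [],
  [],
  [],
  [],
  [],
  [],
  [],
  [],
  [],
  [],
  [],
  [],
  [],
  [],
  [],
  [],
  [],
  [],
  [],
  [],
  [],
  [],
  [],
  [],
  [],
  [],
  [],
  [],
  [],
  [],
  [],
  [],
  [],
  [],
  [],
  [],
  [],
  [],
  [],
  [],
  [],
  [],
  [],
  [],
  [],
  [],
  [],
  [],
  [],
  [],
  [],
  [],
  [],
  [],
  [],
  [],
  [],
  [],
  [],
  [],
  [],
  [],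
  [],
  [],
  [],
  [],
  [],
  [],
  [],
  [],
  [],
  [],
  [],
  [],
  [],
  [],
  [],
  [],
  [],
  [],
  [],
  [],
  [],
  [],
  [],
  [],
  [],
  [],
  [],
  [],
  [],
  [],
  [],
  [],
  [],
  [],
  [],
  [],
  [],
  [],
  [],
  [],
  [],
  [],
  [],
  [],
  [],
  [],
  [],
  [],
  [],
  [],
  [],
  [],
  [],
  [],
  [],
  [],
  [],
  [],
  [],
  [],
  []] = true := by decide +kernel
theorem clT_6 : allZ (clsB 1792 LS [459,444,417,0] mT MT) (mapApp [39,41] (prods [AT1, AT2, AT3]) []) [[],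
  [],
  [],
  [],
  [],
  [],
  [],
  [],
  [],
  [],
  [],
  [],
  [],
  [],
  [],
  [],
  [],
  [],
  [],
  [],
  [],
  [],
  [],
  [],
  [],
  [],
  [],
  [],
  [],
  [],
  [],
  [],
  [],
  [],
  [1,26,24,27,22,25,21,21,20,17,17,20,22,17],
  [1,26,24,27,25,26,21,24,21,19,18,19,23,18],
  [],
  [],
  [1,26,27,26,25,27,22,21,20,23,19,18,23,17,19],
  [1,27,24,24,22,24,22,20,21,20,22,17,22,21,17],
  [],
  [],
  [],
  [],
  [],
  [],
  [],
  [],
  [],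
  [],
  [],
  [],
  [1,27,25,26,24,23,24,26,24,20,21,26,18,21,18,22],
  [1,27,26,25,25,24,23,25,25,19,22,24,26,17],
  [],
  [],
  [],
  [],
  [],
  [],
  [],
  [],
  [],
  [],
  [],
  [],
  [],
  [],
  [],
  [],
  [],
  [],
  [],
  [],
  [],
  [],
  [],
  [],
  [],
  [],
  [],
  [],
  [],
  [],
  [],
  [],
  [],
  [],
  [],
  [],
  [],
  [],
  [],
  [],
  [],
  [],
  [],
  [],
  [],
  [],
  [],
  [],
  [],
  [],
  [],
  [],
  [],
  [],
  [],
  [],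
  [],
  [],
  [],
  [],
  [],
  [],
  [],
  [],
  [],
  [],
  [],
  [],
  [],
  [],
  [],
  [],
  [],
  [],
  [],
  [],
  [],
  [],
  [],
  [],
  [],
  [],
  [],
  [],
  [],
  [],
  [],
  [],
  [],
  [],
  [],
  [],
  [],
  [],
  [],
  [],
  [],
  [],
  [],
  [],
  [],
  [],
  [],
  [],
  [],
  [],
  [],
  [],
  [],
  [],
  [],
  [],
  [],
  [],
  [],
  [],
  [],
  [],
  [],
  [],
  [],
  [],
  [],
  [],
  [],
  [],
  [],
  [],
  [],
  [],
  [],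
  [],
  [],
  [],
  [],
  [],
  [],
  [],
  [],
  [],
  [],
  [],
  [],
  [],
  [1,25,27,23,25,24,25,20,22,21,17,22,16,17],
  [1,27,25,25,24,25,25,23,21,25,24,26,22,17,18],
  [],
  [],
  [],
  [],
  [1,25,25,22,22,25,21,26,20,16,21,19,19],
  [1,26,26,26,22,23,21,22,22,24,22,17,18,23,16,20],
  [],
  [],
  [],
  [],
  [],
  [],
  [1,27,26,24,24,23,27,20,26,24,17,23,22,22,18],
  [1,27,25,22,22,27,19,24,23,21,17,19,22,17,21],
  [],
  [],
  [],
  [],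
  [],
  [],
  [],
  [],
  [],
  [],
  [],
  [],
  [],
  [],
  [],
  [],
  [],
  [],
  [],
  [],
  [],
  [],
  [],
  [],
  [],
  [],
  [1,25,25,27,26,26,24,26,21,24,21,24,17,17,22],
  [1,27,25,26,27,24,27,25,25,19,24,25,18,20,20],
  [],
  [],
  [],
  [],
  [],
  [],
  [1,26,25,26,24,24,25,26,21,26,21,21,17,21,18,22],
  [1,25,25,27,26,22,26,24,27,21,21,22,16,18,20,18],
  [],
  [],
  [1,27,24,22,22,24,20,24,24,18,17,18,21],
  [1,26,25,25,22,22,23,19,25,24,17,20,18,17],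
  [],
  [],
  [],
  [],
  [1,27,26,27,22,23,24,26,26,20,21,22,23,18,19,22],
  [1,27,26,25,24,22,22,27,20,22,26,17,23,18,23],
  [],
  [],
  [],
  [],
  [],
  [],
  [],
  [],
  [],
  [],
  [1,24,24,22,25,26,20,24,24,18,21,22,18],
  [1,25,25,25,22,26,25,26,20,19,25,21],
  [],
  [],
  [],
  [],
  [1,25,23,26,27,20,24,23,17,20,17,19,16],
  [1,27,26,27,25,27,24,22,26,22,24,18,20,19],
  [],
  [],
  [],
  [],
  [],
  [],
  [],
  [],
  [],
  [],
  [],
  [],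
  [],
  [],
  [],
  [],
  [],
  [],
  [],
  [],
  [],
  [],
  [],
  [],
  [],
  [],
  [],
  [],
  [],
  [],
  [],
  [],
  [],
  [],
  [],
  [],
  [],
  [],
  [],
  [],
  [],
  [],
  [],
  [],
  [],
  [],
  [],
  [],
  [],
  [],
  [],
  [],
  [],
  [],
  [],
  [],
  [],
  [],
  [],
  [],
  [],
  [],
  [],
  [],
  [],
  [],
  [],
  [],
  [],
  [],
  [],
  [],
  [],
  [],
  [],
  [],
  [],
  [],
  [],
  [],
  [],
  [],
  [],
  [],
  [],
  [],
  [],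
  [],
  [],
  [],
  [],
  [],
  [],
  [],
  [],
  [],
  [],
  [],
  [],
  [],
  [],
  [],
  [],
  [],
  [],
  [],
  [],
  [],
  [],
  [],
  [],
  [],
  [1,26,25,25,22,22,24,25,19,25,17,20,21,20,18],
  [1,25,26,26,22,27,23,20,26,24,22,18,22,23],
  [],
  [],
  [],
  [],
  [],
  [],
  [1,26,22,24,22,25,20,24,26,24,17,16,22,21],
  [1,25,27,26,24,25,21,26,24,24,18,19,22,21],
  [],
  [],
  [],
  [],
  [1,25,25,26,24,25,20,22,23,18,22,18,21,21],
  [1,25,22,24,25,25,27,20,21,26,22,17,20,18,23],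
  [],
  [],
  [],
  [],
  [],
  [],
  [],
  [],
  [],
  [],
  [],
  [],
  [],
  [],
  [],
  [],
  [],
  [],
  [],
  [],
  [],
  [],
  [],
  [],
  [],
  [],
  [1,25,27,27,24,22,22,19,24,21,22,17,17,22],
  [1,26,24,27,27,22,25,21,20,23,19,17,21,21,16],
  [],
  [],
  [],
  [],
  [],
  [],
  [],
  [],
  [],
  [],
  [1,23,24,25,21,19,20,21,23,16,22,22,22],
  [1,25,27,27,24,22,23,26,26,20,26,21,26,16,22],
  [1,26,27,27,24,27,26,22,21,24,19,20,18,23,20,22],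
  [1,27,26,25,23,26,21,26,21,21,17,16,20,20],
  [1,27,22,26,22,25,22,21,19,23,22,17,22,17],
  [1,27,27,26,26,26,23,27,25,21,19,16,18,23,21],
  [1,25,26,27,26,24,22,22,27,20,20,24,17,17,17,16],
  [1,26,27,27,25,25,22,26,24,22,19,20,19,18,18,18],
  [],
  [],
  [],
  [],
  [],
  [],
  [],
  [],
  [],
  [],
  [1,27,22,26,23,22,21,20,24,24,16,19,16,17],
  [1,27,25,26,26,24,23,26,24,23,21,26,20,22],
  [],
  [],
  [],
  [],
  [],
  [],
  [],
  [],
  [],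
  [],
  [],
  [],
  [],
  [],
  [],
  [],
  [1,26,25,25,26,26,22,26,27,23,26,19,20,16,19,21],
  [1,26,24,26,22,24,26,19,22,24,25,17,22,22],
  [1,26,27,25,22,24,26,24,19,17,22,19,19],
  [1,23,22,23,27,21,21,22,19,26,17,18,23,19],
  [],
  [],
  [],
  [],
  [],
  [],
  [],
  [],
  [],
  [],
  [1,25,26,27,27,24,25,26,24,25,20,23,26,22,17,20],
  [1,25,25,26,27,25,24,23,25,19,20,22,22,17],
  [],
  [],
  [],
  [],
  [],
  [],
  [],
  [],
  [],
  [],
  [],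
  [],
  [],
  [],
  [],
  []] = true := by decide +kernel
theorem clT_7 : allZ (clsB 1792 LS [459,444,417,0] mT MT) (mapApp [38,41] (prods [AT1, AT2, AT3]) []) [[],
  [],
  [],
  [],
  [],
  [],
  [],
  [],
  [],
  [],
  [],
  [],
  [],
  [],
  [],
  [],
  [],
  [],
  [],
  [],
  [],
  [],
  [],
  [],
  [],
  [],
  [],
  [],
  [],
  [],
  [],
  [],
  [],
  [],
  [],
  [],
  [],
  [],
  [1,26,24,26,24,22,26,21,19,23,24,17,22,22,18],
  [1,27,26,27,24,25,24,24,19,25,17,17,16,18,21],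
  [],
  [],
  [],
  [],
  [],
  [],
  [],
  [],
  [],
  [],
  [],
  [],
  [1,25,27,25,25,24,22,27,26,23,19,21,21,25,18,17],
  [1,27,26,24,27,22,21,16,22],
  [],
  [],
  [],
  [],
  [],
  [],
  [],
  [],
  [],
  [],
  [],
  [],
  [],
  [],
  [],
  [],
  [],
  [],
  [],
  [],
  [],
  [],
  [],
  [],
  [],
  [],
  [],
  [],
  [],
  [],
  [],
  [],
  [],
  [],
  [],
  [],
  [],
  [],
  [],
  [],
  [],
  [],
  [],
  [],
  [],
  [],
  [],
  [],
  [],
  [],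
  [],
  [],
  [],
  [],
  [],
  [],
  [],
  [],
  [],
  [],
  [],
  [],
  [],
  [],
  [],
  [],
  [],
  [],
  [],
  [],
  [],
  [],
  [],
  [],
  [],
  [],
  [],
  [],
  [],
  [],
  [],
  [],
  [],
  [],
  [],
  [],
  [],
  [],
  [],
  [],
  [],
  [],
  [],
  [],
  [],
  [],
  [],
  [],
  [],
  [],
  [],
  [],
  [],
  [],
  [],
  [],
  [],
  [],
  [],
  [],
  [],
  [],
  [],
  [],
  [],
  [],
  [],
  [],
  [],
  [],
  [],
  [],
  [],
  [],
  [],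
  [],
  [],
  [],
  [],
  [],
  [],
  [],
  [],
  [],
  [],
  [],
  [],
  [],
  [],
  [],
  [],
  [],
  [1,25,26,26,22,21,22,26,23,19,17,23,22,21,23],
  [1,27,24,26,24,22,21,22,26,22,17,20,23,22,23],
  [1,25,27,22,25,23,22,20,23,25,17,23,22,16],
  [1,27,22,27,26,22,21,24,17,20,18],
  [],
  [],
  [],
  [],
  [],
  [],
  [],
  [],
  [],
  [],
  [1,25,24,27,26,24,27,19,19,24,19,16,22],
  [1,26,26,26,26,22,23,25,21,26,19,21,21,17,18,21],
  [1,25,26,26,24,25,25,26,23,20,17,20,22,19],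
  [1,25,26,27,24,25,27,19,22,21,17,16,21,22],
  [],
  [],
  [],
  [],
  [],
  [],
  [],
  [],
  [],
  [],
  [1,26,24,23,26,22,27,20,21,20,26,17,18,21,17,18],
  [1,25,25,27,22,26,24,25,21,22,19,22,26,17,18,17],
  [],
  [],
  [1,25,25,27,25,27,23,20,19,20,17],
  [1,25,25,24,26,22,24,25,20,23,24,17,17,19,19],
  [],
  [],
  [1,25,25,25,27,23,24,22,22,20,26,17,17,23,23],
  [1,27,22,24,22,27,21,23,26,20,18,16,16],
  [],
  [],
  [],
  [],
  [],
  [],
  [],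
  [],
  [1,24,24,25,23,22,20,23,22,20,16,18,21],
  [1,26,24,25,25,25,19,21,24,23,16,20,17,17],
  [],
  [],
  [],
  [],
  [],
  [],
  [],
  [],
  [],
  [],
  [],
  [],
  [],
  [],
  [],
  [],
  [],
  [],
  [],
  [],
  [],
  [],
  [],
  [],
  [1,25,25,26,22,27,23,24,21,21,21,25,18,21,16],
  [1,26,25,22,22,22,27,23,19,22,20,17,18,16,21,16],
  [],
  [],
  [],
  [],
  [],
  [],
  [],
  [],
  [],
  [],
  [],
  [],
  [1,25,27,25,27,24,23,25,26,21,23,21,18,20,20,18],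
  [1,27,25,24,23,24,25,19,25,20,17,20,20,16,18],
  [],
  [],
  [],
  [],
  [],
  [],
  [],
  [],
  [],
  [],
  [],
  [],
  [],
  [],
  [],
  [],
  [],
  [],
  [],
  [],
  [],
  [],
  [],
  [],
  [],
  [],
  [],
  [],
  [],
  [],
  [],
  [],
  [],
  [],
  [],
  [],
  [],
  [],
  [],
  [],
  [],
  [],
  [],
  [],
  [],
  [],
  [],
  [],
  [],
  [],
  [],
  [],
  [],
  [],
  [],
  [],
  [],
  [],
  [],
  [],
  [],
  [],
  [],
  [],
  [],
  [],
  [],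
  [],
  [],
  [],
  [],
  [],
  [],
  [],
  [],
  [],
  [],
  [],
  [],
  [],
  [],
  [],
  [],
  [],
  [],
  [],
  [],
  [],
  [],
  [],
  [],
  [],
  [],
  [],
  [],
  [],
  [],
  [],
  [],
  [],
  [],
  [],
  [],
  [],
  [],
  [],
  [1,25,27,22,22,23,24,21,22,26,24,16,18,20],
  [1,27,27,23,19,20,26,26,17,16,16,18,21],
  [],
  [],
  [],
  [],
  [],
  [],
  [],
  [],
  [1,25,27,24,21,21,26,23,21,17,17,22,23,20],
  [1,25,25,23,24,22,22,21,24,26,17,23,20,19,22],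
  [],
  [],
  [1,27,25,25,22,22,27,20,24,26,25,17,22,23,16],
  [1,25,26,27,22,27,23,19,19,24,23,18,21,21],
  [],
  [],
  [],
  [],
  [],
  [],
  [1,25,27,27,24,25,26,27,23,21,26,22,24,17,16,18],
  [1,27,26,27,27,22,26,24,25,26,20,19,22,17,16,19],
  [],
  [],
  [],
  [],
  [],
  [],
  [1,25,27,26,27,22,26,25,19,20,26,20,17,21,18,22],
  [1,26,27,23,22,24,27,19,20,21,17,20,23,18],
  [1,26,25,22,26,23,27,20,22,24,16,21,22,21],
  [1,23,24,22,27,19,19,26,20,17,21,21,18],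
  [],
  [],
  [],
  [],
  [],
  [],
  [],
  [],
  [],
  [],
  [1,26,25,27,27,26,22,27,25,24,21,25,20,19,24,16],
  [1,26,24,25,25,22,19,26,20,17,19,20,20,19],
  [1,27,26,26,26,24,27,19,21,21,23,18,22,21,16],
  [1,24,25,25,23,25,19,22,20,26,17,19,18],
  [],
  [],
  [],
  [],
  [],
  [],
  [],
  [],
  [],
  [],
  [],
  [],
  [1,26,27,25,23,22,23,21,21,23,21,18,16,22,17],
  [1,27,27,24,24,23,26,20,22,20,22,17,23,23,19,16],
  [],
  [],
  [],
  [],
  [],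
  [],
  [],
  [],
  [],
  [],
  [1,27,26,24,23,25,22,21,26,21,19,16,18,20,23],
  [1,23,26,24,27,19,24,24,19,17,22,16,23],
  [],
  [],
  [],
  [],
  [],
  [],
  [],
  [],
  [],
  [],
  [],
  [],
  [],
  [],
  [],
  [],
  [],
  [],
  [],
  [],
  [],
  [],
  [],
  [],
  [],
  [],
  [],
  [],
  [1,27,26,27,25,23,22,27,19,22,23,16,17,23,17],
  [1,25,22,27,21,22,23,22,22,17,19,16],
  [],
  [],
  [],
  [],
  [],
  [],
  [],
  [],
  [],
  [],
  [],
  [],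
  [1,25,25,23,24,24,21,19,20,18,22,20,22],
  [1,25,25,27,25,24,27,24,21,20,23,25,17,18,21],
  [],
  [],
  [],
  []] = true := by decide +kernel
theorem clT_8 : allZ (clsB 1792 LS [459,444,417,0] mT MT) (mapApp [41,40] (prods [AT1, AT2, AT3]) []) [[],
  [],
  [],
  [],
  [],
  [],
  [],
  [],
  [],
  [],
  [],
  [],
  [],
  [],
  [],
  [],
  [],
  [],
  [],
  [],
  [],
  [],
  [],
  [],
  [],
  [],
  [],
  [],
  [],
  [],
  [],
  [],
  [],
  [],
  [],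
  [],
  [],
  [],
  [],
  [],
  [],
  [],
  [],
  [],
  [],
  [],
  [],
  [],
  [],
  [],
  [],
  [],
  [],
  [],
  [],
  [],
  [],
  [],
  [],
  [],
  [],
  [],
  [],
  [],
  [],
  [],
  [],
  [],
  [],
  [],
  [],
  [],
  [],
  [],
  [],
  [],
  [],
  [],
  [],
  [],
  [],
  [],
  [],
  [],
  [],
  [],
  [],
  [],
  [],
  [],
  [],
  [],
  [],
  [],
  [],
  [],
  [],
  [],
  [],
  [],
  [],
  [],
  [],
  [],
  [],
  [],
  [],
  [],
  [],
  [],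
  [],
  [],
  [],
  [],
  [],
  [],
  [],
  [],
  [],
  [],
  [],
  [],
  [],
  [],
  [],
  [],
  [],
  [],
  [],
  [],
  [],
  [],
  [],
  [],
  [],
  [],
  [],
  [],
  [],
  [],
  [],
  [],
  [],
  [],
  [],
  [],
  [],
  [],
  [],
  [],
  [],
  [],
  [],
  [],
  [],
  [],
  [],
  [],
  [],
  [],
  [],
  [],
  [],
  [],
  [],
  [],
  [],
  [],
  [],
  [],
  [],
  [],
  [],
  [],
  [],
  [],
  [],
  [],
  [],
  [],
  [],
  [],
  [],
  [],
  [],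
  [],
  [],
  [],
  [],
  [],
  [],
  [],
  [],
  [],
  [],
  [],
  [],
  [],
  [],
  [],
  [],
  [],
  [],
  [],
  [],
  [],
  [],
  [],
  [],
  [],
  [],
  [],
  [],
  [],
  [],
  [],
  [],
  [],
  [],
  [],
  [],
  [],
  [],
  [],
  [],
  [],
  [],
  [],
  [],
  [],
  [],
  [],
  [],
  [],
  [],
  [],
  [],
  [],
  [],
  [],
  [],
  [],
  [],
  [],
  [],
  [],
  [],
  [],
  [],
  [],
  [],
  [],
  [],
  [],
  [],
  [],
  [],
  [],
  [],
  [],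
  [],
  [],
  [],
  [],
  [],
  [],
  [],
  [],
  [],
  [],
  [],
  [],
  [],
  [],
  [],
  [],
  [],
  [],
  [],
  [],
  [],
  [],
  [],
  [],
  [],
  [],
  [],
  [],
  [],
  [],
  [],
  [],
  [],
  [],
  [],
  [],
  [],
  [],
  [],
  [],
  [],
  [],
  [],
  [],
  [],
  [],
  [],
  [],
  [],
  [],
  [],
  [],
  [],
  [],
  [],
  [],
  [],
  [],
  [],
  [],
  [],
  [],
  [],
  [],
  [],
  [],
  [],
  [],
  [],
  [],
  [],
  [],
  [],
  [],
  [],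
  [],
  [],
  [],
  [],
  [],
  [],
  [],
  [],
  [],
  [],
  [],
  [],
  [],
  [],
  [],
  [],
  [],
  [],
  [],
  [],
  [],
  [],
  [],
  [],
  [],
  [],
  [],
  [],
  [],
  [],
  [],
  [],
  [],
  [],
  [],
  [],
  [],
  [],
  [],
  [],
  [],
  [],
  [],
  [],
  [],
  [],
  [],
  [],
  [],
  [],
  [],
  [],
  [],
  [],
  [],
  [],
  [],
  [],
  [],
  [],
  [],
  [],
  [],
  [],
  [],
  [],
  [],
  [],
  [],
  [],
  [],
  [],
  [],
  [],
  [],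
  [],
  [],
  [],
  [],
  [],
  [],
  [],
  [],
  [],
  [],
  [],
  [],
  [],
  [],
  [],
  [],
  [],
  [],
  [],
  [],
  [],
  [],
  [],
  [],
  [],
  [],
  [],
  [],
  [],
  [],
  [],
  [],
  [],
  [],
  [],
  [],
  [],
  [],
  [],
  [],
  [],
  [],
  [],
  [],
  [],
  [],
  [],
  [],
  [],
  [],
  [],
  [],
  [],
  [],
  [],
  [],
  [],
  [],
  [],
  [],
  [],
  [],
  [],
  [],
  [],
  [],
  [],
  [],
  [],
  [],
  [],
  [],
  [],
  [],
  [],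
  [],
  [],
  [],
  [],
  [],
  [],
  [],
  [],
  [],
  [],
  [],
  [],
  [],
  [],
  [],
  [],
  [],
  [],
  [],
  [],
  [],
  [],
  [],
  [],
  [],
  [],
  []] = true := by decide +kernel
theorem clT_9 : allZ (clsB 1792 LS [459,444,417,0] mT MT) (mapApp [39,40] (prods [AT1, AT2, AT3]) []) [[],
  [],
  [],
  [],
  [],
  [],
  [],
  [],
  [],
  [],
  [],
  [],
  [],
  [],
  [],
  [],
  [],
  [],
  [],
  [],
  [],
  [],
  [],
  [],
  [],
  [],
  [],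
  [],
  [],
  [],
  [],
  [],
  [],
  [],
  [],
  [],
  [],
  [],
  [],
  [],
  [],
  [],
  [],
  [],
  [],
  [],
  [],
  [],
  [],
  [],
  [],
  [],
  [],
  [],
  [],
  [],
  [],
  [],
  [],
  [],
  [],
  [],
  [],
  [],
  [],
  [],
  [],
  [],
  [],
  [],
  [],
  [],
  [],
  [],
  [],
  [],
  [],
  [],
  [],
  [],
  [],
  [],
  [],
  [],
  [],
  [],
  [],
  [],
  [],
  [],
  [],
  [],
  [],
  [],
  [],
  [],
  [],
  [],
  [],
  [],
  [],
  [],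
  [],
  [],
  [],
  [],
  [],
  [],
  [],
  [],
  [],
  [],
  [],
  [],
  [],
  [],
  [],
  [],
  [],
  [],
  [],
  [],
  [],
  [],
  [],
  [],
  [],
  [],
  [],
  [],
  [],
  [],
  [],
  [],
  [],
  [],
  [],
  [],
  [],
  [],
  [],
  [],
  [],
  [],
  [],
  [],
  [],
  [],
  [],
  [],
  [],
  [],
  [],
  [],
  [],
  [],
  [],
  [],
  [],
  [],
  [],
  [],
  [],
  [],
  [],
  [],
  [],
  [],
  [],
  [],
  [],
  [],
  [],
  [],
  [],
  [],
  [],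
  [],
  [],
  [],
  [],
  [],
  [],
  [],
  [],
  [],
  [],
  [],
  [],
  [],
  [],
  [],
  [],
  [],
  [],
  [],
  [],
  [],
  [],
  [],
  [],
  [],
  [],
  [],
  [],
  [],
  [],
  [],
  [],
  [],
  [],
  [],
  [],
  [],
  [],
  [],
  [],
  [],
  [],
  [],
  [],
  [],
  [],
  [],
  [],
  [],
  [],
  [],
  [],
  [],
  [],
  [],
  [],
  [],
  [],
  [],
  [],
  [],
  [],
  [],
  [],
  [],
  [],
  [],
  [],
  [],
  [],
  [],
  [],
  [],
  [],
  [],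
  [],
  [],
  [],
  [],
  [],
  [],
  [],
  [],
  [],
  [],
  [],
  [],
  [],
  [],
  [],
  [],
  [],
  [],
  [],
  [],
  [],
  [],
  [],
  [],
  [],
  [],
  [],
  [],
  [],
  [],
  [],
  [],
  [],
  [],
  [],
  [],
  [],
  [],
  [],
  [],
  [],
  [],
  [],
  [],
  [],
  [],
  [],
  [],
  [],
  [],
  [],
  [],
  [],
  [],
  [],
  [],
  [],
  [],
  [],
  [],
  [],
  [],
  [],
  [],
  [],
  [],
  [],
  [],
  [],
  [],
  [],
  [],
  [],
  [],
  [],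
  [],
  [],
  [],
  [],
  [],
  [],
  [],
  [],
  [],
  [],
  [],
  [],
  [],
  [],
  [],
  [],
  [],
  [],
  [],
  [],
  [],
  [],
  [],
  [],
  [],
  [],
  [],
  [],
  [],
  [],
  [],
  [],
  [],
  [],
  [],
  [],
  [],
  [],
  [],
  [],
  [],
  [],
  [],
  [],
  [],
  [],
  [],
  [],
  [],
  [],
  [],
  [],
  [],
  [],
  [],
  [],
  [],
  [],
  [],
  [],
  [],
  [],
  [],
  [],
  [],
  [],
  [],
  [],
  [],
  [],
  [],
  [],
  [],
  [],
  [],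
  [],
  [],
  [],
  [],
  [],
  [],
  [],
  [],
  [],
  [],
  [],
  [],
  [],
  [],
  [],
  [],
  [],
  [],
  [],
  [],
  [],
  [],
  [],
  [],
  [],
  [],
  [],
  [],
  [],
  [],
  [],
  [],
  [],
  [],
  [],
  [],
  [],
  [],
  [],
  [],
  [],
  [],
  [],
  [],
  [],
  [],
  [],
  [],
  [],
  [],
  [],
  [],
  [],
  [],
  [],
  [],
  [],
  [],
  [],
  [],
  [],
  [],
  [],
  [],
  [],
  [],
  [],
  [],
  [],
  [],
  [],
  [],
  [],
  [],
  [],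
  [],
  [],
  [],
  [],
  [],
  [],
  [],
  [],
  [],
  [],
  [],
  [],
  [],
  [],
  [],
  [],
  [],
  [],
  [],
  [],
  [],
  [],
  [],
  [],
  [],
  [],
  [],
  [],
  [],
  [],
  [],
  [],
  [],
  [],
  []] = true := by decide +kernel
theorem clT_10 : allZ (clsB 1792 LS [459,444,417,0] mT MT) (mapApp [38,40] (prods [AT1, AT2, AT3]) []) [[],
  [],
  [],
  [],
  [],
  [],
  [],
  [],
  [],
  [],
  [],
  [],
  [],
  [],
  [],
  [],
  [],
  [],
  [],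
  [],
  [],
  [],
  [],
  [],
  [],
  [],
  [],
  [],
  [],
  [],
  [],
  [],
  [1,26,25,27,27,23,24,20,24,26,20,17,18,21,18],
  [1,25,24,22,24,20,23,24,24,18,20,23],
  [],
  [],
  [],
  [],
  [1,27,27,26,25,24,26,26,21,23,20,18,22],
  [1,22,27,26,27,27,19,20,26,20,17,17,23,18],
  [],
  [],
  [],
  [],
  [],
  [],
  [],
  [],
  [],
  [],
  [],
  [],
  [],
  [],
  [],
  [],
  [1,27,24,23,21,19,25,22,17,19,16,16],
  [1,26,26,24,22,22,23,23,21,24,26,18,20,18,16],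
  [],
  [],
  [],
  [],
  [1,25,25,22,27,23,21,26,23,23,18,16,22,20,22],
  [1,25,27,25,24,27,22,21,23,24,24,16,19,18,22],
  [1,27,25,27,24,22,27,19,20,25,22,17,17,19,23,16],
  [1,24,27,26,22,19,23,20,17,23,16,23],
  [],
  [],
  [],
  [],
  [1,27,27,25,24,24,24,27,24,21,21,24,19,17,21,17],
  [1,27,27,25,22,23,24,25,26,19,23,17,17,16,23],
  [],
  [],
  [1,26,25,27,27,24,22,20,17,23,23,21],
  [1,24,27,27,25,19,22,19,24,20,17,17,20,22,17],
  [],
  [],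
  [],
  [],
  [],
  [],
  [],
  [],
  [],
  [],
  [1,22,26,22,24,22,20,20,19,25,16,21,23,22],
  [1,27,22,27,27,22,21,21,19,21,24,17,16,22,23],
  [],
  [],
  [],
  [],
  [],
  [],
  [],
  [],
  [],
  [],
  [],
  [],
  [],
  [],
  [],
  [],
  [],
  [],
  [],
  [],
  [],
  [],
  [0,27,26,25,25,22,26,27,19,21,22,17,19,22,18],
  [0,25,25,23,26,19,23,25,22,18,22,17,21],
  [0,26,25,27,23,27,27,20,20,22,26,18,18,18,20],
  [0,27,25,26,27,24,21,25,22,24,17,20,16,20,23],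
  [],
  [],
  [],
  [],
  [],
  [],
  [],
  [],
  [],
  [],
  [],
  [],
  [],
  [],
  [],
  [],
  [],
  [],
  [],
  [],
  [],
  [],
  [],
  [],
  [],
  [],
  [],
  [],
  [0,25,27,23,24,23,22,20,21,23,24,17,21,20,21],
  [0,24,23,25,25,20,20,24,22,18,18,22,18,23],
  [0,26,26,24,25,26,24,19,25,20,18,16,17],
  [0,25,25,26,23,22,22,22,20,26,17,19,22,16,20],
  [],
  [],
  [],
  [],
  [],
  [],
  [],
  [],
  [],
  [],
  [],
  [],
  [],
  [],
  [],
  [],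
  [],
  [],
  [],
  [],
  [],
  [],
  [],
  [],
  [],
  [],
  [],
  [],
  [],
  [],
  [],
  [],
  [],
  [],
  [],
  [],
  [],
  [],
  [],
  [],
  [],
  [],
  [],
  [],
  [],
  [],
  [],
  [],
  [],
  [],
  [],
  [],
  [],
  [],
  [],
  [],
  [],
  [],
  [],
  [],
  [],
  [],
  [],
  [],
  [],
  [],
  [],
  [],
  [],
  [],
  [],
  [],
  [],
  [],
  [],
  [],
  [],
  [],
  [],
  [],
  [],
  [],
  [],
  [],
  [],
  [],
  [],
  [],
  [],
  [],
  [],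
  [],
  [],
  [],
  [1,27,25,26,22,25,27,26,21,21,22,21,18,17,20],
  [1,25,24,25,24,27,24,19,19,24,23,18,17,22,20],
  [],
  [],
  [],
  [],
  [],
  [],
  [],
  [],
  [1,26,25,25,26,24,23,25,19,25,21,17,16,23],
  [1,26,27,26,27,23,22,24,20,25,22,24,16,20,18,16],
  [],
  [],
  [],
  [],
  [],
  [],
  [],
  [],
  [1,25,25,25,27,20,20,26,24,17,21,21,23],
  [1,25,24,24,23,20,25,21,20,17,17,16,16,23],
  [],
  [],
  [],
  [],
  [],
  [],
  [],
  [],
  [1,25,27,25,23,24,24,21,21,19,17,16,16],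
  [1,27,26,26,22,24,27,22,22,20,20,19,20],
  [],
  [],
  [],
  [],
  [],
  [],
  [],
  [],
  [],
  [],
  [],
  [],
  [],
  [],
  [],
  [],
  [],
  [],
  [],
  [],
  [1,26,25,27,24,25,26,24,20,22,22,18,17,16,19],
  [1,25,25,23,26,27,21,22,22,24,17,20,20,19,18],
  [],
  [],
  [],
  [],
  [],
  [],
  [1,26,26,22,22,23,26,20,21,22,17,17,17,21],
  [1,27,23,26,24,21,25,22,25,23,18,17,23,23],
  [],
  [],
  [],
  [],
  [],
  [],
  [],
  [],
  [],
  [],
  [],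
  [],
  [],
  [],
  [],
  [],
  [],
  [],
  [],
  [],
  [],
  [],
  [],
  [],
  [],
  [],
  [],
  [],
  [],
  [],
  [],
  [],
  [1,25,26,27,23,24,25,23,21,25,20,19,17,17,18,16],
  [1,25,25,25,27,26,22,24,23,23,19,19,16,21,17],
  [],
  [],
  [1,27,27,23,24,22,22,21,24,20,26,16,19,19,21],
  [1,25,25,25,25,24,26,25,19,24,21,18,21,22,21],
  [],
  [],
  [],
  [],
  [],
  [],
  [1,24,27,26,22,22,20,25,26,19,18,20,17,19],
  [1,27,22,27,25,25,21,22,25,23,16,17,18,22],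
  [1,27,25,24,23,24,26,20,22,26,24,17,23,19],
  [1,27,25,27,27,26,24,23,21,25,17,18,19,21],
  [],
  [],
  [],
  [],
  [],
  [],
  [1,26,25,25,23,26,21,24,19,17,17,19],
  [1,24,22,25,26,22,21,22,26,26,20,16,17,17,19],
  [],
  [],
  [],
  [],
  [],
  [],
  [1,26,27,25,24,25,26,20,22,23,19,17,16,23],
  [1,27,22,24,26,25,19,20,26,26,17,22,18,17,20],
  [],
  [],
  [],
  [],
  [],
  [],
  [],
  [],
  [],
  [],
  [],
  [],
  [],
  [],
  [],
  [],
  [],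
  [],
  [1,26,26,26,22,23,22,25,20,23,20,22,16,19,18],
  [1,25,25,26,23,25,23,24,21,26,20],
  [],
  [],
  [],
  [],
  [1,25,24,26,19,21,25,19,17,22,18,17,20],
  [1,27,25,24,27,23,21,22,26,23,20,18,19,21,16],
  [],
  [],
  [],
  [],
  [],
  [],
  [],
  [],
  [],
  [],
  [],
  [],
  [],
  [],
  [],
  [],
  [1,27,22,27,25,25,19,19,16,18,18,18],
  [1,26,22,26,25,27,24,21,23,24,26,17,23,20,19],
  [],
  [],
  [],
  [],
  [1,22,25,23,21,23,26,19,17,23,17,21],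
  [1,27,27,25,25,24,26,26,22,19,18,19,16,19],
  [],
  [],
  [0,27,27,26,25,25,26,24,23,24,19,24,18,18,21],
  [0,27,26,23,27,22,24,21,26,18,17,16,23],
  [0,22,27,27,25,20,19,26,16,22,23,18],
  [0,25,26,22,25,25,25,25,21,23,22,21,16,19,18],
  [],
  [],
  [],
  [],
  [],
  [],
  [],
  [],
  [],
  [],
  [],
  [],
  [],
  [],
  [],
  [],
  [],
  [],
  [],
  [],
  [],
  [],
  [],
  [],
  [],
  [],
  [],
  [],
  [],
  [],
  [],
  [],
  [],
  [],
  [],
  [],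
  [],
  [],
  [],
  [],
  [],
  [],
  [],
  [],
  [],
  [],
  [],
  [],
  [],
  [],
  [],
  [],
  [],
  [],
  [],
  [],
  [],
  [],
  [],
  [],
  [],
  [],
  [],
  [],
  [],
  [],
  [],
  [],
  [],
  [],
  [0,26,27,26,25,22,24,22,19,19,20,24,17,20,23,16],
  [0,24,23,26,22,23,20,21,20,26,16,23,20,21],
  [],
  [],
  [0,26,25,26,22,22,19,22,24,20,16,16,22],
  [0,24,26,24,26,21,22,20,21,18,22,18,22],
  [],
  [],
  [],
  [],
  [],
  [],
  [],
  [],
  [],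
  [],
  [],
  [],
  [],
  []] = true := by decide +kernel
theorem clT_11 : allZ (clsB 1792 LS [459,444,417,0] mT MT) (mapApp [38,39] (prods [AT1, AT2, AT3]) []) [[],
  [],
  [],
  [],
  [],
  [],
  [],
  [],
  [],
  [],
  [],
  [],
  [],
  [],
  [],
  [],
  [],
  [],
  [],
  [],
  [],
  [],
  [],
  [],
  [],
  [],
  [],
  [],
  [],
  [],
  [],
  [],
  [],
  [],
  [],
  [],
  [],
  [],
  [],
  [],
  [],
  [],
  [],
  [],
  [],
  [],
  [],
  [],
  [],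
  [],
  [],
  [],
  [],
  [],
  [],
  [],
  [],
  [],
  [],
  [],
  [],
  [],
  [],
  [],
  [],
  [],
  [],
  [],
  [],
  [],
  [],
  [],
  [],
  [],
  [],
  [],
  [],
  [],
  [],
  [],
  [],
  [],
  [],
  [],
  [],
  [],
  [],
  [],
  [],
  [],
  [],
  [],
  [],
  [],
  [],
  [],
  [],
  [],
  [],
  [],
  [],
  [],
  [],
  [],
  [],
  [],
  [],
  [],
  [],
  [],
  [],
  [],
  [],
  [],
  [],
  [],
  [],
  [],
  [],
  [],
  [],
  [],
  [],
  [],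
  [],
  [],
  [],
  [],
  [],
  [],
  [],
  [],
  [],
  [],
  [],
  [],
  [],
  [],
  [],
  [],
  [],
  [],
  [],
  [],
  [],
  [],
  [],
  [],
  [],
  [],
  [],
  [],
  [],
  [],
  [],
  [],
  [],
  [],
  [],
  [],
  [],
  [],
  [],
  [],
  [],
  [],
  [],
  [],
  [],
  [],
  [],
  [],
  [],
  [],
  [],
  [],
  [],
  [],
  [],
  [],
  [],
  [],
  [],
  [],
  [],
  [],
  [],
  [],
  [],
  [],
  [],
  [],
  [],
  [],
  [],
  [],
  [],
  [],
  [],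
  [],
  [],
  [],
  [],
  [],
  [],
  [],
  [],
  [],
  [],
  [],
  [],
  [],
  [],
  [],
  [],
  [],
  [],
  [],
  [],
  [],
  [],
  [],
  [],
  [],
  [],
  [],
  [],
  [],
  [],
  [],
  [],
  [],
  [],
  [],
  [],
  [],
  [],
  [],
  [],
  [],
  [],
  [],
  [],
  [],
  [],
  [],
  [],
  [],
  [],
  [],
  [],
  [],
  [],
  [],
  [],
  [],
  [],
  [],
  [],
  [],
  [],
  [],
  [],
  [],
  [],
  [],
  [],
  [],
  [],
  [],
  [],
  [],
  [],
  [],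
  [],
  [],
  [],
  [],
  [],
  [],
  [],
  [],
  [],
  [],
  [],
  [],
  [],
  [],
  [],
  [],
  [],
  [],
  [],
  [],
  [],
  [],
  [],
  [],
  [],
  [],
  [],
  [],
  [],
  [],
  [],
  [],
  [],
  [],
  [],
  [],
  [],
  [],
  [],
  [],
  [],
  [],
  [],
  [],
  [],
  [],
  [],
  [],
  [],
  [],
  [],
  [],
  [],
  [],
  [],
  [],
  [],
  [],
  [],
  [],
  [],
  [],
  [],
  [],
  [],
  [],
  [],
  [],
  [],
  [],
  [],
  [],
  [],
  [],
  [],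
  [],
  [],
  [],
  [],
  [],
  [],
  [],
  [],
  [],
  [],
  [],
  [],
  [],
  [],
  [],
  [],
  [],
  [],
  [],
  [],
  [],
  [],
  [],
  [],
  [],
  [],
  [],
  [],
  [],
  [],
  [],
  [],
  [],
  [],
  [],
  [],
  [],
  [],
  [],
  [],
  [],
  [],
  [],
  [],
  [],
  [],
  [],
  [],
  [],
  [],
  [],
  [],
  [],
  [],
  [],
  [],
  [],
  [],
  [],
  [],
  [],
  [],
  [],
  [],
  [],
  [],
  [],
  [],
  [],
  [],
  [],
  [],
  [],
  [],
  [],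
  [],
  [],
  [],
  [],
  [],
  [],
  [],
  [],
  [],
  [],
  [],
  [],
  [],
  [],
  [],
  [],
  [],
  [],
  [],
  [],
  [],
  [],
  [],
  [],
  [],
  [],
  [],
  [],
  [],
  [],
  [],
  [],
  [],
  [],
  [],
  [],
  [],
  [],
  [],
  [],
  [],
  [],
  [],
  [],
  [],
  [],
  [],
  [],
  [],
  [],
  [],
  [],
  [],
  [],
  [],
  [],
  [],
  [],
  [],
  [],
  [],
  [],
  [],
  [],
  [],
  [],
  [],
  [],
  [],
  [],
  [],
  [],
  [],
  [],
  [],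
  [],
  [],
  [],
  [],
  [],
  [],
  [],
  [],
  [],
  [],
  [],
  [],
  []] = true := by decide +kernel
theorem clT_12 : allZ (clsB 1792 LS [459,444,417,0] mT MT) (mapApp [39,40,41] (prods [AT1, AT2, AT3]) []) [[],
  [],
  [],
  [],
  [],
  [],
  [],
  [],
  [],
  [],
  [],
  [],
  [],
  [],
  [],
  [],
  [],
  [],
  [],
  [],
  [],
  [],
  [],
  [],
  [],
  [],
  [],
  [],
  [],
  [],
  [],
  [],
  [],
  [],
  [],
  [],
  [],
  [],
  [],
  [],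
  [],
  [],
  [],
  [],
  [],
  [],
  [],
  [],
  [],
  [],
  [],
  [],
  [],
  [],
  [],
  [],
  [],
  [],
  [],
  [],
  [],
  [],
  [],
  [],
  [],
  [],
  [],
  [],
  [],
  [],
  [],
  [],
  [],
  [],
  [],
  [],
  [],
  [],
  [],
  [],
  [],
  [],
  [],
  [],
  [],
  [],
  [],
  [],
  [],
  [],
  [],
  [],
  [],
  [],
  [],
  [],
  [],
  [],
  [],
  [],
  [],
  [],
  [],
  [],
  [],
  [],
  [],
  [],
  [],
  [],
  [],
  [],
  [],
  [],
  [],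
  [],
  [],
  [],
  [],
  [],
  [],
  [],
  [],
  [],
  [],
  [],
  [],
  [],
  [],
  [],
  [],
  [],
  [],
  [],
  [],
  [],
  [],
  [],
  [],
  [],
  [],
  [],
  [],
  [],
  [],
  [],
  [],
  [],
  [],
  [],
  [],
  [],
  [],
  [],
  [],
  [],
  [],
  [],
  [],
  [],
  [],
  [],
  [],
  [],
  [],
  [],
  [],
  [],
  [],
  [],
  [],
  [],
  [],
  [],
  [],
  [],
  [],
  [],
  [],
  [],
  [],
  [],
  [],
  [],
  [],
  [],
  [],
  [],
  [],
  [],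
  [],
  [],
  [],
  [],
  [],
  [],
  [],
  [],
  [],
  [],
  [],
  [],
  [],
  [],
  [],
  [],
  [],
  [],
  [],
  [],
  [],
  [],
  [],
  [],
  [],
  [],
  [],
  [],
  [],
  [],
  [],
  [],
  [],
  [],
  [],
  [],
  [],
  [],
  [],
  [],
  [],
  [],
  [],
  [],
  [],
  [],
  [],
  [],
  [],
  [],
  [],
  [],
  [],
  [],
  [],
  [],
  [],
  [],
  [],
  [],
  [],
  [],
  [],
  [],
  [],
  [],
  [],
  [],
  [],
  [],
  [],
  [],
  [],
  [],
  [],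
  [],
  [],
  [],
  [],
  [],
  [],
  [],
  [],
  [],
  [],
  [],
  [],
  [],
  [],
  [],
  [],
  [],
  [],
  [],
  [],
  [],
  [],
  [],
  [],
  [],
  [],
  [],
  [],
  [],
  [],
  [],
  [],
  [],
  [],
  [],
  [],
  [],
  [],
  [],
  [],
  [],
  [],
  [],
  [],
  [],
  [],
  [],
  [],
  [],
  [],
  [],
  [],
  [],
  [],
  [],
  [],
  [],
  [],
  [],
  [],
  [],
  [],
  [],
  [],
  [],
  [],
  [],
  [],
  [],
  [],
  [],
  [],
  [],
  [],
  [],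
  [],
  [],
  [],
  [],
  [],
  [],
  [],
  [],
  [],
  [],
  [],
  [],
  [],
  [],
  [],
  [],
  [],
  [],
  [],
  [],
  [],
  [],
  [],
  [],
  [],
  [],
  [],
  [],
  [],
  [],
  [],
  [],
  [],
  [],
  [],
  [],
  [],
  [],
  [],
  [],
  [],
  [],
  [],
  [],
  [],
  [],
  [],
  [],
  [],
  [],
  [],
  [],
  [],
  [],
  [],
  [],
  [],
  [],
  [],
  [],
  [],
  [],
  [],
  [],
  [],
  [],
  [],
  [],
  [],
  [],
  [],
  [],
  [],
  [],
  [],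
  [],
  [],
  [],
  [],
  [],
  [],
  [],
  [],
  [],
  [],
  [],
  [],
  [],
  [],
  [],
  [],
  [],
  [],
  [],
  [],
  [],
  [],
  [],
  [],
  [],
  [],
  [],
  [],
  [],
  [],
  [],
  [],
  [],
  [],
  [],
  [],
  [],
  [],
  [],
  [],
  [],
  [],
  [],
  [],
  [],
  [],
  [],
  [],
  [],
  [],
  [],
  [],
  [],
  [],
  [],
  [],
  [],
  [],
  [],
  [],
  [],
  [],
  [],
  [],
  [],
  [],
  [],
  [],
  [],
  [],
  [],
  [],
  [],
  [],
  [],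
  [],
  [],
  [],
  [],
  [],
  [],
  [],
  [],
  [],
  [],
  [],
  [],
  [],
  [],
  [],
  [],
  [],
  [],
  [],
  [],
  [],
  []] = true := by decide +kernel
theorem clT_13 : allZ (clsB 1792 LS [459,444,417,0] mT MT) (mapApp [38,39,41] (prods [AT1, AT2, AT3]) []) [[],
  [],
  [],
  [],
  [],
  [],
  [1,27,26,25,25,27,25,23,25,24,22,20,22,21,22,18],
  [1,22,26,27,26,19,23,23,18,22,23,21],
  [],
  [],
  [],
  [],
  [],
  [],
  [],
  [],
  [],
  [],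
  [],
  [],
  [1,27,26,25,27,23,27,22,21,23,23,16,16,20],
  [1,25,27,23,22,22,21,20,20,21,17,17,19],
  [],
  [],
  [],
  [],
  [],
  [],
  [],
  [],
  [],
  [],
  [],
  [],
  [],
  [],
  [],
  [],
  [],
  [],
  [],
  [],
  [],
  [],
  [],
  [],
  [],
  [],
  [],
  [],
  [],
  [],
  [],
  [],
  [],
  [],
  [],
  [],
  [],
  [],
  [],
  [],
  [],
  [],
  [],
  [],
  [],
  [],
  [],
  [],
  [1,25,26,27,25,22,22,19,23,20,17,19,19,18,21],
  [1,26,27,24,24,22,25,21,21,18,19,18],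
  [],
  [],
  [],
  [],
  [],
  [],
  [],
  [],
  [1,24,22,23,27,24,21,22,26,22,25,18,23,20,16],
  [1,26,23,22,27,24,20,19,24,24,17,17,20,23,18],
  [],
  [],
  [1,27,25,24,25,23,22,21,21,20,25,18,23,19],
  [1,24,24,25,24,19,21,23,23,17,23,21],
  [],
  [],
  [],
  [],
  [],
  [],
  [1,26,27,27,25,22,27,22,23,19,19,19,18,22,21],
  [1,25,24,22,22,22,22,20,21,19,17,18,18,16],
  [],
  [],
  [],
  [],
  [],
  [],
  [1,25,27,26,25,24,27,27,25,19,25,20,16,21,19,19],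
  [1,26,25,25,23,26,24,24,19,20,23,26,17],
  [],
  [],
  [],
  [],
  [],
  [],
  [],
  [],
  [],
  [],
  [],
  [],
  [1,25,25,26,27,24,24,24,24,24,23,20,25,19,23,18],
  [1,25,25,24,25,24,23,21,23,21,26,17,21,19],
  [],
  [],
  [],
  [],
  [],
  [],
  [],
  [],
  [],
  [],
  [],
  [],
  [],
  [],
  [],
  [],
  [],
  [],
  [],
  [],
  [],
  [],
  [1,25,27,26,26,23,21,23,22,20,17,21,17,17],
  [1,25,27,25,27,24,26,27,25,19,24,26,18,20,16,23],
  [1,27,25,24,26,23,25,19,21,25,16,19,17,19],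
  [1,27,27,26,22,26,26,26,20,19,24,21,18,22,23],
  [],
  [],
  [],
  [],
  [],
  [],
  [],
  [],
  [],
  [],
  [1,26,25,24,22,25,25,22,20,22,19,22,16,23,19],
  [1,27,25,23,24,25,21,26,20,18,21,23,17],
  [1,26,25,27,26,24,27,24,25,19,22,16,17,22,22],
  [1,26,25,24,23,27,21,23,19,22,16,16,20,22],
  [],
  [],
  [],
  [],
  [],
  [],
  [],
  [],
  [1,27,26,27,23,27,24,25,20,22,23,23,18,22,22,21],
  [1,25,25,22,23,24,26,21,26,21,17,22,22,17,19],
  [1,27,22,25,23,25,21,26,20,17,20,21,16],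
  [1,26,27,26,23,27,26,21,20,19,18,18,22,16],
  [],
  [],
  [],
  [],
  [],
  [],
  [],
  [],
  [],
  [],
  [1,27,25,26,26,24,23,27,21,21,23,21,16,20,17],
  [1,25,25,24,26,26,21,25,23,23,17,20,23,18],
  [1,26,25,27,26,24,24,23,25,21,21,19,18,22,18,20],
  [1,25,26,24,24,25,23,26,21,22,25,25,19,18,20,16,23],
  [],
  [],
  [],
  [],
  [],
  [],
  [],
  [],
  [],
  [],
  [],
  [],
  [],
  [],
  [],
  [],
  [],
  [],
  [],
  [],
  [],
  [],
  [],
  [],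
  [],
  [],
  [],
  [],
  [],
  [],
  [],
  [],
  [],
  [],
  [],
  [],
  [],
  [],
  [],
  [],
  [],
  [],
  [],
  [],
  [],
  [],
  [],
  [],
  [],
  [],
  [],
  [],
  [],
  [],
  [],
  [],
  [],
  [],
  [],
  [],
  [],
  [],
  [],
  [],
  [],
  [],
  [],
  [],
  [],
  [],
  [],
  [],
  [],
  [],
  [],
  [],
  [],
  [],
  [],
  [],
  [],
  [],
  [],
  [],
  [],
  [],
  [],
  [],
  [],
  [],
  [],
  [],
  [],
  [],
  [],
  [],
  [],
  [],
  [],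
  [],
  [],
  [],
  [],
  [],
  [],
  [],
  [],
  [],
  [],
  [],
  [1,22,24,24,23,19,26,20,17,18,18,18,16],
  [1,26,24,25,23,19,26,25,26,17,22,18],
  [],
  [],
  [],
  [],
  [],
  [],
  [],
  [],
  [],
  [],
  [],
  [],
  [1,25,25,25,24,25,21,26,23,24,24,18,17,22,19],
  [1,27,26,25,24,27,22,22,19,25,25,20,17,18],
  [],
  [],
  [],
  [],
  [],
  [],
  [],
  [],
  [],
  [],
  [],
  [],
  [],
  [],
  [],
  [],
  [],
  [],
  [],
  [],
  [],
  [],
  [],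
  [],
  [1,25,25,26,26,24,21,26,17,23,20],
  [1,25,26,26,24,24,22,25,20,22,22,18,17,20,21],
  [],
  [],
  [],
  [],
  [],
  [],
  [],
  [],
  [],
  [],
  [],
  [],
  [1,26,25,26,22,23,26,20,23,26,20,16,21,16,23],
  [1,26,27,25,27,24,24,25,20,22,20,23,17,23,23],
  [],
  [],
  [],
  [],
  [],
  [],
  [],
  [],
  [],
  [],
  [],
  [],
  [],
  [],
  [],
  [],
  [1,26,26,24,27,25,22,20,22,21,23,17,17,17,23],
  [1,24,22,26,22,25,19,26,19,25,24,17,20,16,21],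
  [],
  [],
  [],
  [],
  [],
  [],
  [],
  [],
  [1,27,27,23,22,24,24,21,24,24,20,18,18,20,21],
  [1,27,25,27,25,22,22,19,21,20,23,17,21,23,21],
  [],
  [],
  [1,27,26,25,25,24,25,21,25,24,22,17,19,16,22],
  [1,25,27,27,26,27,26,23,24,24,22,21,26,26,22],
  [],
  [],
  [1,27,26,27,24,27,26,24,20,23,24,20,18,23,19],
  [1,27,26,26,23,26,27,24,19,23,20,18,23,19,20],
  [],
  [],
  [],
  [],
  [],
  [],
  [],
  [],
  [],
  [],
  [],
  [],
  [],
  [],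
  [],
  [],
  [],
  [],
  [],
  [],
  [],
  [],
  [],
  [],
  [],
  [],
  [],
  [],
  [],
  [],
  [],
  [],
  [],
  [],
  [],
  [],
  [],
  [],
  [],
  [],
  [],
  [],
  [],
  [],
  [],
  [],
  [],
  [],
  [],
  [],
  [],
  [],
  [],
  [],
  [],
  [],
  [],
  [],
  [],
  [],
  [],
  [],
  [],
  [],
  [],
  [],
  [],
  [],
  [],
  [],
  [],
  [],
  [],
  [],
  [],
  [],
  [],
  [],
  [],
  [],
  [],
  [],
  [],
  [],
  [],
  [],
  [],
  [],
  [],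
  [],
  [],
  [],
  [],
  [],
  [],
  [],
  [],
  [],
  [],
  [],
  [],
  [],
  [],
  [],
  [],
  [],
  [],
  [],
  [],
  [],
  [],
  [],
  [],
  [],
  [],
  [],
  [],
  [],
  [],
  [],
  [],
  [],
  [],
  [],
  [],
  [],
  [],
  []] = true := by decide +kernel
theorem clT_14 : allZ (clsB 1792 LS [459,444,417,0] mT MT) (mapApp [39,41,40] (prods [AT1, AT2, AT3]) []) [[],
  [],
  [],
  [],
  [],
  [],
  [],
  [],
  [],
  [],
  [],
  [],
  [],
  [],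
  [],
  [],
  [],
  [],
  [],
  [],
  [],
  [],
  [],
  [],
  [],
  [],
  [],
  [],
  [],
  [],
  [],
  [],
  [],
  [],
  [],
  [],
  [],
  [],
  [],
  [],
  [],
  [],
  [],
  [],
  [],
  [],
  [],
  [],
  [],
  [],
  [],
  [],
  [],
  [],
  [],
  [],
  [],
  [],
  [],
  [],
  [],
  [],
  [],
  [],
  [],
  [],
  [],
  [],
  [],
  [],
  [],
  [],
  [],
  [],
  [],
  [],
  [],
  [],
  [],
  [],
  [],
  [],
  [],
  [],
  [],
  [],
  [],
  [],
  [],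
  [],
  [],
  [],
  [],
  [],
  [],
  [],
  [],
  [],
  [],
  [],
  [],
  [],
  [],
  [],
  [],
  [],
  [],
  [],
  [],
  [],
  [],
  [],
  [],
  [],
  [],
  [],
  [],
  [],
  [],
  [],
  [],
  [],
  [],
  [],
  [],
  [],
  [],
  [],
  [],
  [],
  [],
  [],
  [],
  [],
  [],
  [],
  [],
  [],
  [],
  [],
  [],
  [],
  [],
  [],
  [],
  [],
  [],
  [],
  [],
  [],
  [],
  [],
  [],
  [],
  [],
  [],
  [],
  [],
  [],
  [],
  [],
  [],
  [],
  [],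
  [],
  [],
  [],
  [],
  [],
  [],
  [],
  [],
  [],
  [],
  [],
  [],
  [],
  [],
  [],
  [],
  [],
  [],
  [],
  [],
  [],
  [],
  [],
  [],
  [],
  [],
  [],
  [],
  [],
  [],
  [],
  [],
  [],
  [],
  [],
  [],
  [],
  [],
  [],
  [],
  [],
  [],
  [],
  [],
  [],
  [],
  [],
  [],
  [],
  [],
  [],
  [],
  [],
  [],
  [],
  [],
  [],
  [],
  [],
  [],
  [],
  [],
  [],
  [],
  [],
  [],
  [],
  [],
  [],
  [],
  [],
  [],
  [],
  [],
  [],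
  [],
  [],
  [],
  [],
  [],
  [],
  [],
  [],
  [],
  [],
  [],
  [],
  [],
  [],
  [],
  [],
  [],
  [],
  [],
  [],
  [],
  [],
  [],
  [],
  [],
  [],
  [],
  [],
  [],
  [],
  [],
  [],
  [],
  [],
  [],
  [],
  [],
  [],
  [],
  [],
  [],
  [],
  [],
  [],
  [],
  [],
  [],
  [],
  [],
  [],
  [],
  [],
  [],
  [],
  [],
  [],
  [],
  [],
  [],
  [],
  [],
  [],
  [],
  [],
  [],
  [],
  [],
  [],
  [],
  [],
  [],
  [],
  [],
  [],
  [],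
  [],
  [],
  [],
  [],
  [],
  [],
  [],
  [],
  [],
  [],
  [],
  [],
  [],
  [],
  [],
  [],
  [],
  [],
  [],
  [],
  [],
  [],
  [],
  [],
  [],
  [],
  [],
  [],
  [],
  [],
  [],
  [],
  [],
  [],
  [],
  [],
  [],
  [],
  [],
  [],
  [],
  [],
  [],
  [],
  [],
  [],
  [],
  [],
  [],
  [],
  [],
  [],
  [],
  [],
  [],
  [],
  [],
  [],
  [],
  [],
  [],
  [],
  [],
  [],
  [],
  [],
  [],
  [],
  [],
  [],
  [],
  [],
  [],
  [],
  [],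
  [],
  [],
  [],
  [],
  [],
  [],
  [],
  [],
  [],
  [],
  [],
  [],
  [],
  [],
  [],
  [],
  [],
  [],
  [],
  [],
  [],
  [],
  [],
  [],
  [],
  [],
  [],
  [],
  [],
  [],
  [],
  [],
  [],
  [],
  [],
  [],
  [],
  [],
  [],
  [],
  [],
  [],
  [],
  [],
  [],
  [],
  [],
  [],
  [],
  [],
  [],
  [],
  [],
  [],
  [],
  [],
  [],
  [],
  [],
  [],
  [],
  [],
  [],
  [],
  [],
  [],
  [],
  [],
  [],
  [],
  [],
  [],
  [],
  [],
  [],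
  [],
  [],
  [],
  [],
  [],
  [],
  [],
  [],
  [],
  [],
  [],
  [],
  [],
  [],
  [],
  [],
  [],
  [],
  [],
  [],
  [],
  [],
  [],
  [],
  [],
  [],
  [],
  [],
  [],
  [],
  [],
  [],
  [],
  [],
  [],
  [],
  [],
  [],
  [],
  [],
  [],
  [],
  [],
  [],
  [],
  [],
  [],
  []] = true := by decide +kernel
theorem clT_15 : allZ (clsB 1792 LS [459,444,417,0] mT MT) (mapApp [38,39,40] (prods [AT1, AT2, AT3]) []) [[],
  [],
  [],
  [],
  [],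
  [],
  [],
  [],
  [],
  [],
  [],
  [],
  [],
  [],
  [],
  [],
  [],
  [],
  [],
  [],
  [],
  [],
  [],
  [],
  [],
  [],
  [],
  [],
  [],
  [],
  [],
  [],
  [],
  [],
  [],
  [],
  [],
  [],
  [],
  [],
  [],
  [],
  [],
  [],
  [],
  [],
  [],
  [],
  [],
  [],
  [],
  [],
  [],
  [],
  [],
  [],
  [],
  [],
  [],
  [],
  [],
  [],
  [],
  [],
  [],
  [],
  [],
  [],
  [],
  [],
  [],
  [],
  [],
  [],
  [],
  [],
  [],
  [],
  [],
  [],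
  [],
  [],
  [],
  [],
  [],
  [],
  [],
  [],
  [],
  [],
  [],
  [],
  [],
  [],
  [],
  [],
  [],
  [],
  [],
  [],
  [],
  [],
  [],
  [],
  [],
  [],
  [],
  [],
  [],
  [],
  [],
  [],
  [],
  [],
  [],
  [],
  [],
  [],
  [],
  [],
  [],
  [],
  [],
  [],
  [],
  [],
  [],
  [],
  [],
  [],
  [],
  [],
  [],
  [],
  [],
  [],
  [],
  [],
  [],
  [],
  [],
  [],
  [],
  [],
  [],
  [],
  [],
  [],
  [],
  [],
  [],
  [],
  [],
  [],
  [],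
  [],
  [],
  [],
  [],
  [],
  [],
  [],
  [],
  [],
  [],
  [],
  [],
  [],
  [],
  [],
  [],
  [],
  [],
  [],
  [],
  [],
  [],
  [],
  [],
  [],
  [],
  [],
  [],
  [],
  [],
  [],
  [],
  [],
  [],
  [],
  [],
  [],
  [],
  [],
  [],
  [],
  [],
  [],
  [],
  [],
  [],
  [],
  [],
  [],
  [],
  [],
  [],
  [],
  [],
  [],
  [],
  [],
  [],
  [],
  [],
  [],
  [],
  [],
  [],
  [],
  [],
  [],
  [],
  [],
  [],
  [],
  [],
  [],
  [],
  [],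
  [],
  [],
  [],
  [],
  [],
  [],
  [],
  [],
  [],
  [],
  [],
  [],
  [],
  [],
  [],
  [],
  [],
  [],
  [],
  [],
  [],
  [],
  [],
  [],
  [],
  [],
  [],
  [],
  [],
  [],
  [],
  [],
  [],
  [],
  [],
  [],
  [],
  [],
  [],
  [],
  [],
  [],
  [],
  [],
  [],
  [],
  [],
  [],
  [],
  [],
  [],
  [],
  [],
  [],
  [],
  [],
  [],
  [],
  [],
  [],
  [],
  [],
  [],
  [],
  [],
  [],
  [],
  [],
  [],
  [],
  [],
  [],
  [],
  [],
  [],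
  [],
  [],
  [],
  [],
  [],
  [],
  [],
  [],
  [],
  [],
  [],
  [],
  [],
  [],
  [],
  [],
  [],
  [],
  [],
  [],
  [],
  [],
  [],
  [],
  [],
  [],
  [],
  [],
  [],
  [],
  [],
  [],
  [],
  [],
  [],
  [],
  [],
  [],
  [],
  [],
  [],
  [],
  [],
  [],
  [],
  [],
  [],
  [],
  [],
  [],
  [],
  [],
  [],
  [],
  [],
  [],
  [],
  [],
  [],
  [],
  [],
  [],
  [],
  [],
  [],
  [],
  [],
  [],
  [],
  [],
  [],
  [],
  [],
  [],
  [],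
  [],
  [],
  [],
  [],
  [],
  [],
  [],
  [],
  [],
  [],
  [],
  [],
  [],
  [],
  [],
  [],
  [],
  [],
  [],
  [],
  [],
  [],
  [],
  [],
  [],
  [],
  [],
  [],
  [],
  [],
  [],
  [],
  [],
  [],
  [],
  [],
  [],
  [],
  [],
  [],
  [],
  [],
  [],
  [],
  [],
  [],
  [],
  [],
  [],
  [],
  [],
  [],
  [],
  [],
  [],
  [],
  [],
  [],
  [],
  [],
  [],
  [],
  [],
  [],
  [],
  [],
  [],
  [],
  [],
  [],
  [],
  [],
  [],
  [],
  [],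
  [],
  [],
  [],
  [],
  [],
  [],
  [],
  [],
  [],
  [],
  [],
  [],
  [],
  [],
  [],
  [],
  [],
  [],
  [],
  [],
  [],
  [],
  [],
  [],
  [],
  [],
  [],
  [],
  [],
  [],
  [],
  [],
  [],
  [],
  [],
  [],
  [],
  [],
  [],
  [],
  [],
  [],
  [],
  [],
  [],
  [],
  [],
  [],
  [],
  [],
  [],
  [],
  [],
  [],
  [],
  [],
  []] = true := by decide +kernel
end H80.KFSuz
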