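/- Tower KGV, slot VL: values of `gam` of an induced character. -/
import Cfsg.Agent.H63.KgvSpec

set_option autoImplicit false

namespace H80.KgvVL

open Finset Cfsg H63.Kgv

universe u

theorem orb_prod {α : Type} [Fintype α] (σ : Equiv.Perm α) (F G : α → ℂ) (hF : ∀ u, F (σ u) = F u)
    (hG : ∀ u, G (σ u) = G u)
    (h : ∀ u, F u ^ Function.minimalPeriod σ u = G u ^ Function.minimalPeriod σ u) :
    ∏ u, F u = ∏ u, G u := by
  classical
  let s := MulAction.orbitRel (Subgroup.zpowers σ) α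
  have key : ∀ (F : α → ℂ), (∀ u, F (σ u) = F u) → ∀ a : α,
      ∏ u ∈ univ.filter (fun u => Quotient.mk s u = Quotient.mk s a), F u =
        F a ^ Function.minimalPeriod σ a := fun F hF a => by
    have hn : ∀ (n : ℕ) u, F ((σ ^ n) u) = F u := fun n => by
      induction n with
      | zero => intro u; rfl
      | succ n ih => intro u; rw [pow_succ', Equiv.Perm.mul_apply, hF, ih]
    rw [prod_congr rfl (g := fun _ => F a) fun u hu => ?_, prod_const]
    · congr 1
      rw [show Function.minimalPeriod σ a = Function.minimalPeriod (σ • ·) a from rfl,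
        MulAction.minimalPeriod_eq_card, Fintype.card_subtype]
      exact congrArg card (filter_congr fun u _ => Quotient.eq)
    · obtain ⟨⟨g, hg⟩, rfl⟩ : u ∈ MulAction.orbit (Subgroup.zpowers σ) a :=
        Quotient.eq.1 (mem_filter.1 hu).2
      obtain ⟨n, rfl⟩ := (mem_powers_iff_mem_zpowers.2 hg)
      exact hn n a
  rw [← prod_fiberwise univ (Quotient.mk s) F, ← prod_fiberwise univ (Quotient.mk s) G]
  refine prod_congr rfl fun q _ => ?_
  obtain ⟨a, rfl⟩ := q.exists_rep
  rw [key F hF, key G hG, h]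

theorem fib {A : Type} [CommGroup A] [Fintype A] [DecidableEq A] [IsCyclic A] {r : ℕ} {ω : A}
    (hω : orderOf ω = r) (hr : 0 < r) (w : A) :
    univ.filter (fun v : A => v ^ r = w ^ r) = (range r).image fun i => w * ω ^ i := by
  have inj : Set.InjOn (fun i => w * ω ^ i) (range r : Finset ℕ) := fun i hi j hj e =>
    pow_injOn_Iio_orderOf (x := ω) (by simpa [hω] using hi) (by simpa [hω] using hj)
      (mul_left_cancel e)
  refine (eq_of_subset_of_card_le (fun v hv => ?_) ?_).symm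
  · obtain ⟨i, -, rfl⟩ := mem_image.1 hv
    simp only [mem_filter, mem_univ, true_and]
    rw [mul_pow, ← pow_mul, mul_comm i, pow_mul, ← hω, pow_orderOf_eq_one, one_pow, mul_one]
  · rw [card_image_of_injOn inj, card_range]
    refine le_trans (card_le_card_of_injOn (fun v => w⁻¹ * v) (fun v hv => ?_)
      fun a _ b _ e => mul_left_cancel e) (IsCyclic.card_pow_eq_one_le (α := A) hr)
    have := (mem_filter.1 hv).2
    simp only [coe_filter, mem_univ, true_and, Set.mem_ofPred_eq]
    rw [mul_pow, this, inv_pow, inv_mul_cancel]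

theorem fib_prod {A M : Type} [CommGroup A] [Fintype A] [DecidableEq A] [IsCyclic A] [CommMonoid M]
    {r : ℕ} {ω : A} (hω : orderOf ω = r) (hr : 0 < r) (w : A) (f : A → M) :
    ∏ v ∈ univ.filter (fun v : A => v ^ r = w ^ r), f v = ∏ i ∈ range r, f (w * ω ^ i) := by
  rw [fib hω hr, prod_image]
  exact fun i hi j hj e => pow_injOn_Iio_orderOf (x := ω) (by simpa [hω] using hi)
    (by simpa [hω] using hj) (mul_left_cancel e)

theorem job : JVL.{u} := by
  classical
  intro eg p _ M K _ _ θ a Hf hs E _ _ hE H _ r d x χ φ ω id hd hr hω st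
  have pp : p.Prime := Fact.out
  have r0 := id.pr.pos
  have d0 : 0 < d := Nat.pos_of_dvd_of_pos hd hs.pos
  have yN : ∀ y : E, y ^ (Fintype.card K - 1) = 1 := fun y => by
    obtain ⟨k, hk⟩ := hE
    rw [hs.card, hk, pow_mul, pow_card_eq_one', one_pow]
  have cK : Fintype.card Kˣ = Fintype.card K - 1 := Fintype.card_units K
  have uN : ∀ v : Kˣ, v ^ (Fintype.card K - 1) = 1 := fun v => by rw [← cK, pow_card_eq_one]
  have uM : ∀ v : Kˣ, v ^ p ^ M = v := fun v => by
    rw [← hs.card, ← Nat.sub_add_cancel (Fintype.card_pos (α := K)), pow_succ, uN, one_mul]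
  obtain ⟨uE, -⟩ := eg K θ E hs.inj
  obtain ⟨uH, xH⟩ := eg K θ H hs.inj
  have eH : ∀ h : H, Eg θ φ h (em θ φ h) := fun h => xH φ h id.ch (Subtype.ext (yN h))
  have n1 : ∀ h : H, φ 1 = (∑ v, em θ φ h v : ℕ) := fun h => by simpa using eH h 0
  have cls : ∀ g h : H, φ (g * h * g⁻¹) = φ h := fun g h => by
    obtain ⟨n, ρ, rfl⟩ := id.ch
    exact ρ.char_conj h g
  refine ⟨_, n1 1, fun t ht => ⟨fun h => ?_, fun y h hy e => ?_⟩⟩
  · have : em θ χ h = fun v => ∑ j ∈ range r, em θ φ (MulAut.conjNormal (x ^ j) h) v := by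
      refine uE _ _ _ fun k => ?_
      rw [← Subgroup.coe_pow, id.on]
      rw [sum_congr rfl fun j _ => (congrArg φ (map_pow _ h k)).trans
        (eH (MulAut.conjNormal (x ^ j) h) k), sum_comm]
      simp only [Nat.cast_sum, sum_mul]
    simp only [gam, this, mul_sum, ← prod_pow_eq_pow_sum]
    exact prod_comm
  have : Fact r.Prime := ⟨id.pr⟩
  have cQ : Nat.card (E ⧸ H) = r := id.idx
  have oy : orderOf (y : E ⧸ H) = r := orderOf_eq_prime (cQ ▸ pow_card_eq_one')
    fun k => hy ((QuotientGroup.eq_one_iff y).1 k)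
  have c0 : ∀ k, ¬ r ∣ k → χ (y ^ k) = 0 := fun k hk => id.off _ fun m => hk
    (oy ▸ orderOf_dvd_of_pow_eq_one ((QuotientGroup.eq_one_iff (y ^ k)).2 m))
  have c1 : ∀ k, χ (y ^ (r * k)) = r * φ (h ^ k) := fun k => by
    rw [pow_mul, ← e, ← Subgroup.coe_pow, id.on, sum_congr rfl (g := fun _ => φ (h ^ k)) fun j _ => ?_]
    · simp
    obtain ⟨i, hi⟩ := mem_powers_iff_mem_zpowers.2 (mem_zpowers_of_prime_card cQ
      (g := (y : E ⧸ H)) (fun k => hy ((QuotientGroup.eq_one_iff y).1 k)) (g' := (x ^ j : E)))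
    have m : x ^ j * (y ^ i)⁻¹ ∈ H := by
      refine (QuotientGroup.eq_one_iff _).1 ?_
      rw [QuotientGroup.mk_mul, ← hi, QuotientGroup.mk_inv, QuotientGroup.mk_pow, mul_inv_cancel]
    rw [← cls ⟨_, m⟩ (h ^ k)]
    congr 1
    refine Subtype.ext ?_
    simp only [MulAut.conjNormal_apply, Subgroup.coe_mul, Subgroup.coe_inv, Subgroup.coe_pow, e]
    group
  set m := em θ φ h with hm
  obtain ⟨N, hN⟩ : r ∣ Fintype.card K - 1 :=
    hs.card ▸ hr.trans (Nat.pow_sub_one_dvd_pow_sub_one p hd)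
  have rt : ∀ v, m v ≠ 0 → ∃ w : Kˣ, w ^ r = v := fun v hv => by
    have nr : ∀ v : Kˣ, ‖(θ v : ℂ) ^ N‖ = 1 := fun v => Complex.norm_eq_one_of_pow_eq_one (n := r)
      (by rw [← pow_mul, mul_comm, ← hN, ← Units.val_pow_eq_pow_val, ← map_pow, uN, map_one,
        Units.val_one]) r0.ne'
    have k := eH h N
    rw [show h ^ N = 1 from Subtype.ext (by rw [Subgroup.coe_pow, e, ← pow_mul, ← hN, yN]; rfl),
      n1 h] at k
    have k2 : ∑ v, (m v : ℝ) * (1 - ((θ v : ℂ) ^ N).re) = 0 := by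
      have := congrArg Complex.re k
      simp only [Nat.cast_sum, Complex.re_sum, Complex.natCast_re, Complex.mul_re, Complex.natCast_im,
        zero_mul, sub_zero] at this
      simp only [mul_sub, mul_one, sum_sub_distrib]
      exact sub_eq_zero.2 this
    have k3 := (sum_eq_zero_iff_of_nonneg fun v _ => mul_nonneg (Nat.cast_nonneg _)
      (sub_nonneg.2 ((Complex.re_le_norm _).trans (nr v).le))).1 k2 v (mem_univ v)
    have k4 : ((θ v : ℂ) ^ N).re = 1 := by
      have := (mul_eq_zero.1 k3).resolve_left (Nat.cast_ne_zero.2 hv)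
      linarith
    have k5 : (θ v : ℂ) ^ N = 1 := by
      have := Complex.sq_norm ((θ v : ℂ) ^ N)
      rw [nr, Complex.normSq_apply, k4] at this
      exact Complex.ext k4 (by simpa using this)
    have k6 : v ^ N = 1 := hs.inj (Units.ext (by simpa using k5))
    obtain ⟨g, hg⟩ := IsCyclic.exists_monoid_generator (α := Kˣ)
    obtain ⟨i, rfl⟩ := hg v
    have og : orderOf g = r * N := by
      rw [← hN, ← cK, ← Nat.card_eq_fintype_card]
      exact orderOf_eq_card_of_forall_mem_powers hg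
    have N0 : 0 < N := Nat.pos_of_ne_zero fun z => (orderOf_pos g).ne' (by rw [og, z, mul_zero])
    obtain ⟨c, rfl⟩ := Nat.dvd_of_mul_dvd_mul_right N0
      (og ▸ orderOf_dvd_of_pow_eq_one (x := g) (n := i * N) (by rw [pow_mul]; exact k6))
    exact ⟨g ^ c, by rw [← pow_mul, mul_comm]⟩
  have ey : em θ χ y = fun w => m (w ^ r) := by
    refine uE _ _ _ fun k => ?_
    by_cases hk : r ∣ k
    · obtain ⟨k, rfl⟩ := hk
      rw [c1, eH h k, mul_sum, ← sum_fiberwise univ (fun w : Kˣ => w ^ r)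
        fun w => (m (w ^ r) : ℂ) * (θ w : ℂ) ^ (r * k)]
      refine sum_congr rfl fun v _ => ?_
      rw [sum_congr rfl (g := fun _ => (m v : ℂ) * (θ v : ℂ) ^ k) fun w hw => by
        rw [pow_mul, ← Units.val_pow_eq_pow_val, ← map_pow, (mem_filter.1 hw).2], sum_const]
      by_cases hv : m v = 0
      · simp [← hm, hv]
      obtain ⟨w, rfl⟩ := rt v hv
      have := fib_prod (M := Multiplicative ℕ) hω r0 w fun _ => Multiplicative.ofAdd 1
      simp only [prod_const, card_range] at this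
      rw [show #(univ.filter fun v : Kˣ => v ^ r = w ^ r) = r by simpa using congrArg Multiplicative.toAdd this,
        nsmul_eq_mul]
    · rw [c0 k hk]
      have s := Equiv.sum_comp (Equiv.mulRight ω) fun w : Kˣ => (m (w ^ r) : ℂ) * (θ w : ℂ) ^ k
      have ωr : ω ^ r = 1 := hω ▸ pow_orderOf_eq_one ω
      simp only [Equiv.coe_mulRight, mul_pow, ωr, mul_one, map_mul, Units.val_mul, ← mul_assoc,
        ← sum_mul] at s
      by_contra z
      have := mul_left_cancel₀ (Ne.symm z) (s.trans (mul_one _).symm)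
      have k6 : ω ^ k = 1 := hs.inj (Units.ext (by simpa using this))
      exact hk (hω ▸ orderOf_dvd_of_pow_eq_one k6)
  have sp : ∀ (i : ℕ) (v : Kˣ), (fun v : Kˣ => v ^ p ^ d)^[i] v = v ^ p ^ (d * i) := fun i v => by
    rw [pow_iterate, ← pow_mul]
  obtain ⟨c, hc⟩ := _root_.id hd
  have inj : Function.Injective fun v : Kˣ => v ^ p ^ d := fun v w k => by
    have k' : (v ^ p ^ d) ^ p ^ (M - d) = (w ^ p ^ d) ^ p ^ (M - d) := congrArg (· ^ p ^ (M - d)) k
    rwa [← pow_mul, ← pow_mul, ← pow_add, Nat.add_sub_cancel' (Nat.le_of_dvd hs.pos hd), uM, uM] at k'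
  let σ : Equiv.Perm Kˣ := Equiv.ofBijective _ inj.bijective_of_finite
  have σd : ∀ v, σ v = v ^ p ^ d := fun _ => rfl
  have mσ : ∀ v, m (σ v) = m v := fun v => by
    have : m = fun v => m (σ.symm v) := uH _ _ _ fun k => by
      have k1 : φ (h ^ (k * p ^ d)) = φ (h ^ k) :=
        mul_left_cancel₀ (Nat.cast_ne_zero.2 r0.ne' : (r : ℂ) ≠ 0)
          (by rw [← c1, ← c1, ← mul_assoc, pow_mul, st])
      rw [← k1, eH h, ← Equiv.sum_comp σ.symm]
      refine sum_congr rfl fun v _ => ?_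
      rw [mul_comm k, pow_mul, ← Units.val_pow_eq_pow_val, ← map_pow, ← σd, Equiv.apply_symm_apply]
    rw [congrFun this (σ v), Equiv.symm_apply_apply]
  have fr : ∀ s : ZMod p, s ≠ 0 → ∀ v, Hf s (σ v) = Hf s v := fun s s0 v => by
    have : ∀ i : ℕ, Hf s (v ^ p ^ i) = Hf s v := fun i => by
      induction i with
      | zero => rw [pow_zero, pow_one]
      | succ i ih => rw [pow_succ, pow_mul, hs.frob _ _ s0, ih]
    exact this d
  have rt0 : (r : ZMod p) * t ≠ 0 := mul_ne_zero (fun z => by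
    have k := ((ZMod.natCast_eq_zero_iff r p).1 z).trans hr
    exact pp.one_lt.ne' (Nat.dvd_one.1 ((Nat.dvd_sub_iff_right (Nat.one_le_pow _ _ pp.pos)
      (dvd_pow_self p d0.ne')).1 k))) ht
  simp only [gam, ey]
  rw [← prod_fiberwise univ (fun w : Kˣ => w ^ r), ← Nat.cast_injective (R := ℂ)
    ((n1 h).symm.trans (n1 1)), ← prod_pow_eq_pow_sum, ← prod_mul_distrib]
  have A : ∀ v : Kˣ, ∏ w ∈ univ.filter (fun w : Kˣ => w ^ r = v), Hf t w ^ (d * m (w ^ r)) =
      (∏ w ∈ univ.filter (fun w : Kˣ => w ^ r = v), Hf t w) ^ (d * m v) := fun v => by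
    rw [← prod_pow]
    exact prod_congr rfl fun w hw => by rw [(mem_filter.1 hw).2]
  simp only [A]
  refine orb_prod σ _ _ (fun v => ?_) (fun v => by rw [← hm, mσ, fr _ rt0]) fun v => ?_
  · rw [mσ]
    congr 1
    refine (prod_equiv σ (fun w => ?_) fun w _ => (fr t ht w).symm).symm
    simp only [mem_filter, mem_univ, true_and]
    rw [← σ.injective.eq_iff, σd, σd w, ← pow_mul, ← pow_mul, mul_comm]
  · rw [← hm]
    by_cases hv : m v = 0
    · simp [hv]
    obtain ⟨w, rfl⟩ := rt v hv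
    have per : Function.minimalPeriod σ (w ^ r) ∣ c := Function.IsPeriodicPt.minimalPeriod_dvd
      (show (fun v : Kˣ => v ^ p ^ d)^[c] _ = _ by rw [sp, ← hc, uM])
    have k := hs.prod r d ω id.pr hd hr hω t (d * Function.minimalPeriod σ (w ^ r)) w ht
      (dvd_mul_right _ _) (hc ▸ mul_dvd_mul_left d per)
      ((sp _ _).symm.trans (Function.iterate_minimalPeriod (f := σ)))
    rw [fib_prod hω r0 w]
    generalize Function.minimalPeriod σ (w ^ r) = e' at k
    rw [prod_pow, prod_pow] at k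
    rw [prod_pow]
    calc _ = ((∏ i ∈ range r, Hf t (w * ω ^ i)) ^ (d * e')) ^ m (w ^ r) := by ring
      _ = _ := by rw [k]; ring

end H80.KgvVL
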