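/- Tower ND, slot Ac2: a fixed point in an invariant subgroup. -/
import Cfsg.Agent.H23.NDSpec

set_option autoImplicit false

namespace H80.NDA

open H23.ND Subgroup

universe u

theorem jobAc2 : JobAc2.{u} := by
  intro Γ Λ _ _ _ _ _ B hB h ad U hU inv g hg
  classical
  by_contra hn
  push Not at hn
  -- the norm is trivial
  set m := orderOf (g : Γ ⧸ B) with hm
  have m0 : 0 < m := orderOf_pos _
  have pw : ∀ i, g ^ i ∈ B ↔ (g : Γ ⧸ B) ^ i = 1 := fun i => by
    rw [← QuotientGroup.mk_pow, QuotientGroup.eq_one_iff]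
  have nu : ∀ u ∈ U, ∏ i ∈ Finset.range m, g ^ i • u = 1 := fun u hu => by
    by_contra k
    refine hn _ (prod_mem fun i _ => inv _ _ hu) k ?_
    have e := Finset.prod_range_succ' (fun i => g ^ i • u) m
    rw [Finset.prod_range_succ, hg m ((pw m).2 (pow_orderOf_eq_one _)) u hu, pow_zero, one_smul] at e
    rw [Finset.smul_prod', mul_right_cancel e]
    simp only [pow_succ', mul_smul]
  -- an element of prime order
  obtain ⟨r, hr, hd⟩ := Nat.exists_prime_and_dvd (fun k => hU (card_eq_one.1 k) : Nat.card U ≠ 1)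
  have : Fact r.Prime := ⟨hr⟩
  obtain ⟨⟨u, hu⟩, ou⟩ := exists_prime_orderOf_dvd_card' r hd
  rw [orderOf_mk] at ou
  obtain ⟨b, hb, hz⟩ := SetLike.not_le_iff_exists.1 ad.ne
  obtain ⟨e, n, hn', eo⟩ := Nat.exists_eq_pow_mul_and_not_dvd (orderOf_pos b).ne' r hr.ne_one
  have z1 : b ^ n ∈ center Γ := by
    by_contra k
    have pg : IsPGroup r (zpowers (b ^ n)) := IsPGroup.of_card_dvd_pow (n := e) (by
      rw [Nat.card_zpowers]
      exact orderOf_dvd_of_pow_eq_one (by rw [← pow_mul, mul_comm, ← eo, pow_orderOf_eq_one]))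
    obtain ⟨l, h1, h2⟩ := pg.exists_fixed_point_of_prime_dvd_card_of_fixed_point Λ
      (hd.trans U.card_subgroup_dvd_card) (a := 1) fun x => smul_one x
    exact h2 (ad.fp _ (pow_mem hb n) k l (h1 ⟨_, mem_zpowers _⟩)).symm
  have z2 : b ^ r ^ e ∉ center Γ := fun k => hz (by
    have c : Nat.gcd (r ^ e) n = 1 := ((Nat.Prime.coprime_iff_not_dvd hr).2 hn').pow_left e
    rw [← QuotientGroup.eq_one_iff, QuotientGroup.mk_pow] at k z1
    rw [← QuotientGroup.eq_one_iff, ← pow_one (b : Γ ⧸ center Γ), ← c]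
    exact pow_gcd_eq_one.2 ⟨k, z1⟩)
  have oc : orderOf (b ^ r ^ e) ∣ n :=
    orderOf_dvd_of_pow_eq_one (by rw [← pow_mul, ← eo, pow_orderOf_eq_one])
  have hc : b ^ r ^ e ∈ B := pow_mem hb _
  generalize b ^ r ^ e = c at z2 oc hc
  have : Fintype (zpowers c) := Fintype.ofFinite _
  have qb : ∀ x : zpowers c, x.1 ∈ B := fun x => (zpowers_le.2 hc) x.2
  have s1 : ∀ i, 0 < i → i < m → ∏ x : zpowers c, (x.1 * g ^ i * x.1⁻¹) • u = 1 := fun i h0 hi => by
    have gi : g ^ i ∉ B := fun k => pow_ne_one_of_lt_orderOf h0.ne' hi ((pw i).1 k)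
    have db : c * (g ^ i * c⁻¹ * (g ^ i)⁻¹) ∈ B := mul_mem hc (hB.conj_mem _ (inv_mem hc) _)
    refine ad.fp _ db (fun k => z2 (ad.fq _ gi c hc ?_)) _ ?_
    · convert inv_mem k using 1
      group
    · rw [Finset.smul_prod', ← Equiv.prod_comp (Equiv.mulRight (⟨c, mem_zpowers c⟩ : zpowers c))
        fun x : zpowers c => (x.1 * g ^ i * x.1⁻¹) • u]
      refine Finset.prod_congr rfl fun x _ => ?_
      rw [← mul_smul, ← mul_assoc, ← mul_assoc, ← ad.ab _ (qb x) _ db]
      congr 1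
      simp only [Equiv.coe_mulRight, coe_mul]
      group
  have key : u ^ Fintype.card (zpowers c) = 1 := by
    have a : ∏ x : zpowers c, ∏ i ∈ Finset.range m, (x.1 * g ^ i * x.1⁻¹) • u = 1 :=
      Finset.prod_eq_one fun x _ => by
        simp only [mul_smul]
        rw [← Finset.smul_prod', nu _ (inv _ _ hu), smul_one]
    rw [Finset.prod_comm, Finset.prod_eq_single_of_mem 0 (Finset.mem_range.2 m0)
      fun i hi h0 => s1 i (Nat.pos_of_ne_zero h0) (Finset.mem_range.1 hi)] at a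
    simpa using a
  rw [← Nat.card_eq_fintype_card, Nat.card_zpowers, ← orderOf_dvd_iff_pow_eq_one, ou] at key
  exact hn' (key.trans oc)

end H80.NDA
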