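import Cfsg.Agent.H92.P4LocB
import Cfsg.Agent.H34.BS
import Cfsg.Agent.H42.OddOrder
import Cfsg.Agent.H2.MinNormal

/-! Job T1 of the blueprint `LOCAL3C.md` (section 3.10): consequences of `N(M) ≤ N(Z)`. -/

set_option autoImplicit false
set_option linter.unusedSectionVars false
open Cfsg H56.L3 H47.P4C Subgroup H34.P4 H59.P4 H98 H92.P4L

namespace H80.P4T

universe u v

variable {G : Type u} [Group G] [Finite G] {F : Type v} [Field F] [Fintype F] {h : F → F → F → G}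
  {ι : SL2 F →* G}

theorem mC {x g : G} : g ∈ Ce x ↔ g * x = x * g := mem_centralizer_singleton_iff

/-- Burnside's normal complement, ambient form. -/
theorem burn {p : ℕ} [Fact p.Prime] {D X : Subgroup G} (hD : IsSyl p D X)
    (hn : ∀ g ∈ X, g ∈ Nr D → ∀ d ∈ D, d * g = g * d) :
    ∃ K : Subgroup G, K ≤ X ∧ X ≤ Nr K ∧ (Nat.card K).Coprime p ∧
      ∀ g ∈ X, ∃ k ∈ K, ∃ d ∈ D, g = k * d := by
  obtain ⟨S, rfl⟩ := hD.exists_sylow_map
  have hS : normalizer ((S : Subgroup X) : Set X) ≤ centralizer ((S : Subgroup X) : Set X) :=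
    fun g hg => mem_centralizer_iff.2 fun d hd => Subtype.ext
      (hn g g.2 (le_normalizer_map X.subtype ⟨g, hg, rfl⟩) d ⟨d, hd, rfl⟩)
  have hc := MonoidHom.ker_transferSylow_isComplement' S hS
  refine ⟨(MonoidHom.transferSylow S hS).ker.map X.subtype, map_subtype_le _,
    le_normalizer_map_subtype _, ?_, fun g hg => ?_⟩
  · rw [card_map_of_injective X.subtype_injective, ← hc.index_eq_card]
    exact ((Nat.Prime.coprime_iff_not_dvd Fact.out).2 S.not_dvd_index).symm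
  · obtain ⟨⟨k, d⟩, e⟩ := hc.2 ⟨g, hg⟩
    exact ⟨_, ⟨k, k.2, rfl⟩, _, ⟨d, d.2, rfl⟩, (congrArg Subtype.val e).symm⟩

theorem no_sqrt (hF : Fld F) (a : F) : a * a ≠ -1 := fun e =>
  FiniteField.isSquare_neg_one_iff.1 ⟨a, e.symm⟩ (by have := hF.mod; omega)

variable (κ : Cen h ι)
include κ

theorem C_le : κ.C ≤ Nr κ.Z := fun g hg => mem_normalizer_fintype (by
  rintro _ ⟨c, rfl⟩
  exact ⟨c, by rw [zcomm κ hg, mul_inv_cancel_right]⟩)

theorem D_C : κ.D ≤ κ.C := (D_le_M κ).trans ((M_le_P κ).trans (P_le_C κ))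

/-- the matrix of an element of `N(Q)` inverting `Z` -/
theorem mat (h2 : (2 : F) ≠ 0) {s : G} (hs : s ∈ Nr κ.Q)
    (hi : ∀ x, s * h 0 0 x * s⁻¹ = (h 0 0 x)⁻¹) :
    ∃ p q r t : F, p * t - r * q = -1 ∧
      ∀ x y z, ∃ e, s * h x y z * s⁻¹ = h (p * x + r * y) (q * x + t * y) e := by
  have key : ∀ a b c a' b' c' x y z x' y' z', s * h a b c * s⁻¹ = h x y z →
      s * h a' b' c' * s⁻¹ = h x' y' z' → x * y' - x' * y = -(a * b' - a' * b) := by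
    intro a b c a' b' c' x y z x' y' z' e e'
    have e1 : h a b c * h a' b' c' = h a' b' c' * h a b c * h 0 0 (2 * (a * b' - a' * b)) := by
      rw [κ.mul, κ.mul, κ.mul]; congr 1 <;> ring
    have e2 := congrArg (fun g => s * g * s⁻¹) e1
    simp only [← conj_mul, e, e', hi] at e2
    simp only [κ.inv, κ.mul] at e2
    exact mul_left_cancel₀ h2 (by linear_combination (ext0 κ e2).2.2)
  obtain ⟨p, q, e1, h1⟩ := conj_mem_of_mem_normalizer hs (⟨1, 0, 0, rfl⟩ : h 1 0 0 ∈ κ.Q)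
  obtain ⟨r, t, e2, h3⟩ := conj_mem_of_mem_normalizer hs (⟨0, 1, 0, rfl⟩ : h 0 1 0 ∈ κ.Q)
  have d := key _ _ _ _ _ _ _ _ _ _ _ _ h1 h3
  refine ⟨p, q, r, t, by linear_combination d, fun x y z => ?_⟩
  obtain ⟨f, g, e, h4⟩ := conj_mem_of_mem_normalizer hs (⟨x, y, z, rfl⟩ : h x y z ∈ κ.Q)
  have d1 := key _ _ _ _ _ _ _ _ _ _ _ _ h1 h4
  have d2 := key _ _ _ _ _ _ _ _ _ _ _ _ h4 h3
  refine ⟨e, h4.trans ?_⟩
  congr 1
  · linear_combination -r * d1 - p * d2 + f * d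
  · linear_combination -t * d1 - q * d2 + g * d

variable (hF : Fld F) (l : Loc κ 3) (l3 : Loc3 κ) (hB : Nr κ.M ≤ Nr κ.Z)
include hF l

theorem zcube (x : F) : h 0 0 x ^ 3 = 1 := by
  simpa [uM_zero, κ.one] using cube κ hF l 0 0 x 0

theorem two (s : G) (hs : s ∈ Nr κ.Z) (k : ℕ) (e : s ^ 2 ^ k = 1) :
    s * s ∈ κ.C ∧ (s ∉ κ.C → ∀ x, s * h 0 0 x * s⁻¹ = (h 0 0 x)⁻¹) := by
  have h1 : s * s ∈ κ.C := by
    have := normal_subgroupOf_of_le_normalizer l.nC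
    obtain ⟨m, hm⟩ : ∃ m, Fintype.card F - 1 = 2 * (2 * m + 1) :=
      ⟨(Fintype.card F - 3) / 4, by have := hF.mod; omega⟩
    have h3 : s ^ (Fintype.card F - 1) ∈ κ.C := by
      obtain ⟨c, hc⟩ := l.dvd
      rw [hc, pow_mul]
      exact pow_mem (pow_index_mem (κ.C.subgroupOf (Nr κ.Z)) ⟨s, hs⟩) c
    rw [hm, pow_mul, sq] at h3
    obtain ⟨j, hj⟩ := exists_pow_eq_self_of_coprime (x := s * s) (n := 2 * m + 1)
      (Nat.Coprime.coprime_dvd_right (orderOf_dvd_of_pow_eq_one (n := 2 ^ k)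
        (by rw [← sq, ← pow_mul, mul_comm, pow_mul, e, one_pow]))
        (Nat.Coprime.pow_right _ (Nat.coprime_two_right.2 ⟨m, rfl⟩)))
    exact hj ▸ pow_mem h3 j
  refine ⟨h1, fun hn x => ?_⟩
  obtain ⟨y, hy⟩ := conj_mem_of_mem_normalizer hs (⟨x, rfl⟩ : h 0 0 x ∈ κ.Z)
  by_contra ne
  refine hn ((κ.cen (x + y) (fun e => ne ?_) s).1 (mC.2 (mul_inv_eq_iff_eq_mul.1 ?_)))
  · rw [hy, κ.inv, neg_zero, eq_neg_of_add_eq_zero_right e]
  · have h4 : s * h 0 0 y * s⁻¹ = h 0 0 x := by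
      rw [← hy]
      calc _ = s * s * h 0 0 x * (s * s)⁻¹ := by group
        _ = _ := by rw [zcomm κ h1, mul_inv_cancel_right]
    rw [← zadd κ, ← conj_mul, hy, h4, zadd κ, zadd κ, add_comm]

theorem sqC (s : G) (hs : s ∈ Nr κ.Z) (e : s * s = ι (-1)) : s ∈ κ.C := by
  by_contra hn
  have h2 := H54.P4Ab.two_ne hF
  obtain ⟨p, q, r, t, d, hm⟩ := mat κ h2 (l.nQ hs) ((two κ hF l s hs 2 (by
    rw [show 2 ^ 2 = 2 * 2 from rfl, pow_mul, sq, sq, e, tt])).2 hn)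
  have key : ∀ x y, p * (p * x + r * y) + r * (q * x + t * y) = -x ∧
      q * (p * x + r * y) + t * (q * x + t * y) = -y := fun x y => by
    obtain ⟨a, ha⟩ := hm x y 0
    obtain ⟨b, hb⟩ := hm (p * x + r * y) (q * x + t * y) a
    have := tconj κ x y 0
    rw [← e, show s * s * h x y 0 * (s * s)⁻¹ = s * (s * h x y 0 * s⁻¹) * s⁻¹ by group, ha,
      hb] at this
    exact ⟨(ext0 κ this).1, (ext0 κ this).2.1⟩
  obtain ⟨k1, k2⟩ := key 1 0
  have h3 : p + t ≠ 0 := fun e' => h2 (by linear_combination k1 + d - p * e')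
  obtain rfl : q = 0 := mul_right_cancel₀ h3 (by linear_combination k2)
  exact no_sqrt hF p (by linear_combination k1)

theorem mat2 (s : G) (hs : s ∈ Nr κ.Z) (e : s * s = 1) (hn : s ∉ κ.C) :
    ∃ p q r : F, p * p + r * q = 1 ∧
      ∀ x y z, ∃ e, s * h x y z * s⁻¹ = h (p * x + r * y) (q * x - p * y) e := by
  have h2 := H54.P4Ab.two_ne hF
  obtain ⟨p, q, r, t, d, hm⟩ := mat κ h2 (l.nQ hs) ((two κ hF l s hs 1 (by rw [pow_one, sq, e])).2 hn)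
  have key : ∀ x y, p * (p * x + r * y) + r * (q * x + t * y) = x ∧
      q * (p * x + r * y) + t * (q * x + t * y) = y := fun x y => by
    obtain ⟨a, ha⟩ := hm x y 0
    obtain ⟨b, hb⟩ := hm (p * x + r * y) (q * x + t * y) a
    rw [← ha, show s * (s * h x y 0 * s⁻¹) * s⁻¹ = s * s * h x y 0 * (s * s)⁻¹ by group, e,
      one_mul, inv_one, mul_one] at hb
    exact ⟨(ext0 κ hb).1.symm, (ext0 κ hb).2.1.symm⟩
  obtain ⟨k1, k2⟩ := key 1 0
  obtain ⟨k3, k4⟩ := key 0 1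
  obtain rfl : t = -p := by linear_combination p * d - t * k1 + r * k2
  refine ⟨p, q, r, by linear_combination k1, fun x y z => ?_⟩
  obtain ⟨a, ha⟩ := hm x y z
  exact ⟨a, ha.trans (by congr 1; ring)⟩

theorem lin (s : G) (hs : s ∈ Nr κ.Z) (e : s * s = 1) (hn : s ∉ κ.C) (A : SL2 F)
    (hA : s * ι A = ι A * s) : A * A ≠ -1 ∧ A ≠ uM 1 := by
  have h2 := H54.P4Ab.two_ne hF
  obtain ⟨p, q, r, d, hm⟩ := mat2 κ hF l s hs e hn
  have key : ∀ x y, p * (A 0 0 * x + A 0 1 * y) + r * (A 1 0 * x + A 1 1 * y) =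
      A 0 0 * (p * x + r * y) + A 0 1 * (q * x - p * y) ∧
      q * (A 0 0 * x + A 0 1 * y) - p * (A 1 0 * x + A 1 1 * y) =
      A 1 0 * (p * x + r * y) + A 1 1 * (q * x - p * y) := fun x y => by
    obtain ⟨a, ha⟩ := hm x y 0
    obtain ⟨b, hb⟩ := hm (A 0 0 * x + A 0 1 * y) (A 1 0 * x + A 1 1 * y) 0
    rw [← κ.act, show s * (ι A * h x y 0 * (ι A)⁻¹) * s⁻¹ = s * ι A * h x y 0 * (s * ι A)⁻¹ by group,
      hA, show ι A * s * h x y 0 * (ι A * s)⁻¹ = ι A * (s * h x y 0 * s⁻¹) * (ι A)⁻¹ by group, ha,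
      κ.act] at hb
    exact ⟨(ext0 κ hb).1.symm, (ext0 κ hb).2.1.symm⟩
  obtain ⟨k1, k2⟩ := key 1 0
  obtain ⟨k3, k4⟩ := key 0 1
  refine ⟨fun e' => ?_, fun e' => ?_⟩
  · obtain ⟨a1, a2, a3, a4⟩ := ent e'
    have dA := det2 A
    simp only [mul_ap, neg_ap, one_ap] at a1 a2 a3 a4
    have tr : A 1 1 = -A 0 0 := by
      linear_combination A 1 1 * a1 - A 1 0 * a2 - A 0 0 * dA
    rw [tr] at k2 k3 k4 dA
    have c1 : A 0 0 * r = A 0 1 * p := mul_left_cancel₀ h2 (by linear_combination -k3)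
    have c2 : A 0 0 * q = A 1 0 * p := mul_left_cancel₀ h2 (by linear_combination k2)
    have c3 : A 0 1 * q = r * A 1 0 := by linear_combination -k1
    refine no_sqrt hF (A 0 0 * p + A 0 1 * q) ?_
    linear_combination -A 0 0 * q * c1 + A 0 1 * p * c2 + A 0 1 * q * c3 +
      (A 0 0 * A 0 0 + A 0 1 * A 1 0) * d - dA
  · subst e'
    simp only [u_ap] at k1 k2 k3 k4
    obtain rfl : q = 0 := by linear_combination -k1
    obtain rfl : p = 0 := mul_left_cancel₀ h2 (by linear_combination k3)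
    simp at d

include l3 hB

theorem sc (g : G) (x : F) (hx : x ≠ 0) (e : g * h 0 0 x * g⁻¹ ∈ κ.C) : g ∈ Nr κ.Z := by
  obtain ⟨c, hc, h1⟩ := l3.ord3 _ e (by rw [conj_pow, zcube κ hF l, mul_one, mul_inv_cancel])
  obtain ⟨n, hn, h2⟩ := l.fus _ (hM κ 0 x) (c * g) (by simpa only [mul_inv_rev, mul_assoc] using h1)
  obtain ⟨y, hy⟩ := conj_mem_of_mem_normalizer (hB hn) (⟨x, rfl⟩ : h 0 0 x ∈ κ.Z)
  exact (mul_mem_cancel_left (C_le κ hc)).1 (l.ti _ x y hx (h2.symm.trans hy))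

omit l3 in
theorem sylD : IsSyl 3 κ.D (Ce (ι (-1))) :=
  isSyl_of_isSyl_normalizer ⟨le_inf (l.Pt.ge.trans inf_le_right) le_normalizer,
    l.pP.to_le ((D_le_M κ).trans (M_le_P κ)), fun _ hQ a b => le_antisymm (fun g hg =>
      let ⟨k, hk⟩ := isPGroup_iff_forall.1 hQ g hg
      l.Pt.le ⟨l.pel g ⟨l.nD (b hg).2, hB (l.nD (b hg).2)⟩ k hk, (b hg).1⟩) a⟩

omit l3 in
theorem sylM : IsSyl 3 κ.M (Ce (ι (uM 1))) :=
  isSyl_of_isSyl_normalizer ⟨le_inf (fun m hm => mC.2 (l.commM m hm _ (D_le_M κ (iD κ 1))))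
    le_normalizer, l.pP.to_le (M_le_P κ), fun Q hQ a b => le_antisymm (fun g hg => by
      obtain ⟨k, hk⟩ := isPGroup_iff_forall.1 hQ g hg
      by_contra hn
      obtain ⟨c, hc⟩ := l.cMu g (l.pel g ⟨(b hg).2, hB (b hg).2⟩ k hk) hn _ (D_le_M κ (iD κ 1))
        (mC.1 (b hg).1)
      exact one_ne_zero (uM_inj ((ext κ ((one'' κ _).symm.trans (hc.trans (one' κ ..)))).2.2.2.trans
        uM_zero.symm))) a⟩

theorem nD : Ce (ι (-1)) ⊓ Nr κ.D ≤ Nr κ.Z ⊓ Nr (Uψ ι) := fun g hg => by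
  have h1 := hB (l.nD hg.2)
  refine ⟨h1, mem_normalizer_fintype ?_⟩
  rintro _ ⟨s, rfl⟩
  obtain ⟨c, r, e⟩ := conj_mem_of_mem_normalizer hg.2 (iD κ s)
  obtain ⟨A, e'⟩ := conj_mem_of_mem_normalizer (l3.nL ⟨h1, hg.1⟩) (⟨uM s, rfl⟩ : ι (uM s) ∈ ι.range)
  obtain ⟨-, -, -, e4⟩ := ext κ ((one'' κ _).symm.trans (e'.trans e))
  exact ⟨r, by rw [← e', e4]⟩

theorem nc (s : G) (hs : s ∈ Nr κ.Z) (hc : IsConj (ι (-1)) s) : s ∈ κ.C := by
  by_contra hn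
  have h2 := H54.P4Ab.two_ne hF
  obtain ⟨g, rfl⟩ := isConj_iff.1 hc
  generalize hs' : g * ι (-1) * g⁻¹ = s at hs hn
  have e : s * s = 1 := by rw [← hs', conj_mul, tt, mul_one, mul_inv_cancel]
  obtain ⟨p, q, r, d, hm⟩ := mat2 κ hF l s hs e hn
  have hi := (two κ hF l s hs 1 (by rw [pow_one, sq, e])).2 hn
  obtain ⟨x, y, hxy, e1, e2⟩ : ∃ x y : F, ¬(x = 0 ∧ y = 0) ∧ p * x + r * y = x ∧ q * x - p * y = y := by
    by_cases hp : 1 + p = 0
    · exact ⟨r, 1 - p, fun e => h2 (by linear_combination hp + e.2), by ring, by linear_combination d⟩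
    · exact ⟨1 + p, q, fun e => hp e.1, by linear_combination d, by ring⟩
  obtain ⟨c, hc⟩ := hm x y 0
  rw [e1, e2] at hc
  have hb : s * h x y (c / 2) * s⁻¹ = h x y (c / 2) := by
    have : h x y (c / 2) = h x y 0 * h 0 0 (c / 2) := by rw [κ.mul]; simp
    rw [this, ← conj_mul, hc, hi, κ.inv, κ.mul, κ.mul]
    congr 1
    · ring
    · ring
    · linear_combination -add_halves' h2 c
  have b3 : h x y (c / 2) ^ 3 = 1 := by simpa [uM_zero, κ.one] using cube κ hF l x y (c / 2) 0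
  generalize hb' : h x y (c / 2) = b at hb b3
  obtain ⟨k, -, hk⟩ := (sylD κ hF l hB).exists_cj_le (isPGroup_zpowers (x := g⁻¹ * b * g) (k := 1)
    (by rw [pow_one, ← inv_inv g, inv_inv g⁻¹, conj_pow, b3, mul_one, mul_inv_cancel]))
    (zpowers_le.2 (mC.2 (by
      calc _ = g⁻¹ * (b * (g * ι (-1) * g⁻¹)) * g := by group
        _ = _ := by rw [hs', ← mul_inv_eq_iff_eq_mul.1 hb, ← hs']; group)))
  have h4 := hk (conj_mem_cj (mem_zpowers _))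
  obtain ⟨a, ha, h5⟩ := l3.ord3 b (hb' ▸ hC κ ..) b3
  have h6 : k * g⁻¹ * a⁻¹ * (a * b * a⁻¹) * (k * g⁻¹ * a⁻¹)⁻¹ = k * (g⁻¹ * b * g) * k⁻¹ := by group
  obtain ⟨n, hn', h7⟩ := l.fus _ h5 (k * g⁻¹ * a⁻¹) (h6 ▸ D_le_M κ h4)
  have h8 : n * a ∈ Nr κ.Z := mul_mem (hB hn') (C_le κ ha)
  have h9 : n * a * b * (n * a)⁻¹ = k * (g⁻¹ * b * g) * k⁻¹ := by rw [← h6, ← h7]; group
  obtain ⟨a1, b1, c1, e3⟩ := conj_mem_of_mem_normalizer (l.nQ h8) (⟨_, _, _, hb'.symm⟩ : b ∈ κ.Q)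
  obtain ⟨c2, s2, e4⟩ := h4
  obtain ⟨rfl, rfl, -⟩ := ext κ ((one' κ ..).symm.trans (e3.symm.trans (h9.trans e4)))
  obtain ⟨c3, e5⟩ := (mem_normalizer_iff.1 h8 b).2 ⟨c1, e3⟩
  exact hxy ⟨(ext0 κ (hb'.trans e5)).1, (ext0 κ (hb'.trans e5)).2.1⟩

theorem diag (x s : F) (hx : x ≠ 0) (hs : s ≠ 0) (g : G)
    (hg : g ∈ Ce (ι (-1)) ⊓ Ce (h 0 0 x * ι (uM s))) : g ∈ κ.D ∨ g * ι (-1) ∈ κ.D := by
  have hD := sylD κ hF l hB
  obtain ⟨K, h1, h3, h4, h5⟩ := burn (X := Ce (ι (-1)) ⊓ Ce (h 0 0 x * ι (uM s)))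
    (hD.of_le (le_inf hD.le fun d hd => mC.2 (l.commM _ (D_le_M κ hd) _ (D_le_M κ ⟨x, s, rfl⟩)))
      inf_le_left) fun g hg hn => by
      obtain ⟨n1, n2⟩ := nD κ hF l l3 hB ⟨hg.1, hn⟩
      obtain ⟨y, e1⟩ := conj_mem_of_mem_normalizer n1 (⟨x, rfl⟩ : h 0 0 x ∈ κ.Z)
      obtain ⟨r, e2⟩ := conj_mem_of_mem_normalizer n2 (⟨s, rfl⟩ : ι (uM s) ∈ Uψ ι)
      have e3 := mul_inv_eq_iff_eq_mul.2 (mC.1 hg.2)
      rw [← conj_mul, e1, e2] at e3
      obtain ⟨-, -, rfl, e4⟩ := ext κ e3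
      rw [e4] at e2
      obtain ⟨c, A, rfl⟩ := l.ct g ⟨(κ.cen _ hx g).1 (mC.2 (mul_inv_eq_iff_eq_mul.1 e1)), hg.1⟩
      have e := mul_inv_eq_iff_eq_mul.1 e2
      rw [← mul_assoc, zcomm κ (iC κ _), mul_assoc, mul_assoc, ← map_mul, ← map_mul] at e
      intro d hd
      obtain ⟨r, rfl | rfl⟩ := cen_u hs (ext κ e).2.2.2
      · exact l.commM _ (D_le_M κ hd) _ (D_le_M κ ⟨_, _, rfl⟩)
      · rw [← mul_neg_one, map_mul, ← mul_assoc, ← mul_assoc, mul_assoc d,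
          l.commM _ (D_le_M κ hd) _ (D_le_M κ ⟨_, _, rfl⟩), mul_assoc, mC.1 (hD.le hd), mul_assoc,
          mul_assoc, mul_assoc]
  have h6 := l3.sigD K (h1.trans inf_le_left) h4 fun d hd k hk => conj_mem_of_mem_normalizer
    (h3 ⟨hD.le hd, mC.2 (l.commM _ (D_le_M κ hd) _ (D_le_M κ ⟨x, s, rfl⟩))⟩) hk
  obtain ⟨k, hk, d, hd, rfl⟩ := h5 g hg
  obtain ⟨n, rfl⟩ := h6 hk
  have t2 : ι (-1) ^ (2 : ℤ) = 1 := by rw [zpow_two, tt]
  obtain ⟨m, rfl | rfl⟩ := Int.even_or_odd' n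
  · left
    simp only [zpow_mul, t2, one_zpow, one_mul]
    exact hd
  · right
    simp only [zpow_add, zpow_mul, t2, one_zpow, one_mul, zpow_one]
    rwa [mul_assoc, mC.1 (hD.le hd), ← mul_assoc, tt, one_mul]

theorem fin (hi : Iso (ι (-1))) : κ.C.Normal := by
  have h3 := hF.three
  have h2 := two_ne h3
  have hi' : IsIsolatedInvolution (ι (-1)) :=
    ⟨orderOf_eq_prime (by rw [pow_two]; exact tt) (fun e => one_ne_neg h2 (ι_inj κ e).symm),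
      fun g hg => hi g hg.eq.symm⟩
  have hz : h 0 0 1 ∈ oddCore G := by
    have a := H34.zstar hi' (h 1 0 0)
    have b := mul_mem ((inferInstance : (oddCore G).Normal).conj_mem _ a (h 0 1 0)) (inv_mem a)
    rw [tconj κ, κ.inv, κ.mul, κ.inv, κ.inv, κ.mul, κ.mul, κ.mul] at b
    convert b using 2
    · ring
    · ring
    · linear_combination -h3
  have := H42.odd_order (H2.odd_card_oddCore G)
  have hO : ∀ g : G, g ∈ Nr (oddCore G) := fun g => by rw [Nr, normalizer_eq_top]; trivial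
  have h0 : pPrimeCore 3 (oddCore G) = ⊥ := by
    rw [← map_subtype_inj, Subgroup.map_bot]
    refine l3.sigM _ (H2.coprime_card_map_pPrimeCore_subtype _) fun j _ k hk => ?_
    exact conj_mem_of_mem_normalizer (normalizer_le_normalizer_map_subtype _ (hO j)) hk
  have hA : ∀ g : G, g ∈ Nr ((pCore 3 (oddCore G)).map (oddCore G).subtype) := fun g =>
    normalizer_le_normalizer_map_subtype _ (hO g)
  have hP : IsSyl 3 κ.P ⊤ := isSyl_of_not_dvd_relIndex le_top l.pP (by simpa using l.syl)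
  have AC : (pCore 3 (oddCore G)).map (oddCore G).subtype ≤ κ.C := (hP.le_of_le_normalizer
    ((H2.pCore_isPGroup 3 _).map _) le_top fun g _ => hA g).trans (P_le_C κ)
  have zA : h 0 0 1 ∈ (pCore 3 (oddCore G)).map (oddCore G).subtype :=
    ⟨⟨_, hz⟩, H2.centralizer_pCore_le h0 fun y hy => Subtype.ext (zcomm κ (AC ⟨y, hy, rfl⟩) 1), rfl⟩
  exact ⟨fun c hc g => conj_mem_of_mem_normalizer (l.nC (sc κ hF l l3 hB g 1 one_ne_zero
    (AC (conj_mem_of_mem_normalizer (hA g) zA)))) hc⟩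

omit κ hF l l3 hB in
/-- **T1** -/
theorem jobT1 : JobT1.{u, v} := fun _ _ _ _ _ _ _ _ κ hF l l3 hB =>
  { sc := sc κ hF l l3 hB
    sylD := (sylD κ hF l hB).2.2
    nD := nD κ hF l l3 hB
    sylM := (sylM κ hF l hB).2.2
    two := two κ hF l
    sq := sqC κ hF l
    nc := nc κ hF l l3 hB
    lin := lin κ hF l
    diag := diag κ hF l l3 hB
    fin := fin κ hF l l3 hB }

end H80.P4T
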