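/- Tower NF, chapter TP, slot MN. -/
import Cfsg.Agent.H86.TP.Spec
import Cfsg.Agent.H14.FEKit
import Cfsg.Agent.H14.Tight
import Cfsg.Agent.H1.CoprimeGen

set_option autoImplicit false

namespace H80.TpMN

open Cfsg Subgroup MulAction H14 H98 H1.Gold H31.S2 H14.GC H14.FE H14.NF H86.TP

universe u

theorem jMN : JobMN.{u} := by
  intro ld lp G _ _ Q₂ gq E₂ Q₁ ⟨R₀, hR₀, hE⟩ vx s hs s2 sn
  have : Fact (Nat.Prime 2) := ⟨Nat.prime_two⟩
  by_cases ne : Q₁ = Q₂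
  · rw [ne, hE]
    exact fun z hz => le_normalizer (hR₀.le hz.1)
  have cn : ∀ v ∈ Q₁, Inv v → cen1 v ≤ nor Q₁ := fun v hv v2 g hg => by
    obtain ⟨a, rfl⟩ := vx
    refine te_mem_normalizer (te_cj gq.tq.te a) (inv_iff.1 v2) hv ?_
    have := conj_mem_cj (g := g) hv
    rwa [mem_centralizer_singleton_iff.1 hg, mul_inv_cancel_right] at this
  obtain ⟨T, hT, sT⟩ := exists_isSyl_le (H := Q₁ ⊓ nor Q₂) s2.isPGroup (zpowers_le.2 ⟨hs, sn⟩)
  have T0 : T ≠ ⊥ := fun k => s2.1 (mem_bot.1 (k ▸ sT (mem_zpowers s)))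
  have TN : T ≤ nor Q₂ := hT.le.trans inf_le_right
  obtain ⟨P, -, TP, hR⟩ := exists_inv_syl hT.isPGroup TN
  have nR : T ≤ nor (P ⊓ Q₂) := le_normalizer_inf (TP.trans le_normalizer) TN
  obtain ⟨l1, l2⟩ := ld G Q₂ gq.tq Q₁ T _ vx ne hT T0 hR nR
  have k : OZ (P ⊓ Q₂) ≤ cen T ∧ Four T := by
    by_cases fu : IsSyl 2 T Q₁
    · obtain ⟨a, rfl⟩ := vx
      exact ⟨fun z hz => l1 fu hz.1, syl_four fu (gq.tq.four.cj a)⟩
    · rw [← (gq.ld _ _ _ _ _ (lp G Q₂ Q₁ T _ _ (l2 fu))).1]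
      exact ⟨inf_le_right, (l2 fu).four⟩
  obtain ⟨V, hV, c4, VT⟩ := k.2.exists_e4
  have := hV.1.isMulCommutative
  have sq : ∀ v : V, v ^ 2 = 1 := fun v => Subtype.ext (by rw [pow_two]; exact hV.1 v v.2)
  refine (hE ▸ gq.zq _ _ hR hR₀).trans (sup_le (fun z hz => cn s hs s2 ?_) ?_)
  · exact mem_centralizer_singleton_iff.2 (k.1 hz s (sT (mem_zpowers s))).symm
  refine H1.le_of_noncyclic_centralizer_le (A := V) (fun c => ?_)
    ((VT.trans TN).trans (normalizer_le_normalizer_opp Q₂))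
    (by rw [c4]; exact Nat.Coprime.pow_left 2 (coprime_card_opp (p := 2) Q₂).symm) _ fun a ha a1 =>
      inf_le_right.trans (cn a (hT.le (VT ha)).1
        ⟨a1, hV.1 a ha⟩)
  obtain ⟨g, hg⟩ := c.exists_ofOrder_eq_natCard
  have := orderOf_dvd_of_pow_eq_one (sq g)
  rw [hg, c4] at this
  omega

end H80.TpMN
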