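/- Slot B4 of chapter U2I: the group `Y` has order two. -/
import Cfsg.Agent.H96.U2ISpec

set_option autoImplicit false

namespace H80.U2IB4

open Subgroup Cfsg H98 H48.DP H57.DPC H48.DP2 H96.U2I
open scoped commutatorElement

universe u

variable {G : Type u} [Group G]

theorem cm_one {M Q T R : Subgroup G} {y z g : G} (c : Cx M Q T R y) (h : YY Q R y)
    (hz : z ∈ Yq Q) (hg : g ∈ Q) : ⁅g, y * z * y⁻¹⁆ = 1 ∨ ⁅g, y * z * y⁻¹⁆ = z := by
  by_cases hR : g ∈ R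
  · exact .inl (commutatorElement_eq_one_iff_mul_comm.2 (mem_centralizer_iff.1
      (conj_mem_of_mem_normalizer (normalizer_le_normalizer_centralizer R c.yR) (h.cR hz)) g hR))
  · exact .inr (h.cm z hz g hg hR)

theorem cm_cj {M Q T R : Subgroup G} {y z g m : G} (c : Cx M Q T R y) (h : YY Q R y)
    (hz : z ∈ Yq Q) (hm : m ∈ M) (hg : g ∈ Q) :
    ⁅g, m * (y * z * y⁻¹) * m⁻¹⁆ = 1 ∨ ⁅g, m * (y * z * y⁻¹) * m⁻¹⁆ = m * z * m⁻¹ := by
  have e : ⁅g, m * (y * z * y⁻¹) * m⁻¹⁆ = m * ⁅m⁻¹ * g * m, y * z * y⁻¹⁆ * m⁻¹ := by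
    simp only [commutatorElement_def]; group
  rw [e]
  rcases cm_one c h hz (conj_mem_of_mem_normalizer' (c.MQ hm) hg) with k | k <;> rw [k]
  · exact .inl (by group)
  · exact .inr rfl

theorem cm_mem {M Q T R : Subgroup G} {y z g m : G} (c : Cx M Q T R y) (h : YY Q R y)
    (hz : z ∈ Yq Q) (hm : m ∈ M) (hg : g ∈ Q) : ⁅g, m * (y * z * y⁻¹) * m⁻¹⁆ ∈ Yq Q := by
  rcases cm_cj c h hz hm hg with k | k <;> rw [k]
  exacts [one_mem _, Yq_conj (c.MQ hm) hz]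

theorem sq_comm {Q : Subgroup G} {g s : G} (hg : g ∈ Q) (h : ⁅g, s⁆ ∈ Yq Q) :
    s * (g * g) = g * g * s := by
  have e1 : g * ⁅g, s⁆ = ⁅g, s⁆ * g := mem_centralizer_iff.1 h.2.1 g hg
  have e2 : g * s = ⁅g, s⁆ * (s * g) := by simp only [commutatorElement_def]; group
  symm
  calc g * g * s = g * ⁅g, s⁆ * (s * g) := by rw [mul_assoc, e2, mul_assoc]
    _ = ⁅g, s⁆ * (g * s) * g := by rw [e1]; group
    _ = ⁅g, s⁆ * ⁅g, s⁆ * (s * (g * g)) := by rw [e2]; simp only [mul_assoc]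
    _ = _ := by rw [h.2.2, one_mul]

theorem jobB4 : JobB4.{u} := by
  intro tl G _ _ M Q T R y c b h n3
  by_cases hS : ∀ m ∈ M, ∀ z ∈ Yq Q, m * (y * z * y⁻¹) * m⁻¹ ∈ R
  · exfalso
    let S : Set G := {s | ∃ m ∈ M, ∃ z ∈ Yq Q, s = m * (y * z * y⁻¹) * m⁻¹}
    have hsq : ∀ g ∈ Q, g * g ∈ Q ⊓ centralizer S := fun g hg =>
      ⟨mul_mem hg hg, mem_centralizer_iff.2 (by
        rintro _ ⟨m, hm, z, hz, rfl⟩
        exact sq_comm hg (cm_mem c h hz hm hg))⟩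
    refine (tl G M Q T R (Q ⊓ centralizer S) y c b (fun m hm => ?_) (fun d hd => ?_)
      (fun n hn => ?_) hsq fun a ha a' ha' => ?_).2 n3
    · refine mem_normalizer_of_cj_le ?_
      rintro _ ⟨x, hx, rfl⟩
      refine ⟨conj_mem_of_mem_normalizer (c.MQ hm) hx.1, mem_centralizer_iff.2 ?_⟩
      rintro _ ⟨m', hm', z, hz, rfl⟩
      have := mem_centralizer_iff.1 hx.2 _ ⟨m⁻¹ * m', mul_mem (inv_mem hm) hm', z, hz, rfl⟩
      change _ * (m * x * m⁻¹) = (m * x * m⁻¹) * _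
      calc _ = m * (m⁻¹ * m' * (y * z * y⁻¹) * (m⁻¹ * m')⁻¹ * x) * m⁻¹ := by group
        _ = _ := by rw [this]; group
    · refine ⟨hd.1.1, mem_centralizer_iff.2 ?_⟩
      rintro _ ⟨m, hm, z, hz, rfl⟩
      refine h.cd _ ⟨conj_mem_of_mem_normalizer (c.MQ hm) (h.vQ z hz), hS m hm z hz⟩
        (fun g hg => ?_) d hd
      rw [← commutatorElement_inv]
      exact inv_mem (cm_mem c h hz hm hg)
    · refine ⟨hn.1, by_contra fun hR => ?_⟩
      obtain ⟨z, hz, z1⟩ := h.nt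
      have := mem_centralizer_iff.1 hn.2 (y * z * y⁻¹) ⟨1, one_mem _, z, hz, by group⟩
      exact z1 ((h.cm z hz n hn.1 hR).symm.trans
        (commutatorElement_eq_one_iff_mul_comm.2 this.symm))
    · have e : ⁅a, a'⁆ = a * a' * (a * a') * (a'⁻¹ * a⁻¹ * a' * (a'⁻¹ * a⁻¹ * a')) *
          (a'⁻¹ * a'⁻¹) := by simp only [commutatorElement_def]; group
      rw [e]
      exact mul_mem (mul_mem (hsq _ (mul_mem ha ha'))
        (hsq _ (mul_mem (mul_mem (inv_mem ha') (inv_mem ha)) ha'))) (hsq _ (inv_mem ha'))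
  · push Not at hS
    obtain ⟨m, hm, z, hz, hu⟩ := hS
    have uQ := conj_mem_of_mem_normalizer (c.MQ hm) (h.vQ z hz)
    have k : ∀ a ∈ Yq Q, a = 1 ∨ a = (m * z * m⁻¹)⁻¹ := fun a ha => by
      have e := h.cm a ha _ uQ hu
      rw [← commutatorElement_inv] at e
      rcases cm_cj c h hz hm (h.vQ a ha) with k | k <;> rw [k] at e
      exacts [.inl (e.symm.trans inv_one), .inr e.symm]
    have z1 : z ≠ 1 := by
      rintro rfl
      exact hu (by simp)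
    exact ⟨z, m, z1, hz, fun a ha => (k a ha).imp_right fun e =>
      e.trans ((k z hz).resolve_left z1).symm, hm, hu⟩

end H80.U2IB4
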